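import Mathlib
import Cfsg.Prelude.Def_OddOrderLocal
import Cfsg.Agent.S0058
import Cfsg.Agent.Lib.helper29.Basic
import Cfsg.Agent.Lib.helper31.BenderInv1
import Cfsg.Agent.Lib.helper26.PRank
import Cfsg.Agent.Lib.helper71.BGTenB
import Cfsg.Agent.Lib.helper8.BGTen7

/-!
General lemmas for Bender–Glauberman Corollary 12.9 (statement S1422): a nonabelian `p`-subgroup
of a minimal simple group of odd order lies in a unique maximal subgroup.

* `bgn_le_of_centralizers_le` : coprime generation modulo a central subgroup of order `p`.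
* `bgn_normalizer_le_of_nilpotent` : a Sylow subgroup inside a nilpotent subgroup `N` is normalized
  by `N_G(N)`.
* `bgn_exists_sylow` : climbing from a `p`-subgroup to a Sylow `p`-subgroup along normalizers.
* `bgn_conj_noncentral` : noncentral subgroups of order `p` of `Z(P₁)⟨a⟩` are `P₁`-conjugate, for
  `P₁` nonabelian of order `p ^ 3`.
* `bgn_center_card` : `|Z(P₁)| = p` and `|Z(P₁)⟨a⟩| = p ^ 2` in a group of `p`-rank at most two.
* `bgn_exists_elemAb_sq` : a noncyclic `p`-group, `p` odd, has an elementary abelian subgroup of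
  order `p ^ 2`.
-/

set_option autoImplicit false
open Cfsg

namespace Cfsg.Agent.Lib.helper98

section general

variable {X : Type*} [Group X]

/-- Coprime generation modulo a central subgroup `Z` of order `p`: if `B` has order `p ^ 3` and
exponent `p`, `B / Z` is abelian, and `B` normalizes the `p'`-group `K`, then `K` lies in any
subgroup `T ≥ Z` containing the centralizers `C_K(b)`, `b ∈ B \ Z`. -/
theorem bgn_le_of_centralizers_le [Finite X] {p : ℕ} [Fact p.Prime]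
    (Z B K T : Subgroup X) (hZc : ∀ z ∈ Z, ∀ x : X, z * x = x * z)
    (hZcard : Nat.card Z = p) (hBcard : Nat.card B = p ^ 3) (hBexp : ∀ b ∈ B, b ^ p = 1)
    (hBcomm : ∀ a ∈ B, ∀ b ∈ B, a * b * a⁻¹ * b⁻¹ ∈ Z)
    (hBK : B ≤ Subgroup.normalizer (K : Set X)) (hK : (Nat.card K).Coprime p)
    (hZT : Z ≤ T) (hT : ∀ b ∈ B, b ∉ Z → K ⊓ Subgroup.centralizer {b} ≤ T) : K ≤ T := by
  have hpp : p.Prime := Fact.out
  have hZn : Z.Normal := by
    constructor
    intro z hz g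
    have : g * z * g⁻¹ = z := by rw [← hZc z hz g]; group
    rw [this]; exact hz
  set π := QuotientGroup.mk' Z with hπ
  have hπeq : ∀ a b : X, π a = π b ↔ a⁻¹ * b ∈ Z := fun a b => QuotientGroup.eq
  have hAcomm : IsMulCommutative (B.map π) := by
    rw [isMulCommutative_iff]
    rintro ⟨_, a, ha, rfl⟩ ⟨_, b, hb, rfl⟩
    apply Subtype.ext
    show π a * π b = π b * π a
    rw [← map_mul, ← map_mul, hπeq]
    have h := hBcomm b⁻¹ (B.inv_mem hb) a⁻¹ (B.inv_mem ha)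
    have e : (a * b)⁻¹ * (b * a) = b⁻¹ * a⁻¹ * b⁻¹⁻¹ * a⁻¹⁻¹ := by group
    rw [e]; exact h
  have hAnc : ¬ IsCyclic (B.map π) := by
    intro hcyc
    obtain ⟨⟨g, hg⟩, hgen⟩ := hcyc.exists_generator
    obtain ⟨b₀, hb₀, rfl⟩ := hg
    have hdec : ∀ b : B, ∃ q : Subgroup.zpowers b₀ × Z, (q.1 : X) * (q.2 : X) = b := by
      intro b
      have hb : (⟨π b, b, b.2, rfl⟩ : B.map π) ∈
          Subgroup.zpowers (⟨π b₀, b₀, hb₀, rfl⟩ : B.map π) := hgen _
      obtain ⟨k, hk⟩ := Subgroup.mem_zpowers_iff.mp hb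
      have hk' : π (b₀ ^ k) = π b := by
        have := congrArg Subtype.val hk
        simpa using this
      have hz : (b₀ ^ k)⁻¹ * (b : X) ∈ Z := (hπeq _ _).mp hk'
      exact ⟨(⟨b₀ ^ k, Subgroup.zpow_mem_zpowers b₀ k⟩, ⟨_, hz⟩), by simp⟩
    choose f hf using hdec
    have hinj : Function.Injective f := by
      intro b b' h
      apply Subtype.ext
      rw [← hf b, ← hf b', h]
    have h1 : Nat.card B ≤ Nat.card (Subgroup.zpowers b₀ × Z) :=
      Nat.card_le_card_of_injective f hinj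
    rw [Nat.card_prod, Nat.card_zpowers, hZcard, hBcard] at h1
    have h2 : orderOf b₀ ≤ p :=
      Nat.le_of_dvd hpp.pos (orderOf_dvd_of_pow_eq_one (hBexp b₀ hb₀))
    have h3 : p ^ 3 ≤ p * p := h1.trans (Nat.mul_le_mul_right p h2)
    have h4 : p ^ 2 < p ^ 3 := Nat.pow_lt_pow_right hpp.one_lt (by norm_num)
    rw [pow_two] at h4
    omega
  have hAK : B.map π ≤ Subgroup.normalizer ((K.map π : Subgroup (X ⧸ Z)) : Set (X ⧸ Z)) :=
    (Subgroup.map_mono hBK).trans (Subgroup.le_normalizer_map π)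
  have hcop : (Nat.card (B.map π)).Coprime (Nat.card (K.map π)) := by
    have h1 : (p ^ 3).Coprime (Nat.card K) := Nat.Coprime.pow_left 3 hK.symm
    have h2 : Nat.card (B.map π) ∣ p ^ 3 := hBcard ▸ Subgroup.card_map_dvd B π
    exact (h1.coprime_dvd_left h2).coprime_dvd_right (Subgroup.card_map_dvd K π)
  have hgen := Cfsg.Agent.S0058.result (B.map π) (K.map π) hAnc hAK hcop
  have hKT : K.map π ≤ T.map π := by
    rw [← hgen]
    apply iSup₂_le
    rintro a ⟨haA, ha1⟩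
    rintro q ⟨hqK, hqc⟩
    obtain ⟨k, hk, rfl⟩ := hqK
    obtain ⟨b, hb, rfl⟩ := haA
    have hbZ : b ∉ Z := fun h => ha1 ((QuotientGroup.eq_one_iff b).mpr h)
    have hcomm : π b * π k = π k * π b := Subgroup.mem_centralizer_iff.mp hqc (π b) rfl
    have hcZ : k * b * k⁻¹ * b⁻¹ ∈ Z := by
      apply (QuotientGroup.eq_one_iff _).mp
      show π (k * b * k⁻¹ * b⁻¹) = 1
      rw [map_mul, map_mul, map_mul, map_inv, map_inv, ← hcomm]
      group
    have hcK : k * b * k⁻¹ * b⁻¹ ∈ K := by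
      have h1 : b * k⁻¹ * b⁻¹ ∈ K :=
        (Subgroup.mem_normalizer_iff.mp (hBK hb) k⁻¹).mp (K.inv_mem hk)
      have e : k * b * k⁻¹ * b⁻¹ = k * (b * k⁻¹ * b⁻¹) := by group
      rw [e]; exact K.mul_mem hk h1
    have hc1 : k * b * k⁻¹ * b⁻¹ = 1 := by
      have h1 : orderOf (k * b * k⁻¹ * b⁻¹) ∣ Nat.card K := Subgroup.orderOf_dvd_natCard K hcK
      have h2 : orderOf (k * b * k⁻¹ * b⁻¹) ∣ p := hZcard ▸ Subgroup.orderOf_dvd_natCard Z hcZ
      exact orderOf_eq_one_iff.mp (Nat.eq_one_of_dvd_coprimes hK h1 h2)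
    have hkb : k * b = b * k := by
      calc k * b = (k * b * k⁻¹ * b⁻¹) * (b * k) := by group
        _ = b * k := by rw [hc1, one_mul]
    have hkT : k ∈ T := hT b hb hbZ ⟨hk, by
      show k ∈ Subgroup.centralizer ({b} : Set X)
      rw [Subgroup.mem_centralizer_iff]
      intro y hy
      rw [Set.mem_singleton_iff] at hy
      subst hy
      exact hkb.symm⟩
    exact ⟨k, hkT, rfl⟩
  intro k hk
  obtain ⟨t, ht, htk⟩ := hKT ⟨k, hk, rfl⟩
  have hz : t⁻¹ * k ∈ Z := (hπeq _ _).mp htk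
  have : k = t * (t⁻¹ * k) := by group
  rw [this]; exact T.mul_mem ht (hZT hz)

variable {G : Type*} [Group G]

/-- A Sylow `p`-subgroup of `G` lying in a nilpotent subgroup `N` is normalized by `N_G(N)`. -/
theorem bgn_normalizer_le_of_nilpotent [Finite G] {p : ℕ} [Fact p.Prime]
    (N : Subgroup G) (hN : Group.IsNilpotent N) (S : Sylow p G) (hSN : (S : Subgroup G) ≤ N) :
    Subgroup.normalizer (N : Set G) ≤ Subgroup.normalizer ((S : Subgroup G) : Set G) := by
  have htfae : Group.IsNilpotent N ↔ ∀ (q : ℕ) (_hq : Fact q.Prime) (P : Sylow q N),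
      (↑P : Subgroup N).Normal := (Group.isNilpotent_of_finite_tfae (G := N)).out 0 3
  have hnorm : ((S.subtype hSN : Sylow p N) : Subgroup N).Normal :=
    htfae.mp hN p inferInstance _
  have key : ∀ g ∈ Subgroup.normalizer (N : Set G), ∀ s ∈ (S : Subgroup G),
      g * s * g⁻¹ ∈ (S : Subgroup G) := by
    intro g hg s hs
    have hsN : g * s * g⁻¹ ∈ N := (Subgroup.mem_normalizer_iff.mp hg s).mp (hSN hs)
    set Q : Subgroup G := (S : Subgroup G).map (MulAut.conj g).toMonoidHom with hQ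
    have hQp : IsPGroup p Q := S.isPGroup'.map _
    have hQp' : IsPGroup p (Q.subgroupOf N) :=
      hQp.comap_of_injective N.subtype N.subtype_injective
    obtain ⟨R, hR⟩ := hQp'.exists_le_sylow
    have := Sylow.unique_of_normal (S.subtype hSN) hnorm
    have hRS : R = S.subtype hSN := Subsingleton.elim _ _
    have h1 : (⟨g * s * g⁻¹, hsN⟩ : N) ∈ (R : Subgroup N) := hR (by
      rw [Subgroup.mem_subgroupOf]
      exact ⟨s, hs, rfl⟩)
    rw [hRS, Sylow.coe_subtype, Subgroup.mem_subgroupOf] at h1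
    exact h1
  intro g hg
  rw [Subgroup.mem_normalizer_iff]
  intro s
  constructor
  · exact key g hg s
  · intro h
    have h2 := key g⁻¹ (inv_mem hg) _ h
    have e : g⁻¹ * (g * s * g⁻¹) * g⁻¹⁻¹ = s := by group
    rw [e] at h2
    exact h2

/-- Climbing to a Sylow subgroup: a property `C` of `p`-subgroups containing `P` that passes from
`Q` to any `p`-subgroup of `N_G(Q)` containing `Q` holds for some Sylow `p`-subgroup containing
`P`. -/
theorem bgn_exists_sylow [Finite G] {p : ℕ} [Fact p.Prime] (P : Subgroup G) (hP : IsPGroup p P)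
    (C : Subgroup G → Prop) (hCP : C P)
    (hstep : ∀ Q : Subgroup G, IsPGroup p Q → P ≤ Q → C Q → ∀ Q' : Subgroup G, IsPGroup p Q' →
      Q ≤ Q' → Q' ≤ Subgroup.normalizer (Q : Set G) → C Q') :
    ∃ S : Sylow p G, P ≤ (S : Subgroup G) ∧ C (S : Subgroup G) := by
  obtain ⟨Q, hPQ, hQmax⟩ := Finite.exists_le_maximal
    (p := fun Q : Subgroup G => IsPGroup p Q ∧ P ≤ Q ∧ C Q) (a := P) ⟨hP, le_rfl, hCP⟩
  obtain ⟨⟨hQp, hPQ', hCQ⟩, hmax⟩ := hQmax
  obtain ⟨S, hQS⟩ := hQp.exists_le_sylow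
  have hQeq : Q = (S : Subgroup G) := by
    by_contra hne
    have hlt : Q < (S : Subgroup G) := lt_of_le_of_ne hQS hne
    have h1 := Cfsg.Agent.Lib.helper31.bi_lt_inf_normalizer_of_lt S.isPGroup'.isNilpotent hlt
    set Q' := (S : Subgroup G) ⊓ Subgroup.normalizer (Q : Set G) with hQ'
    have hQ'p : IsPGroup p Q' := S.isPGroup'.to_le inf_le_left
    have hCQ' : C Q' := hstep Q hQp hPQ' hCQ Q' hQ'p h1.le inf_le_right
    exact (not_le_of_gt h1) (hmax ⟨hQ'p, hPQ'.trans h1.le, hCQ'⟩ h1.le)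
  exact ⟨S, hQeq ▸ hPQ', hQeq ▸ hCQ⟩

/-- A subgroup of prime order is generated by any of its non-identity elements. -/
theorem bgn_eq_zpowers [Finite G] {p : ℕ} [Fact p.Prime] (H : Subgroup G) (hH : Nat.card H = p)
    {u : G} (hu : u ∈ H) (hu1 : u ≠ 1) : H = Subgroup.zpowers u := by
  have hpp : p.Prime := Fact.out
  have h1 : orderOf u ∣ p := hH ▸ Subgroup.orderOf_dvd_natCard H hu
  have h2 : orderOf u = p := by
    rcases (Nat.dvd_prime hpp).mp h1 with h | h
    · exact absurd (orderOf_eq_one_iff.mp h) hu1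
    · exact h
  exact (Subgroup.eq_of_le_of_card_ge (Subgroup.zpowers_le.mpr hu)
    (by rw [Nat.card_zpowers, h2, hH])).symm

/-- A subgroup of prime order has a non-identity element. -/
theorem bgn_exists_ne_one [Finite G] {p : ℕ} [Fact p.Prime] (H : Subgroup G)
    (hH : Nat.card H = p) : ∃ u ∈ H, u ≠ 1 := by
  have hpp : p.Prime := Fact.out
  by_contra hcon
  push Not at hcon
  have hbot : H = ⊥ := (Subgroup.eq_bot_iff_forall H).mpr hcon
  rw [hbot, Subgroup.card_bot] at hH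
  exact hpp.one_lt.ne hH

/-- In a nonabelian group `P₁` of order `p ^ 3` with centre `Z₀` of order `p`, any
two subgroups of order `p` of `A ≥ Z₀`, `|A| = p ^ 2`, other than `Z₀` are conjugate under
`P₁`. -/
theorem bgn_conj_noncentral [Finite G] {p : ℕ} [Fact p.Prime]
    (P₁ : Subgroup G) (hcard : Nat.card P₁ = p ^ 3) (hnc : ¬ IsMulCommutative P₁)
    (hZcard : Nat.card ↥(P₁ ⊓ Subgroup.centralizer (P₁ : Set G)) = p)
    (A : Subgroup G) (hAP : A ≤ P₁) (hZA : P₁ ⊓ Subgroup.centralizer (P₁ : Set G) ≤ A)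
    (hAcard : Nat.card A = p ^ 2)
    (A₀ A₀' : Subgroup G) (h0 : A₀ ≤ A) (h0' : A₀' ≤ A) (hc0 : Nat.card A₀ = p)
    (hc0' : Nat.card A₀' = p)
    (hne : A₀ ≠ P₁ ⊓ Subgroup.centralizer (P₁ : Set G))
    (hne' : A₀' ≠ P₁ ⊓ Subgroup.centralizer (P₁ : Set G)) :
    ∃ s ∈ P₁, A₀' = A₀.map (MulAut.conj s).toMonoidHom := by
  have hpp : p.Prime := Fact.out
  have hcommEq := Cfsg.Agent.Lib.helper8.bg_comm_eq_center_of_card_cube p P₁ hcard hnc
  set Z₀ := P₁ ⊓ Subgroup.centralizer (P₁ : Set G) with hZ₀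
  have hcomm : ∀ u ∈ P₁, ∀ v ∈ P₁, u * v * u⁻¹ * v⁻¹ ∈ Z₀ := by
    intro u hu v hv
    have h := Subgroup.commutator_mem_commutator hu hv
    rw [hcommEq, commutatorElement_def] at h
    exact h
  have hZcen : ∀ z ∈ Z₀, ∀ g ∈ P₁, g * z = z * g := fun z hz g hg =>
    Subgroup.mem_centralizer_iff.mp hz.2 g hg
  -- a non-identity element of a subgroup of order p other than Z₀ is not in Z₀
  have hnotZ : ∀ H : Subgroup G, Nat.card H = p → H ≠ Z₀ → ∀ u ∈ H, u ≠ 1 → u ∉ Z₀ := by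
    intro H hH hHne u hu hu1 huZ
    apply hHne
    have hHu := bgn_eq_zpowers H hH hu hu1
    have hle : H ≤ Z₀ := by rw [hHu]; exact Subgroup.zpowers_le.mpr huZ
    exact Subgroup.eq_of_le_of_card_ge hle (by rw [hZcard, hH])
  obtain ⟨b, hb, hb1⟩ := bgn_exists_ne_one A₀ hc0
  obtain ⟨b', hb', hb'1⟩ := bgn_exists_ne_one A₀' hc0'
  have hA₀b := bgn_eq_zpowers A₀ hc0 hb hb1
  have hA₀'b' := bgn_eq_zpowers A₀' hc0' hb' hb'1
  have hbZ : b ∉ Z₀ := hnotZ A₀ hc0 hne b hb hb1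
  have hb'Z : b' ∉ Z₀ := hnotZ A₀' hc0' hne' b' hb' hb'1
  -- Z₀ ⊔ ⟨b⟩ = A
  have hsupA : Z₀ ⊔ Subgroup.zpowers b = A := by
    have hle : Z₀ ⊔ Subgroup.zpowers b ≤ A := sup_le hZA (Subgroup.zpowers_le.mpr (h0 hb))
    apply Subgroup.eq_of_le_of_card_ge hle
    have hd : Nat.card ↥(Z₀ ⊔ Subgroup.zpowers b) ∣ p ^ 2 :=
      hAcard ▸ Subgroup.card_dvd_of_le hle
    obtain ⟨j, hj2, hj⟩ := (Nat.dvd_prime_pow hpp).mp hd
    have hd2 : p ∣ Nat.card ↥(Z₀ ⊔ Subgroup.zpowers b) :=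
      hZcard ▸ Subgroup.card_dvd_of_le (le_sup_left : Z₀ ≤ Z₀ ⊔ Subgroup.zpowers b)
    have hj0 : j ≠ 0 := by
      intro h0
      rw [hj, h0, pow_zero] at hd2
      exact hpp.one_lt.ne' (Nat.dvd_one.mp hd2)
    have hj1 : j ≠ 1 := by
      intro h1
      rw [h1, pow_one] at hj
      have heq : Z₀ = Z₀ ⊔ Subgroup.zpowers b :=
        Subgroup.eq_of_le_of_card_ge le_sup_left (by rw [hj, hZcard])
      apply hbZ
      rw [heq]
      exact (le_sup_right : Subgroup.zpowers b ≤ Z₀ ⊔ Subgroup.zpowers b)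
        (Subgroup.mem_zpowers b)
    have hj2' : j = 2 := by omega
    rw [hAcard, hj, hj2']
  have hbP : b ∈ P₁ := hAP (h0 hb)
  have hb'mem : b' ∈ Z₀ ⊔ Subgroup.zpowers b := by rw [hsupA]; exact h0' hb'
  have hcz : ∀ z ∈ Z₀, ∀ v ∈ Subgroup.zpowers b, z * v = v * z := by
    intro z hz v hv
    have hvP : v ∈ P₁ := (Subgroup.zpowers_le.mpr hbP) hv
    exact (hZcen z hz v hvP).symm
  obtain ⟨w, hw, u, hu, hwu⟩ :=
    Cfsg.Agent.Lib.helper29.exists_mul_of_mem_sup_of_commute hcz hb'mem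
  have huA₀ : u ∈ A₀ := by rw [hA₀b]; exact hu
  have hu1 : u ≠ 1 := by
    intro h
    apply hb'Z
    rw [hwu, h, mul_one]
    exact hw
  have hA₀u := bgn_eq_zpowers A₀ hc0 huA₀ hu1
  have huP : u ∈ P₁ := hAP (h0 huA₀)
  have huZ : u ∉ Z₀ := hnotZ A₀ hc0 hne u huA₀ hu1
  obtain ⟨y, hy, hyu⟩ : ∃ y ∈ P₁, y * u ≠ u * y := by
    by_contra hcon
    push Not at hcon
    exact huZ ⟨huP, Subgroup.mem_centralizer_iff.mpr hcon⟩
  set z := y * u * y⁻¹ * u⁻¹ with hz
  have hzZ : z ∈ Z₀ := hcomm y hy u huP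
  have hz1 : z ≠ 1 := by
    intro h
    apply hyu
    calc y * u = (y * u * y⁻¹ * u⁻¹) * (u * y) := by group
      _ = u * y := by rw [← hz, h, one_mul]
  have hZz := bgn_eq_zpowers Z₀ hZcard hzZ hz1
  have hwz : w ∈ Subgroup.zpowers z := by rw [← hZz]; exact hw
  rw [← (isOfFinOrder_of_finite z).mem_powers_iff_mem_zpowers, Submonoid.mem_powers_iff] at hwz
  obtain ⟨k, hk⟩ := hwz
  have hformula : ∀ n : ℕ, y ^ n * u * (y ^ n)⁻¹ = z ^ n * u := by
    intro n
    induction n with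
    | zero => simp
    | succ n ih =>
      have hyz : y ^ n * z = z * y ^ n := hZcen z hzZ (y ^ n) (pow_mem hy n)
      have e1 : y ^ (n + 1) * u * (y ^ (n + 1))⁻¹ =
          (y ^ n * z * (y ^ n)⁻¹) * (y ^ n * u * (y ^ n)⁻¹) := by
        rw [hz, pow_succ]; group
      rw [e1, ih, hyz, pow_succ']
      group
  refine ⟨y ^ k, pow_mem hy k, ?_⟩
  have hconj : (MulAut.conj (y ^ k)).toMonoidHom u = b' := by
    show (MulAut.conj (y ^ k)) u = b'
    rw [MulAut.conj_apply, hformula k, hk, hwu]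
  rw [hA₀'b', ← hconj, hA₀u, MonoidHom.map_zpowers]

/-- In a `p`-group `S` of `p`-rank at most two containing a nonabelian subgroup `P₁` of order
`p ^ 3` and exponent `p`: the centre `Z₀` of `P₁` has order `p`, and `Z₀⟨a⟩` is elementary abelian
of order `p ^ 2` for every `a ∈ P₁ \ Z₀`. -/
theorem bgn_center_card [Finite G] {p : ℕ} [Fact p.Prime]
    (S : Subgroup G) (hSp : IsPGroup p S) (hr : PRankLE p 2 S)
    (P₁ : Subgroup G) (hP₁S : P₁ ≤ S) (hcard : Nat.card P₁ = p ^ 3) (hnc : ¬ IsMulCommutative P₁)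
    (hexp : ∀ b ∈ P₁, b ^ p = 1) :
    Nat.card ↥(P₁ ⊓ Subgroup.centralizer (P₁ : Set G)) = p ∧
    ∀ a ∈ P₁, a ∉ P₁ ⊓ Subgroup.centralizer (P₁ : Set G) →
      IsElementaryAbelian p (P₁ ⊓ Subgroup.centralizer (P₁ : Set G) ⊔ Subgroup.zpowers a) ∧
      Nat.card ↥(P₁ ⊓ Subgroup.centralizer (P₁ : Set G) ⊔ Subgroup.zpowers a) = p ^ 2 := by
  have hpp : p.Prime := Fact.out
  have hcommEq := Cfsg.Agent.Lib.helper8.bg_comm_eq_center_of_card_cube p P₁ hcard hnc
  set Z₀ := P₁ ⊓ Subgroup.centralizer (P₁ : Set G) with hZ₀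
  have hZcen : ∀ z ∈ Z₀, ∀ g ∈ P₁, g * z = z * g := fun z hz g hg =>
    Subgroup.mem_centralizer_iff.mp hz.2 g hg
  have hZe : IsElementaryAbelian p Z₀ := by
    rw [Cfsg.Agent.Lib.helper8.bg_elemAb_iff]
    exact ⟨fun a ha b hb => hZcen b hb a ha.1, fun a ha => hexp a ha.1⟩
  obtain ⟨u, hu, v, hv, huv⟩ : ∃ u ∈ P₁, ∃ v ∈ P₁, u * v ≠ v * u := by
    by_contra hcon
    push Not at hcon
    apply hnc
    rw [isMulCommutative_iff]
    intro x y
    exact Subtype.ext (hcon x x.2 y y.2)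
  have hZ1 : Z₀ ≠ ⊥ := by
    intro h
    have hc := Subgroup.commutator_mem_commutator hu hv
    rw [hcommEq, h, Subgroup.mem_bot, commutatorElement_def] at hc
    apply huv
    calc u * v = (u * v * u⁻¹ * v⁻¹) * (v * u) := by group
      _ = v * u := by rw [hc, one_mul]
  have hZp : IsPGroup p Z₀ := hSp.to_le (inf_le_left.trans hP₁S)
  have key : ∀ a ∈ P₁, a ∉ Z₀ → Nat.card Z₀ = p ∧
      IsElementaryAbelian p (Z₀ ⊔ Subgroup.zpowers a) ∧
      Nat.card ↥(Z₀ ⊔ Subgroup.zpowers a) = p ^ 2 := by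
    intro a ha haZ
    have hae : IsElementaryAbelian p (Subgroup.zpowers a) := by
      rw [Cfsg.Agent.Lib.helper8.bg_elemAb_iff]
      refine ⟨?_, ?_⟩
      · intro x hx y hy
        obtain ⟨i, rfl⟩ := Subgroup.mem_zpowers_iff.mp hx
        obtain ⟨j, rfl⟩ := Subgroup.mem_zpowers_iff.mp hy
        exact (Commute.zpow_zpow_self a i j).eq
      · intro x hx
        exact hexp x (Subgroup.zpowers_le.mpr ha hx)
    have hc : ∀ x ∈ Z₀, ∀ y ∈ Subgroup.zpowers a, x * y = y * x := fun x hx y hy =>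
      (hZcen x hx y (Subgroup.zpowers_le.mpr ha hy)).symm
    have hAe := Cfsg.Agent.Lib.helper8.bg_elemAb_sup Z₀ (Subgroup.zpowers a) hZe hae hc
    have hAS : Z₀ ⊔ Subgroup.zpowers a ≤ S :=
      sup_le (inf_le_left.trans hP₁S) (Subgroup.zpowers_le.mpr (hP₁S ha))
    have hAp : IsPGroup p ↥(Z₀ ⊔ Subgroup.zpowers a) := hSp.to_le hAS
    have hle2 : Nat.card ↥(Z₀ ⊔ Subgroup.zpowers a) ≤ p ^ 2 := by
      by_contra hlt
      push Not at hlt
      have hr' : PRankLE p 2 ↥(Z₀ ⊔ Subgroup.zpowers a) :=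
        Cfsg.Agent.Lib.helper26.prankLE_mono hAS hr
      exact Cfsg.Agent.Lib.helper26.not_prankLE_self hAe.1
        (fun x => Subtype.ext (by simpa using hAe.2 x x.2)) hlt hr'
    obtain ⟨k, hk⟩ := IsPGroup.iff_card.mp hZp
    obtain ⟨m, hm⟩ := IsPGroup.iff_card.mp hAp
    have hk0 : k ≠ 0 := by
      intro h
      rw [h, pow_zero] at hk
      exact hZ1 (Subgroup.card_eq_one.mp hk)
    have hm2 : m ≤ 2 := by
      rw [hm] at hle2
      exact (Nat.pow_le_pow_iff_right hpp.one_lt).mp hle2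
    have hkm : k ≤ m := by
      have : p ^ k ∣ p ^ m := by
        rw [← hk, ← hm]
        exact Subgroup.card_dvd_of_le le_sup_left
      exact (Nat.pow_dvd_pow_iff_le_right hpp.one_lt).mp this
    have hkm' : k ≠ m := by
      intro h
      have heq : Z₀ = Z₀ ⊔ Subgroup.zpowers a :=
        Subgroup.eq_of_le_of_card_ge le_sup_left (by rw [hk, hm, h])
      apply haZ
      rw [heq]
      exact (le_sup_right : Subgroup.zpowers a ≤ Z₀ ⊔ Subgroup.zpowers a) (Subgroup.mem_zpowers a)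
    have hk1 : k = 1 := by omega
    have hm2' : m = 2 := by omega
    exact ⟨by rw [hk, hk1, pow_one], hAe, by rw [hm, hm2']⟩
  have hu' : u ∉ Z₀ := fun h => huv (hZcen u h v hv).symm
  exact ⟨(key u hu hu').1, fun a ha haZ => (key a ha haZ).2⟩

/-- A noncyclic `p`-subgroup, `p` odd, contains an elementary abelian subgroup of order
`p ^ 2`. -/
theorem bgn_exists_elemAb_sq [Finite G] {p : ℕ} [Fact p.Prime] (hp2 : p ≠ 2)
    (Q : Subgroup G) (hQ : IsPGroup p Q) (hnc : ¬ IsCyclic Q) :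
    ∃ A : Subgroup G, A ≤ Q ∧ IsElementaryAbelian p A ∧ Nat.card A = p ^ 2 := by
  have hpp : p.Prime := Fact.out
  have hr1 : ¬ PRankLE p 1 Q := fun h =>
    hnc (Cfsg.Agent.Lib.helper71.BGA.isCyclic_of_prankLE_one p hp2 hQ h)
  unfold PRankLE at hr1
  push Not at hr1
  obtain ⟨A₀, hc, he, hcard⟩ := hr1
  have hA₀p : IsPGroup p A₀ := hQ.to_subgroup A₀
  obtain ⟨n, hn⟩ := IsPGroup.iff_card.mp hA₀p
  have hn2 : 2 ≤ n := by
    rw [hn] at hcard
    have := (Nat.pow_lt_pow_iff_right hpp.one_lt).mp hcard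
    omega
  obtain ⟨K, hK⟩ := Sylow.exists_subgroup_card_pow_prime p (G := A₀) (n := 2)
    (by rw [hn]; exact pow_dvd_pow p hn2)
  refine ⟨(K.map A₀.subtype).map Q.subtype, Subgroup.map_subtype_le _, ?_, ?_⟩
  · apply Cfsg.Agent.Lib.helper8.bg_elemAb_map
    apply Cfsg.Agent.Lib.helper8.bg_elemAb_map
    rw [Cfsg.Agent.Lib.helper8.bg_elemAb_iff]
    rw [isMulCommutative_iff] at hc
    refine ⟨fun a _ b _ => hc a b, ?_⟩
    intro a _
    exact Subtype.ext (by simpa using he a a.2)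
  · rw [Subgroup.card_map_of_injective Q.subtype_injective,
      Subgroup.card_map_of_injective A₀.subtype_injective, hK]

/-- Commutativity passes to subgroups. -/
theorem bgn_comm_of_le {P Q : Subgroup G} (h : P ≤ Q) (hQ : IsMulCommutative Q) :
    IsMulCommutative P := by
  rw [isMulCommutative_iff] at hQ ⊢
  intro a b
  have h1 := hQ ⟨a, h a.2⟩ ⟨b, h b.2⟩
  have h2 := congrArg Subtype.val h1
  exact Subtype.ext h2

end general

end Cfsg.Agent.Lib.helper98
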