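import Mathlib
import Cfsg.Agent.Lib.helper98.BGNonabA
import Cfsg.Agent.Lib.helper8.BGTwelve
import Cfsg.Agent.S1461
import Cfsg.Agent.S1403
import Cfsg.Agent.S1404
import Cfsg.Agent.S1410
import Cfsg.Agent.S1412

/-!
Bender–Glauberman Corollary 12.9 (statement S1422): in a minimal simple group of odd order a
nonabelian `p`-subgroup lies in exactly one maximal subgroup.  Proposition 12.4 (S1416) and the
"abelian Sylow" clause of Theorem 12.5(b) (S1417) are taken as hypotheses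
(`BGTwelveFourHyp`, `BGTau2AbHyp`).
-/

set_option autoImplicit false
open Cfsg Cfsg.Agent.Lib.helper8

namespace Cfsg.Agent.Lib.helper98

variable {G : Type*} [Group G] [Finite G]

/-- The clause "every Sylow `p`-subgroup of `M` is abelian" of S1417 (B-G Theorem 12.5(b)), for
all `M`, `p ∈ τ₂(M)`, `A`, as a hypothesis. -/
def BGTau2AbHyp (G : Type*) [Group G] : Prop :=
  ∀ (M : Subgroup G), IsCoatom M → ∀ (p : ℕ) [Fact p.Prime], p ∈ tau2 M → ∀ A : Subgroup G,
    (A ≤ M ∧ IsElementaryAbelian p A ∧ Nat.card A = p ^ 2) →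
    ∀ P : Sylow p M, IsMulCommutative (P : Subgroup M)

/-- A prime with a nonabelian `p`-subgroup is odd. -/
theorem bgn_odd (hodd : Odd (Nat.card G)) (p : ℕ) [Fact p.Prime] (P : Subgroup G)
    (hP : IsPGroup p P) (hPna : ¬ IsMulCommutative P) : p ≠ 2 := by
  intro hp2
  obtain ⟨n, hn⟩ := IsPGroup.iff_card.mp hP
  have hdvd : Nat.card P ∣ Nat.card G := Subgroup.card_subgroup_dvd_card _
  have hn0 : n = 0 := by
    by_contra h
    have h2 : 2 ∣ Nat.card G := by
      have : p ∣ Nat.card G := (dvd_pow_self p h).trans (hn ▸ hdvd)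
      rwa [hp2] at this
    exact (Nat.not_even_iff_odd.mpr hodd) (even_iff_two_dvd.mpr h2)
  rw [hn0, pow_zero] at hn
  apply hPna
  have hbot : P = ⊥ := Subgroup.card_eq_one.mp hn
  rw [isMulCommutative_iff]
  intro a b
  have ha : (a : G) = 1 := (Subgroup.eq_bot_iff_forall P).mp hbot (a : G) a.2
  have hb : (b : G) = 1 := (Subgroup.eq_bot_iff_forall P).mp hbot (b : G) b.2
  apply Subtype.ext
  show (a : G) * (b : G) = (b : G) * (a : G)
  rw [ha, hb]

/-- Every maximal subgroup containing a nonabelian `p`-subgroup has `p ∈ σ`. -/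
theorem bgn_mem_sigma (hG : IsMinSimpleOddOrder G) (h17 : BGTau2AbHyp G)
    (p : ℕ) [Fact p.Prime] (P : Subgroup G) (hP : IsPGroup p P) (hPna : ¬ IsMulCommutative P)
    (L : Subgroup G) (hL : IsCoatom L) (hPL : P ≤ L) : p ∈ sigma L := by
  obtain ⟨hodd, hsimple, hna, hsolv⟩ := id hG
  have hpp : p.Prime := Fact.out
  have hU : BGUniqHyp G := fun K hK h1 h2 => Cfsg.Agent.S1403.result hG K hK h1 h2
  by_contra hσ
  have hab : ∀ Q : Sylow p L, IsMulCommutative (Q : Subgroup L) := by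
    by_cases hr1 : PRankLE p 1 L
    · intro Q
      have := bg_sylow_cyclic_of_prank_one hodd (le_refl L) p hr1 Q
      exact IsCyclic.isMulCommutative
    · by_cases hr2 : PRankLE p 2 L
      · obtain ⟨A, hAL, hA, hA2⟩ := bg_exists_elemAb_sq L p hr2 hr1
        exact fun Q => h17 L hL p ⟨hpp, hσ, hr2, hr1⟩ A ⟨hAL, hA, hA2⟩ Q
      · exact absurd (bg_alpha_sub_sigma hG hU L hL ⟨hpp, hr2⟩) hσ
  apply hPna
  have hP' : IsPGroup p (P.subgroupOf L) := hP.comap_of_injective L.subtype L.subtype_injective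
  obtain ⟨Q, hQ⟩ := hP'.exists_le_sylow
  have hQc := hab Q
  rw [isMulCommutative_iff] at hQc ⊢
  intro a b
  have h := hQc ⟨⟨a, hPL a.2⟩, hQ (Subgroup.mem_subgroupOf.mpr a.2)⟩
    ⟨⟨b, hPL b.2⟩, hQ (Subgroup.mem_subgroupOf.mpr b.2)⟩
  apply Subtype.ext
  have h2 := congrArg (fun x : (Q : Subgroup L) => ((x : L) : G)) h
  exact h2

/-- For `p ∈ σ(L)`, `p` odd, the normalizer of a noncyclic `p`-subgroup of `L` lies in `L`. -/
theorem bgn_normalizer_le (hG : IsMinSimpleOddOrder G) (h16 : BGTwelveFourHyp G)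
    (p : ℕ) [Fact p.Prime] (hp2 : p ≠ 2) (L : Subgroup G) (hL : IsCoatom L) (hσ : p ∈ sigma L)
    (Q : Subgroup G) (hQ : IsPGroup p Q) (hQL : Q ≤ L) (hQnc : ¬ IsCyclic Q) :
    Subgroup.normalizer (Q : Set G) ≤ L := by
  obtain ⟨A, hAQ, hA, hA2⟩ := bgn_exists_elemAb_sq hp2 Q hQ hQnc
  have hCA : Subgroup.centralizer (A : Set G) ≤ L := (h16 L hL p A ⟨hAQ.trans hQL, hA, hA2⟩).1
  have hCQ : Subgroup.centralizer (Q : Set G) ≤ L :=
    (Subgroup.centralizer_le (SetLike.coe_subset_coe.mpr hAQ)).trans hCA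
  have hQ1 : Q ≠ ⊥ := by
    intro h
    apply hQnc
    rw [h]
    infer_instance
  have h := (Cfsg.Agent.S1404.result hG L hL p hσ Q hQ hQ1 hQL).2
  rw [h]
  exact sup_le inf_le_left hCQ

omit [Finite G] in
/-- The centralizer of a nontrivial subgroup is proper. -/
theorem bgn_centralizer_ne_top (hG : IsMinSimpleOddOrder G) (Z : Subgroup G) (hZ : Z ≠ ⊥) :
    Subgroup.centralizer (Z : Set G) ≠ ⊤ := by
  obtain ⟨-, hsimple, hna, -⟩ := id hG
  have := hsimple
  intro h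
  have hZc : Z ≤ Subgroup.center G := by
    intro z hz
    rw [Subgroup.mem_center_iff]
    intro g
    have hg : g ∈ Subgroup.centralizer (Z : Set G) := h ▸ Subgroup.mem_top g
    exact (Subgroup.mem_centralizer_iff.mp hg z hz).symm
  rcases (inferInstance : (Subgroup.center G).Normal).eq_bot_or_eq_top with hc | hc
  · exact hZ (le_bot_iff.mp (hc ▸ hZc))
  · apply hna
    rw [isMulCommutative_iff]
    intro a b
    have ha : a ∈ Subgroup.center G := hc ▸ Subgroup.mem_top a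
    exact (Subgroup.mem_center_iff.mp ha b).symm

/-- For a maximal subgroup `X ≥ S` with `p ∈ σ(X)`, `S` a Sylow `p`-subgroup of `G` containing the
nonabelian `P₁` of order `p ^ 3` and exponent `p` with centre `Z₀` central in `S`: if the
centralizers of the subgroups `Z₀⟨a⟩`, `a ∈ P₁ \ Z₀`, lie in `X`, then `N_G(Z₀) ≤ X`. -/
theorem bgn_normalizer_center_le (hG : IsMinSimpleOddOrder G) (p : ℕ) [Fact p.Prime]
    (X : Subgroup G) (hX : IsCoatom X) (hσ : p ∈ sigma X) (S : Sylow p G)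
    (hSX : (S : Subgroup G) ≤ X)
    (hNS : Subgroup.normalizer ((S : Subgroup G) : Set G) ≤ X)
    (P₁ : Subgroup G) (hP₁S : P₁ ≤ (S : Subgroup G)) (hcard : Nat.card P₁ = p ^ 3)
    (hnc : ¬ IsMulCommutative P₁) (hexp : ∀ b ∈ P₁, b ^ p = 1)
    (hZcard : Nat.card ↥(P₁ ⊓ Subgroup.centralizer (P₁ : Set G)) = p)
    (hZS : (S : Subgroup G) ≤
      Subgroup.centralizer ((P₁ ⊓ Subgroup.centralizer (P₁ : Set G) : Subgroup G) : Set G))
    (hCA : ∀ a ∈ P₁, a ∉ P₁ ⊓ Subgroup.centralizer (P₁ : Set G) →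
      Subgroup.centralizer
        ((P₁ ⊓ Subgroup.centralizer (P₁ : Set G) ⊔ Subgroup.zpowers a : Subgroup G) : Set G) ≤ X) :
    Subgroup.normalizer ((P₁ ⊓ Subgroup.centralizer (P₁ : Set G) : Subgroup G) : Set G) ≤ X := by
  have hpp : p.Prime := Fact.out
  have hcommEq := bg_comm_eq_center_of_card_cube p P₁ hcard hnc
  set Z₀ := P₁ ⊓ Subgroup.centralizer (P₁ : Set G) with hZ₀
  have hZ₀P : Z₀ ≤ P₁ := inf_le_left
  have hZ₀1 : Z₀ ≠ ⊥ := by
    intro h
    rw [h, Subgroup.card_bot] at hZcard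
    exact hpp.one_lt.ne hZcard
  have hZ₀p : IsPGroup p Z₀ := S.isPGroup'.to_le (hZ₀P.trans hP₁S)
  set C := Subgroup.centralizer (Z₀ : Set G) with hC
  have hZ₀C : Z₀ ≤ C := (hZ₀P.trans hP₁S).trans hZS
  have hCtop : C ≠ ⊤ := bgn_centralizer_ne_top hG Z₀ hZ₀1
  have hpl : PLengthLE p 1 C := Cfsg.Agent.S1410.result hG p C hCtop
  obtain ⟨K, hKn, hKcop, hNK⟩ := Cfsg.Agent.S1461.exists_K p hpl (S.subtype hZS)
  have := hKn
  have hKX : K ≤ X.subgroupOf C := by
    apply bgn_le_of_centralizers_le (p := p) (Z₀.subgroupOf C) (P₁.subgroupOf C) K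
      (X.subgroupOf C)
    · intro z hz x
      apply Subtype.ext
      exact Subgroup.mem_centralizer_iff.mp x.2 (z : G) (Subgroup.mem_subgroupOf.mp hz)
    · rw [Nat.card_congr (Subgroup.subgroupOfEquivOfLe hZ₀C).toEquiv, hZcard]
    · rw [Nat.card_congr (Subgroup.subgroupOfEquivOfLe (hP₁S.trans hZS)).toEquiv, hcard]
    · intro b hb
      exact Subtype.ext (by simpa using hexp (b : G) (Subgroup.mem_subgroupOf.mp hb))
    · intro a ha b hb
      rw [Subgroup.mem_subgroupOf]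
      have h := Subgroup.commutator_mem_commutator (Subgroup.mem_subgroupOf.mp ha)
        (Subgroup.mem_subgroupOf.mp hb)
      rw [hcommEq, commutatorElement_def] at h
      simpa using h
    · rw [Subgroup.normalizer_eq_top_iff.mpr hKn]
      exact le_top
    · exact hKcop
    · intro z hz
      exact Subgroup.mem_subgroupOf.mpr (hSX (hP₁S (hZ₀P (Subgroup.mem_subgroupOf.mp hz))))
    · rintro b hb hbZ k ⟨hkK, hkc⟩
      rw [Subgroup.mem_subgroupOf]
      apply hCA (b : G) (Subgroup.mem_subgroupOf.mp hb)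
        (fun h => hbZ (Subgroup.mem_subgroupOf.mpr h))
      have hle : Z₀ ⊔ Subgroup.zpowers (b : G) ≤ Subgroup.centralizer ({(k : G)} : Set G) := by
        apply sup_le
        · intro z hz
          rw [Subgroup.mem_centralizer_iff]
          intro y hy
          rw [Set.mem_singleton_iff] at hy
          subst hy
          exact (Subgroup.mem_centralizer_iff.mp k.2 z hz).symm
        · rw [Subgroup.zpowers_le, Subgroup.mem_centralizer_iff]
          intro y hy
          rw [Set.mem_singleton_iff] at hy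
          subst hy
          have h1 := Subgroup.mem_centralizer_iff.mp hkc b rfl
          exact (congrArg Subtype.val h1).symm
      rw [Subgroup.mem_centralizer_iff]
      intro h hh
      exact (Subgroup.mem_centralizer_iff.mp (hle hh) (k : G) rfl).symm
  have hCX : C ≤ X := by
    intro c hc
    obtain ⟨n, hn, k, hk, hnk⟩ := Cfsg.Agent.S1461.exists_mul hNK (⟨c, hc⟩ : C)
    have h1 : (n : G) ∈ X := hNS (bg_mem_normalizer_of_subtype S hZS n hn)
    have h2 : (k : G) ∈ X := Subgroup.mem_subgroupOf.mp (hKX hk)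
    have h3 : c = (n : G) * (k : G) := (congrArg Subtype.val hnk).symm
    rw [h3]
    exact X.mul_mem h1 h2
  have h := (Cfsg.Agent.S1404.result hG X hX p hσ Z₀ hZ₀p hZ₀1
    (hZ₀P.trans (hP₁S.trans hSX))).2
  rw [h]
  exact sup_le inf_le_left hCX

/-- B-G Corollary 12.9 for a Sylow subgroup. -/
theorem bgn_sylow_uniq (hG : IsMinSimpleOddOrder G) (h16 : BGTwelveFourHyp G)
    (h17 : BGTau2AbHyp G) (p : ℕ) [Fact p.Prime] (S : Sylow p G)
    (hSna : ¬ IsMulCommutative (S : Subgroup G)) : InUniqueMaximal (S : Subgroup G) := by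
  obtain ⟨hodd, hsimple, hna, hsolv⟩ := id hG
  have hpp : p.Prime := Fact.out
  have hU : BGUniqHyp G := fun K hK h1 h2 => Cfsg.Agent.S1403.result hG K hK h1 h2
  have hF : BGFusHyp G := by
    intro M hM q hq Y hY hY1 hYM g hg
    have : Fact q.Prime := ⟨hq.1⟩
    exact (Cfsg.Agent.S1404.result hG M hM q hq Y hY hY1 hYM).1 g hg
  have hSp : IsPGroup p (S : Subgroup G) := S.isPGroup'
  have hp2 : p ≠ 2 := bgn_odd hodd p (S : Subgroup G) hSp hSna
  have hStop : (S : Subgroup G) ≠ ⊤ := by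
    intro h
    apply bg_not_pgroup_top hG p
    intro g
    obtain ⟨k, hk⟩ := hSp ⟨g, h ▸ Subgroup.mem_top g⟩
    exact ⟨k, congrArg Subtype.val hk⟩
  by_cases hr : PRankLE p 2 (S : Subgroup G)
  swap
  · apply Cfsg.Agent.S1403.result hG _ hStop
    · intro h1
      exact hr (fun A hA he => (h1 p hpp A hA he).trans
        (Nat.pow_le_pow_right hpp.pos (by norm_num)))
    · left
      intro h2
      exact hr (h2 p hpp)
  rcases Cfsg.Agent.S1412.result hG p S hr with hab |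
    ⟨P₁, P₂, hsup, hcomm12, hP₁na, hP₁card, hP₁exp, hP₂cyc, hclos⟩
  · exact absurd hab hSna
  have hP₁S : P₁ ≤ (S : Subgroup G) := hsup ▸ le_sup_left
  have hexp : ∀ b ∈ P₁, b ^ p = 1 := by
    intro b hb
    have h1 : (⟨b, hb⟩ : P₁) ^ Monoid.exponent P₁ = 1 := Monoid.pow_exponent_eq_one _
    rw [hP₁exp] at h1
    exact congrArg Subtype.val h1
  obtain ⟨hZcard, hAa⟩ := bgn_center_card (S : Subgroup G) hSp hr P₁ hP₁S hP₁card hP₁na hexp
  set Z₀ := P₁ ⊓ Subgroup.centralizer (P₁ : Set G) with hZ₀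
  have hZS : (S : Subgroup G) ≤ Subgroup.centralizer (Z₀ : Set G) := by
    rw [← hsup]
    apply sup_le
    · intro x hx
      rw [Subgroup.mem_centralizer_iff]
      intro z hz
      exact (Subgroup.mem_centralizer_iff.mp hz.2 x hx).symm
    · intro x hx
      rw [Subgroup.mem_centralizer_iff]
      intro z hz
      exact hcomm12 z hz.1 x hx
  obtain ⟨a, haP, haZ⟩ : ∃ a ∈ P₁, a ∉ Z₀ := by
    by_contra hcon
    push Not at hcon
    apply hP₁na
    rw [isMulCommutative_iff]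
    intro x y
    apply Subtype.ext
    exact Subgroup.mem_centralizer_iff.mp (hcon y y.2).2 x x.2
  obtain ⟨hAe, hAcard⟩ := hAa a haP haZ
  set A := Z₀ ⊔ Subgroup.zpowers a with hA
  have hAP : A ≤ P₁ := sup_le inf_le_left (Subgroup.zpowers_le.mpr haP)
  have hSnc : ¬ IsCyclic (S : Subgroup G) := fun h => hSna (haveI := h; IsCyclic.isMulCommutative)
  have hfacts : ∀ X : Subgroup G, IsCoatom X → (S : Subgroup G) ≤ X →
      p ∈ sigma X ∧ Subgroup.normalizer ((S : Subgroup G) : Set G) ≤ X ∧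
        Subgroup.normalizer (Z₀ : Set G) ≤ X := by
    intro X hX hSX
    have hσ := bgn_mem_sigma hG h17 p (S : Subgroup G) hSp hSna X hX hSX
    have hNS := bgn_normalizer_le hG h16 p hp2 X hX hσ (S : Subgroup G) hSp hSX hSnc
    refine ⟨hσ, hNS, ?_⟩
    apply bgn_normalizer_center_le hG p X hX hσ S hSX hNS P₁ hP₁S hP₁card hP₁na hexp hZcard hZS
    intro a' ha' ha'Z
    obtain ⟨hAe', hAcard'⟩ := hAa a' ha' ha'Z
    exact (h16 X hX p _ ⟨(sup_le inf_le_left (Subgroup.zpowers_le.mpr ha')).trans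
      (hP₁S.trans hSX), hAe', hAcard'⟩).1
  have htri : ∀ X : Subgroup G, IsCoatom X → (S : Subgroup G) ≤ X →
      X ≤ Subgroup.normalizer ((S : Subgroup G) : Set G) ∨
      ∃ A₀ : Subgroup G, A₀ ≤ A ∧ Nat.card A₀ = p ∧ (Subgroup.normalizer (A₀ : Set G) ≤ X ∧
        ∀ L : Subgroup G, IsCoatom L → Subgroup.normalizer (A₀ : Set G) ≤ L → L = X) := by
    intro X hX hSX
    obtain ⟨hσ, hNS, hNZ⟩ := hfacts X hX hSX
    by_cases hex : ∃ A₀ : Subgroup G, A₀ ≤ A ∧ Nat.card A₀ = p ∧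
        (Subgroup.normalizer (A₀ : Set G) ≤ X ∧
          ∀ L : Subgroup G, IsCoatom L → Subgroup.normalizer (A₀ : Set G) ≤ L → L = X)
    · exact Or.inr hex
    · left
      have h := (h16 X hX p A ⟨hAP.trans (hP₁S.trans hSX), hAe, hAcard⟩).2
        (fun A₀ hA₀ hc hu => hex ⟨A₀, hA₀, hc, hu⟩)
      obtain ⟨-, -, hnil⟩ := h
      have hSσ : (S : Subgroup G) ≤ sigmaCore X :=
        bg_pgroup_le_sigmaCore hG hU hF X hX hσ (S : Subgroup G) hSX hSp
      exact (Cfsg.Agent.Lib.helper71.BGA.le_normalizer_sigmaCore X).trans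
        (bgn_normalizer_le_of_nilpotent (sigmaCore X) hnil S hSσ)
  obtain ⟨M, hM, hSM⟩ := (eq_top_or_exists_le_coatom (S : Subgroup G)).resolve_left hStop
  refine ⟨M, ⟨hM, hSM⟩, ?_⟩
  rintro L ⟨hL, hSL⟩
  obtain ⟨hσM, hNSM, hNZM⟩ := hfacts M hM hSM
  obtain ⟨hσL, hNSL, hNZL⟩ := hfacts L hL hSL
  have hcmp : ∀ X Y : Subgroup G, IsCoatom X → IsCoatom Y → X ≤ Y → X = Y := by
    intro X Y hX hY h
    by_contra hne
    exact hY.1 (hX.2 Y (lt_of_le_of_ne h hne))
  rcases htri M hM hSM with hMn | ⟨A₀, hA₀, hcA₀, hNA₀, huA₀⟩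
  · exact (hcmp M L hM hL (hMn.trans hNSL)).symm
  rcases htri L hL hSL with hLn | ⟨A₀', hA₀', hcA₀', hNA₀', huA₀'⟩
  · exact hcmp L M hL hM (hLn.trans hNSM)
  by_cases h1 : A₀ = Z₀
  · exact huA₀ L hL (by rw [h1]; exact hNZL)
  by_cases h2 : A₀' = Z₀
  · exact (huA₀' M hM (by rw [h2]; exact hNZM)).symm
  obtain ⟨s, hs, hconj⟩ := bgn_conj_noncentral P₁ hP₁card hP₁na hZcard A hAP le_sup_left
    hAcard A₀ A₀' hA₀ hA₀' hcA₀ hcA₀' h1 h2
  have hsM : s ∈ M := hSM (hP₁S hs)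
  have hmem : ∀ y : G, y ∈ A₀' ↔ s⁻¹ * y * s ∈ A₀ := by
    intro y
    rw [hconj]
    constructor
    · rintro ⟨t, ht, rfl⟩
      have e : s⁻¹ * ((MulAut.conj s).toMonoidHom t) * s = t := by
        show s⁻¹ * ((MulAut.conj s) t) * s = t
        rw [MulAut.conj_apply]
        group
      rw [e]
      exact ht
    · intro h
      refine ⟨s⁻¹ * y * s, h, ?_⟩
      show (MulAut.conj s) (s⁻¹ * y * s) = y
      rw [MulAut.conj_apply]
      group
  have hNM : Subgroup.normalizer (A₀' : Set G) ≤ M := by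
    intro g hg
    have h3 : s⁻¹ * g * s ∈ Subgroup.normalizer (A₀ : Set G) := by
      rw [Subgroup.mem_normalizer_iff]
      intro x
      have hg' := Subgroup.mem_normalizer_iff.mp hg (s * x * s⁻¹)
      rw [hmem, hmem] at hg'
      have e1 : s⁻¹ * (s * x * s⁻¹) * s = x := by group
      have e2 : s⁻¹ * (g * (s * x * s⁻¹) * g⁻¹) * s = s⁻¹ * g * s * x * (s⁻¹ * g * s)⁻¹ := by
        group
      rw [e1, e2] at hg'
      exact hg'
    have h4 := hNA₀ h3
    have e : g = s * (s⁻¹ * g * s) * s⁻¹ := by group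
    rw [e]
    exact M.mul_mem (M.mul_mem hsM h4) (M.inv_mem hsM)
  exact (huA₀' M hM hNM).symm

/-- B-G Corollary 12.9 (the statement S1422), from Proposition 12.4 and Theorem 12.5(b). -/
theorem bgn_nonabelian_uniq (hG : IsMinSimpleOddOrder G) (h16 : BGTwelveFourHyp G)
    (h17 : BGTau2AbHyp G) (p : ℕ) [Fact p.Prime] (P : Subgroup G) (hP : IsPGroup p P)
    (hPna : ¬ IsMulCommutative P) : InUniqueMaximal P := by
  obtain ⟨hodd, hsimple, hna, hsolv⟩ := id hG
  have hp2 : p ≠ 2 := bgn_odd hodd p P hP hPna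
  obtain ⟨S, hPS, hCS⟩ := bgn_exists_sylow P hP
    (fun Q => ∀ L : Subgroup G, IsCoatom L → P ≤ L → Q ≤ L) (fun L _ h => h) (by
      intro Q hQp hPQ hCQ Q' hQ'p hQQ' hQ'N L hL hPL
      have hσ := bgn_mem_sigma hG h17 p P hP hPna L hL hPL
      have hQnc : ¬ IsCyclic Q := fun h =>
        hPna (bgn_comm_of_le hPQ (haveI := h; IsCyclic.isMulCommutative))
      exact hQ'N.trans (bgn_normalizer_le hG h16 p hp2 L hL hσ Q hQp (hCQ L hL hPL) hQnc))
  have hSna : ¬ IsMulCommutative (S : Subgroup G) := fun h => hPna (bgn_comm_of_le hPS h)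
  obtain ⟨M, ⟨hM, hSM⟩, huniq⟩ := bgn_sylow_uniq hG h16 h17 p S hSna
  refine ⟨M, ⟨hM, hPS.trans hSM⟩, ?_⟩
  rintro L ⟨hL, hPL⟩
  exact huniq L ⟨hL, hCS L hL hPL⟩

end Cfsg.Agent.Lib.helper98
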