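import Mathlib
import Cfsg.Agent.Lib.helper29.PQR
import Cfsg.Agent.Lib.helper3.Class2

set_option autoImplicit false

/-!
# Lemma X for Bender–Glauberman 13.4 (pure group theory)

`bgx_comm_centralizes`: in a group of odd order let `R` be a subgroup of prime order `r`
normalizing a subgroup `Y` of order prime to `p r`, both normalizing a `p`-subgroup `S`.  If every
element `x` of `C_S(R)` with `x ^ p = 1` is centralized by `[Y, R]`, then `[Y, R]` centralizes `S`.

The proof reduces to `R`-invariant Sylow subgroups of `Y`, takes a minimal counterexample `S`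
(then `S = [S, Q]`, `S` has class at most two and exponent `p`, and `C_S(R) ≤ C_S(Q) ≤ Z(S)`),
and applies the `(p, q, r)`-lemma (`helper29.pqr_centralizes`) in `N_G(Z₀) / Z₀`, `Z₀ = C_S(R)`.
-/

namespace Cfsg.Agent.Lib.helper98

open Subgroup Pointwise
open scoped commutatorElement

universe u

section core

variable {G : Type u} [Group G]

theorem bgx_le_normalizer_inf {K A B : Subgroup G} (hA : K ≤ normalizer (A : Set G))
    (hB : K ≤ normalizer (B : Set G)) : K ≤ normalizer ((A ⊓ B : Subgroup G) : Set G) := by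
  rw [le_normalizer_iff] at hA hB ⊢
  intro h hh k hk
  exact ⟨hA h hh k hk.1, hB h hh k hk.2⟩

theorem bgx_le_normalizer_centralizer {K A : Subgroup G} (hA : K ≤ normalizer (A : Set G)) :
    K ≤ normalizer ((centralizer (A : Set G) : Subgroup G) : Set G) := by
  rw [le_normalizer_iff]
  intro h hh k hk
  rw [mem_centralizer_iff] at hk ⊢
  intro a ha
  have h1 : h⁻¹ * a * h ∈ A := by
    have := le_normalizer_iff.mp hA h⁻¹ (K.inv_mem hh) a ha
    simpa using this
  have h2 := hk _ h1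
  calc a * (h * k * h⁻¹) = h * ((h⁻¹ * a * h) * k) * h⁻¹ := by group
    _ = h * (k * (h⁻¹ * a * h)) * h⁻¹ := by rw [h2]
    _ = h * k * h⁻¹ * a := by group

theorem bgx_le_normalizer_commutator {K A B : Subgroup G} (hA : K ≤ normalizer (A : Set G))
    (hB : K ≤ normalizer (B : Set G)) : K ≤ normalizer ((⁅A, B⁆ : Subgroup G) : Set G) := by
  intro b hb
  apply Cfsg.Agent.Lib.helper1.mem_normalizer_of_conj_smul_eq
  have h1 : MulAut.conj b • A = A := Cfsg.Agent.Lib.helper1.conj_smul_eq_of_mem_normalizer (hA hb)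
  have h2 : MulAut.conj b • B = B := Cfsg.Agent.Lib.helper1.conj_smul_eq_of_mem_normalizer (hB hb)
  have h3 := Subgroup.map_commutator A B (MulAut.conj b).toMonoidHom
  calc MulAut.conj b • ⁅A, B⁆ = ⁅MulAut.conj b • A, MulAut.conj b • B⁆ := h3
    _ = ⁅A, B⁆ := by rw [h1, h2]

theorem bgx_subgroupOf_le_normalizer {N A B : Subgroup G} (h : A ≤ normalizer (B : Set G)) :
    A.subgroupOf N ≤ normalizer ((B.subgroupOf N : Subgroup N) : Set N) := by
  intro x hx
  rw [mem_subgroupOf] at hx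
  rw [mem_normalizer_iff]
  intro y
  simp only [mem_subgroupOf, coe_mul, InvMemClass.coe_inv]
  exact mem_normalizer_iff.mp (h hx) y

/-- The `(ℓ, q, r)`-lemma modulo a subgroup `Z ≤ P` normalized by everything and containing
`C_P(R)`: `[Q, R]` acts trivially on `P / Z`. -/
theorem bgx_pqr_mod [Finite G] {ℓ q r : ℕ} (hℓ : ℓ.Prime) (hq : q.Prime) (hr : r.Prime)
    (hℓq : ℓ ≠ q) (hℓr : ℓ ≠ r) (hqr : q ≠ r) (hq2 : q ≠ 2)
    (R Q P Z : Subgroup G) (hR : Nat.card R ∣ r) (hQ : IsPGroup q Q) (hP : IsPGroup ℓ P)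
    (hRQ : R ≤ normalizer (Q : Set G)) (hQP : Q ≤ normalizer (P : Set G))
    (hRP : R ≤ normalizer (P : Set G))
    (hZP : Z ≤ P) (hPZ : P ≤ normalizer (Z : Set G)) (hQZ : Q ≤ normalizer (Z : Set G))
    (hRZ : R ≤ normalizer (Z : Set G))
    (hfix : P ⊓ centralizer (R : Set G) ≤ Z) :
    ⁅⁅Q, R⁆, P⁆ ≤ Z := by
  have : Fact ℓ.Prime := ⟨hℓ⟩
  -- the ambient group `N = N_G(Z)` and its quotient by `Z`
  let N : Subgroup G := normalizer (Z : Set G)
  let Z' : Subgroup N := Z.subgroupOf N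
  have hZ'n : Z'.Normal := Subgroup.normal_in_normalizer
  let π : N →* N ⧸ Z' := QuotientGroup.mk' Z'
  let P' : Subgroup N := P.subgroupOf N
  let Q' : Subgroup N := Q.subgroupOf N
  let R' : Subgroup N := R.subgroupOf N
  have hcardR : Nat.card (R'.map π) ∣ r := by
    refine (Subgroup.card_map_dvd _ _).trans ?_
    rw [Nat.card_congr (Subgroup.subgroupOfEquivOfLe hRZ).toEquiv]
    exact hR
  have hfix' : (P'.map π) ⊓ centralizer ((R'.map π : Subgroup (N ⧸ Z')) : Set (N ⧸ Z')) = ⊥ := by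
    rw [eq_bot_iff]
    intro y' hy'
    obtain ⟨hyP, hyC⟩ := Subgroup.mem_inf.mp hy'
    obtain ⟨y, hy, rfl⟩ := hyP
    have hyP : (y : G) ∈ P := mem_subgroupOf.mp hy
    have hg : ∀ a ∈ R, a * (y : G) * a⁻¹ * (y : G)⁻¹ ∈ Z := by
      intro a ha
      have haR' : (⟨a, hRZ ha⟩ : N) ∈ R' := mem_subgroupOf.mpr ha
      have h1 := mem_centralizer_iff.mp hyC (π ⟨a, hRZ ha⟩) (mem_map_of_mem _ haR')
      have h2 : π ((⟨a, hRZ ha⟩ : N) * y * (⟨a, hRZ ha⟩ : N)⁻¹ * y⁻¹) = 1 := by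
        simp only [map_mul, map_inv]
        rw [h1]
        group
      have h3 : (⟨a, hRZ ha⟩ : N) * y * (⟨a, hRZ ha⟩ : N)⁻¹ * y⁻¹ ∈ Z' := by
        rw [← QuotientGroup.eq_one_iff]
        exact h2
      exact mem_subgroupOf.mp h3
    have hZp : IsPGroup ℓ Z := hP.to_le hZP
    obtain ⟨k, hk⟩ := hZp.exists_card_eq
    have hcop : (Nat.card R).Coprime (Nat.card Z) := by
      rw [hk]
      exact Nat.Coprime.coprime_dvd_left hR
        (Nat.Coprime.pow_right k ((Nat.coprime_primes hr hℓ).mpr (Ne.symm hℓr)))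
    have hZsolv : Group.IsSolvable Z := by
      have : Group.IsNilpotent Z := hZp.isNilpotent
      infer_instance
    obtain ⟨c, hc, hcy⟩ := Cfsg.Agent.Lib.helper1.coset_fixed R Z hRZ hcop (Or.inr hZsolv)
      (y : G) hg
    have hcP : c ∈ P := by
      have := P.mul_mem (hZP hcy) hyP
      simpa using this
    have hcZ : c ∈ Z := hfix (Subgroup.mem_inf.mpr ⟨hcP, hc⟩)
    have hyZ : (y : G) ∈ Z := by
      have := Z.mul_mem (Z.inv_mem hcy) hcZ
      simpa using this
    rw [mem_bot]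
    show π y = 1
    rw [QuotientGroup.mk'_apply, QuotientGroup.eq_one_iff]
    exact mem_subgroupOf.mpr hyZ
  have key := Cfsg.Agent.Lib.helper29.pqr_centralizes hℓ hq hr hℓq hℓr hqr (R'.map π) (Q'.map π)
    (P'.map π) hcardR ((hQ.comap_subtype).map π) ((hP.comap_subtype).map π)
    ((Subgroup.map_mono (bgx_subgroupOf_le_normalizer hRQ)).trans (le_normalizer_map _))
    ((Subgroup.map_mono (bgx_subgroupOf_le_normalizer hQP)).trans (le_normalizer_map _))
    ((Subgroup.map_mono (bgx_subgroupOf_le_normalizer hRP)).trans (le_normalizer_map _))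
    hfix' (fun h => absurd h hq2)
  rw [commutator_le]
  intro g hg x hx
  have hQRN : ⁅Q, R⁆ ≤ N := (commutator_mono hQZ hRZ).trans (commutator_le_self N)
  have hmapc : (⁅Q', R'⁆ : Subgroup N).map N.subtype = ⁅Q, R⁆ := by
    rw [map_commutator, subgroupOf_map_subtype, subgroupOf_map_subtype,
      inf_eq_left.mpr hQZ, inf_eq_left.mpr hRZ]
  have hg' : g ∈ (⁅Q', R'⁆ : Subgroup N).map N.subtype := by rw [hmapc]; exact hg
  obtain ⟨g', hg'm, hg'e⟩ := hg'
  have h1 : π g' ∈ ⁅Q'.map π, R'.map π⁆ := by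
    rw [← map_commutator]
    exact mem_map_of_mem _ hg'm
  have hx' : (⟨x, hPZ hx⟩ : N) ∈ P' := mem_subgroupOf.mpr hx
  have h2 := mem_centralizer_iff.mp (key h1) (π ⟨x, hPZ hx⟩) (mem_map_of_mem _ hx')
  have h3 : π ⁅g', (⟨x, hPZ hx⟩ : N)⁆ = 1 := by
    rw [map_commutatorElement, commutatorElement_eq_one_iff_mul_comm]
    exact h2.symm
  have h4 : ⁅g', (⟨x, hPZ hx⟩ : N)⁆ ∈ Z' := by
    rw [← QuotientGroup.eq_one_iff]
    exact h3
  have h5 := mem_subgroupOf.mp h4
  have h6 : ((⁅g', (⟨x, hPZ hx⟩ : N)⁆ : N) : G) = ⁅g, x⁆ := by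
    rw [← hg'e]
    simp [commutatorElement_def]
  rw [← h6]
  exact h5

theorem bgx_card_lt [Finite G] {T S : Subgroup G} (hTS : T ≤ S) (hne : T ≠ S) :
    Nat.card T < Nat.card S := by
  by_contra h
  exact hne (Subgroup.eq_of_le_of_card_ge hTS (not_lt.mp h))

theorem bgx_commutator_ne_self [Finite G] {p : ℕ} (hp : p.Prime) {S : Subgroup G}
    (hS : IsPGroup p S) (hS1 : S ≠ ⊥) : ⁅S, S⁆ ≠ S := by
  have : Fact p.Prime := ⟨hp⟩
  intro h
  have hnil : Group.IsNilpotent S := hS.isNilpotent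
  have hsolv : Group.IsSolvable S := inferInstance
  have hnt : Nontrivial S := (Subgroup.nontrivial_iff_ne_bot S).mpr hS1
  have h1 := Group.IsSolvable.commutator_lt_top_of_nontrivial (G := S)
  have h2 : (commutator S).map S.subtype = (⊤ : Subgroup S).map S.subtype := by
    rw [Subgroup.map_subtype_commutator, h, ← MonoidHom.range_eq_map, S.range_subtype]
  have h3 := Subgroup.map_injective S.subtype_injective h2
  exact h1.ne h3

/-- `{x ∈ S | x ^ n ∈ C}` is a subgroup when commutators of `S` are central and lie in `C`. -/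
def bgxPowSub (S C : Subgroup G) (n : ℕ) (hcc : Cfsg.Agent.Lib.helper3.CommCentral S)
    (hC : ⁅S, S⁆ ≤ C) : Subgroup G where
  carrier := {x | x ∈ S ∧ x ^ n ∈ C}
  mul_mem' := by
    rintro x y ⟨hx, hx'⟩ ⟨hy, hy'⟩
    refine ⟨S.mul_mem hx hy, ?_⟩
    have h := Cfsg.Agent.Lib.helper3.mul_pow_class2 hcc (⟨x, hx⟩ : S) ⟨y, hy⟩ n
    have h' : (x * y) ^ n = x ^ n * y ^ n * ⁅y, x⁆ ^ (n.choose 2) := by
      have := congrArg Subtype.val h
      simpa [commutatorElement_def] using this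
    show (x * y) ^ n ∈ C
    rw [h']
    exact C.mul_mem (C.mul_mem hx' hy') (C.pow_mem (hC (commutator_mem_commutator hy hx)) _)
  one_mem' := ⟨S.one_mem, by rw [one_pow]; exact C.one_mem⟩
  inv_mem' := by
    rintro x ⟨hx, hx'⟩
    exact ⟨S.inv_mem hx, by rw [inv_pow]; exact C.inv_mem hx'⟩

/-- `{x ∈ S | x ^ p = 1}` is a subgroup when commutators of `S` are central and `p` is odd. -/
def bgxOmega (S : Subgroup G) (p : ℕ) (hp : p.Prime) (hp2 : p ≠ 2)
    (hcc : Cfsg.Agent.Lib.helper3.CommCentral S) : Subgroup G where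
  carrier := {x | x ∈ S ∧ x ^ p = 1}
  mul_mem' := by
    rintro x y ⟨hx, hx'⟩ ⟨hy, hy'⟩
    refine ⟨S.mul_mem hx hy, ?_⟩
    have h := Cfsg.Agent.Lib.helper3.mul_pow_prime_eq_one_class2 hcc hp hp2 (⟨x, hx⟩ : S) ⟨y, hy⟩
      (Subtype.ext (by simpa using hx')) (Subtype.ext (by simpa using hy'))
    have := congrArg Subtype.val h
    simpa using this
  one_mem' := ⟨S.one_mem, one_pow _⟩
  inv_mem' := by
    rintro x ⟨hx, hx'⟩
    exact ⟨S.inv_mem hx, by rw [inv_pow, hx', inv_one]⟩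

/-- Elements of `Y` all of whose commutators with `R` lie in `C`. -/
def bgxCommSub (Y R C : Subgroup G) (hYC : Y ≤ normalizer (C : Set G)) : Subgroup G where
  carrier := {y | y ∈ Y ∧ ∀ ρ ∈ R, ⁅y, ρ⁆ ∈ C}
  mul_mem' := by
    rintro a b ⟨ha, ha'⟩ ⟨hb, hb'⟩
    refine ⟨Y.mul_mem ha hb, fun ρ hρ => ?_⟩
    have e : ⁅a * b, ρ⁆ = a * ⁅b, ρ⁆ * a⁻¹ * ⁅a, ρ⁆ := by
      simp only [commutatorElement_def]; group
    rw [e]
    exact C.mul_mem (le_normalizer_iff.mp hYC a ha _ (hb' ρ hρ)) (ha' ρ hρ)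
  one_mem' := ⟨Y.one_mem, fun ρ _ => by rw [commutatorElement_one_left]; exact C.one_mem⟩
  inv_mem' := by
    rintro a ⟨ha, ha'⟩
    refine ⟨Y.inv_mem ha, fun ρ hρ => ?_⟩
    have e : ⁅a⁻¹, ρ⁆ = a⁻¹ * ⁅a, ρ⁆⁻¹ * a⁻¹⁻¹ := by
      simp only [commutatorElement_def]; group
    rw [e]
    exact le_normalizer_iff.mp hYC a⁻¹ (Y.inv_mem ha) _ (C.inv_mem (ha' ρ hρ))

/-- Lemma X for a `q`-group `Q = [Q, R]`: induction on `|S|`. -/
theorem bgx_core [Finite G] {p q r : ℕ} (hp : p.Prime) (hq : q.Prime) (hr : r.Prime)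
    (hp2 : p ≠ 2) (hq2 : q ≠ 2) (hpq : p ≠ q) (hpr : p ≠ r) (hqr : q ≠ r)
    (Q R : Subgroup G) (hR : Nat.card R = r) (hQ : IsPGroup q Q)
    (hRQ : R ≤ normalizer (Q : Set G)) (hQQ : ⁅Q, R⁆ = Q) :
    ∀ (n : ℕ) (S : Subgroup G), Nat.card S = n → IsPGroup p S →
      Q ≤ normalizer (S : Set G) → R ≤ normalizer (S : Set G) →
      (∀ x ∈ S ⊓ centralizer (R : Set G), x ^ p = 1 → x ∈ centralizer (Q : Set G)) →
      Q ≤ centralizer (S : Set G) := by
  have : Fact p.Prime := ⟨hp⟩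
  have : Fact q.Prime := ⟨hq⟩
  intro n
  induction n using Nat.strong_induction_on with
  | _ n ih =>
  intro S hn hS hQS hRS hfix
  by_contra hcon
  have hmin : ∀ T : Subgroup G, T ≤ S → T ≠ S → Q ≤ normalizer (T : Set G) →
      R ≤ normalizer (T : Set G) → Q ≤ centralizer (T : Set G) := by
    intro T hTS hne hQT hRT
    exact ih (Nat.card T) (hn ▸ bgx_card_lt hTS hne) T rfl (hS.to_le hTS) hQT hRT
      (fun x hx hxp => hfix x ⟨hTS hx.1, hx.2⟩ hxp)
  have hS1 : S ≠ ⊥ := by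
    intro h
    apply hcon
    rw [h]
    intro x _
    rw [mem_centralizer_iff]
    intro y hy
    rw [Subgroup.coe_bot, Set.mem_singleton_iff] at hy
    rw [hy, one_mul, mul_one]
  have hcop : (Nat.card Q).Coprime (Nat.card S) :=
    IsPGroup.coprime_card_of_ne q p (Ne.symm hpq) Q S hQ hS
  have hSsolv : Group.IsSolvable S := by
    have : Group.IsNilpotent S := hS.isNilpotent
    infer_instance
  -- Step 1: `S = [S, Q]`
  have hSQ : ⁅S, Q⁆ = S := by
    by_contra h
    have hle : ⁅S, Q⁆ ≤ S := Cfsg.Agent.Lib.helper1.commutator_le_of_le_normalizer hQS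
    have hc := hmin ⁅S, Q⁆ hle h (Cfsg.Agent.Lib.helper1.right_le_normalizer_commutator hQS)
      (bgx_le_normalizer_commutator hRS hRQ)
    have h2 : ⁅⁅S, Q⁆, Q⁆ = ⊥ :=
      commutator_eq_bot_iff_le_centralizer.mpr (le_centralizer_iff.mp hc)
    rw [Cfsg.Agent.Lib.helper1.commutator_commutator_eq Q S hQS hcop (Or.inr hSsolv)] at h2
    exact hcon (le_centralizer_iff.mp (commutator_eq_bot_iff_le_centralizer.mp h2))
  -- Step 2: `Q` centralizes `S'`
  have hS'Q : ⁅S, S⁆ ≤ centralizer (Q : Set G) := by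
    have hc := hmin ⁅S, S⁆ (commutator_le_self S) (bgx_commutator_ne_self hp hS hS1)
      (bgx_le_normalizer_commutator hQS hQS) (bgx_le_normalizer_commutator hRS hRS)
    exact le_centralizer_iff.mp hc
  -- Step 3: `C_S(Q) ≤ Z(S)`
  have hCZ : S ⊓ centralizer (Q : Set G) ≤ centralizer (S : Set G) := by
    have h1 : ⁅⁅S, S ⊓ centralizer (Q : Set G)⁆, Q⁆ = ⊥ :=
      commutator_eq_bot_iff_le_centralizer.mpr ((commutator_mono le_rfl inf_le_left).trans hS'Q)
    have h2 : ⁅⁅S ⊓ centralizer (Q : Set G), Q⁆, S⁆ = ⊥ := by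
      rw [commutator_eq_bot_iff_le_centralizer.mpr
        (inf_le_right : S ⊓ centralizer (Q : Set G) ≤ centralizer (Q : Set G)), commutator_bot_left]
    have h3 := commutator_commutator_eq_bot_of_rotate h1 h2
    rw [commutator_comm Q S, hSQ] at h3
    exact le_centralizer_iff.mp (commutator_eq_bot_iff_le_centralizer.mp h3)
  -- Step 4: commutators of `S` are central
  have hcc : Cfsg.Agent.Lib.helper3.CommCentral S := by
    intro x y z
    have h1 : ⁅(x : G), (y : G)⁆ ∈ ⁅S, S⁆ := commutator_mem_commutator x.2 y.2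
    have h2 : ⁅(x : G), (y : G)⁆ ∈ centralizer (S : Set G) :=
      hCZ ⟨commutator_le_self S h1, hS'Q h1⟩
    have h3 := mem_centralizer_iff.mp h2 (z : G) z.2
    apply Subtype.ext
    show ⁅(x : G), (y : G)⁆ * (z : G) = (z : G) * ⁅(x : G), (y : G)⁆
    exact h3.symm
  have hS'C : ⁅S, S⁆ ≤ S ⊓ centralizer (Q : Set G) := le_inf (commutator_le_self S) hS'Q
  have hQC : Q ≤ normalizer ((S ⊓ centralizer (Q : Set G) : Subgroup G) : Set G) :=
    bgx_le_normalizer_inf hQS (bgx_le_normalizer_centralizer le_normalizer)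
  have hRC : R ≤ normalizer ((S ⊓ centralizer (Q : Set G) : Subgroup G) : Set G) :=
    bgx_le_normalizer_inf hRS (bgx_le_normalizer_centralizer hRQ)
  -- Step 5: `p`-th powers lie in `C_S(Q)`
  have hpow : ∀ x ∈ S, x ^ p ∈ S ⊓ centralizer (Q : Set G) := by
    have hUS : bgxPowSub S (S ⊓ centralizer (Q : Set G)) p hcc hS'C ≤ S := fun x hx => hx.1
    have hnormU : ∀ K : Subgroup G, K ≤ normalizer (S : Set G) →
        K ≤ normalizer ((S ⊓ centralizer (Q : Set G) : Subgroup G) : Set G) →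
        K ≤ normalizer ((bgxPowSub S (S ⊓ centralizer (Q : Set G)) p hcc hS'C : Subgroup G) :
          Set G) := by
      intro K hKS hKC
      rw [le_normalizer_iff]
      intro a ha x hx
      refine ⟨le_normalizer_iff.mp hKS a ha x hx.1, ?_⟩
      rw [conj_pow]
      exact le_normalizer_iff.mp hKC a ha _ hx.2
    by_cases hU : bgxPowSub S (S ⊓ centralizer (Q : Set G)) p hcc hS'C = S
    · intro x hx
      have hxU : x ∈ bgxPowSub S (S ⊓ centralizer (Q : Set G)) p hcc hS'C := by rw [hU]; exact hx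
      exact hxU.2
    · exfalso
      have hc := hmin _ hUS hU (hnormU Q hQS hQC) (hnormU R hRS hRC)
      have hUC : bgxPowSub S (S ⊓ centralizer (Q : Set G)) p hcc hS'C ≤
          S ⊓ centralizer (Q : Set G) := le_inf hUS (le_centralizer_iff.mp hc)
      have hex : ∃ x ∈ S, x ∉ S ⊓ centralizer (Q : Set G) := by
        by_contra hne
        push Not at hne
        exact hcon (le_centralizer_iff.mp (fun x hx => (hne x hx).2))
      obtain ⟨x, hxS, hxC⟩ := hex
      obtain ⟨k, hk⟩ := hS ⟨x, hxS⟩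
      have hk' : x ^ p ^ k = 1 := by simpa using congrArg Subtype.val hk
      have hex2 : ∃ k, x ^ p ^ k ∈ S ⊓ centralizer (Q : Set G) :=
        ⟨k, by rw [hk']; exact Subgroup.one_mem _⟩
      classical
      have hk₀ : x ^ p ^ Nat.find hex2 ∈ S ⊓ centralizer (Q : Set G) := Nat.find_spec hex2
      have hk₀0 : Nat.find hex2 ≠ 0 := by
        intro h0
        rw [h0, pow_zero, pow_one] at hk₀
        exact hxC hk₀
      obtain ⟨m, hm⟩ := Nat.exists_eq_succ_of_ne_zero hk₀0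
      have hm1 : x ^ p ^ m ∉ S ⊓ centralizer (Q : Set G) :=
        Nat.find_min hex2 (by omega : m < Nat.find hex2)
      apply hm1
      apply hUC
      refine ⟨S.pow_mem hxS _, ?_⟩
      show (x ^ p ^ m) ^ p ∈ S ⊓ centralizer (Q : Set G)
      rw [← pow_mul, ← pow_succ, ← Nat.succ_eq_add_one, ← hm]
      exact hk₀
  -- Step 6: `S` has exponent `p`
  have hexp : ∀ x ∈ S, x ^ p = 1 := by
    have h1 : ⁅S, Q⁆ ≤ bgxOmega S p hp hp2 hcc := by
      rw [commutator_le]
      intro x hx a ha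
      have hy : a * x⁻¹ * a⁻¹ ∈ S := le_normalizer_iff.mp hQS a ha _ (S.inv_mem hx)
      have hxa : ⁅x, a⁆ = x * (a * x⁻¹ * a⁻¹) := by rw [commutatorElement_def]; group
      rw [hxa]
      refine ⟨S.mul_mem hx hy, ?_⟩
      have hypow : (a * x⁻¹ * a⁻¹) ^ p = (x ^ p)⁻¹ := by
        rw [conj_pow, inv_pow]
        have hxpQ : x ^ p ∈ centralizer (Q : Set G) := (hpow x hx).2
        have hcomm := mem_centralizer_iff.mp hxpQ a ha
        calc a * (x ^ p)⁻¹ * a⁻¹ = (a * x ^ p * a⁻¹)⁻¹ := by group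
          _ = (x ^ p * a * a⁻¹)⁻¹ := by rw [hcomm]
          _ = (x ^ p)⁻¹ := by group
      have hc1 : ⁅(⟨a * x⁻¹ * a⁻¹, hy⟩ : S), (⟨x, hx⟩ : S)⁆ ^ p = 1 := by
        rw [← Cfsg.Agent.Lib.helper3.commutator_pow_left_class2 hcc]
        rw [commutatorElement_eq_one_iff_mul_comm]
        apply Subtype.ext
        have hyp : (a * x⁻¹ * a⁻¹) ^ p ∈ centralizer (S : Set G) := hCZ (hpow _ hy)
        have hcomm := mem_centralizer_iff.mp hyp x hx
        show (a * x⁻¹ * a⁻¹) ^ p * x = x * (a * x⁻¹ * a⁻¹) ^ p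
        exact hcomm.symm
      have h2 := Cfsg.Agent.Lib.helper3.mul_pow_prime_class2 hcc hp hp2 (⟨x, hx⟩ : S)
        ⟨a * x⁻¹ * a⁻¹, hy⟩ hc1
      have h3 : (x * (a * x⁻¹ * a⁻¹)) ^ p = x ^ p * (a * x⁻¹ * a⁻¹) ^ p := by
        have := congrArg Subtype.val h2
        simpa using this
      show (x * (a * x⁻¹ * a⁻¹)) ^ p = 1
      rw [h3, hypow, mul_inv_cancel]
    intro x hx
    have hxΩ : x ∈ bgxOmega S p hp hp2 hcc := h1 (by rw [hSQ]; exact hx)
    exact hxΩ.2
  -- Step 7: the `(p, q, r)`-lemma modulo `Z₀ = C_S(R)`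
  have hZ₀C : S ⊓ centralizer (R : Set G) ≤ S ⊓ centralizer (Q : Set G) :=
    fun x hx => ⟨hx.1, hfix x hx (hexp x hx.1)⟩
  have hmod := bgx_pqr_mod hp hq hr hpq hpr hqr hq2 R Q S (S ⊓ centralizer (R : Set G))
    (by rw [hR]) hQ hS hRQ hQS hRS inf_le_left
    ((le_centralizer_iff.mp (hZ₀C.trans hCZ)).trans (centralizer_le_normalizer _))
    ((le_centralizer_iff.mp (hZ₀C.trans inf_le_right)).trans (centralizer_le_normalizer _))
    ((le_centralizer_iff.mp inf_le_right).trans (centralizer_le_normalizer _))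
    le_rfl
  rw [hQQ, commutator_comm Q S, hSQ] at hmod
  exact hcon (le_centralizer_iff.mp ((hmod.trans hZ₀C).trans inf_le_right))

end core

/-- **Lemma X.**  In a group of odd order let `R` be a subgroup of prime order normalizing a
subgroup `Y` of order prime to `p` and to `|R|`, both normalizing a `p`-subgroup `S`.  If every
element `x` of `C_S(R)` with `x ^ p = 1` is centralized by `[Y, R]`, then `[Y, R]` centralizes `S`.
(The hypothesis `hcyc` is not used; it is kept so that `bgx_comm_centralizes hodd` has exactly the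
shape of the hypothesis `hLX` of `helper76.bg134_hside`.) -/
theorem bgx_comm_centralizes {G : Type*} [Group G] [Finite G] (hodd : Odd (Nat.card G))
    (S Y R : Subgroup G) (p : ℕ) (hp : p.Prime) (hS : IsPGroup p S)
    (hr : (Nat.card R).Prime) (hrp : Nat.card R ≠ p)
    (hYp : (Nat.card Y).Coprime p) (hYr : (Nat.card Y).Coprime (Nat.card R))
    (hRY : R ≤ Subgroup.normalizer (Y : Set G))
    (hYS : Y ≤ Subgroup.normalizer (S : Set G)) (hRS : R ≤ Subgroup.normalizer (S : Set G))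
    (_hcyc : IsCyclic ↥(S ⊓ Subgroup.centralizer (R : Set G)))
    (hfix : ∀ x ∈ S ⊓ Subgroup.centralizer (R : Set G), x ^ p = 1 →
      x ∈ Subgroup.centralizer ((⁅Y, R⁆ : Subgroup G) : Set G)) :
    ⁅Y, R⁆ ≤ Subgroup.centralizer (S : Set G) := by
  have : Fact p.Prime := ⟨hp⟩
  have : Fact (Nat.card R).Prime := ⟨hr⟩
  by_cases hS1 : S = ⊥
  · rw [hS1]
    intro x _
    rw [mem_centralizer_iff]
    intro y hy
    rw [Subgroup.coe_bot, Set.mem_singleton_iff] at hy
    rw [hy, one_mul, mul_one]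
  have hodd' : ∀ n : ℕ, n ∣ Nat.card G → n ≠ 2 := by
    intro n hn h2
    rw [h2] at hn
    exact (Nat.not_even_iff_odd.mpr hodd) (even_iff_two_dvd.mpr hn)
  have hp2 : p ≠ 2 := by
    apply hodd'
    rcases hS.card_eq_or_dvd with h | h
    · exact absurd (Subgroup.card_eq_one.mp h) hS1
    · exact h.trans (Subgroup.card_subgroup_dvd_card S)
  have hRsolv : Group.IsSolvable R := by
    have hcycR : IsCyclic R := isCyclic_of_prime_card (p := Nat.card R) rfl
    have : IsMulCommutative R := inferInstance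
    infer_instance
  have hYC : Y ≤ normalizer ((centralizer (S : Set G) : Subgroup G) : Set G) :=
    bgx_le_normalizer_centralizer hYS
  have hKY : bgxCommSub Y R (centralizer (S : Set G)) hYC ≤ Y := fun y hy => hy.1
  suffices hK : bgxCommSub Y R (centralizer (S : Set G)) hYC = Y by
    rw [commutator_le]
    intro y hy ρ hρ
    have hyK : y ∈ bgxCommSub Y R (centralizer (S : Set G)) hYC := by rw [hK]; exact hy
    exact hyK.2 ρ hρ
  apply Subgroup.eq_of_le_of_card_ge hKY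
  apply Nat.le_of_dvd Nat.card_pos
  rw [← Nat.factorization_le_iff_dvd Nat.card_pos.ne' Nat.card_pos.ne']
  intro q
  by_cases hqp : q.Prime
  swap
  · rw [Nat.factorization_eq_zero_of_not_prime _ hqp]; exact Nat.zero_le _
  by_cases hqY : q ∣ Nat.card Y
  swap
  · rw [Nat.factorization_eq_zero_of_not_dvd hqY]; exact Nat.zero_le _
  have : Fact q.Prime := ⟨hqp⟩
  rw [← Nat.Prime.pow_dvd_iff_le_factorization hqp Nat.card_pos.ne']
  obtain ⟨P, hP⟩ := Cfsg.Agent.Lib.helper1.exists_invariant_sylow (p := q) R Y hRY hYr.symm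
    (Or.inl hRsolv)
  have hQqY : (P : Subgroup Y).map Y.subtype ≤ Y := Subgroup.map_subtype_le _
  have hQqcard : Nat.card ((P : Subgroup Y).map Y.subtype) = q ^ (Nat.card Y).factorization q := by
    rw [Subgroup.card_map_of_injective Y.subtype_injective]
    exact P.card_eq_multiplicity
  have hQqp : IsPGroup q ((P : Subgroup Y).map Y.subtype) := P.isPGroup'.map _
  rw [← hQqcard]
  apply Subgroup.card_dvd_of_le
  have hqG : q ∣ Nat.card G := hqY.trans (Subgroup.card_subgroup_dvd_card Y)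
  have hq2 : q ≠ 2 := hodd' q hqG
  have hpq : p ≠ q := by
    intro h
    rw [← h] at hqY
    exact (Nat.Prime.coprime_iff_not_dvd hp).mp hYp.symm hqY
  have hqr : q ≠ Nat.card R := by
    intro h
    rw [h] at hqY
    exact (Nat.Prime.coprime_iff_not_dvd hr).mp hYr.symm hqY
  have hQ₀le : ⁅(P : Subgroup Y).map Y.subtype, R⁆ ≤ (P : Subgroup Y).map Y.subtype :=
    Cfsg.Agent.Lib.helper1.commutator_le_of_le_normalizer hP
  have hcopQ : (Nat.card R).Coprime (Nat.card ((P : Subgroup Y).map Y.subtype)) :=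
    Nat.Coprime.coprime_dvd_right (Subgroup.card_dvd_of_le hQqY) hYr.symm
  have hQ₀Q₀ : ⁅⁅(P : Subgroup Y).map Y.subtype, R⁆, R⁆ = ⁅(P : Subgroup Y).map Y.subtype, R⁆ :=
    Cfsg.Agent.Lib.helper1.commutator_commutator_eq R _ hP hcopQ (Or.inl hRsolv)
  have hRQ₀ : R ≤ normalizer ((⁅(P : Subgroup Y).map Y.subtype, R⁆ : Subgroup G) : Set G) :=
    Cfsg.Agent.Lib.helper1.right_le_normalizer_commutator hP
  have hQ₀Y : ⁅(P : Subgroup Y).map Y.subtype, R⁆ ≤ ⁅Y, R⁆ := commutator_mono hQqY le_rfl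
  have hQ₀S : ⁅(P : Subgroup Y).map Y.subtype, R⁆ ≤ normalizer (S : Set G) :=
    (hQ₀le.trans hQqY).trans hYS
  have hcore := bgx_core hp hqp hr hp2 hq2 hpq (Ne.symm hrp) hqr
    ⁅(P : Subgroup Y).map Y.subtype, R⁆ R rfl (hQqp.to_le hQ₀le) hRQ₀ hQ₀Q₀ (Nat.card S) S rfl hS
    hQ₀S hRS
    (fun x hx hxp => Subgroup.centralizer_le (SetLike.coe_subset_coe.mpr hQ₀Y) (hfix x hx hxp))
  intro y hy
  exact ⟨hQqY hy, fun ρ hρ => hcore (commutator_mem_commutator hy hρ)⟩

end Cfsg.Agent.Lib.helper98
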