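/-
Bender-Glauberman, towards Theorem 14.2 (statement S1430), case `κ(M) ∩ τ₃(M) ≠ ∅` (`T3Hyp` of
`Cfsg.Agent.Lib.helper87.BG142`): the end piece.  If `τ₂(M)` is empty and every subgroup of prime
order of a complement `E` of `M_σ` has the same nontrivial centralizer `C` in `M_σ`, then the body of
`T3Hyp` holds for `E`: all primes of `E` lie in `κ(M)`, every subgroup of prime order of `E` is normal
in `E`, and `C_{M_σ}(x) = C_{M_σ}(E)` for all `x ∈ E`, `x ≠ 1`.
-/
import Mathlib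
import Cfsg.Agent.S1420
import Cfsg.Agent.S1426
import Cfsg.Agent.Lib.helper87.BG1430Asm
import Cfsg.Agent.Lib.helper71.BGRegNA
import Cfsg.Agent.Lib.helper71.BGThirteenEight
import Cfsg.Agent.Lib.helper3.ElemAb
import Cfsg.Agent.Lib.helper54.BGNAN1
import Cfsg.Agent.Lib.helper54.BGThirteen
import Cfsg.Agent.Lib.helper12.FrobFixB

set_option autoImplicit false
open Cfsg

namespace Cfsg.Agent.Lib.helper98.BGT3

open Cfsg.Agent.Lib.helper87.BG142
open scoped commutatorElement

variable {G : Type*} [Group G]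

/-- A subgroup of prime order is generated by each of its nonidentity elements. -/
theorem t3_zpowers_eq [Finite G] (X : Subgroup G) (hX : (Nat.card X).Prime) (x : G)
    (hx : x ∈ X) (hx1 : x ≠ 1) : orderOf x = Nat.card X ∧ Subgroup.zpowers x = X := by
  have h1 : orderOf x ∣ Nat.card X := by
    have h := orderOf_dvd_natCard (⟨x, hx⟩ : X)
    rwa [Subgroup.orderOf_mk] at h
  have h2 : orderOf x = Nat.card X := by
    rcases (Nat.dvd_prime hX).mp h1 with h | h
    · exact absurd (orderOf_eq_one_iff.mp h) hx1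
    · exact h
  refine ⟨h2, ?_⟩
  apply Subgroup.eq_of_le_of_card_ge (Subgroup.zpowers_le.mpr hx)
  rw [Nat.card_zpowers, h2]

theorem t3_elemAb_zpowers (q : ℕ) (a : G) (ha : a ^ q = 1) :
    IsElementaryAbelian q (Subgroup.zpowers a) := by
  refine ⟨⟨⟨fun x y => ?_⟩⟩, ?_⟩
  · obtain ⟨m, hm⟩ := Subgroup.mem_zpowers_iff.mp x.2
    obtain ⟨n, hn⟩ := Subgroup.mem_zpowers_iff.mp y.2
    apply Subtype.ext
    show (x : G) * (y : G) = (y : G) * (x : G)
    rw [← hm, ← hn]
    exact ((Commute.refl a).zpow_zpow m n).eq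
  · intro b hb
    obtain ⟨m, rfl⟩ := Subgroup.mem_zpowers_iff.mp hb
    rw [← zpow_natCast, ← zpow_mul, mul_comm, zpow_mul, zpow_natCast, ha, one_zpow]

/-- Rank one: an element of order dividing `q` commuting with an element `a` of order `q` is a
power of `a`. -/
theorem t3_mem_zpowers [Finite G] (M : Subgroup G) (q : ℕ) [Fact q.Prime] (hr1 : PRankLE q 1 M)
    (a y : G) (haM : a ∈ M) (hyM : y ∈ M) (ha : orderOf a = q) (hy : y ^ q = 1)
    (hc : y * a = a * y) : y ∈ Subgroup.zpowers a := by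
  by_contra hy'
  have haq : a ^ q = 1 := by rw [← ha]; exact pow_orderOf_eq_one a
  have hE : IsElementaryAbelian q (Subgroup.zpowers a) := t3_elemAb_zpowers q a haq
  have hcen : ∀ e ∈ Subgroup.zpowers a, y * e = e * y := by
    intro e he
    obtain ⟨n, rfl⟩ := Subgroup.mem_zpowers_iff.mp he
    exact ((show Commute y a from hc).zpow_right n).eq
  have h1 := Cfsg.Agent.Lib.helper3.isElementaryAbelian_sup_zpowers q _ hE y hy hcen
  have h2 := Cfsg.Agent.Lib.helper3.card_sup_zpowers (p := q) (Subgroup.zpowers a) y hy' hy hcen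
  have h3 : Subgroup.zpowers a ⊔ Subgroup.zpowers y ≤ M :=
    sup_le (Subgroup.zpowers_le.mpr haM) (Subgroup.zpowers_le.mpr hyM)
  have h4 := Cfsg.Agent.Lib.helper71.BG13.card_le_of_prankLE hr1 h3 h1
  rw [h2, Nat.card_zpowers, ha, pow_one] at h4
  have hq : 1 < q := (Fact.out : q.Prime).one_lt
  nlinarith

/-- An element of order dividing `q` normalizing a subgroup of order `q` centralizes it. -/
theorem t3_comm_of_conj_mem (q : ℕ) [Fact q.Prime] (a x : G) (ha : orderOf a = q)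
    (hx : x ^ q = 1) (hn : x * a * x⁻¹ ∈ Subgroup.zpowers a) : x * a = a * x := by
  obtain ⟨k, hk⟩ := Subgroup.mem_zpowers_iff.mp hn
  have key : ∀ j : ℕ, x ^ j * a * (x ^ j)⁻¹ = a ^ (k ^ j) := by
    intro j
    induction j with
    | zero => simp
    | succ j ih =>
      calc x ^ (j + 1) * a * (x ^ (j + 1))⁻¹ = x * (x ^ j * a * (x ^ j)⁻¹) * x⁻¹ := by
            rw [pow_succ']; group
        _ = x * a ^ (k ^ j) * x⁻¹ := by rw [ih]
        _ = (x * a * x⁻¹) ^ (k ^ j) := conj_zpow.symm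
        _ = (a ^ k) ^ (k ^ j) := by rw [hk]
        _ = a ^ (k ^ (j + 1)) := by rw [← zpow_mul, pow_succ']
  have h1 := key q
  rw [hx] at h1
  simp only [one_mul, inv_one, mul_one] at h1
  have h2 : a ^ (k ^ q - 1) = 1 := by
    rw [zpow_sub, zpow_one, ← h1, mul_inv_cancel]
  have h3 : ((orderOf a : ℕ) : ℤ) ∣ k ^ q - 1 := orderOf_dvd_iff_zpow_eq_one.mpr h2
  rw [ha] at h3
  have h4 : ((k ^ q - 1 : ℤ) : ZMod q) = 0 := (ZMod.intCast_zmod_eq_zero_iff_dvd _ q).mpr h3
  have h5 : ((k - 1 : ℤ) : ZMod q) = 0 := by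
    push_cast at h4 ⊢
    rw [ZMod.pow_card] at h4
    exact h4
  have h6 : (q : ℤ) ∣ k - 1 := (ZMod.intCast_zmod_eq_zero_iff_dvd _ q).mp h5
  have h7 : a ^ (k - 1) = 1 := by
    apply orderOf_dvd_iff_zpow_eq_one.mp
    rw [ha]; exact h6
  have h8 : a ^ k = a := by
    have : a ^ k = a ^ (k - 1) * a := by rw [← zpow_add_one, sub_add_cancel]
    rw [this, h7, one_mul]
  rw [h8] at hk
  calc x * a = (x * a * x⁻¹) * x := by group
    _ = a * x := by rw [← hk]

/-- The end piece of (O-c): prime action with a common nontrivial centralizer gives the body of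
`T3Hyp` for the complement `E`. -/
theorem t3_of_prime_cent [Finite G] (hG : IsMinSimpleOddOrder G) (M : Subgroup G) (hM : IsCoatom M)
    (E : Subgroup G) (hE : IsComplIn E (sigmaCore M) M) (hτ2 : ∀ q : ℕ, q ∉ tau2 M)
    (C : Subgroup G) (hC : C ≠ ⊥)
    (h : ∀ X : Subgroup G, X ≤ E → (Nat.card X).Prime →
      sigmaCore M ⊓ Subgroup.centralizer (X : Set G) = C) :
    (∀ q : ℕ, q.Prime → q ∣ Nat.card E → q ∈ kappa M) ∧
    (∀ X : Subgroup G, X ≤ E → (Nat.card X).Prime → E ≤ Subgroup.normalizer (X : Set G)) ∧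
    ∀ x ∈ E, x ≠ 1 → sigmaCore M ⊓ Subgroup.centralizer ({x} : Set G) =
      sigmaCore M ⊓ Subgroup.centralizer (E : Set G) := by
  classical
  have hEM : E ≤ M := hE.1
  obtain ⟨c₀, hc₀C, hc₀1⟩ : ∃ c ∈ C, c ≠ 1 := by
    by_contra hcon
    push Not at hcon
    exact hC ((Subgroup.eq_bot_iff_forall C).mpr hcon)
  -- elements of prime order of `E`
  have hprime : ∀ y ∈ E, (orderOf y).Prime →
      sigmaCore M ⊓ Subgroup.centralizer ({y} : Set G) = C := by
    intro y hy hyp
    have h1 := h (Subgroup.zpowers y) (Subgroup.zpowers_le.mpr hy)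
      (by rw [Nat.card_zpowers]; exact hyp)
    rwa [cent_zpowers] at h1
  have hκ : ∀ y ∈ E, (orderOf y).Prime → orderOf y ∈ kappa M := by
    intro y hy hyp
    by_contra hyκ
    have hc := hprime y hy hyp
    have hc₀ : c₀ ∈ sigmaCore M ⊓ Subgroup.centralizer ({y} : Set G) := by rw [hc]; exact hc₀C
    have hcomm : y * c₀ = c₀ * y := mem_cent_singleton.mp (Subgroup.mem_inf.mp hc₀).2
    exact hτ2 _ (Cfsg.Agent.Lib.helper71.BGRegNA.tau2_of_singular hG M hM E hE y hy hyp hyκ c₀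
      (Subgroup.mem_inf.mp hc₀).1 hc₀1 hcomm)
  have hκq : ∀ q : ℕ, q.Prime → q ∣ Nat.card E → q ∈ kappa M := by
    intro q hq hqE
    have : Fact q.Prime := ⟨hq⟩
    obtain ⟨y, hy⟩ := exists_prime_orderOf_dvd_card' q hqE
    have hy' : orderOf (y : G) = q := by rw [Subgroup.orderOf_coe]; exact hy
    have h1 := hκ y y.2 (by rw [hy']; exact hq)
    rwa [hy'] at h1
  have hr1 : ∀ q : ℕ, q.Prime → q ∣ Nat.card E → PRankLE q 1 M := fun q hq hqE =>
    prankLE_one_of_kappa M (hκq q hq hqE)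
  -- `E` centralizes `C`
  have hEC : ∀ c ∈ C, ∀ k ∈ E, k * c = c * k := by
    intro c hc
    apply comm_of_ppow c E
    intro k hk p a hp hka
    by_cases hk1 : k = 1
    · subst hk1; simp
    have : Fact p.Prime := ⟨hp⟩
    have ha0 : a ≠ 0 := by
      rintro rfl
      rw [pow_zero] at hka
      exact hk1 (orderOf_eq_one_iff.mp hka)
    have hpk : p ∣ orderOf k := by rw [hka]; exact dvd_pow_self p ha0
    have hpE : p ∣ Nat.card E := hpk.trans (prime_dvd_card_of_mem hk)
    have hord : orderOf (k ^ (orderOf k / p)) = p :=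
      orderOf_pow_orderOf_div (orderOf_pos k).ne' hpk
    have hkn : k ^ (orderOf k / p) ≠ 1 := by
      intro h0
      rw [h0, orderOf_one] at hord
      exact hp.one_lt.ne hord
    have h1 := cent_pelem hG M hM E hE p (hr1 p hp hpE) k hk a hka (orderOf k / p) hkn
    have h2 := hprime (k ^ (orderOf k / p)) (E.pow_mem hk _) (by rw [hord]; exact hp)
    have h3 : c ∈ sigmaCore M ⊓ Subgroup.centralizer ({k} : Set G) := by
      rw [← h1, h2]; exact hc
    exact mem_cent_singleton.mp (Subgroup.mem_inf.mp h3).2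
  -- clause 3
  have h3 : ∀ x ∈ E, x ≠ 1 → sigmaCore M ⊓ Subgroup.centralizer ({x} : Set G) =
      sigmaCore M ⊓ Subgroup.centralizer (E : Set G) := by
    intro x hx hx1
    obtain ⟨n, hn⟩ := exists_prime_pow x hx1
    have hCn := hprime (x ^ n) (E.pow_mem hx n) hn
    apply le_antisymm
    · intro y hy
      obtain ⟨hy1, hy2⟩ := Subgroup.mem_inf.mp hy
      have hyx : x * y = y * x := mem_cent_singleton.mp hy2
      have hyC : y ∈ C := by
        rw [← hCn]
        refine Subgroup.mem_inf.mpr ⟨hy1, mem_cent_singleton.mpr ?_⟩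
        exact ((show Commute x y from hyx).pow_left n).eq
      refine Subgroup.mem_inf.mpr ⟨hy1, ?_⟩
      rw [Subgroup.mem_centralizer_iff]
      intro k hk
      exact hEC y hyC k hk
    · intro y hy
      obtain ⟨hy1, hy2⟩ := Subgroup.mem_inf.mp hy
      refine Subgroup.mem_inf.mpr ⟨hy1, mem_cent_singleton.mpr ?_⟩
      exact (Subgroup.mem_centralizer_iff.mp hy2) x hx
  refine ⟨hκq, ?_, h3⟩
  -- clause 2
  set D : Subgroup G := ⁅E, E⁆ with hD
  have hDE : D ≤ E := by
    rw [hD, Subgroup.commutator_le]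
    intro a ha b hb
    rw [commutatorElement_def]
    exact E.mul_mem (E.mul_mem (E.mul_mem ha hb) (E.inv_mem ha)) (E.inv_mem hb)
  have hDab : ∀ a ∈ D, ∀ b ∈ D, a * b = b * a := by
    intro a ha b hb
    have hc := (Cfsg.Agent.S1420.result hG M hM E hE).2.1
    exact congrArg Subtype.val (hc.is_comm.comm ⟨a, ha⟩ ⟨b, hb⟩)
  have hDn : ∀ e ∈ E, ∀ d ∈ D, e * d * e⁻¹ ∈ D := by
    intro e he d hd
    have h1 : ⁅e, d⁆ ∈ D := Subgroup.commutator_mem_commutator he (hDE hd)
    have h2 : e * d * e⁻¹ = ⁅e, d⁆ * d := by rw [commutatorElement_def]; group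
    rw [h2]
    exact D.mul_mem h1 hd
  -- (N1) subgroups of prime order of `D` are normal in `E`
  have hN1 : ∀ a ∈ D, (orderOf a).Prime → ∀ e ∈ E, e * a * e⁻¹ ∈ Subgroup.zpowers a := by
    intro a ha hap e he
    have : Fact (orderOf a).Prime := ⟨hap⟩
    have hsE : orderOf a ∣ Nat.card E := prime_dvd_card_of_mem (hDE ha)
    apply t3_mem_zpowers M (orderOf a) (hr1 _ hap hsE) a (e * a * e⁻¹) (hEM (hDE ha))
      (M.mul_mem (M.mul_mem (hEM he) (hEM (hDE ha))) (M.inv_mem (hEM he))) rfl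
    · rw [conj_pow, pow_orderOf_eq_one]; group
    · exact hDab _ (hDn e he a ha) a ha
  have hconj_zpowers : ∀ a : G, ∀ e : G, e * a * e⁻¹ ∈ Subgroup.zpowers a →
      ∀ u ∈ Subgroup.zpowers a, e * u * e⁻¹ ∈ Subgroup.zpowers a := by
    intro a e hea u hu
    obtain ⟨n, rfl⟩ := Subgroup.mem_zpowers_iff.mp hu
    rw [← conj_zpow]
    exact (Subgroup.zpowers a).zpow_mem hea n
  have hMσsolv : Group.IsSolvable ↥(sigmaCore M) := by
    apply hG.2.2.2
    intro htop
    exact hM.1 (top_le_iff.mp (htop ▸ hE.2.1))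
  have hcopE : (Nat.card (sigmaCore M)).Coprime (Nat.card E) :=
    (Cfsg.Agent.Lib.helper54.compl_card_coprime hG M hM E hE).symm
  have h26 := (Cfsg.Agent.S1426.result hG M hM E hE).2.1
  -- the Frobenius argument
  have hfrob : ∀ X : Subgroup G, X ≤ E → (Nat.card X).Prime → ∀ a ∈ D, (orderOf a).Prime →
      ∀ x₀ ∈ X, x₀ ≠ 1 → x₀ * a = a * x₀ := by
    intro X hXE hXp a ha hap x₀ hx₀ hx₀1
    by_contra hnc
    obtain ⟨hox, hzx⟩ := t3_zpowers_eq X hXp x₀ hx₀ hx₀1
    have haE : a ∈ E := hDE ha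
    have hUp : (Nat.card (Subgroup.zpowers a)).Prime := by rw [Nat.card_zpowers]; exact hap
    have hE1 : X ≠ ⊥ := by
      rintro rfl
      exact hx₀1 (Subgroup.mem_bot.mp hx₀)
    have hUn : ∀ e ∈ X, ∀ u ∈ Subgroup.zpowers a, e * u * e⁻¹ ∈ Subgroup.zpowers a :=
      fun e he u hu => hconj_zpowers a e (hN1 a ha hap e (hXE he)) u hu
    have hfpf : ∀ e ∈ X, e ≠ 1 → ∀ u ∈ Subgroup.zpowers a, e * u = u * e → u = 1 := by
      intro e he he1 u hu hcomm
      by_contra hu1
      obtain ⟨-, hze⟩ := t3_zpowers_eq X hXp e he he1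
      obtain ⟨-, hzu⟩ := t3_zpowers_eq (Subgroup.zpowers a) hUp u hu hu1
      have hx₀e : x₀ ∈ Subgroup.zpowers e := by rw [hze]; exact hx₀
      have hau : a ∈ Subgroup.zpowers u := by rw [hzu]; exact Subgroup.mem_zpowers a
      obtain ⟨i, rfl⟩ := Subgroup.mem_zpowers_iff.mp hx₀e
      obtain ⟨j, rfl⟩ := Subgroup.mem_zpowers_iff.mp hau
      exact hnc ((show Commute e u from hcomm).zpow_zpow i j).eq
    have hsupE : Subgroup.zpowers a ⊔ X ≤ E := sup_le (Subgroup.zpowers_le.mpr haE) hXE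
    have hHn : ∀ x ∈ Subgroup.zpowers a ⊔ X, ∀ m ∈ sigmaCore M, x * m * x⁻¹ ∈ sigmaCore M := by
      intro x hx m hm
      have hxN := Cfsg.Agent.Lib.helper13.le_normalizer_sigmaCore M (hEM (hsupE hx))
      exact ((Subgroup.mem_normalizer_iff.mp hxN) m).mp hm
    have hcop : Nat.Coprime (Nat.card (sigmaCore M)) (Nat.card ↥(Subgroup.zpowers a ⊔ X)) :=
      Nat.Coprime.coprime_dvd_right (Subgroup.card_dvd_of_le hsupE) hcopE
    have hff := Cfsg.Agent.Lib.helper12.ff_formula (Subgroup.zpowers a) X (sigmaCore M) hE1 hUn hfpf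
      hHn hMσsolv hcop
    have hCX := h X hXE hXp
    have hCU := h (Subgroup.zpowers a) (Subgroup.zpowers_le.mpr haE) hUp
    have hCsup : sigmaCore M ⊓ Subgroup.centralizer ((Subgroup.zpowers a ⊔ X : Subgroup G) : Set G)
        = C := by
      apply le_antisymm
      · rw [← hCX]
        exact inf_le_inf_left _ (Subgroup.centralizer_le (by
          intro z hz
          exact (le_sup_right : X ≤ Subgroup.zpowers a ⊔ X) hz))
      · intro c hc
        have hcσ : c ∈ sigmaCore M := by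
          rw [← hCX] at hc
          exact (Subgroup.mem_inf.mp hc).1
        refine Subgroup.mem_inf.mpr ⟨hcσ, ?_⟩
        rw [Subgroup.mem_centralizer_iff]
        intro k hk
        exact hEC c hc k (hsupE hk)
    rw [hCsup, hCX, hCU] at hff
    have hCpos : 0 < Nat.card C ^ Nat.card X := pow_pos Nat.card_pos _
    have hcard : Nat.card (sigmaCore M) = Nat.card C := Nat.eq_of_mul_eq_mul_left hCpos hff
    have hCle : C ≤ sigmaCore M := by rw [← hCX]; exact inf_le_left
    have hCeq : C = sigmaCore M := Subgroup.eq_of_le_of_card_ge hCle hcard.le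
    have hbot : ⁅sigmaCore M, E⁆ = ⊥ := by
      rw [Subgroup.commutator_eq_bot_iff_le_centralizer]
      intro c hc
      rw [← hCeq] at hc
      rw [Subgroup.mem_centralizer_iff]
      intro k hk
      exact hEC c hc k hk
    rw [h26] at hbot
    exact hC (hCeq.trans hbot)
  intro X hXE hXp
  obtain ⟨x₀, hx₀, hx₀1⟩ : ∃ x ∈ X, x ≠ 1 := by
    by_contra hcon
    push Not at hcon
    have hXbot : X = ⊥ := (Subgroup.eq_bot_iff_forall X).mpr hcon
    rw [hXbot, Subgroup.card_bot] at hXp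
    exact Nat.not_prime_one hXp
  obtain ⟨hox, hzx⟩ := t3_zpowers_eq X hXp x₀ hx₀ hx₀1
  set q := Nat.card X with hq
  have : Fact q.Prime := ⟨hXp⟩
  have hx₀E : x₀ ∈ E := hXE hx₀
  have hx₀q : x₀ ^ q = 1 := by rw [← hox]; exact pow_orderOf_eq_one x₀
  -- it suffices to conjugate the generator
  suffices hsuff : ∀ e ∈ E, e * x₀ * e⁻¹ ∈ X by
    apply Cfsg.Agent.Lib.helper54.BGNA.le_normalizer_of_conj
    intro e he x hx
    rw [← hzx] at hx ⊢
    obtain ⟨n, rfl⟩ := Subgroup.mem_zpowers_iff.mp hx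
    rw [← conj_zpow]
    apply (Subgroup.zpowers x₀).zpow_mem
    rw [hzx]
    exact hsuff e he
  by_cases hA : ∃ a ∈ D, orderOf a = q
  · -- `X ≤ D`
    obtain ⟨a, ha, haq⟩ := hA
    have hap : (orderOf a).Prime := by rw [haq]; exact hXp
    have hnorm := hN1 a ha hap x₀ hx₀E
    have hcomm : x₀ * a = a * x₀ := t3_comm_of_conj_mem q a x₀ haq hx₀q hnorm
    have hqE : q ∣ Nat.card E := by
      have := prime_dvd_card_of_mem hx₀E
      rwa [hox] at this
    have hmem : x₀ ∈ Subgroup.zpowers a :=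
      t3_mem_zpowers M q (hr1 q hXp hqE) a x₀ (hEM (hDE ha)) (hEM hx₀E) haq hx₀q hcomm
    have hXa : X = Subgroup.zpowers a := by
      rw [← hzx]
      apply Subgroup.eq_of_le_of_card_ge (Subgroup.zpowers_le.mpr hmem)
      rw [Nat.card_zpowers, Nat.card_zpowers, haq, hox]
    intro e he
    rw [hXa]
    exact hconj_zpowers a e (hN1 a ha hap e he) x₀ hmem
  · -- `q` does not divide `|D|`
    have hcopDX : (Nat.card D).Coprime (Nat.card X) := by
      rw [Nat.coprime_comm, ← hq, Nat.Prime.coprime_iff_not_dvd hXp]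
      intro hdvd
      obtain ⟨b, hb⟩ := exists_prime_orderOf_dvd_card' q hdvd
      exact hA ⟨(b : G), b.2, by rw [Subgroup.orderOf_coe]; exact hb⟩
    have hXD : X ≤ Subgroup.normalizer (D : Set G) := by
      apply Cfsg.Agent.Lib.helper54.BGNA.le_normalizer_of_conj
      intro k hk d hd
      exact hDn k (hXE hk) d hd
    have hinf := Cfsg.Agent.Lib.helper54.BGNA.abel_comm_inf_cent D X hDab hXD hcopDX
    have hcomDX : ⁅D, X⁆ ≤ D := by
      rw [Subgroup.commutator_le]
      intro d hd x hx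
      rw [commutatorElement_def]
      have h1 : x * d⁻¹ * x⁻¹ ∈ D := hDn x (hXE hx) d⁻¹ (D.inv_mem hd)
      have h2 : d * x * d⁻¹ * x⁻¹ = d * (x * d⁻¹ * x⁻¹) := by group
      rw [h2]
      exact D.mul_mem hd h1
    have hbot : ⁅D, X⁆ = ⊥ := by
      by_contra hne
      have hnt : Nontrivial ↥(⁅D, X⁆ : Subgroup G) := (Subgroup.nontrivial_iff_ne_bot _).mpr hne
      have hcard1 : Nat.card ↥(⁅D, X⁆ : Subgroup G) ≠ 1 := by
        intro h1
        have := (Nat.card_eq_one_iff_unique.mp h1).1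
        exact not_subsingleton _ this
      obtain ⟨s, hs, hsd⟩ := Nat.exists_prime_and_dvd hcard1
      have : Fact s.Prime := ⟨hs⟩
      obtain ⟨b, hb⟩ := exists_prime_orderOf_dvd_card' s hsd
      have hbo : orderOf (b : G) = s := by rw [Subgroup.orderOf_coe]; exact hb
      have hbD : (b : G) ∈ D := hcomDX b.2
      have hcomm := hfrob X hXE hXp (b : G) hbD (by rw [hbo]; exact hs) x₀ hx₀ hx₀1
      have hbC : (b : G) ∈ Subgroup.centralizer (X : Set G) := by
        rw [Subgroup.mem_centralizer_iff]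
        intro x hx
        rw [← hzx] at hx
        obtain ⟨n, rfl⟩ := Subgroup.mem_zpowers_iff.mp hx
        exact ((show Commute x₀ (b : G) from hcomm).zpow_left n).eq
      have hb1 : (b : G) ∈ (⁅D, X⁆ ⊓ Subgroup.centralizer (X : Set G) : Subgroup G) :=
        Subgroup.mem_inf.mpr ⟨b.2, hbC⟩
      rw [hinf, Subgroup.mem_bot] at hb1
      rw [hb1, orderOf_one] at hbo
      exact hs.one_lt.ne hbo
    have hDX : D ≤ Subgroup.centralizer (X : Set G) :=
      Subgroup.commutator_eq_bot_iff_le_centralizer.mp hbot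
    intro e he
    have hd : ⁅x₀⁻¹, e⁆ ∈ D := Subgroup.commutator_mem_commutator (E.inv_mem hx₀E) he
    have hdc : x₀ * ⁅x₀⁻¹, e⁆ = ⁅x₀⁻¹, e⁆ * x₀ :=
      (Subgroup.mem_centralizer_iff.mp (hDX hd)) x₀ hx₀
    have heq : e * x₀ * e⁻¹ = x₀ * ⁅x₀⁻¹, e⁆ := by rw [commutatorElement_def]; group
    have hpow : (e * x₀ * e⁻¹) ^ q = 1 := by rw [conj_pow, hx₀q]; group
    rw [heq, (show Commute x₀ ⁅x₀⁻¹, e⁆ from hdc).mul_pow, hx₀q, one_mul] at hpow
    have hd1 : ⁅x₀⁻¹, e⁆ = 1 := by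
      by_contra hne
      have hod : orderOf ⁅x₀⁻¹, e⁆ = q := orderOf_eq_prime hpow hne
      exact hA ⟨_, hd, hod⟩
    rw [heq, hd1, mul_one]
    exact hx₀

end Cfsg.Agent.Lib.helper98.BGT3
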