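import Mathlib
import Cfsg.Prelude.Def_OddOrderLocal
import Cfsg.Agent.Lib.helper8.BGT3Defs
import Cfsg.Agent.Lib.helper70.BGAsym
import Cfsg.Agent.Lib.helper54.BGPrimeAct
import Cfsg.Agent.Lib.helper8.BGTwelve
import Cfsg.Agent.Lib.helper71.BGTwelveFour
import Cfsg.Agent.Lib.helper71.BGTwelveThree
import Cfsg.Agent.Lib.helper27.Radical
import Cfsg.Agent.Lib.helper1.Coprime
import Cfsg.Agent.S1405
import Cfsg.Agent.S1415
import Cfsg.Agent.S1423

/-!
# S1430 (O-c): common tools for the pieces K4 and K5 (helper98)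

The setting: `Ctx M E R r`, `H` a maximal subgroup containing `N_G(R)`, `P ≤ E` of order
`p ∈ τ₁(M)` not centralizing `R`.
-/

set_option autoImplicit false

namespace Cfsg.Agent.Lib.helper98.BGT3

open Cfsg Cfsg.Agent.Lib.helper8.BGT3

variable {G : Type*} [Group G]

/-- the normalizer of `R` normalizes the centralizer of `R` -/
theorem k45_conj_mem_centralizer {R : Subgroup G} {g x : G}
    (hg : g ∈ Subgroup.normalizer (R : Set G)) (hx : x ∈ Subgroup.centralizer (R : Set G)) :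
    g * x * g⁻¹ ∈ Subgroup.centralizer (R : Set G) := by
  rw [Subgroup.mem_centralizer_iff]
  intro y hy
  have hy' : g⁻¹ * y * g ∈ R := by
    have h := (Subgroup.mem_normalizer_iff.mp hg (g⁻¹ * y * g))
    apply h.mpr
    have e : g * (g⁻¹ * y * g) * g⁻¹ = y := by group
    rw [e]; exact hy
  have h1 := Subgroup.mem_centralizer_iff.mp hx _ hy'
  have e1 : y * (g * x * g⁻¹) = g * ((g⁻¹ * y * g) * x) * g⁻¹ := by group
  have e2 : g * x * g⁻¹ * y = g * (x * (g⁻¹ * y * g)) * g⁻¹ := by group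
  rw [e1, e2, h1]

/-- a subgroup of `M ∩ N(R)` normalizes `M_σ ∩ C(R)` -/
theorem k45_le_normalizer_C {M R A : Subgroup G} (hAM : A ≤ M)
    (hAR : A ≤ Subgroup.normalizer (R : Set G)) :
    A ≤ Subgroup.normalizer
      ((sigmaCore M ⊓ Subgroup.centralizer (R : Set G) : Subgroup G) : Set G) := by
  rw [Subgroup.le_normalizer_iff]
  intro g hg x hx
  refine ⟨?_, k45_conj_mem_centralizer (hAR hg) hx.2⟩
  exact (Subgroup.mem_normalizer_iff.mp
    (Cfsg.Agent.Lib.helper13.le_normalizer_sigmaCore M (hAM hg)) x).mp hx.1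

/-- an element conjugating a subgroup of a cyclic subgroup `C` into `C` normalizes it -/
theorem k45_mem_normalizer_of_le_cyclic [Finite G] {C X : Subgroup G} [IsCyclic C]
    (hXC : X ≤ C) {g : G} (hg : X.map (MulAut.conj g).toMonoidHom ≤ C) :
    g ∈ Subgroup.normalizer (X : Set G) := by
  have heq : X.map (MulAut.conj g).toMonoidHom = X :=
    Cfsg.Agent.Lib.helper12.so_eq_of_le_cyclic C _ _ hg hXC
      (Subgroup.card_map_of_injective (MulAut.conj g).injective)
  rw [Subgroup.mem_normalizer_iff]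
  intro x
  constructor
  · intro hx
    have h1 : g * x * g⁻¹ ∈ X.map (MulAut.conj g).toMonoidHom :=
      ⟨x, hx, by simp [MulAut.conj_apply]⟩
    rwa [heq] at h1
  · intro hx
    rw [← heq, Cfsg.Agent.Lib.helper70.asym_mem_map_conj] at hx
    have e : g⁻¹ * (g * x * g⁻¹) * g = x := by group
    rwa [e] at hx

/-- non-conjugate maximal subgroups are different -/
theorem k45_ne_of_nc {M H : Subgroup G}
    (hnc : ∀ g : G, H ≠ M.map (MulAut.conj g).toMonoidHom) : H ≠ M := by
  intro h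
  apply hnc 1
  rw [h]
  ext x
  rw [Cfsg.Agent.Lib.helper70.asym_mem_map_conj]
  simp

/-- **The `r`-side of the asymmetry configuration**: the Sylow `r`-subgroup `Q` of `E`. -/
theorem k45_rside [Finite G] (hG : IsMinSimpleOddOrder G) {M E R : Subgroup G} {r : ℕ}
    (hctx : Ctx M E R r) {H : Subgroup G} (hNH : Subgroup.normalizer (R : Set G) ≤ H)
    {P : Subgroup G} (hPE : P ≤ E) (hPR : ¬ P ≤ Subgroup.centralizer (R : Set G)) :
    ∃ Q : Subgroup G, Q ≤ M ⊓ H ∧ IsPGroup r Q ∧ Q ≠ ⊥ ∧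
      (∀ Q₁ : Subgroup G, Q₁ ≤ M ⊓ H → IsPGroup r Q₁ → Q ≤ Q₁ → Q₁ = Q) ∧
      P ≤ Subgroup.normalizer (Q : Set G) ∧ Q ⊓ Subgroup.centralizer (P : Set G) = ⊥ ∧
      Subgroup.normalizer (Q : Set G) ≤ H := by
  obtain ⟨hM, hE, hr3, hRE, hRc⟩ := id hctx
  obtain ⟨hodd, -, -, hsolv⟩ := id hG
  have hrp : r.Prime := hr3.1
  have : Fact r.Prime := ⟨hrp⟩
  have hEM : E ≤ M := hE.1
  have hEsolv : Group.IsSolvable E := hsolv E (ne_top_of_le_ne_top hM.1 hEM)
  obtain ⟨K, hK⟩ := (Cfsg.Agent.Lib.lead.hall_solvable (tau3 M) ↥E).1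
  have hE3 : IsPiHallOf (tau3 M) (K.map E.subtype) E := by
    refine ⟨Subgroup.map_subtype_le K, ?_, ?_⟩
    · intro k hk hkd
      apply hK.1 k hk
      rwa [Subgroup.card_map_of_injective E.subtype_injective] at hkd
    · intro k hk hkπ hkd
      apply hK.2 k hk hkπ
      have e1 : (K.map E.subtype).relIndex E = K.index := by
        unfold Subgroup.relIndex Subgroup.subgroupOf
        rw [Subgroup.comap_map_eq_self_of_injective E.subtype_injective]
      rwa [e1] at hkd
  obtain ⟨hcyc, -, hEn⟩ := (Cfsg.Agent.S1415.result hG M hM E hE).2.2 _ hE3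
  have : IsCyclic ↥(K.map E.subtype) := hcyc
  -- the Sylow `r`-subgroup of `E` over `R`
  have hRp : IsPGroup r R := IsPGroup.of_card (n := 1) (by rw [hRc, pow_one])
  have hR' : IsPGroup r (R.subgroupOf E) := hRp.comap_subtype
  obtain ⟨S, hS⟩ := hR'.exists_le_sylow
  have hRQ : R ≤ (S : Subgroup E).map E.subtype := by
    have h2 := Subgroup.map_mono (f := E.subtype) hS
    rwa [Subgroup.map_subgroupOf_eq_of_le hRE] at h2
  have hQE : (S : Subgroup E).map E.subtype ≤ E := Subgroup.map_subtype_le _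
  have hQp : IsPGroup r ((S : Subgroup E).map E.subtype) := S.isPGroup'.map E.subtype
  have hQE3 : (S : Subgroup E).map E.subtype ≤ K.map E.subtype :=
    Cfsg.Agent.Lib.helper70.asym_le_of_hall hE3 hEn hQE (by
      intro k hk hkd
      rw [Cfsg.Agent.Lib.helper70.asym_prime_of_dvd_card hQp hk hkd]
      exact hr3)
  have hRE3 : R ≤ K.map E.subtype := hRQ.trans hQE3
  have hEQ : E ≤ Subgroup.normalizer (((S : Subgroup E).map E.subtype : Subgroup G) : Set G) := by
    intro g hg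
    apply k45_mem_normalizer_of_le_cyclic hQE3
    rintro _ ⟨x, hx, rfl⟩
    exact (Subgroup.mem_normalizer_iff.mp (hEn hg) x).mp (hQE3 hx)
  have hENR : E ≤ Subgroup.normalizer (R : Set G) := by
    intro g hg
    apply k45_mem_normalizer_of_le_cyclic hRE3
    rintro _ ⟨x, hx, rfl⟩
    exact (Subgroup.mem_normalizer_iff.mp (hEn hg) x).mp (hRE3 hx)
  have hR1 : R ≠ ⊥ := Cfsg.Agent.Lib.helper70.asym_ne_bot_of_card_prime hrp hRc
  refine ⟨(S : Subgroup E).map E.subtype, le_inf (hQE.trans hEM) (hQE.trans (hENR.trans hNH)),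
    hQp, ?_, ?_, hPE.trans hEQ, ?_, ?_⟩
  · intro h
    apply hR1
    rw [eq_bot_iff, ← h]
    exact hRQ
  · -- maximality
    intro Q₁ hQ₁ hQ₁p hle
    have hcardM : Nat.card E * Nat.card (sigmaCore M) = Nat.card M :=
      Cfsg.Agent.Lib.helper60.BGCentU.card_of_isComplIn hE
    obtain ⟨k, hk⟩ := IsPGroup.iff_card.mp hQ₁p
    have h1 : r ^ k ∣ Nat.card E * Nat.card (sigmaCore M) := by
      rw [hcardM, ← hk]
      exact Subgroup.card_dvd_of_le (hQ₁.trans inf_le_left)
    have hcop : (r ^ k).Coprime (Nat.card (sigmaCore M)) :=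
      Nat.Coprime.pow_left k
        (Cfsg.Agent.Lib.helper8.bg_sigmaCore_card_coprime M hrp hr3.2.1).symm
    have h2 : r ^ k ∣ Nat.card E := Nat.Coprime.dvd_of_dvd_mul_right hcop h1
    have h3 : r ^ k ∣ Nat.card (S : Subgroup E) := S.pow_dvd_card_of_pow_dvd_card h2
    have h4 : Nat.card Q₁ ≤ Nat.card ((S : Subgroup E).map E.subtype) := by
      rw [hk, Subgroup.card_map_of_injective E.subtype_injective]
      exact Nat.le_of_dvd Nat.card_pos h3
    exact (Subgroup.eq_of_le_of_card_ge hle h4).symm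
  · -- `C_Q(P) = 1`
    by_contra hne
    obtain ⟨t, htp, htd, X0, hX0le, hX0c⟩ := Cfsg.Agent.Lib.helper70.asym_exists_prime_sub hne
    have htr : t = r :=
      Cfsg.Agent.Lib.helper70.asym_prime_of_dvd_card (hQp.to_le inf_le_left) htp htd
    have hX0R : X0 = R :=
      Cfsg.Agent.Lib.helper12.so_eq_of_le_cyclic (K.map E.subtype) _ _
        ((hX0le.trans inf_le_left).trans hQE3) hRE3 (by rw [hX0c, hRc, htr])
    apply hPR
    rw [Subgroup.le_centralizer_iff, ← hX0R]
    exact hX0le.trans inf_le_right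
  · -- `N_G(Q) ≤ N_G(R) ≤ H`
    intro g hg
    apply hNH
    apply k45_mem_normalizer_of_le_cyclic hRE3
    rintro _ ⟨x, hx, rfl⟩
    exact hQE3 ((Subgroup.mem_normalizer_iff.mp hg x).mp (hRQ hx))

end Cfsg.Agent.Lib.helper98.BGT3
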