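import Mathlib
import Cfsg.Agent.Lib.helper98.BGT3Aux

/-!
# S1430 (O-c), PIECE K4 (helper98)

`t3_kill4`: in the singular `τ₃` context, if some `P ≤ E` of order `p ∈ τ₁(M)` does not centralize
`R`, then every prime divisor of `|C_{M_σ}(R)|` lies in `α(M)`.
-/

set_option autoImplicit false

namespace Cfsg.Agent.Lib.helper98.BGT3

open Cfsg Cfsg.Agent.Lib.helper8.BGT3

variable {G : Type*} [Group G]

/-- PIECE K4. -/
theorem t3_kill4 [Finite G] (hG : IsMinSimpleOddOrder G) (hAS : ASHyp G) (hN : HNorm G)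
    (hH : HH G) (hX : HCross G) (hHf : HHalf G) (hFx : HFix G) : HKill4 G := by
  intro M E R r hs p P hp hPE hPc hPR q hq hqd
  by_contra hqα
  obtain ⟨hctx, hC⟩ := id hs
  obtain ⟨hM, hE, hr3, hRE, hRc⟩ := id hctx
  have hrp : r.Prime := hr3.1
  have hpp : p.Prime := hp.1
  have : Fact q.Prime := ⟨hq⟩
  obtain ⟨hodd, hsimple, hna, hsolv⟩ := id hG
  have hU := Cfsg.Agent.Lib.helper13.bgx_uniq hG
  have hF := Cfsg.Agent.Lib.helper13.bgx_fus hG
  have hEM : E ≤ M := hE.1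
  have hMsM : sigmaCore M ≤ M := hE.2.1
  have hRM : R ≤ M := hRE.trans hEM
  obtain ⟨H, hHco, hNH⟩ := Cfsg.Agent.Lib.helper70.asym_exists_coatom hG hM hrp hRc hRM
  obtain ⟨hnc, hMsH⟩ := hH M E R r hctx H hHco hNH
  have hneHM : H ≠ M := k45_ne_of_nc hnc
  obtain ⟨hα1, hαβ, hfr, hcycR, hcycP⟩ := hHf M E R r hctx H hHco hNH
  obtain ⟨hEN, hRE'⟩ := hN M E R r hctx
  have hCMs : sigmaCore M ⊓ Subgroup.centralizer (R : Set G) ≤ sigmaCore M := inf_le_left
  have hCM : sigmaCore M ⊓ Subgroup.centralizer (R : Set G) ≤ M := hCMs.trans hMsM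
  have hCH : sigmaCore M ⊓ Subgroup.centralizer (R : Set G) ≤ H := by
    rw [← hMsH]; exact inf_le_right
  have hqσ : q ∈ sigma M :=
    Cfsg.Agent.Lib.helper54.PrimeAct.mem_sigma_of_dvd hG M hM hCMs hq hqd
  have hpσ : p ∉ sigma M := hp.2.1
  have hPM : P ≤ M := hPE.trans hEM
  have hPH : P ≤ H := (hPE.trans hEN).trans hNH
  have hPC : P ≤ Subgroup.normalizer
      ((sigmaCore M ⊓ Subgroup.centralizer (R : Set G) : Subgroup G) : Set G) :=
    k45_le_normalizer_C hPM (hPE.trans hEN)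
  have hcop : (Nat.card P).Coprime
      (Nat.card ↥(sigmaCore M ⊓ Subgroup.centralizer (R : Set G))) := by
    rw [hPc]
    exact Nat.Coprime.coprime_dvd_right (Subgroup.card_dvd_of_le hCMs)
      (Cfsg.Agent.Lib.helper8.bg_sigmaCore_card_coprime M hpp hpσ).symm
  obtain ⟨S, hS⟩ := Cfsg.Agent.Lib.helper1.exists_invariant_sylow (p := q) P
    (sigmaCore M ⊓ Subgroup.centralizer (R : Set G)) hPC hcop
    (Or.inr (hsolv _ (ne_top_of_le_ne_top hM.1 hCM)))
  have hQsC : (S : Subgroup ↥(sigmaCore M ⊓ Subgroup.centralizer (R : Set G))).map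
      (sigmaCore M ⊓ Subgroup.centralizer (R : Set G)).subtype ≤
      sigmaCore M ⊓ Subgroup.centralizer (R : Set G) := Subgroup.map_subtype_le _
  have hQsp : IsPGroup q ((S : Subgroup ↥(sigmaCore M ⊓ Subgroup.centralizer (R : Set G))).map
      (sigmaCore M ⊓ Subgroup.centralizer (R : Set G)).subtype) := S.isPGroup'.map _
  have hcardQs : Nat.card ((S : Subgroup ↥(sigmaCore M ⊓ Subgroup.centralizer (R : Set G))).map
      (sigmaCore M ⊓ Subgroup.centralizer (R : Set G)).subtype) =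
      Nat.card (S : Subgroup ↥(sigmaCore M ⊓ Subgroup.centralizer (R : Set G))) :=
    Subgroup.card_map_of_injective (Subgroup.subtype_injective _)
  have hQs1 : (S : Subgroup ↥(sigmaCore M ⊓ Subgroup.centralizer (R : Set G))).map
      (sigmaCore M ⊓ Subgroup.centralizer (R : Set G)).subtype ≠ ⊥ := by
    intro h
    have h1 : q ∣ Nat.card (S : Subgroup ↥(sigmaCore M ⊓ Subgroup.centralizer (R : Set G))) :=
      S.dvd_card_of_dvd_card hqd
    rw [← hcardQs, h, Subgroup.card_bot] at h1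
    exact hq.one_lt.ne' (Nat.dvd_one.mp h1)
  -- `M_σ = M_α C`
  have hαMs : alphaCore M ≤ sigmaCore M := (Cfsg.Agent.S1405.result hG M hM).2.2.1
  have hMsle : sigmaCore M ≤ alphaCore M ⊔ (sigmaCore M ⊓ Subgroup.centralizer (R : Set G)) := by
    intro m hm
    obtain ⟨a, ha, d, hd, rfl⟩ := hfr m (hMsM hm)
    have hdMs : d ∈ sigmaCore M := by
      have h1 := (sigmaCore M).mul_mem ((sigmaCore M).inv_mem (hαMs ha)) hm
      rwa [inv_mul_cancel_left] at h1
    have hdC : d ∈ sigmaCore M ⊓ Subgroup.centralizer (R : Set G) := by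
      rw [← hMsH]; exact ⟨hdMs, hd.2⟩
    exact Subgroup.mul_mem_sup ha hdC
  have hdvd1 : Nat.card (sigmaCore M) ∣
      Nat.card (alphaCore M) * Nat.card ↥(sigmaCore M ⊓ Subgroup.centralizer (R : Set G)) := by
    have h1 := Cfsg.Agent.Lib.helper27.card_sup_dvd_mul_of_le_normalizer
      (sigmaCore M ⊓ Subgroup.centralizer (R : Set G)) (alphaCore M)
      (hCM.trans (Cfsg.Agent.Lib.helper71.BGA.le_normalizer_alphaCore M))
    rw [sup_comm, mul_comm] at h1
    exact (Subgroup.card_dvd_of_le hMsle).trans h1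
  -- `Q*` is a Sylow `q`-subgroup of `M_σ`
  have hmaxMs : ∀ Q₁ : Subgroup G, IsPGroup q Q₁ → Q₁ ≤ sigmaCore M →
      (S : Subgroup ↥(sigmaCore M ⊓ Subgroup.centralizer (R : Set G))).map
        (sigmaCore M ⊓ Subgroup.centralizer (R : Set G)).subtype ≤ Q₁ →
      Q₁ = (S : Subgroup ↥(sigmaCore M ⊓ Subgroup.centralizer (R : Set G))).map
        (sigmaCore M ⊓ Subgroup.centralizer (R : Set G)).subtype := by
    intro Q₁ hQ₁p hQ₁ hle
    obtain ⟨k, hk⟩ := IsPGroup.iff_card.mp hQ₁p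
    have h1 : q ^ k ∣ Nat.card (alphaCore M) *
        Nat.card ↥(sigmaCore M ⊓ Subgroup.centralizer (R : Set G)) := by
      rw [← hk]
      exact (Subgroup.card_dvd_of_le hQ₁).trans hdvd1
    have hcop' : (q ^ k).Coprime (Nat.card (alphaCore M)) :=
      Nat.Coprime.pow_left k ((Nat.Prime.coprime_iff_not_dvd hq).mpr (fun h =>
        hqα (Cfsg.Agent.Lib.helper71.BG12.mem_alpha_of_dvd_card_alphaCore M hq h)))
    have h2 : q ^ k ∣ Nat.card ↥(sigmaCore M ⊓ Subgroup.centralizer (R : Set G)) :=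
      Nat.Coprime.dvd_of_dvd_mul_left hcop' h1
    have h3 := S.pow_dvd_card_of_pow_dvd_card h2
    have h4 : Nat.card Q₁ ≤ Nat.card
        ((S : Subgroup ↥(sigmaCore M ⊓ Subgroup.centralizer (R : Set G))).map
        (sigmaCore M ⊓ Subgroup.centralizer (R : Set G)).subtype) := by
      rw [hk, hcardQs]
      exact Nat.le_of_dvd Nat.card_pos h3
    exact (Subgroup.eq_of_le_of_card_ge hle h4).symm
  have hmaxM : ∀ Q₁ : Subgroup G, IsPGroup q Q₁ → Q₁ ≤ M →
      (S : Subgroup ↥(sigmaCore M ⊓ Subgroup.centralizer (R : Set G))).map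
        (sigmaCore M ⊓ Subgroup.centralizer (R : Set G)).subtype ≤ Q₁ →
      Q₁ = (S : Subgroup ↥(sigmaCore M ⊓ Subgroup.centralizer (R : Set G))).map
        (sigmaCore M ⊓ Subgroup.centralizer (R : Set G)).subtype :=
    fun Q₁ h1 h2 h3 => hmaxMs Q₁ h1
      (Cfsg.Agent.Lib.helper8.bg_pgroup_le_sigmaCore hG hU hF M hM hqσ Q₁ h2 h1) h3
  obtain ⟨SM, hSM⟩ := Cfsg.Agent.Lib.helper70.asym_sylow_of_max hQsp (hQsC.trans hCM) hmaxM
  have hidx : ¬ q ∣ ((S : Subgroup ↥(sigmaCore M ⊓ Subgroup.centralizer (R : Set G))).map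
      (sigmaCore M ⊓ Subgroup.centralizer (R : Set G)).subtype).index := by
    rw [← hSM]; exact Cfsg.Agent.Lib.helper13.sigma_sylow_index M hqσ SM
  have hNQs : Subgroup.normalizer
      (((S : Subgroup ↥(sigmaCore M ⊓ Subgroup.centralizer (R : Set G))).map
      (sigmaCore M ⊓ Subgroup.centralizer (R : Set G)).subtype : Subgroup G) : Set G) ≤ M :=
    Cfsg.Agent.Lib.helper13.sigma_normalizer_le M hqσ _ (hQsC.trans hCM) hQsp hidx
  -- `C_{Q*}(P) = 1`
  have hQsP : (S : Subgroup ↥(sigmaCore M ⊓ Subgroup.centralizer (R : Set G))).map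
      (sigmaCore M ⊓ Subgroup.centralizer (R : Set G)).subtype ⊓
      Subgroup.centralizer (P : Set G) = ⊥ := by
    by_contra hne
    obtain ⟨t, htp, htd, X0, hX0le, hX0c⟩ := Cfsg.Agent.Lib.helper70.asym_exists_prime_sub hne
    have htq : t = q :=
      Cfsg.Agent.Lib.helper70.asym_prime_of_dvd_card (hQsp.to_le inf_le_left) htp htd
    rw [htq] at hX0c
    have hX0comm : X0 ≤ ⁅sigmaCore M, sigmaCore M⁆ := fun x hx =>
      hFx M E R r hs p P hp hPE hPc hPR ⟨hQsC (hX0le hx).1, (hX0le hx).2⟩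
    obtain ⟨SMs, hSMs⟩ := Cfsg.Agent.Lib.helper70.asym_sylow_of_max (M := sigmaCore M) hQsp
      (hQsC.trans hCMs) hmaxMs
    have h23 := (Cfsg.Agent.S1423.result hG M hM q hqσ X0
      ((hX0le.trans inf_le_left).trans (hQsC.trans hCM)) hX0c SMs (Or.inr hX0comm)).2.1
    rw [hSMs] at h23
    exact hneHM (Cfsg.Agent.Lib.helper71.BG12.eq_of_inUniqueMaximal h23 hM (hQsC.trans hCM) hHco
      (hQsC.trans hCH))
  -- `P` does not centralize `C`, so `p ∈ τ₁(H)`
  have hpH : p ∈ tau1 H := by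
    by_contra hnot
    have h1 := hX M E R r hctx H hHco hNH P hPE (hPc ▸ hpp) (Or.inl (hPc ▸ hnot))
    apply hQs1
    rw [eq_bot_iff, ← hQsP]
    exact le_inf le_rfl (hQsC.trans h1)
  -- the `r`-side and the asymmetry lemma
  obtain ⟨Q, hQMH, hQp, hQ1, hQmax, hPQ, hQP, hNQ⟩ := k45_rside hG hctx hNH hPE hPR
  exact hAS M H hM hHco hnc p hp hpH P (le_inf hPM hPH) hPc r Q hrp hQMH hQp hQ1 hQmax hPQ hQP
    hNQ q _ hq (le_inf (hQsC.trans hCM) (hQsC.trans hCH)) hQsp hQs1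
    (fun Q₁ h1 h2 h3 => hmaxM Q₁ h2 (h1.trans inf_le_left) h3) hS hQsP hNQs

end Cfsg.Agent.Lib.helper98.BGT3
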