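import Mathlib
import Cfsg.Agent.Lib.helper24.SfoDefs

/-! S5981 piece OB (helper98): an orthogonal basis of anisotropic vectors for a non-degenerate
quadratic form in odd characteristic. -/

set_option autoImplicit false

namespace Cfsg.Agent.Lib.helper24

open Module Matrix Cfsg.Geo

/-- OB -/
theorem sfo_orth_basis {F : Type*} [Field F] {n : ℕ} (h2 : (2 : F) ≠ 0) (Q : (Fin n → F) → F)
    (hQ : IsNondegenerateQuadraticForm Q) :
    ∃ e : Fin n → (Fin n → F), LinearIndependent F e ∧
      (∀ i j, i ≠ j → QuadraticMap.polar Q (e i) (e j) = 0) ∧ ∀ i, Q (e i) ≠ 0 := by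
  have hb := hQ.polar_bilinear
  obtain ⟨B, hB⟩ : ∃ B : LinearMap.BilinForm F (Fin n → F),
      ∀ u v, B u v = QuadraticMap.polar Q u v :=
    ⟨LinearMap.mk₂ F (fun u v => QuadraticMap.polar Q u v) hb.add_left hb.smul_left hb.add_right
      hb.smul_right, fun u v => rfl⟩
  have hsymm : LinearMap.IsSymm B := ⟨fun x y => by
    rw [RingHom.id_apply, hB, hB, QuadraticMap.polar_comm]⟩
  have hinv2 : Invertible (2 : F) := invertibleOfNonzero h2
  obtain ⟨v, hv⟩ := LinearMap.BilinForm.exists_orthogonal_basis hsymm
  have hn : Module.finrank F (Fin n → F) = n := Module.finrank_fin_fun F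
  obtain ⟨e, he⟩ : ∃ e : Fin n → (Fin n → F), ∀ i, e i = v (Fin.cast hn.symm i) :=
    ⟨fun i => v (Fin.cast hn.symm i), fun i => rfl⟩
  have hortho : ∀ i j, i ≠ j → QuadraticMap.polar Q (e i) (e j) = 0 := by
    intro i j hij
    rw [he, he, ← hB]
    exact hv (fun h => hij (Fin.cast_injective _ h))
  have hli : LinearIndependent F e := by
    have h1 : e = v ∘ Fin.cast hn.symm := funext he
    rw [h1]
    exact v.linearIndependent.comp _ (Fin.cast_injective _)
  have hspan : ∀ x : Fin n → F, x ∈ Submodule.span F (Set.range e) := by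
    intro x
    have h1 : Set.range e = Set.range v := by
      ext y
      constructor
      · rintro ⟨i, rfl⟩
        exact ⟨_, (he i).symm⟩
      · rintro ⟨i, rfl⟩
        refine ⟨Fin.cast hn i, ?_⟩
        rw [he]
        rfl
    rw [h1, v.span_eq]
    exact Submodule.mem_top
  refine ⟨e, hli, hortho, ?_⟩
  intro i hQi
  have hself : QuadraticMap.polar Q (e i) (e i) = 0 := by
    unfold QuadraticMap.polar
    have h1 : e i + e i = (2 : F) • e i := by rw [two_smul]
    rw [h1, hQ.smul, hQi]
    ring
  have hall : ∀ x, QuadraticMap.polar Q (e i) x = 0 := by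
    intro x
    have hx := hspan x
    induction hx using Submodule.span_induction with
    | mem y hy =>
      obtain ⟨j, rfl⟩ := hy
      by_cases hij : i = j
      · subst hij
        exact hself
      · exact hortho i j hij
    | zero =>
      have h1 := hb.smul_right 0 (e i) 0
      rw [zero_smul, zero_mul] at h1
      exact h1
    | add y z _ _ hy hz => rw [hb.add_right, hy, hz, add_zero]
    | smul c y _ hy => rw [hb.smul_right, hy, mul_zero]
  have hne : e i ≠ 0 := hli.ne_zero i
  obtain ⟨_, ⟨x, hx⟩⟩ := hQ.nondegenerate (e i) hne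
  exact hx (hall x)

end Cfsg.Agent.Lib.helper24
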