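import Mathlib

/-!
# Unipotent elements of subgroups of `SL₂(F)`

Basic entrywise API for `SL₂(F)`, the upper unitriangular elements `upSL t`, and the count of the
elements of trace `2` in a subgroup `H` of `SL₂(F)` (finite `F`) containing a nontrivial `upSL t`:
they are the `H`-conjugates of the `upSL t ∈ H` (Sylow), so there are `N * (A - 1)` of them, where
`A = #{t | upSL t ∈ H}` and `N` is the index of the upper triangular subgroup of `H`.
-/

set_option autoImplicit false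

namespace Cfsg.Agent.Lib.helper98

open Matrix
open scoped Classical

local notation "SL2" => Matrix.SpecialLinearGroup (Fin 2)

section Basic

variable {F : Type*} [Field F]

theorem sl2_ext {g h : SL2 F} (h00 : g 0 0 = h 0 0) (h01 : g 0 1 = h 0 1)
    (h10 : g 1 0 = h 1 0) (h11 : g 1 1 = h 1 1) : g = h := by
  apply Matrix.SpecialLinearGroup.ext
  intro i j; fin_cases i <;> fin_cases j <;> assumption

theorem sl2_mul_apply (g h : SL2 F) (i j : Fin 2) :
    (g * h) i j = g i 0 * h 0 j + g i 1 * h 1 j := by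
  rw [Matrix.SpecialLinearGroup.coe_mul, Matrix.mul_apply, Fin.sum_univ_two]

theorem sl2_inv_00 (g : SL2 F) : g⁻¹ 0 0 = g 1 1 := by
  rw [Matrix.SpecialLinearGroup.coe_inv, Matrix.adjugate_fin_two]; rfl

theorem sl2_inv_01 (g : SL2 F) : g⁻¹ 0 1 = -g 0 1 := by
  rw [Matrix.SpecialLinearGroup.coe_inv, Matrix.adjugate_fin_two]; rfl

theorem sl2_inv_10 (g : SL2 F) : g⁻¹ 1 0 = -g 1 0 := by
  rw [Matrix.SpecialLinearGroup.coe_inv, Matrix.adjugate_fin_two]; rfl

theorem sl2_inv_11 (g : SL2 F) : g⁻¹ 1 1 = g 0 0 := by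
  rw [Matrix.SpecialLinearGroup.coe_inv, Matrix.adjugate_fin_two]; rfl

theorem sl2_det' (g : SL2 F) : g 0 0 * g 1 1 - g 0 1 * g 1 0 = 1 := by
  rw [← Matrix.det_fin_two]; exact g.2

theorem sl2_one_00 : (1 : SL2 F) 0 0 = 1 := by
  rw [Matrix.SpecialLinearGroup.coe_one]; rfl

theorem sl2_one_01 : (1 : SL2 F) 0 1 = 0 := by
  rw [Matrix.SpecialLinearGroup.coe_one]; rfl

theorem sl2_one_10 : (1 : SL2 F) 1 0 = 0 := by
  rw [Matrix.SpecialLinearGroup.coe_one]; rfl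

theorem sl2_one_11 : (1 : SL2 F) 1 1 = 1 := by
  rw [Matrix.SpecialLinearGroup.coe_one]; rfl

/-- The upper unitriangular matrix with entry `t`. -/
def upSL (t : F) : SL2 F := ⟨!![1, t; 0, 1], by simp [Matrix.det_fin_two]⟩

theorem upSL_00 (t : F) : upSL t 0 0 = 1 := rfl
theorem upSL_01 (t : F) : upSL t 0 1 = t := rfl
theorem upSL_10 (t : F) : upSL t 1 0 = 0 := rfl
theorem upSL_11 (t : F) : upSL t 1 1 = 1 := rfl

/-- The lower unitriangular matrix with entry `t`. -/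
def lowSL (t : F) : SL2 F := ⟨!![1, 0; t, 1], by simp [Matrix.det_fin_two]⟩

theorem lowSL_00 (t : F) : lowSL t 0 0 = 1 := rfl
theorem lowSL_01 (t : F) : lowSL t 0 1 = 0 := rfl
theorem lowSL_10 (t : F) : lowSL t 1 0 = t := rfl
theorem lowSL_11 (t : F) : lowSL t 1 1 = 1 := rfl

/-- The diagonal matrix `diag(a, a⁻¹)`. -/
def diagSL (a : F) (ha : a ≠ 0) : SL2 F :=
  ⟨!![a, 0; 0, a⁻¹], by simp [Matrix.det_fin_two, ha]⟩

theorem diagSL_00 (a : F) (ha : a ≠ 0) : diagSL a ha 0 0 = a := rfl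
theorem diagSL_01 (a : F) (ha : a ≠ 0) : diagSL a ha 0 1 = 0 := rfl
theorem diagSL_10 (a : F) (ha : a ≠ 0) : diagSL a ha 1 0 = 0 := rfl
theorem diagSL_11 (a : F) (ha : a ≠ 0) : diagSL a ha 1 1 = a⁻¹ := rfl

/-- The Weyl element. -/
def wSL : SL2 F := ⟨!![0, 1; -1, 0], by simp [Matrix.det_fin_two]⟩

theorem wSL_00 : (wSL : SL2 F) 0 0 = 0 := rfl
theorem wSL_01 : (wSL : SL2 F) 0 1 = 1 := rfl
theorem wSL_10 : (wSL : SL2 F) 1 0 = -1 := rfl
theorem wSL_11 : (wSL : SL2 F) 1 1 = 0 := rfl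

theorem upSL_add (s t : F) : upSL s * upSL t = upSL (s + t) := by
  apply sl2_ext <;> simp only [sl2_mul_apply, upSL_00, upSL_01, upSL_10, upSL_11] <;> ring

theorem upSL_zero : upSL (0 : F) = 1 := by
  apply sl2_ext <;> simp only [sl2_one_00, sl2_one_01, sl2_one_10, sl2_one_11, upSL_00, upSL_01,
    upSL_10, upSL_11]

theorem upSL_inv (t : F) : (upSL t)⁻¹ = upSL (-t) := by
  apply sl2_ext <;> simp only [sl2_inv_00, sl2_inv_01, sl2_inv_10, sl2_inv_11, upSL_00, upSL_01,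
    upSL_10, upSL_11, neg_zero]

theorem upSL_injective : Function.Injective (upSL : F → SL2 F) := by
  intro s t h
  have := congrArg (fun g : SL2 F => g 0 1) h
  simpa only [upSL_01] using this

theorem eq_upSL {g : SL2 F} (h00 : g 0 0 = 1) (h10 : g 1 0 = 0) : g = upSL (g 0 1) := by
  have hd := sl2_det' g
  rw [h00, h10, mul_zero, sub_zero, one_mul] at hd
  apply sl2_ext <;> simp only [upSL_00, upSL_01, upSL_10, upSL_11, h00, h10, hd]

/-- Powers of an element of trace `2`. -/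
theorem unip_pow (g : SL2 F) (htr : g 0 0 + g 1 1 = 2) (k : ℕ) :
    (g ^ k) 0 0 = 1 + k * (g 0 0 - 1) ∧ (g ^ k) 0 1 = k * g 0 1 ∧ (g ^ k) 1 0 = k * g 1 0 ∧
      (g ^ k) 1 1 = 1 + k * (g 1 1 - 1) := by
  have hd := sl2_det' g
  induction k with
  | zero =>
    simp only [pow_zero, sl2_one_00, sl2_one_01, sl2_one_10, sl2_one_11, Nat.cast_zero, zero_mul,
      add_zero, and_self]
  | succ k ih =>
    obtain ⟨i00, i01, i10, i11⟩ := ih
    have h11 : g 1 1 = 2 - g 0 0 := by linear_combination htr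
    rw [pow_succ]
    simp only [sl2_mul_apply, i00, i01, i10, i11, Nat.cast_succ]
    rw [h11] at hd ⊢
    refine ⟨?_, ?_, ?_, ?_⟩
    · linear_combination (-(k : F)) * hd
    · ring
    · ring
    · linear_combination (-(k : F)) * hd

theorem unip_pow_char (p : ℕ) [CharP F p] (g : SL2 F) (htr : g 0 0 + g 1 1 = 2) : g ^ p = 1 := by
  obtain ⟨h00, h01, h10, h11⟩ := unip_pow g htr p
  rw [CharP.cast_eq_zero F p] at h00 h01 h10 h11
  apply sl2_ext <;> simp only [sl2_one_00, sl2_one_01, sl2_one_10, sl2_one_11, h00, h01, h10, h11,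
    zero_mul, add_zero]

/-- Powers of an upper triangular element. -/
theorem upper_pow' (g : SL2 F) (h10 : g 1 0 = 0) (k : ℕ) :
    (g ^ k) 1 0 = 0 ∧ (g ^ k) 0 0 = g 0 0 ^ k := by
  induction k with
  | zero => simp only [pow_zero, sl2_one_00, sl2_one_10, and_self]
  | succ k ih =>
    obtain ⟨i10, i00⟩ := ih
    rw [pow_succ]
    simp only [sl2_mul_apply, i10, i00, h10]
    constructor
    · ring
    · ring

/-- An element of `p`-power order commuting with a nontrivial `upSL t₀` is of the form `upSL t`. -/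
theorem eq_upSL_of_comm (p : ℕ) [Fact p.Prime] [CharP F p] (g : SL2 F) (t₀ : F) (ht₀ : t₀ ≠ 0)
    (hcomm : g * upSL t₀ = upSL t₀ * g) (k : ℕ) (hk : g ^ (p ^ k) = 1) : g = upSL (g 0 1) := by
  have e00 := congrArg (fun x : SL2 F => x 0 0) hcomm
  simp only [sl2_mul_apply, upSL_00, upSL_01, upSL_10] at e00
  have h10 : g 1 0 = 0 := by
    have : t₀ * g 1 0 = 0 := by linear_combination -e00
    rcases mul_eq_zero.mp this with h | h
    · exact absurd h ht₀
    · exact h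
  have hp := (upper_pow' g h10 (p ^ k)).2
  rw [hk, sl2_one_00] at hp
  have h00 : g 0 0 = 1 := by
    have h1 : (g 0 0 - 1) ^ p ^ k = 0 := by
      rw [sub_pow_char_pow, ← hp, one_pow, sub_self]
    have := pow_eq_zero_iff (pow_ne_zero k (Fact.out : p.Prime).ne_zero) |>.mp h1
    linear_combination this
  exact eq_upSL h00 h10

theorem tr_two_of_upper {x : SL2 F} (h00 : x 0 0 = 1) (h10 : x 1 0 = 0) : x 0 0 + x 1 1 = 2 := by
  have hd := sl2_det' x
  rw [h00, h10, mul_zero, sub_zero, one_mul] at hd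
  rw [h00, hd]; norm_num

theorem conj_upSL_eq (b : SL2 F) (hb : b 1 0 = 0) (t : F) :
    b⁻¹ * upSL t * b = upSL (t * (b 1 1) ^ 2) := by
  have hd := sl2_det' b
  rw [hb, mul_zero, sub_zero] at hd
  apply sl2_ext <;> simp only [sl2_mul_apply, sl2_inv_00, sl2_inv_01, sl2_inv_10, sl2_inv_11,
    upSL_00, upSL_01, upSL_10, upSL_11, hb]
  · linear_combination hd
  · ring
  · ring
  · linear_combination hd

theorem borel_of_conj (b : SL2 F) (t t' : F) (ht : t ≠ 0) (h : b * upSL t = upSL t' * b) :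
    b 1 0 = 0 ∧ t = t' * (b 1 1) ^ 2 := by
  have e11 := congrArg (fun x : SL2 F => x 1 1) h
  have e01 := congrArg (fun x : SL2 F => x 0 1) h
  simp only [sl2_mul_apply, upSL_00, upSL_01, upSL_10, upSL_11] at e11 e01
  have h10 : b 1 0 = 0 := by
    have : b 1 0 * t = 0 := by linear_combination e11
    rcases mul_eq_zero.mp this with h | h
    · exact h
    · exact absurd h ht
  have hd := sl2_det' b
  rw [h10, mul_zero, sub_zero] at hd
  refine ⟨h10, ?_⟩
  linear_combination (-t) * hd + (b 1 1) * e01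

theorem trace_conj_upSL (h : SL2 F) (t : F) :
    (h * upSL t * h⁻¹) 0 0 + (h * upSL t * h⁻¹) 1 1 = 2 := by
  have hd := sl2_det' h
  simp only [sl2_mul_apply, sl2_inv_00, sl2_inv_01, sl2_inv_10, sl2_inv_11,
    upSL_00, upSL_01, upSL_10, upSL_11]
  linear_combination 2 * hd

end Basic

section Count

variable {F : Type*} [Field F] [Fintype F]

/-- Every non-identity element of trace `2` of `H` is `H`-conjugate to some `upSL t ∈ H`. -/
theorem exists_conj_upSL (p : ℕ) [Fact p.Prime] [CharP F p] (H : Subgroup (SL2 F)) (t₀ : F)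
    (ht₀ : t₀ ≠ 0) (hu : upSL t₀ ∈ H) (g : SL2 F) (hg : g ∈ H) (hg1 : g ≠ 1)
    (htr : g 0 0 + g 1 1 = 2) :
    ∃ h ∈ H, ∃ t : F, t ≠ 0 ∧ upSL t ∈ H ∧ g = h * upSL t * h⁻¹ := by
  obtain ⟨UH, hUH⟩ : ∃ UH : Subgroup H, ∀ x : H, x ∈ UH ↔
      (x : SL2 F) 0 0 = 1 ∧ (x : SL2 F) 1 0 = 0 := by
    refine ⟨{ carrier := {x : H | (x : SL2 F) 0 0 = 1 ∧ (x : SL2 F) 1 0 = 0}
              mul_mem' := ?_
              one_mem' := ?_
              inv_mem' := ?_ }, fun x => Iff.rfl⟩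
    · rintro a b ⟨ha0, ha1⟩ ⟨hb0, hb1⟩
      show ((a * b : H) : SL2 F) 0 0 = 1 ∧ ((a * b : H) : SL2 F) 1 0 = 0
      rw [Subgroup.coe_mul]
      simp only [sl2_mul_apply, ha0, ha1, hb0, hb1]
      constructor <;> ring
    · show ((1 : H) : SL2 F) 0 0 = 1 ∧ ((1 : H) : SL2 F) 1 0 = 0
      rw [Subgroup.coe_one]
      exact ⟨sl2_one_00, sl2_one_10⟩
    · rintro a ⟨ha0, ha1⟩
      show ((a⁻¹ : H) : SL2 F) 0 0 = 1 ∧ ((a⁻¹ : H) : SL2 F) 1 0 = 0
      rw [Subgroup.coe_inv, sl2_inv_00, sl2_inv_10, ha1, neg_zero]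
      have := tr_two_of_upper ha0 ha1
      rw [ha0] at this
      exact ⟨by linear_combination this, rfl⟩
  have hUHp : IsPGroup p UH := by
    intro x
    refine ⟨1, ?_⟩
    rw [pow_one]
    apply Subtype.ext
    apply Subtype.ext
    rw [Subgroup.coe_pow, Subgroup.coe_pow, Subgroup.coe_one, Subgroup.coe_one]
    have hx := (hUH x.1).mp x.2
    exact unip_pow_char p _ (tr_two_of_upper hx.1 hx.2)
  obtain ⟨P₀, hP₀⟩ := hUHp.exists_le_sylow
  -- `P₀ = UH`
  have hu₀ : (⟨upSL t₀, hu⟩ : H) ∈ (P₀ : Subgroup H) :=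
    hP₀ ((hUH _).mpr ⟨upSL_00 t₀, upSL_10 t₀⟩)
  have hP₀U : ∀ x : H, x ∈ (P₀ : Subgroup H) → x ∈ UH := by
    have : Nontrivial (P₀ : Subgroup H) := by
      refine ⟨⟨⟨⟨upSL t₀, hu⟩, hu₀⟩, 1, ?_⟩⟩
      intro h
      have h1 := congrArg (fun x : (P₀ : Subgroup H) => ((x : H) : SL2 F) 0 1) h
      simp only [Subgroup.coe_one, upSL_01, sl2_one_01] at h1
      exact ht₀ h1
    have := P₀.isPGroup'.center_nontrivial
    obtain ⟨z, hz⟩ := exists_ne (1 : Subgroup.center (P₀ : Subgroup H))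
    have hzc := Subgroup.mem_center_iff.mp z.2
    have hz1 : ((z : (P₀ : Subgroup H)) : H) * ⟨upSL t₀, hu⟩ = ⟨upSL t₀, hu⟩ * (z : (P₀ : Subgroup H)) := by
      have := hzc ⟨⟨upSL t₀, hu⟩, hu₀⟩
      exact (congrArg (fun x : (P₀ : Subgroup H) => (x : H)) this).symm
    have hz2 : (((z : (P₀ : Subgroup H)) : H) : SL2 F) * upSL t₀ =
        upSL t₀ * (((z : (P₀ : Subgroup H)) : H) : SL2 F) :=
      congrArg (fun x : H => (x : SL2 F)) hz1
    obtain ⟨k, hk⟩ := P₀.isPGroup' (z : (P₀ : Subgroup H))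
    have hk' : (((z : (P₀ : Subgroup H)) : H) : SL2 F) ^ p ^ k = 1 := by
      have := congrArg (fun x : (P₀ : Subgroup H) => ((x : H) : SL2 F)) hk
      simpa only [Subgroup.coe_pow, Subgroup.coe_one] using this
    have hzu := eq_upSL_of_comm p _ t₀ ht₀ hz2 k hk'
    obtain ⟨b₁, hb₁⟩ : ∃ b₁ : F, b₁ = (((z : (P₀ : Subgroup H)) : H) : SL2 F) 0 1 := ⟨_, rfl⟩
    rw [← hb₁] at hzu
    have hb₁0 : b₁ ≠ 0 := by
      intro h0
      apply hz
      apply Subtype.ext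
      apply Subtype.ext
      apply Subtype.ext
      rw [hzu, h0, upSL_zero]
      rfl
    intro x hx
    have hxc := hzc ⟨x, hx⟩
    have hx1 : (x : SL2 F) * upSL b₁ = upSL b₁ * (x : SL2 F) := by
      have := congrArg (fun y : (P₀ : Subgroup H) => ((y : H) : SL2 F)) hxc
      simp only [Subgroup.coe_mul] at this
      rw [hzu] at this
      exact this
    obtain ⟨k', hk'⟩ := P₀.isPGroup' ⟨x, hx⟩
    have hk'' : (x : SL2 F) ^ p ^ k' = 1 := by
      have := congrArg (fun y : (P₀ : Subgroup H) => ((y : H) : SL2 F)) hk'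
      simpa only [Subgroup.coe_pow, Subgroup.coe_one] using this
    have hxu := eq_upSL_of_comm p _ b₁ hb₁0 hx1 k' hk''
    rw [hUH, hxu]
    exact ⟨upSL_00 _, upSL_10 _⟩
  -- the cyclic group generated by `g`
  have hgp : (⟨g, hg⟩ : H) ^ p = 1 := by
    apply Subtype.ext
    rw [Subgroup.coe_pow, Subgroup.coe_one]
    exact unip_pow_char p g htr
  have hg1' : (⟨g, hg⟩ : H) ≠ 1 := by
    intro h
    exact hg1 (congrArg (fun x : H => (x : SL2 F)) h)
  have hzp : IsPGroup p (Subgroup.zpowers (⟨g, hg⟩ : H)) := by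
    apply IsPGroup.of_card (n := 1)
    rw [Nat.card_zpowers, pow_one]
    exact orderOf_eq_prime hgp hg1'
  obtain ⟨Q, hQ⟩ := hzp.exists_le_sylow
  obtain ⟨h, hh⟩ := MulAction.exists_smul_eq H P₀ Q
  have hgQ : (⟨g, hg⟩ : H) ∈ (Q : Subgroup H) := hQ (Subgroup.mem_zpowers _)
  rw [← hh, Sylow.coe_subgroup_smul, Subgroup.mem_smul_pointwise_iff_exists] at hgQ
  obtain ⟨s, hs, hsg⟩ := hgQ
  rw [MulAut.smul_def, MulAut.conj_apply] at hsg
  have hsU := (hUH s).mp (hP₀U s hs)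
  have hsu := eq_upSL hsU.1 hsU.2
  have hsg' : (h : SL2 F) * (s : SL2 F) * (h : SL2 F)⁻¹ = g := by
    have := congrArg (fun x : H => (x : SL2 F)) hsg
    simpa only [Subgroup.coe_mul, Subgroup.coe_inv] using this
  refine ⟨h, h.2, (s : SL2 F) 0 1, ?_, ?_, ?_⟩
  · intro h0
    rw [h0, upSL_zero] at hsu
    rw [hsu, mul_one, mul_inv_cancel] at hsg'
    exact hg1 hsg'.symm
  · rw [← hsu]; exact s.2
  · rw [← hsu]; exact hsg'.symm

theorem natCard_subtype {α : Type*} [Fintype α] (P : α → Prop) [DecidablePred P] :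
    Nat.card {x // P x} = (Finset.univ.filter P).card := by
  rw [Nat.card_eq_fintype_card, Fintype.card_subtype]

/-- Fibre count: `#(trace-2 elements ≠ 1 of H) * #(upper triangular elements of H)` equals
`|H| * (A - 1)`. -/
theorem card_unip (p : ℕ) [Fact p.Prime] [CharP F p] (H : Subgroup (SL2 F)) (t₀ : F)
    (ht₀ : t₀ ≠ 0) (hu : upSL t₀ ∈ H) :
    Nat.card {g : SL2 F // g ∈ H ∧ g ≠ 1 ∧ g 0 0 + g 1 1 = 2} *
      Nat.card {g : SL2 F // g ∈ H ∧ g 1 0 = 0} =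
      Nat.card H * (Nat.card {t : F // upSL t ∈ H} - 1) := by
  obtain ⟨Hf, hHf⟩ : ∃ Hf : Finset (SL2 F), Hf = Finset.univ.filter (fun g : SL2 F => g ∈ H) :=
    ⟨_, rfl⟩
  obtain ⟨Wf, hWf⟩ : ∃ Wf : Finset (SL2 F), Wf = Finset.univ.filter
    (fun g : SL2 F => g ∈ H ∧ g ≠ 1 ∧ g 0 0 + g 1 1 = 2) := ⟨_, rfl⟩
  obtain ⟨Bf, hBf⟩ : ∃ Bf : Finset (SL2 F), Bf = Finset.univ.filter
    (fun g : SL2 F => g ∈ H ∧ g 1 0 = 0) := ⟨_, rfl⟩
  obtain ⟨Uf, hUf⟩ : ∃ Uf : Finset F, Uf = Finset.univ.filter (fun t : F => upSL t ∈ H) :=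
    ⟨_, rfl⟩
  have mH : ∀ g, g ∈ Hf ↔ g ∈ H := by intro g; rw [hHf]; simp
  have mW : ∀ g, g ∈ Wf ↔ g ∈ H ∧ g ≠ 1 ∧ g 0 0 + g 1 1 = 2 := by intro g; rw [hWf]; simp
  have mB : ∀ g, g ∈ Bf ↔ g ∈ H ∧ g 1 0 = 0 := by intro g; rw [hBf]; simp
  have mU : ∀ t, t ∈ Uf ↔ upSL t ∈ H := by intro t; rw [hUf]; simp
  have e1 : Nat.card {g : SL2 F // g ∈ H ∧ g ≠ 1 ∧ g 0 0 + g 1 1 = 2} = Wf.card := by
    rw [Nat.card_eq_fintype_card]; exact Fintype.card_of_subtype Wf mW
  have e2 : Nat.card {g : SL2 F // g ∈ H ∧ g 1 0 = 0} = Bf.card := by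
    rw [Nat.card_eq_fintype_card]; exact Fintype.card_of_subtype Bf mB
  have e3 : Nat.card H = Hf.card := by
    rw [Nat.card_eq_fintype_card]; exact Fintype.card_of_subtype Hf mH
  have e4 : Nat.card {t : F // upSL t ∈ H} = Uf.card := by
    rw [Nat.card_eq_fintype_card]; exact Fintype.card_of_subtype Uf mU
  rw [e1, e2, e3, e4]
  have h0U : (0 : F) ∈ Uf := by rw [mU, upSL_zero]; exact H.one_mem
  have hUe : (Uf.erase 0).card = Uf.card - 1 := Finset.card_erase_of_mem h0U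
  rw [← hUe, ← Finset.card_product Hf]
  have hmaps : Set.MapsTo (fun x : SL2 F × F => x.1 * upSL x.2 * x.1⁻¹)
      ↑(Hf ×ˢ Uf.erase 0) ↑Wf := by
    rintro ⟨h, t⟩ hx
    rw [Finset.mem_coe, Finset.mem_product, mH, Finset.mem_erase, mU] at hx
    obtain ⟨hh, ht, hut⟩ := hx
    rw [Finset.mem_coe, mW]
    refine ⟨H.mul_mem (H.mul_mem hh hut) (H.inv_mem hh), ?_, trace_conj_upSL h t⟩
    intro h1
    have h2 : upSL t = 1 := by
      have h3 : h * upSL t * h⁻¹ = 1 := h1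
      have h4 : upSL t = h⁻¹ * (h * upSL t * h⁻¹) * h := by group
      rw [h4, h3]; group
    apply ht
    have := congrArg (fun y : SL2 F => y 0 1) h2
    simpa only [upSL_01, sl2_one_01] using this
  rw [Finset.card_eq_sum_card_fiberwise hmaps]
  symm
  apply Finset.sum_const_nat
  intro y hy
  rw [mW] at hy
  obtain ⟨h₀, hh₀, t₁, ht₁, hut₁, hy'⟩ := exists_conj_upSL p H t₀ ht₀ hu y hy.1 hy.2.1 hy.2.2
  have key : ∀ (h : SL2 F) (t : F), h * upSL t * h⁻¹ = y →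
      (h₀⁻¹ * h) * upSL t = upSL t₁ * (h₀⁻¹ * h) := by
    intro h t hf
    have h1 : h * upSL t = h₀ * upSL t₁ * h₀⁻¹ * h := by
      rw [← hy', ← hf]; group
    rw [mul_assoc, h1]; group
  apply Finset.card_nbij' (fun x : SL2 F × F => h₀⁻¹ * x.1)
    (fun b : SL2 F => (h₀ * b, t₁ * (b 1 1) ^ 2))
  · rintro ⟨h, t⟩ hx
    rw [Finset.mem_coe, Finset.mem_filter, Finset.mem_product, mH, Finset.mem_erase, mU] at hx
    obtain ⟨⟨hh, ht, hut⟩, hf⟩ := hx
    rw [Finset.mem_coe, mB]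
    exact ⟨H.mul_mem (H.inv_mem hh₀) hh, (borel_of_conj _ t t₁ ht (key h t hf)).1⟩
  · intro b hb
    rw [Finset.mem_coe, mB] at hb
    rw [Finset.mem_coe, Finset.mem_filter, Finset.mem_product, mH, Finset.mem_erase, mU]
    have hd := sl2_det' b
    rw [hb.2, mul_zero, sub_zero] at hd
    have hb11 : b 1 1 ≠ 0 := by
      intro h0; rw [h0, mul_zero] at hd; exact zero_ne_one hd
    have hconj := conj_upSL_eq b hb.2 t₁
    refine ⟨⟨H.mul_mem hh₀ hb.1, mul_ne_zero ht₁ (pow_ne_zero 2 hb11), ?_⟩, ?_⟩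
    · rw [← hconj]; exact H.mul_mem (H.mul_mem (H.inv_mem hb.1) hut₁) hb.1
    · show h₀ * b * upSL (t₁ * b 1 1 ^ 2) * (h₀ * b)⁻¹ = y
      rw [← hconj, hy']; group
  · rintro ⟨h, t⟩ hx
    rw [Finset.mem_coe, Finset.mem_filter, Finset.mem_product, mH, Finset.mem_erase, mU] at hx
    obtain ⟨⟨hh, ht, hut⟩, hf⟩ := hx
    show (h₀ * (h₀⁻¹ * h), t₁ * ((h₀⁻¹ * h) 1 1) ^ 2) = (h, t)
    rw [← (borel_of_conj _ t t₁ ht (key h t hf)).2, mul_inv_cancel_left]
  · intro b _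
    show h₀⁻¹ * (h₀ * b) = b
    rw [inv_mul_cancel_left]

/-- If the diagonal parts of the upper triangular elements of `H` lie in `H`, then the upper
triangular subgroup of `H` has order `A * d`. -/
theorem card_borel (H : Subgroup (SL2 F))
    (hB : ∀ g ∈ H, g 1 0 = 0 → ∃ h ∈ H, h 0 0 = g 0 0 ∧ h 0 1 = 0 ∧ h 1 0 = 0) :
    Nat.card {g : SL2 F // g ∈ H ∧ g 1 0 = 0} =
      Nat.card {t : F // upSL t ∈ H} *
        Nat.card {g : SL2 F // g ∈ H ∧ g 0 1 = 0 ∧ g 1 0 = 0} := by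
  rw [natCard_subtype, natCard_subtype, natCard_subtype, mul_comm, ← Finset.card_product]
  symm
  apply Finset.card_bij (fun x _ => x.1 * upSL x.2)
  · rintro ⟨dg, t⟩ hx
    simp only [Finset.mem_product, Finset.mem_filter, Finset.mem_univ, true_and] at hx ⊢
    obtain ⟨⟨hd, hd01, hd10⟩, ht⟩ := hx
    refine ⟨H.mul_mem hd ht, ?_⟩
    simp only [sl2_mul_apply, upSL_00, upSL_10, hd10]; ring
  · rintro ⟨dg, t⟩ hx ⟨dg', t'⟩ hx' heq
    simp only [Finset.mem_product, Finset.mem_filter, Finset.mem_univ, true_and] at hx hx'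
    obtain ⟨⟨hd, hd01, hd10⟩, ht⟩ := hx
    obtain ⟨⟨hd', hd01', hd10'⟩, ht'⟩ := hx'
    have e00 := congrArg (fun y : SL2 F => y 0 0) heq
    have e01 := congrArg (fun y : SL2 F => y 0 1) heq
    have e11 := congrArg (fun y : SL2 F => y 1 1) heq
    simp only [sl2_mul_apply, upSL_00, upSL_01, upSL_10, upSL_11, hd01, hd10, hd01', hd10']
      at e00 e01 e11
    have h00 : dg 0 0 = dg' 0 0 := by linear_combination e00
    have h11 : dg 1 1 = dg' 1 1 := by linear_combination e11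
    have hdet := sl2_det' dg
    rw [hd01, zero_mul, sub_zero] at hdet
    have hne : dg 0 0 ≠ 0 := by
      intro h0; rw [h0, zero_mul] at hdet; exact zero_ne_one hdet
    have htt : t = t' := by
      have h3 : dg 0 0 * (t - t') = 0 := by linear_combination e01 - t' * h00
      rcases mul_eq_zero.mp h3 with h | h
      · exact absurd h hne
      · linear_combination h
    have hdd : dg = dg' := sl2_ext h00 (by rw [hd01, hd01']) (by rw [hd10, hd10']) h11
    rw [hdd, htt]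
  · intro g hg
    simp only [Finset.mem_filter, Finset.mem_univ, true_and] at hg
    obtain ⟨h, hh, h00, h01, h10⟩ := hB g hg.1 hg.2
    have hdg := sl2_det' g
    rw [hg.2, mul_zero, sub_zero] at hdg
    have hdh := sl2_det' h
    rw [h01, zero_mul, sub_zero, h00] at hdh
    have hg00 : g 0 0 ≠ 0 := by
      intro h0; rw [h0, zero_mul] at hdg; exact zero_ne_one hdg
    have h11 : h 1 1 = g 1 1 := by
      have h3 : g 0 0 * (h 1 1 - g 1 1) = 0 := by linear_combination hdh - hdg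
      rcases mul_eq_zero.mp h3 with h' | h'
      · exact absurd h' hg00
      · linear_combination h'
    have hprod : h * upSL (g 0 1 * g 1 1) = g := by
      apply sl2_ext <;> simp only [sl2_mul_apply, upSL_00, upSL_01, upSL_10, upSL_11, h00, h01,
        h10, h11, hg.2]
      · ring
      · linear_combination (g 0 1) * hdg
      · ring
      · ring
    refine ⟨(h, g 0 1 * g 1 1), ?_, hprod⟩
    simp only [Finset.mem_product, Finset.mem_filter, Finset.mem_univ, true_and]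
    refine ⟨⟨hh, h01, h10⟩, ?_⟩
    have h4 : upSL (g 0 1 * g 1 1) = h⁻¹ * g := by
      rw [eq_inv_mul_iff_mul_eq]; exact hprod
    rw [h4]; exact H.mul_mem (H.inv_mem hh) hg.1

/-- The count of the elements of trace `2`, in terms of the index `N` of the upper triangular
subgroup. -/
theorem sl2_unip_count (p : ℕ) [Fact p.Prime] [CharP F p] (H : Subgroup (SL2 F))
    (hB : ∀ g ∈ H, g 1 0 = 0 → ∃ h ∈ H, h 0 0 = g 0 0 ∧ h 0 1 = 0 ∧ h 1 0 = 0)
    (t₀ : F) (ht₀ : t₀ ≠ 0) (hu : upSL t₀ ∈ H) (hN : ∃ g ∈ H, g 1 0 ≠ 0) :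
    ∃ N : ℕ, 2 ≤ N ∧
      Nat.card H = N * Nat.card {t : F // upSL t ∈ H} *
        Nat.card {g : SL2 F // g ∈ H ∧ g 0 1 = 0 ∧ g 1 0 = 0} ∧
      Nat.card {g : SL2 F // g ∈ H ∧ g ≠ 1 ∧ g 0 0 + g 1 1 = 2} =
        N * (Nat.card {t : F // upSL t ∈ H} - 1) := by
  obtain ⟨BB, hBB⟩ : ∃ BB : Subgroup (SL2 F), ∀ x : SL2 F, x ∈ BB ↔ x ∈ H ∧ x 1 0 = 0 := by
    refine ⟨{ carrier := {x : SL2 F | x ∈ H ∧ x 1 0 = 0}
              mul_mem' := ?_
              one_mem' := ?_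
              inv_mem' := ?_ }, fun x => Iff.rfl⟩
    · rintro a b ⟨ha, ha1⟩ ⟨hb, hb1⟩
      refine ⟨H.mul_mem ha hb, ?_⟩
      simp only [sl2_mul_apply, ha1, hb1]; ring
    · exact ⟨H.one_mem, sl2_one_10⟩
    · rintro a ⟨ha, ha1⟩
      exact ⟨H.inv_mem ha, by rw [sl2_inv_10, ha1, neg_zero]⟩
  have hle : BB ≤ H := fun x hx => ((hBB x).mp hx).1
  have hcardB : Nat.card BB = Nat.card {g : SL2 F // g ∈ H ∧ g 1 0 = 0} :=
    Nat.card_congr (Equiv.subtypeEquivRight hBB)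
  obtain ⟨N, hNeq⟩ := Subgroup.card_dvd_of_le hle
  have hcu := card_unip p H t₀ ht₀ hu
  have hcb := card_borel H hB
  have hBpos : 0 < Nat.card BB := Nat.card_pos
  have hHpos : 0 < Nat.card H := Nat.card_pos
  refine ⟨N, ?_, ?_, ?_⟩
  · by_contra hlt
    have hN1 : N = 0 ∨ N = 1 := by omega
    rcases hN1 with h | h
    · rw [h, mul_zero] at hNeq; omega
    · rw [h, mul_one] at hNeq
      have hBH := Subgroup.eq_of_le_of_card_ge hle (le_of_eq hNeq)
      obtain ⟨g, hg, hg10⟩ := hN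
      have hg' : g ∈ BB := by rw [hBH]; exact hg
      exact hg10 ((hBB g).mp hg').2
  · rw [hNeq, hcardB, hcb]; ring
  · rw [← hcardB, hNeq] at hcu
    have h5 : Nat.card BB * Nat.card {g : SL2 F // g ∈ H ∧ g ≠ 1 ∧ g 0 0 + g 1 1 = 2} =
        Nat.card BB * (N * (Nat.card {t : F // upSL t ∈ H} - 1)) := by
      rw [mul_comm, hcu, mul_assoc]
    exact Nat.eq_of_mul_eq_mul_left hBpos h5

end Count

end Cfsg.Agent.Lib.helper98
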