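import Mathlib

/-!
# A counting lemma for group actions in which every element fixes `0`, `2` or all points

Let a finite group `G` act on a finite set `Y`, let `Z ≤ G` act trivially, let the elements of a
set `W` act without fixed points and let every other element fix exactly two points.  If
`|G| = N * A * d`, `|W| = |Z| * N * (A - 1)` and some point has a stabilizer of order `d`, then
`N * A * d = |Z| * s * (2 + N * (A - 2))` for some `s ≥ 2` (`two_fix_core`).  This is the
"Riemann–Hurwitz" count used in Dickson's classification of the subgroups of `SL₂(q)`.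
-/

set_option autoImplicit false

namespace Cfsg.Agent.Lib.helper98

open MulAction
open scoped Classical

section TwoFix

variable {G : Type*} [Group G] [Fintype G] {Y : Type*} [Fintype Y] [MulAction G Y]

/-- The number of group elements fixing `y`. -/
noncomputable def stabCard (G : Type*) [Group G] [Fintype G] {Y : Type*} [MulAction G Y]
    (y : Y) : ℕ :=
  (Finset.univ.filter (fun g : G => g • y = y)).card

/-- The number of points fixed by `g`. -/
noncomputable def fixCard (Y : Type*) [Fintype Y] [MulAction G Y] (g : G) : ℕ :=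
  (Finset.univ.filter (fun y : Y => g • y = y)).card

theorem sum_stabCard_eq_sum_fixCard : ∑ y : Y, stabCard G y = ∑ g : G, fixCard Y g := by
  simp only [stabCard, fixCard, Finset.card_filter]
  exact Finset.sum_comm

theorem stabCard_eq_card (y : Y) : stabCard G y = Nat.card (stabilizer G y) := by
  rw [stabCard, Nat.card_eq_fintype_card, Fintype.card_subtype]
  rfl

/-- The orbit of `y` as a finset. -/
noncomputable def orbitFinset (G : Type*) [Group G] {Y : Type*} [Fintype Y] [MulAction G Y]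
    (y : Y) : Finset Y :=
  Finset.univ.filter (fun y' => y' ∈ orbit G y)

theorem mem_orbitFinset {y y' : Y} : y' ∈ orbitFinset G y ↔ y' ∈ orbit G y := by
  simp [orbitFinset]

theorem stabCard_smul (g : G) (y : Y) : stabCard G (g • y) = stabCard G y := by
  rw [stabCard_eq_card, stabCard_eq_card]
  exact Nat.card_congr (stabilizerEquivStabilizer (g := g) rfl).toEquiv.symm

theorem card_orbitFinset_mul (y : Y) :
    (orbitFinset G y).card * stabCard G y = Fintype.card G := by
  have h1 := Subgroup.card_mul_index (stabilizer G y)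
  rw [index_stabilizer] at h1
  rw [stabCard_eq_card, ← Nat.card_eq_fintype_card, ← h1, mul_comm]
  congr 1
  rw [orbitFinset, ← Set.ncard_coe_finset]
  congr 1
  ext y'
  simp

theorem sum_orbitFinset (y : Y) : ∑ y' ∈ orbitFinset G y, stabCard G y' = Fintype.card G := by
  have h : ∀ y' ∈ orbitFinset G y, stabCard G y' = stabCard G y := by
    intro y' hy'
    rw [mem_orbitFinset] at hy'
    obtain ⟨g, rfl⟩ := hy'
    exact stabCard_smul g y
  rw [Finset.sum_congr rfl h, Finset.sum_const, smul_eq_mul, card_orbitFinset_mul]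

theorem orbitFinset_subset_sdiff {y₁ : Y} {s : Finset Y} (hs : ∀ y' ∈ s, orbitFinset G y' ⊆ s)
    (h : y₁ ∉ s) : Disjoint (orbitFinset G y₁) s := by
  rw [Finset.disjoint_left]
  intro y' hy' hy's
  apply h
  apply hs y' hy's
  rw [mem_orbitFinset] at hy' ⊢
  rw [← MulAction.orbit_eq_iff] at hy'
  rw [hy']
  exact mem_orbit_self _

theorem orbitFinset_subset_self (y : Y) : ∀ y' ∈ orbitFinset G y, orbitFinset G y' ⊆ orbitFinset G y := by
  intro y' hy' y'' hy''
  rw [mem_orbitFinset] at hy' hy'' ⊢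
  rw [← MulAction.orbit_eq_iff] at hy'
  rw [← hy']
  exact hy''

theorem orbitFinset_union_closed (y₀ y₁ : Y) :
    ∀ y' ∈ orbitFinset G y₀ ∪ orbitFinset G y₁,
      orbitFinset G y' ⊆ orbitFinset G y₀ ∪ orbitFinset G y₁ := by
  intro y' hy'
  rcases Finset.mem_union.mp hy' with h | h
  · exact (orbitFinset_subset_self y₀ y' h).trans Finset.subset_union_left
  · exact (orbitFinset_subset_self y₁ y' h).trans Finset.subset_union_right

/-- The counting lemma. -/
theorem two_fix_core (Z : Subgroup G) (W : Finset G) (z N A d : ℕ)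
    (hz : Nat.card Z = z)
    (hZfix : ∀ g ∈ Z, ∀ y : Y, g • y = y)
    (hWZ : ∀ g ∈ W, g ∉ Z)
    (hWfix : ∀ g ∈ W, ∀ y : Y, g • y ≠ y)
    (h2fix : ∀ g : G, g ∉ Z → g ∉ W → fixCard Y g = 2)
    (hW : W.card = z * N * (A - 1))
    (y₀ : Y) (hy₀ : stabCard G y₀ = d)
    (hcard : Fintype.card G = N * A * d) (hN : 2 ≤ N) (hA : 2 ≤ A) :
    ∃ s : ℕ, 2 ≤ s ∧ N * A * d = z * s * (2 + N * (A - 2)) := by
  obtain ⟨A', rfl⟩ : ∃ A', A = A' + 2 := ⟨A - 2, by omega⟩
  have hA1 : A' + 2 - 1 = A' + 1 := by omega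
  have hA2 : A' + 2 - 2 = A' := by omega
  rw [hA1] at hW
  rw [hA2]
  have hzpos : 0 < z := by rw [← hz]; exact Nat.card_pos
  have hdvd : ∀ y : Y, z ∣ stabCard G y := by
    intro y
    rw [stabCard_eq_card, ← hz]
    exact Subgroup.card_dvd_of_le (fun g hg => hZfix g hg y)
  have hpos : ∀ y : Y, 0 < stabCard G y := by
    intro y; rw [stabCard_eq_card]; exact Nat.card_pos
  have hle : ∀ y : Y, z ≤ stabCard G y := fun y => Nat.le_of_dvd (hpos y) (hdvd y)
  -- atoms
  obtain ⟨h, hh⟩ : ∃ h, h = Fintype.card G := ⟨_, rfl⟩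
  obtain ⟨pp, hpp⟩ : ∃ pp, pp = z * N * A' := ⟨_, rfl⟩
  obtain ⟨b, hb⟩ : ∃ b, b = z * N := ⟨_, rfl⟩
  have hb2 : 2 * z ≤ b := by rw [hb, mul_comm 2 z]; exact Nat.mul_le_mul_left z hN
  have hWc : W.card = pp + b := by rw [hW, hpp, hb]; ring
  -- the double count
  have hstar : ∑ y : Y, stabCard G y + 2 * z + 2 * (pp + b) = z * Fintype.card Y + 2 * h := by
    rw [sum_stabCard_eq_sum_fixCard]
    obtain ⟨Zf, hZf⟩ : ∃ Zf : Finset G, Zf = Finset.univ.filter (fun g : G => g ∈ Z) := ⟨_, rfl⟩
    have hmemZf : ∀ g : G, g ∈ Zf ↔ g ∈ Z := by intro g; rw [hZf]; simp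
    have hZfcard : Zf.card = z := by
      rw [← hz, Nat.card_eq_fintype_card, Fintype.card_subtype, hZf]
    have hdisj : Disjoint Zf W := by
      rw [Finset.disjoint_left]; intro g hg hgW
      exact hWZ g hgW ((hmemZf g).mp hg)
    have hsplit : ∑ g : G, fixCard Y g = ∑ g ∈ Zf ∪ W, fixCard Y g +
        ∑ g ∈ (Finset.univ \ (Zf ∪ W)), fixCard Y g := by
      rw [add_comm, Finset.sum_sdiff (Finset.subset_univ _)]
    have h1 : ∑ g ∈ Zf, fixCard Y g = z * Fintype.card Y := by
      rw [← hZfcard, ← smul_eq_mul, ← Finset.sum_const]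
      apply Finset.sum_congr rfl
      intro g hg
      rw [fixCard, Finset.filter_true_of_mem (fun y _ => hZfix g ((hmemZf g).mp hg) y),
        Finset.card_univ]
    have h2 : ∑ g ∈ W, fixCard Y g = 0 := by
      apply Finset.sum_eq_zero
      intro g hg
      rw [fixCard, Finset.filter_false_of_mem (fun y _ => hWfix g hg y), Finset.card_empty]
    have h3 : ∑ g ∈ (Finset.univ \ (Zf ∪ W)), fixCard Y g =
        2 * (Finset.univ \ (Zf ∪ W)).card := by
      rw [mul_comm, ← smul_eq_mul, ← Finset.sum_const]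
      apply Finset.sum_congr rfl
      intro g hg
      simp only [Finset.mem_sdiff, Finset.mem_univ, Finset.mem_union, true_and, not_or] at hg
      exact h2fix g (fun hgZ => hg.1 ((hmemZf g).mpr hgZ)) hg.2
    have h4 : (Finset.univ \ (Zf ∪ W)).card + (z + (pp + b)) = h := by
      rw [← hZfcard, ← hWc, ← Finset.card_union_of_disjoint hdisj,
        Finset.card_sdiff_add_card_eq_card (Finset.subset_univ _), Finset.card_univ, hh]
    rw [hsplit, Finset.sum_union hdisj, h1, h2, h3]
    omega
  -- excess function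
  have hE : ∀ s : Finset Y, ∑ y ∈ s, (stabCard G y - z) + z * s.card = ∑ y ∈ s, stabCard G y := by
    intro s
    rw [mul_comm, ← smul_eq_mul, ← Finset.sum_const, ← Finset.sum_add_distrib]
    apply Finset.sum_congr rfl
    intro y _
    have := hle y
    omega
  have hEorb : ∀ y : Y, ∑ y' ∈ orbitFinset G y, (stabCard G y' - z) +
      z * (orbitFinset G y).card = h := by
    intro y
    rw [hE, sum_orbitFinset, hh]
  -- the orbit of `y₀`
  have hd : 0 < d := by rw [← hy₀]; exact hpos y₀
  have hO₀ : (orbitFinset G y₀).card = N * (A' + 2) := by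
    have := card_orbitFinset_mul (G := G) y₀
    rw [hy₀, hcard] at this
    exact Nat.eq_of_mul_eq_mul_right hd this
  have hzO₀ : z * (orbitFinset G y₀).card = pp + 2 * b := by rw [hO₀, hpp, hb]; ring
  have hE₀ := hEorb y₀
  rw [hzO₀] at hE₀
  have hEuniv := hE Finset.univ
  rw [Finset.card_univ] at hEuniv
  have hsplit₀ : ∑ y ∈ Finset.univ \ orbitFinset G y₀, (stabCard G y - z) +
      ∑ y ∈ orbitFinset G y₀, (stabCard G y - z) = ∑ y : Y, (stabCard G y - z) :=
    Finset.sum_sdiff (Finset.subset_univ _)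
  -- `T + 2z + p = h`
  have hT : ∑ y ∈ Finset.univ \ orbitFinset G y₀, (stabCard G y - z) + 2 * z + pp = h := by
    omega
  -- `h ≥ p + 2b`
  have hhge : pp + 2 * b ≤ h := by
    obtain ⟨c, hc⟩ := hy₀ ▸ hdvd y₀
    have hc1 : 1 ≤ c := by
      rcases Nat.eq_zero_or_pos c with h0 | h0
      · rw [h0, mul_zero] at hc; omega
      · exact h0
    have : h = c * (pp + 2 * b) := by rw [hh, hcard, hc, hpp, hb]; ring
    rw [this]
    exact Nat.le_mul_of_pos_left _ hc1
  -- a second special orbit
  have hTpos : 0 < ∑ y ∈ Finset.univ \ orbitFinset G y₀, (stabCard G y - z) := by omega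
  obtain ⟨y₁, hy₁R, hy₁e⟩ : ∃ y₁ ∈ Finset.univ \ orbitFinset G y₀, 0 < stabCard G y₁ - z := by
    by_contra hcon
    push Not at hcon
    have : ∑ y ∈ Finset.univ \ orbitFinset G y₀, (stabCard G y - z) = 0 :=
      Finset.sum_eq_zero (fun y hy => Nat.le_zero.mp (hcon y hy))
    omega
  have hy₁O : y₁ ∉ orbitFinset G y₀ := (Finset.mem_sdiff.mp hy₁R).2
  obtain ⟨s, hs⟩ := hdvd y₁
  have hs2 : 2 ≤ s := by
    by_contra hcon
    have hs1 : s ≤ 1 := by omega
    have : stabCard G y₁ ≤ z := by
      rw [hs]; calc z * s ≤ z * 1 := Nat.mul_le_mul_left z hs1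
        _ = z := mul_one z
    omega
  have hO₁sub : orbitFinset G y₁ ⊆ Finset.univ \ orbitFinset G y₀ := by
    intro y hy
    rw [Finset.mem_sdiff]
    exact ⟨Finset.mem_univ _, fun hy0 => Finset.disjoint_left.mp
      (orbitFinset_subset_sdiff (orbitFinset_subset_self y₀) hy₁O) hy hy0⟩
  have hO₁card : (orbitFinset G y₁).card * (z * s) = h := by
    rw [← hs, card_orbitFinset_mul, hh]
  have hE₁ := hEorb y₁
  have hsplit₁ : ∑ y ∈ (Finset.univ \ orbitFinset G y₀) \ orbitFinset G y₁, (stabCard G y - z) +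
      ∑ y ∈ orbitFinset G y₁, (stabCard G y - z) =
      ∑ y ∈ Finset.univ \ orbitFinset G y₀, (stabCard G y - z) :=
    Finset.sum_sdiff hO₁sub
  have hhalf₁ : 2 * (z * (orbitFinset G y₁).card) ≤ h := by
    rw [← hO₁card]
    calc 2 * (z * (orbitFinset G y₁).card) = (orbitFinset G y₁).card * (z * 2) := by ring
      _ ≤ (orbitFinset G y₁).card * (z * s) :=
        Nat.mul_le_mul_left _ (Nat.mul_le_mul_left z hs2)
  -- no third special orbit
  have hrest : ∑ y ∈ (Finset.univ \ orbitFinset G y₀) \ orbitFinset G y₁, (stabCard G y - z) = 0 := by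
    by_contra hcon
    obtain ⟨y₂, hy₂R, hy₂e⟩ : ∃ y₂ ∈ (Finset.univ \ orbitFinset G y₀) \ orbitFinset G y₁,
        0 < stabCard G y₂ - z := by
      by_contra hcon2
      push Not at hcon2
      exact hcon (Finset.sum_eq_zero (fun y hy => Nat.le_zero.mp (hcon2 y hy)))
    have hy₂O : y₂ ∉ orbitFinset G y₀ ∪ orbitFinset G y₁ := by
      simp only [Finset.mem_sdiff, Finset.mem_univ, true_and] at hy₂R
      rw [Finset.mem_union]
      tauto
    obtain ⟨s₂, hs₂⟩ := hdvd y₂
    have hs₂2 : 2 ≤ s₂ := by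
      by_contra hcon3
      have hs1 : s₂ ≤ 1 := by omega
      have : stabCard G y₂ ≤ z := by
        rw [hs₂]; calc z * s₂ ≤ z * 1 := Nat.mul_le_mul_left z hs1
          _ = z := mul_one z
      omega
    have hO₂sub : orbitFinset G y₂ ⊆ (Finset.univ \ orbitFinset G y₀) \ orbitFinset G y₁ := by
      intro y hy
      have hdis := Finset.disjoint_left.mp
        (orbitFinset_subset_sdiff (orbitFinset_union_closed y₀ y₁) hy₂O) hy
      rw [Finset.mem_union, not_or] at hdis
      simp only [Finset.mem_sdiff, Finset.mem_univ, true_and]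
      exact hdis
    have hO₂card : (orbitFinset G y₂).card * (z * s₂) = h := by
      rw [← hs₂, card_orbitFinset_mul, hh]
    have hE₂ := hEorb y₂
    have hhalf₂ : 2 * (z * (orbitFinset G y₂).card) ≤ h := by
      rw [← hO₂card]
      calc 2 * (z * (orbitFinset G y₂).card) = (orbitFinset G y₂).card * (z * 2) := by ring
        _ ≤ (orbitFinset G y₂).card * (z * s₂) :=
          Nat.mul_le_mul_left _ (Nat.mul_le_mul_left z hs₂2)
    have hle₂ : ∑ y ∈ orbitFinset G y₂, (stabCard G y - z) ≤
        ∑ y ∈ (Finset.univ \ orbitFinset G y₀) \ orbitFinset G y₁, (stabCard G y - z) :=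
      Finset.sum_le_sum_of_subset hO₂sub
    omega
  -- conclusion
  have hfin : z * (orbitFinset G y₁).card = 2 * z + pp := by omega
  have hO₁ : (orbitFinset G y₁).card = 2 + N * A' := by
    have : z * (orbitFinset G y₁).card = z * (2 + N * A') := by rw [hfin, hpp]; ring
    exact Nat.eq_of_mul_eq_mul_left hzpos this
  refine ⟨s, hs2, ?_⟩
  rw [← hcard, ← hh, ← hO₁card, hO₁]
  ring

end TwoFix

end Cfsg.Agent.Lib.helper98
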