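import Mathlib
import Cfsg.Agent.Lib.helper98.TwoFix
import Cfsg.Agent.Lib.helper98.SL2Unip

/-!
# Counting fixed points of `SL₂(F)` on trace-zero matrices (odd characteristic)

`SL₂(F)` acts by conjugation on the set `TZ δ` of trace-zero matrices of determinant `-1` or `-δ`
(`δ` a non-square).  A non-scalar element `g` fixes exactly two points if `tr(g)² ≠ 4` and none if
`tr(g)² = 4`.  Combined with `two_fix_core` and the unipotent count this gives the
"Riemann–Hurwitz" equation `sl2_core_odd` for subgroups of `SL₂(F)`.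
-/

set_option autoImplicit false

namespace Cfsg.Agent.Lib.helper98

open Matrix
open scoped Classical

local notation "SL2" => Matrix.SpecialLinearGroup (Fin 2)
local notation "M2" => Matrix (Fin 2) (Fin 2)

section Mat2

theorem mat2_ext {F : Type*} {M N : M2 F} (h00 : M 0 0 = N 0 0) (h01 : M 0 1 = N 0 1)
    (h10 : M 1 0 = N 1 0) (h11 : M 1 1 = N 1 1) : M = N := by
  ext i j; fin_cases i <;> fin_cases j <;> assumption

variable {F : Type*} [Field F]

theorem mul2_apply (M N : M2 F) (i j : Fin 2) :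
    (M * N) i j = M i 0 * N 0 j + M i 1 * N 1 j := by
  rw [Matrix.mul_apply, Fin.sum_univ_two]

/-- The commutant of a non-scalar `2 × 2` matrix `M` is `F + F M` (entrywise form). -/
theorem commutant_two {M J : M2 F}
    (hM : M 0 1 ≠ 0 ∨ M 1 0 ≠ 0 ∨ M 0 0 ≠ M 1 1) (hJ : J * M = M * J) :
    ∃ x y : F, J 0 0 = x + y * M 0 0 ∧ J 0 1 = y * M 0 1 ∧ J 1 0 = y * M 1 0 ∧
      J 1 1 = x + y * M 1 1 := by
  have e00 := congrFun (congrFun hJ 0) 0
  have e01 := congrFun (congrFun hJ 0) 1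
  have e10 := congrFun (congrFun hJ 1) 0
  rw [mul2_apply, mul2_apply] at e00 e01 e10
  rcases hM with h | h | h
  · refine ⟨J 0 0 - J 0 1 / M 0 1 * M 0 0, J 0 1 / M 0 1, by ring, ?_, ?_, ?_⟩
    · field_simp
    · field_simp; linear_combination -e00
    · field_simp; linear_combination -e01
  · refine ⟨J 0 0 - J 1 0 / M 1 0 * M 0 0, J 1 0 / M 1 0, by ring, ?_, ?_, ?_⟩
    · field_simp; linear_combination e00
    · field_simp
    · field_simp; linear_combination e10
  · have h' : M 0 0 - M 1 1 ≠ 0 := sub_ne_zero.mpr h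
    by_cases h01 : M 0 1 = 0
    · by_cases h10 : M 1 0 = 0
      · rw [h01] at e01
        rw [h10] at e10
        have hJ01 : J 0 1 = 0 := by
          have : J 0 1 * (M 0 0 - M 1 1) = 0 := by linear_combination -e01
          rcases mul_eq_zero.mp this with h3 | h3
          · exact h3
          · exact absurd h3 h'
        have hJ10 : J 1 0 = 0 := by
          have : J 1 0 * (M 0 0 - M 1 1) = 0 := by linear_combination e10
          rcases mul_eq_zero.mp this with h3 | h3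
          · exact h3
          · exact absurd h3 h'
        refine ⟨J 0 0 - (J 0 0 - J 1 1) / (M 0 0 - M 1 1) * M 0 0,
          (J 0 0 - J 1 1) / (M 0 0 - M 1 1), by ring, ?_, ?_, ?_⟩
        · rw [hJ01, h01, mul_zero]
        · rw [hJ10, h10, mul_zero]
        · field_simp; ring
      · refine ⟨J 0 0 - J 1 0 / M 1 0 * M 0 0, J 1 0 / M 1 0, by ring, ?_, ?_, ?_⟩
        · field_simp; linear_combination e00
        · field_simp
        · field_simp; linear_combination e10
    · refine ⟨J 0 0 - J 0 1 / M 0 1 * M 0 0, J 0 1 / M 0 1, by ring, ?_, ?_, ?_⟩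
      · field_simp
      · field_simp; linear_combination -e00
      · field_simp; linear_combination -e01

end Mat2

section Action

variable {F : Type*} [Field F]

/-- Trace-zero matrices of determinant `-1` or `-δ`. -/
def TZ (δ : F) : Type _ :=
  {J : M2 F // J.trace = 0 ∧ (J.det = -1 ∨ J.det = -δ)}

/-- Constructor for `TZ δ`. -/
def TZ.mk {δ : F} (J : M2 F) (h : J.trace = 0 ∧ (J.det = -1 ∨ J.det = -δ)) : TZ δ := ⟨J, h⟩

theorem TZ.mk_val {δ : F} (J : M2 F) (h : J.trace = 0 ∧ (J.det = -1 ∨ J.det = -δ)) :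
    (TZ.mk J h : TZ δ).1 = J := rfl

theorem sl2_inv_mul_coe (g : SL2 F) : ((g⁻¹ : SL2 F) : M2 F) * (g : M2 F) = 1 := by
  rw [← Matrix.SpecialLinearGroup.coe_mul, inv_mul_cancel, Matrix.SpecialLinearGroup.coe_one]

theorem sl2_mul_inv_coe (g : SL2 F) : (g : M2 F) * ((g⁻¹ : SL2 F) : M2 F) = 1 := by
  rw [← Matrix.SpecialLinearGroup.coe_mul, mul_inv_cancel, Matrix.SpecialLinearGroup.coe_one]

instance TZ.instMulAction (δ : F) : MulAction (SL2 F) (TZ δ) where
  smul g J := ⟨(g : M2 F) * J.1 * ((g⁻¹ : SL2 F) : M2 F), by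
    rw [Matrix.trace_mul_comm, ← Matrix.mul_assoc, sl2_inv_mul_coe, Matrix.one_mul]; exact J.2.1, by
    rw [Matrix.det_mul, Matrix.det_mul, Matrix.SpecialLinearGroup.det_coe, Matrix.SpecialLinearGroup.det_coe,
      one_mul, mul_one]; exact J.2.2⟩
  one_smul J := by
    apply Subtype.ext
    show ((1 : SL2 F) : M2 F) * J.1 * (((1 : SL2 F)⁻¹ : SL2 F) : M2 F) = J.1
    rw [inv_one, Matrix.SpecialLinearGroup.coe_one, Matrix.one_mul, Matrix.mul_one]
  mul_smul g h J := by
    apply Subtype.ext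
    show ((g * h : SL2 F) : M2 F) * J.1 * (((g * h)⁻¹ : SL2 F) : M2 F) =
      (g : M2 F) * ((h : M2 F) * J.1 * ((h⁻¹ : SL2 F) : M2 F)) * ((g⁻¹ : SL2 F) : M2 F)
    rw [_root_.mul_inv_rev, Matrix.SpecialLinearGroup.coe_mul, Matrix.SpecialLinearGroup.coe_mul]
    simp only [Matrix.mul_assoc]

theorem TZ.smul_val (δ : F) (g : SL2 F) (J : TZ δ) :
    (g • J).1 = (g : M2 F) * J.1 * ((g⁻¹ : SL2 F) : M2 F) := rfl

theorem TZ.smul_eq_iff {δ : F} (g : SL2 F) (J : TZ δ) :
    g • J = J ↔ (g : M2 F) * J.1 = J.1 * (g : M2 F) := by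
  constructor
  · intro h
    have h1 := congrArg Subtype.val h
    rw [TZ.smul_val] at h1
    have h2 := congrArg (· * (g : M2 F)) h1
    simp only [Matrix.mul_assoc, sl2_inv_mul_coe, Matrix.mul_one] at h2
    exact h2
  · intro h
    apply Subtype.ext
    rw [TZ.smul_val, h, Matrix.mul_assoc, sl2_mul_inv_coe, Matrix.mul_one]

noncomputable instance TZ.instFintype [Fintype F] (δ : F) : Fintype (TZ δ) :=
  inferInstanceAs (Fintype {J : M2 F // J.trace = 0 ∧ (J.det = -1 ∨ J.det = -δ)})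

/-- The candidate fixed point `y • (2 g - tr(g))`. -/
def fixMat (g : SL2 F) (y : F) : M2 F :=
  !![y * (g 0 0 - g 1 1), y * (2 * g 0 1); y * (2 * g 1 0), y * (g 1 1 - g 0 0)]

theorem fixMat_00 (g : SL2 F) (y : F) : fixMat g y 0 0 = y * (g 0 0 - g 1 1) := rfl
theorem fixMat_01 (g : SL2 F) (y : F) : fixMat g y 0 1 = y * (2 * g 0 1) := rfl
theorem fixMat_10 (g : SL2 F) (y : F) : fixMat g y 1 0 = y * (2 * g 1 0) := rfl
theorem fixMat_11 (g : SL2 F) (y : F) : fixMat g y 1 1 = y * (g 1 1 - g 0 0) := rfl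

theorem fixMat_trace (g : SL2 F) (y : F) : (fixMat g y).trace = 0 := by
  rw [Matrix.trace_fin_two, fixMat_00, fixMat_11]; ring

theorem fixMat_det (g : SL2 F) (y : F) :
    (fixMat g y).det = -(y ^ 2 * ((g 0 0 + g 1 1) ^ 2 - 4)) := by
  have hd := sl2_det' g
  rw [Matrix.det_fin_two, fixMat_00, fixMat_11, fixMat_01, fixMat_10]
  linear_combination (4 * y ^ 2) * hd

theorem fixMat_comm (g : SL2 F) (y : F) : (g : M2 F) * fixMat g y = fixMat g y * (g : M2 F) := by
  apply mat2_ext <;> simp only [mul2_apply, fixMat_00, fixMat_01, fixMat_10, fixMat_11] <;> ring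

/-- Shape of a fixed point of a non-scalar element. -/
theorem tz_fixed_eq {δ : F} (h2 : (2 : F) ≠ 0) (g : SL2 F)
    (hns : g 0 1 ≠ 0 ∨ g 1 0 ≠ 0 ∨ g 0 0 ≠ g 1 1) (J : TZ δ) (hJ : g • J = J) :
    ∃ y : F, J.1 = fixMat g y ∧
      (y ^ 2 * ((g 0 0 + g 1 1) ^ 2 - 4) = 1 ∨ y ^ 2 * ((g 0 0 + g 1 1) ^ 2 - 4) = δ) := by
  rw [TZ.smul_eq_iff] at hJ
  obtain ⟨x, y, h00, h01, h10, h11⟩ := commutant_two hns hJ.symm
  have htr : J.1 0 0 + J.1 1 1 = 0 := by rw [← Matrix.trace_fin_two]; exact J.2.1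
  have hx : 2 * x = -(y * (g 0 0 + g 1 1)) := by
    linear_combination htr - h00 - h11
  obtain ⟨c, hc⟩ : ∃ c : F, 2 * c = 1 := ⟨2⁻¹, mul_inv_cancel₀ h2⟩
  have hJeq : J.1 = fixMat g (y * c) := by
    apply mat2_ext
    · rw [fixMat_00, h00]; linear_combination c * hx - (x + y * g 0 0) * hc
    · rw [fixMat_01, h01]; linear_combination -(y * g 0 1) * hc
    · rw [fixMat_10, h10]; linear_combination -(y * g 1 0) * hc
    · rw [fixMat_11, h11]; linear_combination c * hx - (x + y * g 1 1) * hc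
  refine ⟨y * c, hJeq, ?_⟩
  have hdJ := fixMat_det g (y * c)
  rw [← hJeq] at hdJ
  rcases J.2.2 with h | h
  · left
    rw [hdJ] at h
    linear_combination -h
  · right
    rw [hdJ] at h
    linear_combination -h

theorem tz_not_fixed {δ : F} (h2 : (2 : F) ≠ 0) (hδ : δ ≠ 0) (g : SL2 F)
    (hns : g 0 1 ≠ 0 ∨ g 1 0 ≠ 0 ∨ g 0 0 ≠ g 1 1)
    (ht : (g 0 0 + g 1 1) ^ 2 = 4) (J : TZ δ) : g • J ≠ J := by
  intro hJ
  obtain ⟨y, -, h⟩ := tz_fixed_eq h2 g hns J hJ
  rw [ht, sub_self, mul_zero] at h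
  rcases h with h | h
  · exact zero_ne_one h
  · exact hδ h.symm

theorem exists_sq_or [Fintype F] {δ : F} (hδ : ¬ IsSquare δ) (a : F) (ha : a ≠ 0) :
    IsSquare a ∨ IsSquare (a * δ) := by
  by_cases h : IsSquare a
  · exact Or.inl h
  · right
    have h1 := quadraticChar_neg_one_iff_not_isSquare.mpr h
    have h2 := quadraticChar_neg_one_iff_not_isSquare.mpr hδ
    have hδ0 : δ ≠ 0 := by
      rintro rfl; exact hδ ⟨0, by rw [mul_zero]⟩
    rw [← quadraticChar_one_iff_isSquare (mul_ne_zero ha hδ0), map_mul, h1, h2]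
    norm_num

/-- A non-scalar element with `tr² ≠ 4` has exactly two fixed points on `TZ δ`. -/
theorem tz_fixCard_two [Fintype F] (h2 : (2 : F) ≠ 0) {δ : F} (hδ : ¬ IsSquare δ) (g : SL2 F)
    (hns : g 0 1 ≠ 0 ∨ g 1 0 ≠ 0 ∨ g 0 0 ≠ g 1 1) (ht : (g 0 0 + g 1 1) ^ 2 ≠ 4) :
    fixCard (TZ δ) g = 2 := by
  obtain ⟨Δ, hΔdef⟩ : ∃ Δ : F, Δ = (g 0 0 + g 1 1) ^ 2 - 4 := ⟨_, rfl⟩
  have hΔ : Δ ≠ 0 := by rw [hΔdef]; exact sub_ne_zero.mpr ht
  have hδ0 : δ ≠ 0 := by
    rintro rfl; exact hδ ⟨0, by rw [mul_zero]⟩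
  obtain ⟨y₀, hy₀⟩ : ∃ y₀ : F, y₀ ^ 2 * Δ = 1 ∨ y₀ ^ 2 * Δ = δ := by
    rcases exists_sq_or hδ Δ⁻¹ (inv_ne_zero hΔ) with ⟨y, hy⟩ | ⟨y, hy⟩
    · refine ⟨y, Or.inl ?_⟩
      rw [pow_two, ← hy, inv_mul_cancel₀ hΔ]
    · refine ⟨y, Or.inr ?_⟩
      rw [pow_two, ← hy, mul_comm Δ⁻¹ δ, mul_assoc, inv_mul_cancel₀ hΔ, mul_one]
  have hy₀0 : y₀ ≠ 0 := by
    rintro rfl
    rw [zero_pow two_ne_zero, zero_mul] at hy₀
    rcases hy₀ with h | h
    · exact zero_ne_one h
    · exact hδ0 h.symm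
  have hmem : ∀ y : F, (y ^ 2 * Δ = 1 ∨ y ^ 2 * Δ = δ) →
      (fixMat g y).trace = 0 ∧ ((fixMat g y).det = -1 ∨ (fixMat g y).det = -δ) := by
    intro y hy
    refine ⟨fixMat_trace g y, ?_⟩
    rw [fixMat_det, ← hΔdef]
    rcases hy with h | h
    · left; rw [h]
    · right; rw [h]
  have hy₀' : (-y₀) ^ 2 * Δ = 1 ∨ (-y₀) ^ 2 * Δ = δ := by rw [neg_sq]; exact hy₀
  rw [fixCard, Finset.card_eq_two]
  refine ⟨TZ.mk (fixMat g y₀) (hmem y₀ hy₀), TZ.mk (fixMat g (-y₀)) (hmem _ hy₀'), ?_, ?_⟩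
  · intro h
    have h' : fixMat g y₀ = fixMat g (-y₀) := congrArg Subtype.val h
    have e00 := congrFun (congrFun h' 0) 0
    have e01 := congrFun (congrFun h' 0) 1
    have e10 := congrFun (congrFun h' 1) 0
    rw [fixMat_00, fixMat_00] at e00
    rw [fixMat_01, fixMat_01] at e01
    rw [fixMat_10, fixMat_10] at e10
    rcases hns with h | h | h
    · have h3 : (2 * 2) * (y₀ * g 0 1) = 0 := by linear_combination e01
      exact absurd h3 (mul_ne_zero (mul_ne_zero h2 h2) (mul_ne_zero hy₀0 h))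
    · have h3 : (2 * 2) * (y₀ * g 1 0) = 0 := by linear_combination e10
      exact absurd h3 (mul_ne_zero (mul_ne_zero h2 h2) (mul_ne_zero hy₀0 h))
    · have h3 : (2 * y₀) * (g 0 0 - g 1 1) = 0 := by linear_combination e00
      exact absurd h3 (mul_ne_zero (mul_ne_zero h2 hy₀0) (sub_ne_zero.mpr h))
  · ext J
    rw [Finset.mem_filter, Finset.mem_insert, Finset.mem_singleton]
    constructor
    · rintro ⟨-, hJ⟩
      obtain ⟨y, hJy, hy⟩ := tz_fixed_eq h2 g hns J hJ
      rw [← hΔdef] at hy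
      have hsq : y ^ 2 = y₀ ^ 2 := by
        rcases hy with h | h <;> rcases hy₀ with h' | h'
        · have h3 : (y ^ 2 - y₀ ^ 2) * Δ = 0 := by linear_combination h - h'
          rcases mul_eq_zero.mp h3 with h4 | h4
          · linear_combination h4
          · exact absurd h4 hΔ
        · exfalso
          apply hδ
          have hy0 : y ≠ 0 := by
            rintro rfl
            rw [zero_pow two_ne_zero, zero_mul] at h
            exact zero_ne_one h
          refine ⟨y₀ / y, ?_⟩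
          rw [div_mul_div_comm, eq_div_iff (mul_ne_zero hy0 hy0)]
          linear_combination y₀ ^ 2 * h - y ^ 2 * h'
        · exfalso
          apply hδ
          refine ⟨y / y₀, ?_⟩
          rw [div_mul_div_comm, eq_div_iff (mul_ne_zero hy₀0 hy₀0)]
          linear_combination y ^ 2 * h' - y₀ ^ 2 * h
        · have h3 : (y ^ 2 - y₀ ^ 2) * Δ = 0 := by linear_combination h - h'
          rcases mul_eq_zero.mp h3 with h4 | h4
          · linear_combination h4
          · exact absurd h4 hΔ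
      have h5 : (y - y₀) * (y + y₀) = 0 := by linear_combination hsq
      rcases mul_eq_zero.mp h5 with h6 | h6
      · left
        apply Subtype.ext
        rw [hJy]
        have : y = y₀ := by linear_combination h6
        rw [this, TZ.mk_val]
      · right
        apply Subtype.ext
        rw [hJy]
        have : y = -y₀ := by linear_combination h6
        rw [this, TZ.mk_val]
    · rintro (rfl | rfl)
      · exact ⟨Finset.mem_univ _, (TZ.smul_eq_iff _ _).mpr (fixMat_comm g y₀)⟩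
      · exact ⟨Finset.mem_univ _, (TZ.smul_eq_iff _ _).mpr (fixMat_comm g (-y₀))⟩

end Action

section Core

/-- The stabilizer count of a subgroup, as a `Nat.card`. -/
theorem stabCard_subgroup {G : Type*} [Group G] {Y : Type*} [Fintype Y] [MulAction G Y]
    (H : Subgroup G)
    [Fintype H] (y : Y) (P : G → Prop) (hP : ∀ g ∈ H, g • y = y ↔ P g) :
    stabCard H y = Nat.card {g : G // g ∈ H ∧ P g} := by
  rw [stabCard_eq_card]
  refine Nat.card_congr ?_
  exact
    { toFun := fun x => ⟨x.1.1, x.1.2, (hP _ x.1.2).mp x.2⟩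
      invFun := fun x => ⟨⟨x.1, x.2.1⟩, (hP _ x.2.1).mpr x.2.2⟩
      left_inv := fun x => rfl
      right_inv := fun x => rfl }

variable {F : Type*} [Field F]

/-- The element `-1` of `SL₂(F)`. -/
def negOne : SL2 F := ⟨!![-1, 0; 0, -1], by simp [Matrix.det_fin_two]⟩

theorem negOne_00 : (negOne : SL2 F) 0 0 = -1 := rfl
theorem negOne_01 : (negOne : SL2 F) 0 1 = 0 := rfl
theorem negOne_10 : (negOne : SL2 F) 1 0 = 0 := rfl
theorem negOne_11 : (negOne : SL2 F) 1 1 = -1 := rfl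

theorem negOne_mul_self : (negOne : SL2 F) * negOne = 1 := by
  apply sl2_ext <;> simp only [sl2_mul_apply, negOne_00, negOne_01, negOne_10, negOne_11,
    sl2_one_00, sl2_one_01, sl2_one_10, sl2_one_11] <;> ring

theorem negOne_mul_cancel (g : SL2 F) : negOne * (negOne * g) = g := by
  rw [← mul_assoc, negOne_mul_self, one_mul]

theorem negOne_ne_one (h2 : (2 : F) ≠ 0) : (negOne : SL2 F) ≠ 1 := by
  intro h
  have h1 := congrArg (fun x : SL2 F => x 0 0) h
  simp only [negOne_00, sl2_one_00] at h1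
  apply h2
  linear_combination -h1

theorem nonscalar_of_ne (g : SL2 F) (h1 : g ≠ 1) (hn : g ≠ negOne) :
    g 0 1 ≠ 0 ∨ g 1 0 ≠ 0 ∨ g 0 0 ≠ g 1 1 := by
  by_contra hcon
  push Not at hcon
  obtain ⟨h01, h10, h00⟩ := hcon
  have hd := sl2_det' g
  rw [h01, zero_mul, sub_zero, ← h00] at hd
  have h3 : (g 0 0 - 1) * (g 0 0 + 1) = 0 := by linear_combination hd
  rcases mul_eq_zero.mp h3 with h | h
  · apply h1
    apply sl2_ext <;> simp only [sl2_one_00, sl2_one_01, sl2_one_10, sl2_one_11]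
    · linear_combination h
    · exact h01
    · exact h10
    · rw [← h00]; linear_combination h
  · apply hn
    apply sl2_ext <;> simp only [negOne_00, negOne_01, negOne_10, negOne_11]
    · linear_combination h
    · exact h01
    · exact h10
    · rw [← h00]; linear_combination h

variable [Fintype F]

/-- The elements with `tr² = 4` other than `±1` are the `±` the non-identity elements of trace
`2`. -/
theorem card_wild_odd (h2 : (2 : F) ≠ 0) (H : Subgroup (SL2 F)) (hneg : negOne ∈ H) :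
    Nat.card {g : SL2 F // g ∈ H ∧ (g ≠ 1 ∧ g ≠ negOne) ∧ (g 0 0 + g 1 1) ^ 2 = 4} =
      2 * Nat.card {g : SL2 F // g ∈ H ∧ g ≠ 1 ∧ g 0 0 + g 1 1 = 2} := by
  have h4 : (2 : F) * 2 ≠ 0 := mul_ne_zero h2 h2
  rw [natCard_subtype, natCard_subtype]
  have hsplit : Finset.univ.filter
      (fun g : SL2 F => g ∈ H ∧ (g ≠ 1 ∧ g ≠ negOne) ∧ (g 0 0 + g 1 1) ^ 2 = 4) =
      Finset.univ.filter (fun g : SL2 F => g ∈ H ∧ g ≠ 1 ∧ g 0 0 + g 1 1 = 2) ∪
      (Finset.univ.filter (fun g : SL2 F => g ∈ H ∧ g ≠ 1 ∧ g 0 0 + g 1 1 = 2)).image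
        (fun g => negOne * g) := by
    ext g
    simp only [Finset.mem_filter, Finset.mem_univ, true_and, Finset.mem_union, Finset.mem_image]
    constructor
    · rintro ⟨hg, ⟨hg1, hgn⟩, htr⟩
      have h3 : (g 0 0 + g 1 1 - 2) * (g 0 0 + g 1 1 + 2) = 0 := by linear_combination htr
      rcases mul_eq_zero.mp h3 with h | h
      · left; exact ⟨hg, hg1, by linear_combination h⟩
      · right
        refine ⟨negOne * g, ⟨H.mul_mem hneg hg, ?_, ?_⟩, negOne_mul_cancel g⟩
        · intro h1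
          apply hgn
          rw [← negOne_mul_cancel g, h1, mul_one]
        · simp only [sl2_mul_apply, negOne_00, negOne_01, negOne_10, negOne_11]
          linear_combination -h
    · rintro (⟨hg, hg1, htr⟩ | ⟨g', ⟨hg', hg1', htr'⟩, rfl⟩)
      · refine ⟨hg, ⟨hg1, ?_⟩, by rw [htr]; norm_num⟩
        rintro rfl
        rw [negOne_00, negOne_11] at htr
        apply h4
        linear_combination -htr
      · refine ⟨H.mul_mem hneg hg', ⟨?_, ?_⟩, ?_⟩
        · intro h1
          have hg'eq : g' = negOne := by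
            rw [← negOne_mul_cancel g', h1, mul_one]
          rw [hg'eq, negOne_00, negOne_11] at htr'
          apply h4
          linear_combination -htr'
        · intro h1
          apply hg1'
          rw [← negOne_mul_cancel g', h1, negOne_mul_self]
        · simp only [sl2_mul_apply, negOne_00, negOne_01, negOne_10, negOne_11]
          linear_combination (g' 0 0 + g' 1 1 + 2) * htr'
  rw [hsplit, Finset.card_union_of_disjoint,
    Finset.card_image_of_injective _ (mul_right_injective negOne), two_mul]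
  rw [Finset.disjoint_left]
  intro g hg hg'
  simp only [Finset.mem_filter, Finset.mem_univ, true_and, Finset.mem_image] at hg hg'
  obtain ⟨g', ⟨-, -, htr'⟩, rfl⟩ := hg'
  have htr := hg.2.2
  simp only [sl2_mul_apply, negOne_00, negOne_01, negOne_10, negOne_11] at htr
  apply h4
  linear_combination -htr - htr'

/-- **The counting equation in odd characteristic.**  Let `H ≤ SL₂(F)` contain `-1`, a nontrivial
`upSL t₀` and an element which is not upper triangular, and assume that the diagonal parts of the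
upper triangular elements of `H` lie in `H`.  With `A = #{t | upSL t ∈ H}`, `d` the number of
diagonal elements of `H` and `N` the index of the upper triangular subgroup,
`|H| = N A d = 2 s (2 + N (A - 2))` for some `s ≥ 2`. -/
theorem sl2_core_odd (p : ℕ) [Fact p.Prime] [CharP F p] (h2 : (2 : F) ≠ 0)
    (H : Subgroup (SL2 F)) (hneg : negOne ∈ H)
    (hB : ∀ g ∈ H, g 1 0 = 0 → ∃ h ∈ H, h 0 0 = g 0 0 ∧ h 0 1 = 0 ∧ h 1 0 = 0)
    (t₀ : F) (ht₀ : t₀ ≠ 0) (hu : upSL t₀ ∈ H) (hN : ∃ g ∈ H, g 1 0 ≠ 0) :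
    ∃ N s : ℕ, 2 ≤ N ∧ 2 ≤ s ∧
      Nat.card H = N * Nat.card {t : F // upSL t ∈ H} *
        Nat.card {g : SL2 F // g ∈ H ∧ g 0 1 = 0 ∧ g 1 0 = 0} ∧
      N * Nat.card {t : F // upSL t ∈ H} *
        Nat.card {g : SL2 F // g ∈ H ∧ g 0 1 = 0 ∧ g 1 0 = 0} =
        2 * s * (2 + N * (Nat.card {t : F // upSL t ∈ H} - 2)) := by
  obtain ⟨N, hN2, hcard, hW1⟩ := sl2_unip_count p H hB t₀ ht₀ hu hN
  have hA2 : 2 ≤ Nat.card {t : F // upSL t ∈ H} := by
    have : Nontrivial {t : F // upSL t ∈ H} :=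
      ⟨⟨⟨0, by rw [upSL_zero]; exact H.one_mem⟩, ⟨t₀, hu⟩,
        fun h => ht₀ (congrArg Subtype.val h).symm⟩⟩
    exact Finite.one_lt_card
  obtain ⟨A, hA⟩ : ∃ A, A = Nat.card {t : F // upSL t ∈ H} := ⟨_, rfl⟩
  obtain ⟨d, hd⟩ : ∃ d, d = Nat.card {g : SL2 F // g ∈ H ∧ g 0 1 = 0 ∧ g 1 0 = 0} := ⟨_, rfl⟩
  rw [← hA] at hW1 hA2
  rw [← hA, ← hd] at hcard ⊢
  have hchar : ringChar F ≠ 2 := by
    intro h
    apply h2
    have h3 := CharP.cast_eq_zero F p
    rw [← ringChar.eq F p, h] at h3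
    exact_mod_cast h3
  obtain ⟨δ, hδ⟩ := FiniteField.exists_nonsquare hchar
  have hδ0 : δ ≠ 0 := by
    rintro rfl; exact hδ ⟨0, by rw [mul_zero]⟩
  let _ : Fintype H := Fintype.ofFinite H
  obtain ⟨Z, hZ⟩ : ∃ Z : Subgroup H, ∀ x : H, x ∈ Z ↔
      (x : SL2 F) = 1 ∨ (x : SL2 F) = negOne := by
    refine ⟨{ carrier := {x : H | (x : SL2 F) = 1 ∨ (x : SL2 F) = negOne}
              mul_mem' := ?_
              one_mem' := ?_
              inv_mem' := ?_ }, fun x => Iff.rfl⟩
    · rintro a b (ha | ha) (hb | hb)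
      · left; show ((a * b : H) : SL2 F) = 1; rw [Subgroup.coe_mul, ha, hb, mul_one]
      · right; show ((a * b : H) : SL2 F) = negOne; rw [Subgroup.coe_mul, ha, hb, one_mul]
      · right; show ((a * b : H) : SL2 F) = negOne; rw [Subgroup.coe_mul, ha, hb, mul_one]
      · left; show ((a * b : H) : SL2 F) = 1; rw [Subgroup.coe_mul, ha, hb, negOne_mul_self]
    · left; rfl
    · rintro a (ha | ha)
      · left; show ((a⁻¹ : H) : SL2 F) = 1; rw [Subgroup.coe_inv, ha, inv_one]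
      · right; show ((a⁻¹ : H) : SL2 F) = negOne
        rw [Subgroup.coe_inv, ha]
        exact inv_eq_of_mul_eq_one_left negOne_mul_self
  have hne := negOne_ne_one (F := F) h2
  have hZcard : Nat.card Z = 2 := by
    rw [Nat.card_eq_two_iff]
    refine ⟨⟨1, (hZ 1).mpr (Or.inl rfl)⟩, ⟨⟨negOne, hneg⟩, (hZ _).mpr (Or.inr rfl)⟩, ?_, ?_⟩
    · intro h
      have h3 := congrArg (fun x : Z => ((x : H) : SL2 F)) h
      exact hne h3.symm
    · ext x
      simp only [Set.mem_insert_iff, Set.mem_singleton_iff, Set.mem_univ, iff_true]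
      rcases (hZ x.1).mp x.2 with h | h
      · left; apply Subtype.ext; apply Subtype.ext; exact h
      · right; apply Subtype.ext; apply Subtype.ext; exact h
  obtain ⟨W, hWdef⟩ : ∃ W : Finset H, W = Finset.univ.filter (fun g : H =>
      ((g : SL2 F) ≠ 1 ∧ (g : SL2 F) ≠ negOne) ∧
        ((g : SL2 F) 0 0 + (g : SL2 F) 1 1) ^ 2 = 4) := ⟨_, rfl⟩
  have mW : ∀ g : H, g ∈ W ↔ ((g : SL2 F) ≠ 1 ∧ (g : SL2 F) ≠ negOne) ∧
      ((g : SL2 F) 0 0 + (g : SL2 F) 1 1) ^ 2 = 4 := by
    intro g; rw [hWdef]; simp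
  have hWcard : W.card = 2 * N * (A - 1) := by
    have e1 : W.card = Nat.card {g : H // ((g : SL2 F) ≠ 1 ∧ (g : SL2 F) ≠ negOne) ∧
        ((g : SL2 F) 0 0 + (g : SL2 F) 1 1) ^ 2 = 4} := by
      rw [Nat.card_eq_fintype_card]; exact (Fintype.card_of_subtype W mW).symm
    have e2 : Nat.card {g : H // ((g : SL2 F) ≠ 1 ∧ (g : SL2 F) ≠ negOne) ∧
        ((g : SL2 F) 0 0 + (g : SL2 F) 1 1) ^ 2 = 4} =
        Nat.card {g : SL2 F // g ∈ H ∧ (g ≠ 1 ∧ g ≠ negOne) ∧ (g 0 0 + g 1 1) ^ 2 = 4} :=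
      Nat.card_congr (Equiv.subtypeSubtypeEquivSubtypeInter (fun g : SL2 F => g ∈ H)
        (fun g : SL2 F => (g ≠ 1 ∧ g ≠ negOne) ∧ (g 0 0 + g 1 1) ^ 2 = 4))
    rw [e1, e2, card_wild_odd h2 H hneg, hW1]; ring
  obtain ⟨y₀, hy₀⟩ : ∃ y₀ : TZ δ, y₀.1 = !![1, 0; 0, -1] :=
    ⟨TZ.mk !![1, 0; 0, -1] ⟨by simp [Matrix.trace_fin_two], Or.inl (by simp [Matrix.det_fin_two])⟩,
      rfl⟩
  have hstab : stabCard H y₀ = d := by
    rw [hd]
    apply stabCard_subgroup H y₀ (fun g : SL2 F => g 0 1 = 0 ∧ g 1 0 = 0)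
    intro g _
    rw [TZ.smul_eq_iff, hy₀]
    constructor
    · intro h
      have e01 := congrFun (congrFun h 0) 1
      have e10 := congrFun (congrFun h 1) 0
      simp only [mul2_apply, Matrix.of_apply, Matrix.cons_val', Matrix.cons_val_zero,
        Matrix.cons_val_one, Matrix.cons_val_fin_one] at e01 e10
      constructor
      · have h3 : 2 * g 0 1 = 0 := by linear_combination -e01
        rcases mul_eq_zero.mp h3 with h5 | h5
        · exact absurd h5 h2
        · exact h5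
      · have h3 : 2 * g 1 0 = 0 := by linear_combination e10
        rcases mul_eq_zero.mp h3 with h5 | h5
        · exact absurd h5 h2
        · exact h5
    · rintro ⟨h01, h10⟩
      apply mat2_ext <;> simp only [mul2_apply, Matrix.of_apply, Matrix.cons_val',
        Matrix.cons_val_zero, Matrix.cons_val_one, Matrix.cons_val_fin_one, h01, h10] <;> ring
  have hcardF : Fintype.card H = N * A * d := by
    rw [← Nat.card_eq_fintype_card]; exact hcard
  obtain ⟨s, hs2, hs⟩ := two_fix_core (G := H) (Y := TZ δ) Z W 2 N A d hZcard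
    (by
      intro g hg y
      show (g : SL2 F) • y = y
      rcases (hZ g).mp hg with h | h
      · rw [h, one_smul]
      · rw [h, TZ.smul_eq_iff]
        apply mat2_ext <;> simp only [mul2_apply, negOne_00, negOne_01, negOne_10, negOne_11] <;>
          ring)
    (by
      intro g hg hgZ
      have h1 := ((mW g).mp hg).1
      rcases (hZ g).mp hgZ with h | h
      · exact h1.1 h
      · exact h1.2 h)
    (by
      intro g hg y
      have h1 := (mW g).mp hg
      exact tz_not_fixed h2 hδ0 (g : SL2 F) (nonscalar_of_ne _ h1.1.1 h1.1.2) h1.2 y)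
    (by
      intro g hgZ hgW
      show fixCard (TZ δ) (g : SL2 F) = 2
      have h1 : (g : SL2 F) ≠ 1 ∧ (g : SL2 F) ≠ negOne := by
        constructor
        · intro h; exact hgZ ((hZ g).mpr (Or.inl h))
        · intro h; exact hgZ ((hZ g).mpr (Or.inr h))
      have h3 : ((g : SL2 F) 0 0 + (g : SL2 F) 1 1) ^ 2 ≠ 4 := by
        intro h; exact hgW ((mW g).mpr ⟨h1, h⟩)
      exact tz_fixCard_two h2 hδ (g : SL2 F) (nonscalar_of_ne _ h1.1 h1.2) h3)
    hWcard y₀ hstab hcardF hN2 hA2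
  exact ⟨N, s, hN2, hs2, hcard, hs⟩

end Core

end Cfsg.Agent.Lib.helper98
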