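import Mathlib
import Cfsg.Agent.Lib.helper98.SL2Fix

/-!
# Counting fixed points of `SL₂(F)` in characteristic `2`

`SL₂(F)` acts by conjugation on the set `TO ν` of matrices of trace `1` and determinant `0` or `ν`
(`ν` not of the form `x² + x`).  An element `g ≠ 1` fixes exactly two points if `tr g ≠ 0` and
none if `tr g = 0`.  This gives the counting equation `sl2_core_even`.
-/

set_option autoImplicit false

namespace Cfsg.Agent.Lib.helper98

open Matrix
open scoped Classical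

local notation "SL2" => Matrix.SpecialLinearGroup (Fin 2)
local notation "M2" => Matrix (Fin 2) (Fin 2)

section Action2

variable {F : Type*} [Field F]

/-- Matrices of trace `1` and determinant `0` or `ν`. -/
def TO (ν : F) : Type _ :=
  {J : M2 F // J.trace = 1 ∧ (J.det = 0 ∨ J.det = ν)}

/-- Constructor for `TO ν`. -/
def TO.mk {ν : F} (J : M2 F) (h : J.trace = 1 ∧ (J.det = 0 ∨ J.det = ν)) : TO ν := ⟨J, h⟩

theorem TO.mk_val {ν : F} (J : M2 F) (h : J.trace = 1 ∧ (J.det = 0 ∨ J.det = ν)) :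
    (TO.mk J h : TO ν).1 = J := rfl

instance TO.instMulAction (ν : F) : MulAction (SL2 F) (TO ν) where
  smul g J := ⟨(g : M2 F) * J.1 * ((g⁻¹ : SL2 F) : M2 F), by
    rw [Matrix.trace_mul_comm, ← Matrix.mul_assoc, sl2_inv_mul_coe, Matrix.one_mul]; exact J.2.1, by
    rw [Matrix.det_mul, Matrix.det_mul, Matrix.SpecialLinearGroup.det_coe,
      Matrix.SpecialLinearGroup.det_coe, one_mul, mul_one]; exact J.2.2⟩
  one_smul J := by
    apply Subtype.ext
    show ((1 : SL2 F) : M2 F) * J.1 * (((1 : SL2 F)⁻¹ : SL2 F) : M2 F) = J.1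
    rw [inv_one, Matrix.SpecialLinearGroup.coe_one, Matrix.one_mul, Matrix.mul_one]
  mul_smul g h J := by
    apply Subtype.ext
    show ((g * h : SL2 F) : M2 F) * J.1 * (((g * h)⁻¹ : SL2 F) : M2 F) =
      (g : M2 F) * ((h : M2 F) * J.1 * ((h⁻¹ : SL2 F) : M2 F)) * ((g⁻¹ : SL2 F) : M2 F)
    rw [_root_.mul_inv_rev, Matrix.SpecialLinearGroup.coe_mul, Matrix.SpecialLinearGroup.coe_mul]
    simp only [Matrix.mul_assoc]

theorem TO.smul_val (ν : F) (g : SL2 F) (J : TO ν) :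
    (g • J).1 = (g : M2 F) * J.1 * ((g⁻¹ : SL2 F) : M2 F) := rfl

theorem TO.smul_eq_iff {ν : F} (g : SL2 F) (J : TO ν) :
    g • J = J ↔ (g : M2 F) * J.1 = J.1 * (g : M2 F) := by
  constructor
  · intro h
    have h1 := congrArg Subtype.val h
    rw [TO.smul_val] at h1
    have h2 := congrArg (· * (g : M2 F)) h1
    simp only [Matrix.mul_assoc, sl2_inv_mul_coe, Matrix.mul_one] at h2
    exact h2
  · intro h
    apply Subtype.ext
    rw [TO.smul_val, h, Matrix.mul_assoc, sl2_mul_inv_coe, Matrix.mul_one]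

noncomputable instance TO.instFintype [Fintype F] (ν : F) : Fintype (TO ν) :=
  inferInstanceAs (Fintype {J : M2 F // J.trace = 1 ∧ (J.det = 0 ∨ J.det = ν)})

/-- The candidate fixed point `x + u g`. -/
def fixMat2 (g : SL2 F) (u x : F) : M2 F :=
  !![x + u * g 0 0, u * g 0 1; u * g 1 0, x + u * g 1 1]

theorem fixMat2_00 (g : SL2 F) (u x : F) : fixMat2 g u x 0 0 = x + u * g 0 0 := rfl
theorem fixMat2_01 (g : SL2 F) (u x : F) : fixMat2 g u x 0 1 = u * g 0 1 := rfl
theorem fixMat2_10 (g : SL2 F) (u x : F) : fixMat2 g u x 1 0 = u * g 1 0 := rfl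
theorem fixMat2_11 (g : SL2 F) (u x : F) : fixMat2 g u x 1 1 = x + u * g 1 1 := rfl

theorem fixMat2_trace (h2 : (2 : F) = 0) (g : SL2 F) (u x : F)
    (hu : u * (g 0 0 + g 1 1) = 1) : (fixMat2 g u x).trace = 1 := by
  rw [Matrix.trace_fin_two, fixMat2_00, fixMat2_11]
  linear_combination x * h2 + hu

theorem fixMat2_det (g : SL2 F) (u x : F) (hu : u * (g 0 0 + g 1 1) = 1) :
    (fixMat2 g u x).det = x ^ 2 + x + u ^ 2 := by
  have hd := sl2_det' g
  rw [Matrix.det_fin_two, fixMat2_00, fixMat2_11, fixMat2_01, fixMat2_10]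
  linear_combination x * hu + u ^ 2 * hd

theorem fixMat2_comm (g : SL2 F) (u x : F) :
    (g : M2 F) * fixMat2 g u x = fixMat2 g u x * (g : M2 F) := by
  apply mat2_ext <;> simp only [mul2_apply, fixMat2_00, fixMat2_01, fixMat2_10, fixMat2_11] <;>
    ring

/-- Shape of a fixed point of a non-scalar element of nonzero trace. -/
theorem to_fixed_eq {ν : F} (h2 : (2 : F) = 0) (g : SL2 F)
    (hns : g 0 1 ≠ 0 ∨ g 1 0 ≠ 0 ∨ g 0 0 ≠ g 1 1) (J : TO ν) (hJ : g • J = J) (u : F)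
    (hu : u * (g 0 0 + g 1 1) = 1) :
    ∃ x : F, J.1 = fixMat2 g u x ∧ (x ^ 2 + x + u ^ 2 = 0 ∨ x ^ 2 + x + u ^ 2 = ν) := by
  rw [TO.smul_eq_iff] at hJ
  obtain ⟨x, y, h00, h01, h10, h11⟩ := commutant_two hns hJ.symm
  have htr : J.1 0 0 + J.1 1 1 = 1 := by rw [← Matrix.trace_fin_two]; exact J.2.1
  have hy : y * (g 0 0 + g 1 1) = 1 := by
    linear_combination htr - h00 - h11 - x * h2
  have hyu : y = u := by
    linear_combination u * hy - y * hu
  rw [hyu] at h00 h01 h10 h11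
  have hJeq : J.1 = fixMat2 g u x := by
    apply mat2_ext
    · rw [fixMat2_00, h00]
    · rw [fixMat2_01, h01]
    · rw [fixMat2_10, h10]
    · rw [fixMat2_11, h11]
  refine ⟨x, hJeq, ?_⟩
  have hdJ := fixMat2_det g u x hu
  rw [← hJeq] at hdJ
  rcases J.2.2 with h | h
  · left; rw [← hdJ]; exact h
  · right; rw [← hdJ]; exact h

theorem to_not_fixed {ν : F} (h2 : (2 : F) = 0) (g : SL2 F)
    (hns : g 0 1 ≠ 0 ∨ g 1 0 ≠ 0 ∨ g 0 0 ≠ g 1 1)
    (ht : g 0 0 + g 1 1 = 0) (J : TO ν) : g • J ≠ J := by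
  intro hJ
  rw [TO.smul_eq_iff] at hJ
  obtain ⟨x, y, h00, h01, h10, h11⟩ := commutant_two hns hJ.symm
  have htr : J.1 0 0 + J.1 1 1 = 1 := by rw [← Matrix.trace_fin_two]; exact J.2.1
  have : (1 : F) = 0 := by
    linear_combination -htr + h00 + h11 + x * h2 + y * ht
  exact one_ne_zero this

/-- Artin–Schreier: an element `ν` not of the form `x² + x`, such that every `c` is of the form
`x² + x` or `x² + x + ν`. -/
theorem exists_artinSchreier [Fintype F] (h2 : (2 : F) = 0) :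
    ∃ ν : F, (∀ x : F, x ^ 2 + x ≠ ν) ∧
      ∀ c : F, (∃ x : F, x ^ 2 + x = c) ∨ (∃ x : F, x ^ 2 + x = c + ν) := by
  obtain ⟨℘, h℘⟩ : ∃ ℘ : F →+ F, ∀ x, ℘ x = x ^ 2 + x :=
    ⟨{ toFun := fun x => x ^ 2 + x
       map_zero' := by ring
       map_add' := fun x y => by linear_combination (x * y) * h2 }, fun x => rfl⟩
  have hker : Nat.card ℘.ker = 2 := by
    rw [Nat.card_eq_two_iff]
    refine ⟨⟨0, by rw [AddMonoidHom.mem_ker, map_zero]⟩,
      ⟨1, by rw [AddMonoidHom.mem_ker, h℘]; linear_combination h2⟩, ?_, ?_⟩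
    · intro h
      exact zero_ne_one (congrArg Subtype.val h)
    · ext x
      simp only [Set.mem_insert_iff, Set.mem_singleton_iff, Set.mem_univ, iff_true]
      have hx := x.2
      rw [AddMonoidHom.mem_ker, h℘] at hx
      have h3 : (x : F) * (x + 1) = 0 := by linear_combination hx
      rcases mul_eq_zero.mp h3 with h | h
      · left; exact Subtype.ext h
      · right
        apply Subtype.ext
        show (x : F) = 1
        linear_combination h - h2
  have hidx : ℘.range.index = 2 := by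
    have h1 := AddSubgroup.card_mul_index ℘.ker
    rw [AddSubgroup.index_ker, hker] at h1
    have h3 := AddSubgroup.card_mul_index ℘.range
    have hpos : 0 < Nat.card ℘.range := Nat.card_pos
    have h4 : Nat.card ℘.range * ℘.range.index = Nat.card ℘.range * 2 := by
      rw [h3, ← h1, mul_comm]
    exact Nat.eq_of_mul_eq_mul_left hpos h4
  obtain ⟨ν, hν⟩ : ∃ ν : F, ν ∉ ℘.range := by
    by_contra hcon
    push Not at hcon
    have h1 : ℘.range = ⊤ := by
      rw [eq_top_iff]; intro x _; exact hcon x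
    rw [h1, AddSubgroup.index_top] at hidx
    omega
  refine ⟨ν, ?_, ?_⟩
  · intro x hx
    exact hν ⟨x, by rw [h℘, hx]⟩
  · intro c
    by_cases hc : c ∈ ℘.range
    · left
      obtain ⟨x, hx⟩ := hc
      exact ⟨x, by rw [← h℘, hx]⟩
    · right
      have h1 := (AddSubgroup.add_mem_iff_of_index_two hidx (a := c) (b := ν)).mpr
        ⟨fun h => absurd h hc, fun h => absurd h hν⟩
      obtain ⟨x, hx⟩ := h1
      exact ⟨x, by rw [← h℘, hx]⟩

/-- An element `g ≠ 1` of nonzero trace has exactly two fixed points on `TO ν`. -/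
theorem to_fixCard_two [Fintype F] (h2 : (2 : F) = 0) {ν : F} (hν : ∀ x : F, x ^ 2 + x ≠ ν)
    (hν' : ∀ c : F, (∃ x : F, x ^ 2 + x = c) ∨ (∃ x : F, x ^ 2 + x = c + ν)) (g : SL2 F)
    (hns : g 0 1 ≠ 0 ∨ g 1 0 ≠ 0 ∨ g 0 0 ≠ g 1 1) (ht : g 0 0 + g 1 1 ≠ 0) :
    fixCard (TO ν) g = 2 := by
  obtain ⟨u, hu⟩ : ∃ u : F, u * (g 0 0 + g 1 1) = 1 := ⟨(g 0 0 + g 1 1)⁻¹, inv_mul_cancel₀ ht⟩
  obtain ⟨x₀, hx₀⟩ : ∃ x₀ : F, x₀ ^ 2 + x₀ + u ^ 2 = 0 ∨ x₀ ^ 2 + x₀ + u ^ 2 = ν := by
    rcases hν' (u ^ 2) with ⟨x, hx⟩ | ⟨x, hx⟩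
    · refine ⟨x, Or.inl ?_⟩
      linear_combination hx + u ^ 2 * h2
    · refine ⟨x, Or.inr ?_⟩
      linear_combination hx + u ^ 2 * h2
  have hmem : ∀ x : F, (x ^ 2 + x + u ^ 2 = 0 ∨ x ^ 2 + x + u ^ 2 = ν) →
      (fixMat2 g u x).trace = 1 ∧ ((fixMat2 g u x).det = 0 ∨ (fixMat2 g u x).det = ν) := by
    intro x hx
    refine ⟨fixMat2_trace h2 g u x hu, ?_⟩
    rw [fixMat2_det g u x hu]
    exact hx
  have hx₀' : (x₀ + 1) ^ 2 + (x₀ + 1) + u ^ 2 = 0 ∨ (x₀ + 1) ^ 2 + (x₀ + 1) + u ^ 2 = ν := by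
    rcases hx₀ with h | h
    · left; linear_combination h + (x₀ + 1) * h2
    · right; linear_combination h + (x₀ + 1) * h2
  rw [fixCard, Finset.card_eq_two]
  refine ⟨TO.mk (fixMat2 g u x₀) (hmem x₀ hx₀), TO.mk (fixMat2 g u (x₀ + 1)) (hmem _ hx₀'), ?_, ?_⟩
  · intro h
    have h' : fixMat2 g u x₀ = fixMat2 g u (x₀ + 1) := congrArg Subtype.val h
    have e00 := congrFun (congrFun h' 0) 0
    rw [fixMat2_00, fixMat2_00] at e00
    have : (1 : F) = 0 := by linear_combination -e00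
    exact one_ne_zero this
  · ext J
    rw [Finset.mem_filter, Finset.mem_insert, Finset.mem_singleton]
    constructor
    · rintro ⟨-, hJ⟩
      obtain ⟨x, hJx, hx⟩ := to_fixed_eq h2 g hns J hJ u hu
      have hxx : (x - x₀) * (x - x₀ - 1) = 0 := by
        rcases hx with h | h <;> rcases hx₀ with h' | h'
        · linear_combination h - h' + (-(x * x₀) + x₀ ^ 2 - x + x₀) * h2
        · exfalso
          apply hν (x + x₀)
          linear_combination h' - h + (x * x₀ + x ^ 2 + x) * h2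
        · exfalso
          apply hν (x + x₀)
          linear_combination h - h' + (x * x₀ + x₀ ^ 2 + x₀) * h2
        · linear_combination h - h' + (-(x * x₀) + x₀ ^ 2 - x + x₀) * h2
      rcases mul_eq_zero.mp hxx with h6 | h6
      · left
        apply Subtype.ext
        rw [hJx, TO.mk_val]
        have : x = x₀ := by linear_combination h6
        rw [this]
      · right
        apply Subtype.ext
        rw [hJx, TO.mk_val]
        have : x = x₀ + 1 := by linear_combination h6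
        rw [this]
    · rintro (rfl | rfl)
      · exact ⟨Finset.mem_univ _, (TO.smul_eq_iff _ _).mpr (fixMat2_comm g u x₀)⟩
      · exact ⟨Finset.mem_univ _, (TO.smul_eq_iff _ _).mpr (fixMat2_comm g u (x₀ + 1))⟩

end Action2

section Core2

variable {F : Type*} [Field F] [Fintype F]

omit [Fintype F] in
theorem negOne_eq_one (h2 : (2 : F) = 0) : (negOne : SL2 F) = 1 := by
  apply sl2_ext <;> simp only [negOne_00, negOne_01, negOne_10, negOne_11, sl2_one_00, sl2_one_01,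
    sl2_one_10, sl2_one_11]
  · linear_combination -h2
  · linear_combination -h2

omit [Fintype F] in
theorem nonscalar_of_ne_one (h2 : (2 : F) = 0) (g : SL2 F) (h1 : g ≠ 1) :
    g 0 1 ≠ 0 ∨ g 1 0 ≠ 0 ∨ g 0 0 ≠ g 1 1 :=
  nonscalar_of_ne g h1 (by rw [negOne_eq_one h2]; exact h1)

/-- **The counting equation in characteristic `2`.**  Let `H ≤ SL₂(F)` contain a nontrivial
`upSL t₀` and an element which is not upper triangular, and assume that the diagonal parts of the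
upper triangular elements of `H` lie in `H`.  With `A = #{t | upSL t ∈ H}`, `d` the number of
diagonal elements of `H` and `N` the index of the upper triangular subgroup,
`|H| = N A d = s (2 + N (A - 2))` for some `s ≥ 2`. -/
theorem sl2_core_even (p : ℕ) [Fact p.Prime] [CharP F p] (h2 : (2 : F) = 0)
    (H : Subgroup (SL2 F))
    (hB : ∀ g ∈ H, g 1 0 = 0 → ∃ h ∈ H, h 0 0 = g 0 0 ∧ h 0 1 = 0 ∧ h 1 0 = 0)
    (t₀ : F) (ht₀ : t₀ ≠ 0) (hu : upSL t₀ ∈ H) (hN : ∃ g ∈ H, g 1 0 ≠ 0) :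
    ∃ N s : ℕ, 2 ≤ N ∧ 2 ≤ s ∧
      Nat.card H = N * Nat.card {t : F // upSL t ∈ H} *
        Nat.card {g : SL2 F // g ∈ H ∧ g 0 1 = 0 ∧ g 1 0 = 0} ∧
      N * Nat.card {t : F // upSL t ∈ H} *
        Nat.card {g : SL2 F // g ∈ H ∧ g 0 1 = 0 ∧ g 1 0 = 0} =
        s * (2 + N * (Nat.card {t : F // upSL t ∈ H} - 2)) := by
  obtain ⟨N, hN2, hcard, hW1⟩ := sl2_unip_count p H hB t₀ ht₀ hu hN
  have hA2 : 2 ≤ Nat.card {t : F // upSL t ∈ H} := by
    have : Nontrivial {t : F // upSL t ∈ H} :=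
      ⟨⟨⟨0, by rw [upSL_zero]; exact H.one_mem⟩, ⟨t₀, hu⟩,
        fun h => ht₀ (congrArg Subtype.val h).symm⟩⟩
    exact Finite.one_lt_card
  obtain ⟨A, hA⟩ : ∃ A, A = Nat.card {t : F // upSL t ∈ H} := ⟨_, rfl⟩
  obtain ⟨d, hd⟩ : ∃ d, d = Nat.card {g : SL2 F // g ∈ H ∧ g 0 1 = 0 ∧ g 1 0 = 0} := ⟨_, rfl⟩
  rw [← hA] at hW1 hA2
  rw [← hA, ← hd] at hcard ⊢
  obtain ⟨ν, hν, hν'⟩ := exists_artinSchreier (F := F) h2
  let _ : Fintype H := Fintype.ofFinite H
  obtain ⟨W, hWdef⟩ : ∃ W : Finset H, W = Finset.univ.filter (fun g : H =>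
      (g : SL2 F) ≠ 1 ∧ (g : SL2 F) 0 0 + (g : SL2 F) 1 1 = 2) := ⟨_, rfl⟩
  have mW : ∀ g : H, g ∈ W ↔ (g : SL2 F) ≠ 1 ∧ (g : SL2 F) 0 0 + (g : SL2 F) 1 1 = 2 := by
    intro g; rw [hWdef]; simp
  have hWcard : W.card = 1 * N * (A - 1) := by
    have e1 : W.card = Nat.card {g : H // (g : SL2 F) ≠ 1 ∧
        (g : SL2 F) 0 0 + (g : SL2 F) 1 1 = 2} := by
      rw [Nat.card_eq_fintype_card]; exact (Fintype.card_of_subtype W mW).symm
    have e2 : Nat.card {g : H // (g : SL2 F) ≠ 1 ∧ (g : SL2 F) 0 0 + (g : SL2 F) 1 1 = 2} =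
        Nat.card {g : SL2 F // g ∈ H ∧ g ≠ 1 ∧ g 0 0 + g 1 1 = 2} :=
      Nat.card_congr (Equiv.subtypeSubtypeEquivSubtypeInter (fun g : SL2 F => g ∈ H)
        (fun g : SL2 F => g ≠ 1 ∧ g 0 0 + g 1 1 = 2))
    rw [e1, e2, hW1, one_mul]
  obtain ⟨y₀, hy₀⟩ : ∃ y₀ : TO ν, y₀.1 = !![1, 0; 0, 0] :=
    ⟨TO.mk !![1, 0; 0, 0] ⟨by simp [Matrix.trace_fin_two], Or.inl (by simp [Matrix.det_fin_two])⟩,
      rfl⟩
  have hstab : stabCard H y₀ = d := by
    rw [hd]
    apply stabCard_subgroup H y₀ (fun g : SL2 F => g 0 1 = 0 ∧ g 1 0 = 0)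
    intro g _
    rw [TO.smul_eq_iff, hy₀]
    constructor
    · intro h
      have e01 := congrFun (congrFun h 0) 1
      have e10 := congrFun (congrFun h 1) 0
      simp only [mul2_apply, Matrix.of_apply, Matrix.cons_val', Matrix.cons_val_zero,
        Matrix.cons_val_one, Matrix.cons_val_fin_one] at e01 e10
      constructor
      · linear_combination -e01
      · linear_combination e10
    · rintro ⟨h01, h10⟩
      apply mat2_ext <;> simp only [mul2_apply, Matrix.of_apply, Matrix.cons_val',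
        Matrix.cons_val_zero, Matrix.cons_val_one, Matrix.cons_val_fin_one, h01, h10] <;> ring
  have hcardF : Fintype.card H = N * A * d := by
    rw [← Nat.card_eq_fintype_card]; exact hcard
  obtain ⟨s, hs2, hs⟩ := two_fix_core (G := H) (Y := TO ν) ⊥ W 1 N A d Subgroup.card_bot
    (by
      intro g hg y
      rw [Subgroup.mem_bot] at hg
      rw [hg, one_smul])
    (by
      intro g hg hgZ
      rw [Subgroup.mem_bot] at hgZ
      apply ((mW g).mp hg).1
      rw [hgZ]; rfl)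
    (by
      intro g hg y
      have h1 := (mW g).mp hg
      exact to_not_fixed h2 (g : SL2 F) (nonscalar_of_ne_one h2 _ h1.1)
        (by rw [h1.2]; exact h2) y)
    (by
      intro g hgZ hgW
      show fixCard (TO ν) (g : SL2 F) = 2
      have h1 : (g : SL2 F) ≠ 1 := by
        intro h
        apply hgZ
        rw [Subgroup.mem_bot]
        exact Subtype.ext h
      have h3 : (g : SL2 F) 0 0 + (g : SL2 F) 1 1 ≠ 0 := by
        intro h
        exact hgW ((mW g).mpr ⟨h1, by rw [h, h2]⟩)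
      exact to_fixCard_two h2 hν hν' (g : SL2 F) (nonscalar_of_ne_one h2 _ h1) h3)
    hWcard y₀ hstab hcardF hN2 hA2
  rw [one_mul] at hs
  exact ⟨N, s, hN2, hs2, hcard, hs⟩

end Core2

end Cfsg.Agent.Lib.helper98
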