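import Cfsg.Agent.Lib.helper98.TwoFix2
import Cfsg.Agent.Lib.helper98.SL2Fix
import Cfsg.Agent.Lib.helper98.SL2Fix2

/-!
# Subgroups of `SL₂(q)` without unipotent elements

`tame_odd` and `tame_even`: a subgroup `H` of `SL₂(F)` (containing `-1` if the characteristic is
odd) with no nontrivial element of trace `2` either fixes a point of `TZ δ` / `TO ν` (so is
abelian, `tz_stab_comm` / `to_stab_comm`, of order at most `2q`), or has a point stabilizer of
index `2`, or has order `24`, `48` or `120` with point stabilizers of order at most `6`, `8`, `10`.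
-/

set_option autoImplicit false

namespace Cfsg.Agent.Lib.helper98

open Matrix
open scoped Classical

local notation "SL2" => Matrix.SpecialLinearGroup (Fin 2)
local notation "M2" => Matrix (Fin 2) (Fin 2)

section Stab

variable {F : Type*} [Field F]

theorem tz_nonscalar (h2 : (2 : F) ≠ 0) {δ : F} (hδ : δ ≠ 0) (J : TZ δ) :
    J.1 0 1 ≠ 0 ∨ J.1 1 0 ≠ 0 ∨ J.1 0 0 ≠ J.1 1 1 := by
  by_contra hcon
  push Not at hcon
  obtain ⟨h01, h10, h00⟩ := hcon
  have htr : J.1 0 0 + J.1 1 1 = 0 := by rw [← Matrix.trace_fin_two]; exact J.2.1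
  have h0 : J.1 0 0 = 0 := by
    have : 2 * J.1 0 0 = 0 := by linear_combination htr + h00
    rcases mul_eq_zero.mp this with h | h
    · exact absurd h h2
    · exact h
  have hdet : J.1.det = 0 := by
    rw [Matrix.det_fin_two, h01, h0]; ring
  rcases J.2.2 with h | h
  · rw [hdet] at h
    have : (1 : F) = 0 := by linear_combination h
    exact one_ne_zero this
  · rw [hdet] at h
    apply hδ
    linear_combination h

theorem to_nonscalar (h2 : (2 : F) = 0) {ν : F} (J : TO ν) :
    J.1 0 1 ≠ 0 ∨ J.1 1 0 ≠ 0 ∨ J.1 0 0 ≠ J.1 1 1 := by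
  right; right
  intro h00
  have htr : J.1 0 0 + J.1 1 1 = 1 := by rw [← Matrix.trace_fin_two]; exact J.2.1
  have : (1 : F) = 0 := by linear_combination -htr + h00 + J.1 1 1 * h2
  exact one_ne_zero this

/-- Elements commuting with a fixed non-scalar matrix commute with each other. -/
theorem comm_of_commutant {J : M2 F} (hJ : J 0 1 ≠ 0 ∨ J 1 0 ≠ 0 ∨ J 0 0 ≠ J 1 1) (g h : SL2 F)
    (hg : (g : M2 F) * J = J * (g : M2 F)) (hh : (h : M2 F) * J = J * (h : M2 F)) :
    g * h = h * g := by
  obtain ⟨x, y, a00, a01, a10, a11⟩ := commutant_two hJ hg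
  obtain ⟨x', y', b00, b01, b10, b11⟩ := commutant_two hJ hh
  apply sl2_ext <;> simp only [sl2_mul_apply, a00, a01, a10, a11, b00, b01, b10, b11] <;> ring

theorem tz_stab_comm (h2 : (2 : F) ≠ 0) {δ : F} (hδ : δ ≠ 0) (J : TZ δ) (g h : SL2 F)
    (hg : g • J = J) (hh : h • J = J) : g * h = h * g :=
  comm_of_commutant (tz_nonscalar h2 hδ J) g h ((TZ.smul_eq_iff g J).mp hg)
    ((TZ.smul_eq_iff h J).mp hh)

theorem to_stab_comm (h2 : (2 : F) = 0) {ν : F} (J : TO ν) (g h : SL2 F)
    (hg : g • J = J) (hh : h • J = J) : g * h = h * g :=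
  comm_of_commutant (to_nonscalar h2 J) g h ((TO.smul_eq_iff g J).mp hg)
    ((TO.smul_eq_iff h J).mp hh)

/-- Two elements of the stabilizer of `J : TZ δ` with the same trace are equal or inverse. -/
theorem tz_fiber (h2 : (2 : F) ≠ 0) {δ : F} (hδ : δ ≠ 0) (J : TZ δ) (g g' : SL2 F)
    (hg : g • J = J) (hg' : g' • J = J) (htr : g 0 0 + g 1 1 = g' 0 0 + g' 1 1) :
    g' = g ∨ g' = g⁻¹ := by
  obtain ⟨x, y, a00, a01, a10, a11⟩ := commutant_two (tz_nonscalar h2 hδ J)
    ((TZ.smul_eq_iff g J).mp hg)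
  obtain ⟨x', y', b00, b01, b10, b11⟩ := commutant_two (tz_nonscalar h2 hδ J)
    ((TZ.smul_eq_iff g' J).mp hg')
  have hJtr : J.1 0 0 + J.1 1 1 = 0 := by rw [← Matrix.trace_fin_two]; exact J.2.1
  have hD : J.1 0 0 * J.1 1 1 - J.1 0 1 * J.1 1 0 ≠ 0 := by
    rw [← Matrix.det_fin_two]
    rcases J.2.2 with h | h
    · rw [h]; exact neg_ne_zero.mpr one_ne_zero
    · rw [h]; exact neg_ne_zero.mpr hδ
  have hx : x = x' := by
    have : 2 * (x - x') = 0 := by
      linear_combination htr - a00 - a11 + b00 + b11 - (y - y') * hJtr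
    rcases mul_eq_zero.mp this with h | h
    · exact absurd h h2
    · linear_combination h
  subst hx
  have d1 := sl2_det' g
  have d2 := sl2_det' g'
  rw [a00, a01, a10, a11] at d1
  rw [b00, b01, b10, b11] at d2
  have hy : (y - y') * (y + y') * (J.1 0 0 * J.1 1 1 - J.1 0 1 * J.1 1 0) = 0 := by
    linear_combination d1 - d2 - x * (y - y') * hJtr
  rcases mul_eq_zero.mp hy with h | h
  · rcases mul_eq_zero.mp h with h | h
    · left
      have hyy : y = y' := by linear_combination h
      subst hyy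
      apply sl2_ext
      · rw [a00, b00]
      · rw [a01, b01]
      · rw [a10, b10]
      · rw [a11, b11]
    · right
      have hyy : y' = -y := by linear_combination h
      subst hyy
      apply sl2_ext
      · rw [sl2_inv_00, a11, b00]; linear_combination -y * hJtr
      · rw [sl2_inv_01, a01, b01]; ring
      · rw [sl2_inv_10, a10, b10]; ring
      · rw [sl2_inv_11, a00, b11]; linear_combination -y * hJtr
  · exact absurd h hD

/-- Two elements of the stabilizer of `J : TO ν` with the same trace are equal or inverse. -/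
theorem to_fiber (h2 : (2 : F) = 0) {ν : F} (J : TO ν) (g g' : SL2 F)
    (hg : g • J = J) (hg' : g' • J = J) (htr : g 0 0 + g 1 1 = g' 0 0 + g' 1 1) :
    g' = g ∨ g' = g⁻¹ := by
  obtain ⟨x, y, a00, a01, a10, a11⟩ := commutant_two (to_nonscalar h2 J)
    ((TO.smul_eq_iff g J).mp hg)
  obtain ⟨x', y', b00, b01, b10, b11⟩ := commutant_two (to_nonscalar h2 J)
    ((TO.smul_eq_iff g' J).mp hg')
  have hJtr : J.1 0 0 + J.1 1 1 = 1 := by rw [← Matrix.trace_fin_two]; exact J.2.1
  have hy : y = y' := by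
    linear_combination htr - a00 - a11 + b00 + b11 - (y - y') * (hJtr) - (x - x') * h2
  subst hy
  have d1 := sl2_det' g
  have d2 := sl2_det' g'
  rw [a00, a01, a10, a11] at d1
  rw [b00, b01, b10, b11] at d2
  have hxx : (x - x') * (x + x' + y) = 0 := by
    linear_combination d1 - d2 - (x - x') * y * hJtr
  rcases mul_eq_zero.mp hxx with h | h
  · left
    have hx : x = x' := by linear_combination h
    subst hx
    apply sl2_ext
    · rw [a00, b00]
    · rw [a01, b01]
    · rw [a10, b10]
    · rw [a11, b11]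
  · right
    apply sl2_ext
    · rw [sl2_inv_00, a11, b00]
      linear_combination h - y * hJtr + (y * J.1 0 0 - x - y) * h2
    · rw [sl2_inv_01, a01, b01]; linear_combination (y * J.1 0 1) * h2
    · rw [sl2_inv_10, a10, b10]; linear_combination (y * J.1 1 0) * h2
    · rw [sl2_inv_11, a00, b11]
      linear_combination h - y * hJtr + (y * J.1 1 1 - x - y) * h2

variable [Fintype F]

/-- A subgroup in which elements of equal trace are equal or inverse has at most two elements of
each trace. -/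
theorem card_trace_le_two (S : Subgroup (SL2 F))
    (hfib : ∀ g ∈ S, ∀ g' ∈ S, g 0 0 + g 1 1 = g' 0 0 + g' 1 1 → g' = g ∨ g' = g⁻¹) (t : F) :
    ((Finset.univ.filter (fun g : SL2 F => g ∈ S)).filter (fun g => g 0 0 + g 1 1 = t)).card
      ≤ 2 := by
  by_cases hne : ((Finset.univ.filter (fun g : SL2 F => g ∈ S)).filter
      (fun g => g 0 0 + g 1 1 = t)).Nonempty
  · obtain ⟨g, hg⟩ := hne
    simp only [Finset.mem_filter, Finset.mem_univ, true_and] at hg
    have hsub : (Finset.univ.filter (fun g : SL2 F => g ∈ S)).filter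
        (fun g => g 0 0 + g 1 1 = t) ⊆ {g, g⁻¹} := by
      intro g' hg'
      simp only [Finset.mem_filter, Finset.mem_univ, true_and] at hg'
      simp only [Finset.mem_insert, Finset.mem_singleton]
      exact hfib g hg.1 g' hg'.1 (by rw [hg.2, hg'.2])
    exact (Finset.card_le_card hsub).trans Finset.card_le_two
  · rw [Finset.not_nonempty_iff_eq_empty] at hne
    rw [hne, Finset.card_empty]; norm_num

/-- A subgroup in which elements of equal trace are equal or inverse has order at most `2q`. -/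
theorem card_le_of_fiber (S : Subgroup (SL2 F))
    (hfib : ∀ g ∈ S, ∀ g' ∈ S, g 0 0 + g 1 1 = g' 0 0 + g' 1 1 → g' = g ∨ g' = g⁻¹) :
    Nat.card S ≤ 2 * Fintype.card F := by
  have h1 : Nat.card S = (Finset.univ.filter (fun g : SL2 F => g ∈ S)).card := by
    rw [Nat.card_eq_fintype_card, Fintype.card_subtype]
  rw [h1]
  have h2 := Finset.card_le_mul_card_image (f := fun g : SL2 F => g 0 0 + g 1 1)
    (Finset.univ.filter (fun g : SL2 F => g ∈ S)) 2 (fun t _ => card_trace_le_two S hfib t)
  refine h2.trans (Nat.mul_le_mul_left 2 ?_)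
  exact Finset.card_le_univ _

theorem tz_stab_card_le (h2 : (2 : F) ≠ 0) {δ : F} (hδ : δ ≠ 0) (J : TZ δ)
    (S : Subgroup (SL2 F)) (hS : S ≤ MulAction.stabilizer (SL2 F) J) :
    Nat.card S ≤ 2 * Fintype.card F :=
  card_le_of_fiber S (fun g hg g' hg' htr => tz_fiber h2 hδ J g g'
    (MulAction.mem_stabilizer_iff.mp (hS hg)) (MulAction.mem_stabilizer_iff.mp (hS hg')) htr)

theorem to_stab_card_le (h2 : (2 : F) = 0) {ν : F} (J : TO ν)
    (S : Subgroup (SL2 F)) (hS : S ≤ MulAction.stabilizer (SL2 F) J) :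
    Nat.card S ≤ 2 * Fintype.card F :=
  card_le_of_fiber S (fun g hg g' hg' htr => to_fiber h2 J g g'
    (MulAction.mem_stabilizer_iff.mp (hS hg)) (MulAction.mem_stabilizer_iff.mp (hS hg')) htr)

end Stab

section TameThm

/-- The stabilizer count of a subgroup as the order of an intersection. -/
theorem stabCard_eq_inf {G : Type*} [Group G] {Y : Type*} [Fintype Y] [MulAction G Y]
    (H : Subgroup G) [Fintype H] (y : Y) :
    stabCard H y = Nat.card ↥(H ⊓ MulAction.stabilizer G y) := by
  rw [stabCard_subgroup H y (fun g => g • y = y) (fun g _ => Iff.rfl)]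
  exact Nat.card_congr (Equiv.subtypeEquivRight (fun g => by
    rw [Subgroup.mem_inf, MulAction.mem_stabilizer_iff]))

variable {F : Type*} [Field F] [Fintype F]

/-- **Tame subgroups in odd characteristic.** -/
theorem tame_odd (h2 : (2 : F) ≠ 0) {δ : F} (hδ : ¬ IsSquare δ) (H : Subgroup (SL2 F))
    (hneg : negOne ∈ H) (htame : ∀ g ∈ H, g 0 0 + g 1 1 = 2 → g = 1) :
    Nat.card H = 2 ∨ (∃ J : TZ δ, H ≤ MulAction.stabilizer (SL2 F) J) ∨
    (∃ J : TZ δ, 2 * Nat.card ↥(H ⊓ MulAction.stabilizer (SL2 F) J) = Nat.card H) ∨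
    (Nat.card H = 24 ∧ (∀ J : TZ δ, Nat.card ↥(H ⊓ MulAction.stabilizer (SL2 F) J) ≤ 6) ∧
      ∃ J : TZ δ, Nat.card ↥(H ⊓ MulAction.stabilizer (SL2 F) J) = 6) ∨
    (Nat.card H = 48 ∧ (∀ J : TZ δ, Nat.card ↥(H ⊓ MulAction.stabilizer (SL2 F) J) ≤ 8) ∧
      ∃ J : TZ δ, Nat.card ↥(H ⊓ MulAction.stabilizer (SL2 F) J) = 8) ∨
    (Nat.card H = 120 ∧ (∀ J : TZ δ, Nat.card ↥(H ⊓ MulAction.stabilizer (SL2 F) J) ≤ 10) ∧
      ∃ J : TZ δ, Nat.card ↥(H ⊓ MulAction.stabilizer (SL2 F) J) = 10) := by
  have hδ0 : δ ≠ 0 := by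
    rintro rfl; exact hδ ⟨0, by rw [mul_zero]⟩
  let _ : Fintype H := Fintype.ofFinite H
  obtain ⟨Z, hZ⟩ : ∃ Z : Subgroup H, ∀ x : H, x ∈ Z ↔
      (x : SL2 F) = 1 ∨ (x : SL2 F) = negOne := by
    refine ⟨{ carrier := {x : H | (x : SL2 F) = 1 ∨ (x : SL2 F) = negOne}
              mul_mem' := ?_
              one_mem' := ?_
              inv_mem' := ?_ }, fun x => Iff.rfl⟩
    · rintro a b (ha | ha) (hb | hb)
      · left; show ((a * b : H) : SL2 F) = 1; rw [Subgroup.coe_mul, ha, hb, mul_one]
      · right; show ((a * b : H) : SL2 F) = negOne; rw [Subgroup.coe_mul, ha, hb, one_mul]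
      · right; show ((a * b : H) : SL2 F) = negOne; rw [Subgroup.coe_mul, ha, hb, mul_one]
      · left; show ((a * b : H) : SL2 F) = 1; rw [Subgroup.coe_mul, ha, hb, negOne_mul_self]
    · left; rfl
    · rintro a (ha | ha)
      · left; show ((a⁻¹ : H) : SL2 F) = 1; rw [Subgroup.coe_inv, ha, inv_one]
      · right; show ((a⁻¹ : H) : SL2 F) = negOne
        rw [Subgroup.coe_inv, ha]
        exact inv_eq_of_mul_eq_one_left negOne_mul_self
  have hne := negOne_ne_one (F := F) h2
  have hZcard : Nat.card Z = 2 := by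
    rw [Nat.card_eq_two_iff]
    refine ⟨⟨1, (hZ 1).mpr (Or.inl rfl)⟩, ⟨⟨negOne, hneg⟩, (hZ _).mpr (Or.inr rfl)⟩, ?_, ?_⟩
    · intro h
      have h3 := congrArg (fun x : Z => ((x : H) : SL2 F)) h
      exact hne h3.symm
    · ext x
      simp only [Set.mem_insert_iff, Set.mem_singleton_iff, Set.mem_univ, iff_true]
      rcases (hZ x.1).mp x.2 with h | h
      · left; apply Subtype.ext; apply Subtype.ext; exact h
      · right; apply Subtype.ext; apply Subtype.ext; exact h
  have key := tame_core (G := H) (Y := TZ δ) Z 2 hZcard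
    (by
      intro g hg y
      show (g : SL2 F) • y = y
      rcases (hZ g).mp hg with h | h
      · rw [h, one_smul]
      · rw [h, TZ.smul_eq_iff]
        apply mat2_ext <;> simp only [mul2_apply, negOne_00, negOne_01, negOne_10, negOne_11] <;>
          ring)
    (by
      intro g hgZ
      show fixCard (TZ δ) (g : SL2 F) = 2
      have h1 : (g : SL2 F) ≠ 1 ∧ (g : SL2 F) ≠ negOne := by
        constructor
        · intro h; exact hgZ ((hZ g).mpr (Or.inl h))
        · intro h; exact hgZ ((hZ g).mpr (Or.inr h))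
      have h3 : ((g : SL2 F) 0 0 + (g : SL2 F) 1 1) ^ 2 ≠ 4 := by
        intro h
        have h4 : ((g : SL2 F) 0 0 + (g : SL2 F) 1 1 - 2) *
            ((g : SL2 F) 0 0 + (g : SL2 F) 1 1 + 2) = 0 := by linear_combination h
        rcases mul_eq_zero.mp h4 with h5 | h5
        · exact h1.1 (htame _ g.2 (by linear_combination h5))
        · have h6 := htame (negOne * (g : SL2 F)) (H.mul_mem hneg g.2) (by
            simp only [sl2_mul_apply, negOne_00, negOne_01, negOne_10, negOne_11]
            linear_combination -h5)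
          apply h1.2
          rw [← negOne_mul_cancel (g : SL2 F), h6, mul_one]
      exact tz_fixCard_two h2 hδ (g : SL2 F) (nonscalar_of_ne _ h1.1 h1.2) h3)
  simp only [stabCard_eq_inf, ← Nat.card_eq_fintype_card] at key
  rcases key with h | ⟨J, hJ⟩ | h | h | h | h
  · left; exact h
  · right; left
    refine ⟨J, ?_⟩
    have := Subgroup.eq_of_le_of_card_ge (inf_le_left : H ⊓ MulAction.stabilizer (SL2 F) J ≤ H)
      (le_of_eq hJ.symm)
    exact inf_eq_left.mp this
  · right; right; left; exact h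
  · right; right; right; left; exact h
  · right; right; right; right; left; exact h
  · right; right; right; right; right; exact h

omit [Fintype F] in
/-- An involution of `SL₂(F)` in characteristic `2` has trace `0`. -/
theorem trace_of_sq_eq_one (h2 : (2 : F) = 0) (g : SL2 F) (hg : g * g = 1) :
    g 0 0 + g 1 1 = 2 ∨ g = 1 := by
  by_cases ht : g 0 0 + g 1 1 = 0
  · left; rw [ht, h2]
  · right
    have e01 := congrArg (fun x : SL2 F => x 0 1) hg
    have e10 := congrArg (fun x : SL2 F => x 1 0) hg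
    have e00 := congrArg (fun x : SL2 F => x 0 0) hg
    have e11 := congrArg (fun x : SL2 F => x 1 1) hg
    simp only [sl2_mul_apply, sl2_one_00, sl2_one_01, sl2_one_10, sl2_one_11] at e00 e01 e10 e11
    have h01 : g 0 1 = 0 := by
      have : g 0 1 * (g 0 0 + g 1 1) = 0 := by linear_combination e01
      rcases mul_eq_zero.mp this with h | h
      · exact h
      · exact absurd h ht
    have h10 : g 1 0 = 0 := by
      have : g 1 0 * (g 0 0 + g 1 1) = 0 := by linear_combination e10
      rcases mul_eq_zero.mp this with h | h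
      · exact h
      · exact absurd h ht
    have h00 : g 0 0 = 1 := by
      have : (g 0 0 - 1) * (g 0 0 - 1) = 0 := by
        linear_combination e00 - g 0 1 * h10 - g 0 0 * h2 + h2
      rcases mul_eq_zero.mp this with h | h <;> linear_combination h
    have h11 : g 1 1 = 1 := by
      have : (g 1 1 - 1) * (g 1 1 - 1) = 0 := by
        linear_combination e11 - g 1 0 * h01 - g 1 1 * h2 + h2
      rcases mul_eq_zero.mp this with h | h <;> linear_combination h
    apply sl2_ext <;> simp only [sl2_one_00, sl2_one_01, sl2_one_10, sl2_one_11]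
    · exact h00
    · exact h01
    · exact h10
    · exact h11

/-- A tame subgroup in characteristic `2` has odd order. -/
theorem tame_even_odd_card (h2 : (2 : F) = 0) (H : Subgroup (SL2 F))
    (htame : ∀ g ∈ H, g 0 0 + g 1 1 = 2 → g = 1) : ¬ 2 ∣ Nat.card H := by
  intro hdvd
  obtain ⟨g, hg⟩ := exists_prime_orderOf_dvd_card' (G := H) 2 hdvd
  have hg2 : g * g = 1 := by
    have h3 := pow_orderOf_eq_one g
    rw [hg] at h3
    rw [← pow_two]; exact h3
  have hg1 : g ≠ 1 := by
    intro h
    rw [h, orderOf_one] at hg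
    norm_num at hg
  have hg2' : (g : SL2 F) * (g : SL2 F) = 1 := by
    have := congrArg (fun x : H => (x : SL2 F)) hg2
    simpa using this
  have hg1' : (g : SL2 F) ≠ 1 := fun h => hg1 (Subtype.ext h)
  rcases trace_of_sq_eq_one h2 (g : SL2 F) hg2' with h | h
  · exact hg1' (htame _ g.2 h)
  · exact hg1' h

/-- **Tame subgroups in characteristic `2`.** -/
theorem tame_even (h2 : (2 : F) = 0) {ν : F} (hν : ∀ x : F, x ^ 2 + x ≠ ν)
    (hν' : ∀ c : F, (∃ x : F, x ^ 2 + x = c) ∨ (∃ x : F, x ^ 2 + x = c + ν))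
    (H : Subgroup (SL2 F)) (htame : ∀ g ∈ H, g 0 0 + g 1 1 = 2 → g = 1) :
    Nat.card H = 1 ∨ ∃ J : TO ν, H ≤ MulAction.stabilizer (SL2 F) J := by
  have hodd := tame_even_odd_card h2 H htame
  let _ : Fintype H := Fintype.ofFinite H
  have key := tame_core (G := H) (Y := TO ν) ⊥ 1 Subgroup.card_bot
    (by
      intro g hg y
      rw [Subgroup.mem_bot] at hg
      rw [hg, one_smul])
    (by
      intro g hgZ
      show fixCard (TO ν) (g : SL2 F) = 2
      have h1 : (g : SL2 F) ≠ 1 := by
        intro h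
        apply hgZ
        rw [Subgroup.mem_bot]
        exact Subtype.ext h
      have h3 : (g : SL2 F) 0 0 + (g : SL2 F) 1 1 ≠ 0 := by
        intro h
        exact h1 (htame _ g.2 (by rw [h, h2]))
      exact to_fixCard_two h2 hν hν' (g : SL2 F) (nonscalar_of_ne_one h2 _ h1) h3)
  simp only [stabCard_eq_inf, ← Nat.card_eq_fintype_card] at key
  rcases key with h | ⟨J, hJ⟩ | ⟨J, hJ⟩ | h | h | h
  · left; exact h
  · right
    refine ⟨J, ?_⟩
    have := Subgroup.eq_of_le_of_card_ge (inf_le_left : H ⊓ MulAction.stabilizer (SL2 F) J ≤ H)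
      (le_of_eq hJ.symm)
    exact inf_eq_left.mp this
  · exact absurd (Dvd.intro _ hJ) hodd
  · exact absurd (by rw [h.1]; norm_num) hodd
  · exact absurd (by rw [h.1]; norm_num) hodd
  · exact absurd (by rw [h.1]; norm_num) hodd

end TameThm

end Cfsg.Agent.Lib.helper98
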