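import Cfsg.Agent.Lib.helper98.SL2Fix
import Cfsg.Agent.Lib.helper98.SL2Fix2
import Cfsg.Agent.Lib.helper7.CardSL

/-!
# Subgroups of `SL₂(q)` containing unipotent elements: orders

`wild_orders`: a subgroup `H` of `SL₂(F)` containing `-1` and a nontrivial element of trace `2`
is conjugate to a group of upper triangular matrices, or its order is one of
`2N` (`p = 2`, `N ≤ q + 1`), `A(A² - 1)`, `2A(A² - 1)` (for `A ∣ q` with `A - 1 ∣ q - 1`), or
`120` (`p = 3`).
-/

set_option autoImplicit false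
set_option linter.unusedSimpArgs false

namespace Cfsg.Agent.Lib.helper98

open Matrix
open scoped Classical

local notation "SL2" => Matrix.SpecialLinearGroup (Fin 2)
local notation "M2" => Matrix (Fin 2) (Fin 2)

section WildArith

/-- The arithmetic of the counting equation. -/
theorem wild_arith (N A d' s : ℕ) (hN : 3 ≤ N) (hA : 2 ≤ A) (hs : 2 ≤ s) (hd : d' ∣ A - 1)
    (hE : N * A * d' = s * (2 + N * (A - 2))) :
    (A = 2 ∧ d' = 1) ∨ (A = 2 * d' + 1 ∧ N = A + 1) ∨ (d' = A - 1 ∧ N = A + 1) ∨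
      (A = 3 ∧ d' = 2 ∧ N = 10) := by
  obtain ⟨a, rfl⟩ : ∃ a, A = a + 2 := ⟨A - 2, by omega⟩
  have e1 : a + 2 - 1 = a + 1 := by omega
  have e2 : a + 2 - 2 = a := by omega
  rw [e1] at hd ⊢
  rw [e2] at hE
  by_cases ha : a = 0
  · subst ha
    left
    exact ⟨rfl, Nat.dvd_one.mp hd⟩
  right
  have ha1 : 1 ≤ a := by omega
  have hd1 : 1 ≤ d' := by
    rcases Nat.eq_zero_or_pos d' with h | h
    · rw [h] at hd; have := Nat.eq_zero_of_zero_dvd hd; omega
    · exact h
  have hdle : d' ≤ a + 1 := Nat.le_of_dvd (by omega) hd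
  obtain ⟨m, hm⟩ := hd
  obtain ⟨P, hP⟩ : ∃ P, P = N * a := ⟨_, rfl⟩
  obtain ⟨Q, hQ⟩ : ∃ Q, Q = N * d' := ⟨_, rfl⟩
  have hQm : P + N = Q * m := by rw [hP, hQ, mul_assoc, ← hm]; ring
  have hQN : N ≤ Q := by rw [hQ]; exact Nat.le_mul_of_pos_right N hd1
  have hQ3 : 3 * d' ≤ Q := by rw [hQ]; exact Nat.mul_le_mul_right d' hN
  have hQP : Q ≤ P + N := by
    rw [hQ, hP]
    calc N * d' ≤ N * (a + 1) := Nat.mul_le_mul_left N hdle
      _ = N * a + N := by ring
  have hE1 : (2 * N + P) * d' = s * (2 + P) := by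
    rw [hP, ← hE]; ring
  have hsd : d' < s := by
    by_contra hcon
    have hsd' : s ≤ d' := by omega
    have h1 : (2 * N + P) * d' ≤ d' * (2 + P) := by
      rw [hE1]
      exact Nat.mul_le_mul_right _ hsd'
    have h2 : d' * (2 * N + P) ≤ d' * (2 + P) := by rw [mul_comm]; exact h1
    have := Nat.le_of_mul_le_mul_left h2 hd1
    omega
  obtain ⟨k, rfl⟩ : ∃ k, s = d' + k := ⟨s - d', by omega⟩
  have hk1 : 1 ≤ k := by omega
  have hE' : k * (2 + P) + 2 * d' = 2 * Q := by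
    have : (2 * N + P) * d' = 2 * Q + P * d' := by rw [hQ]; ring
    rw [this] at hE1
    have h3 : (d' + k) * (2 + P) = 2 * d' + P * d' + k * (2 + P) := by ring
    rw [h3] at hE1
    omega
  rcases Nat.lt_or_ge k 3 with hk | hk
  · have hk12 : k = 1 ∨ k = 2 := by omega
    rcases hk12 with rfl | rfl
    · -- k = 1
      left
      rcases Nat.lt_or_ge m 3 with hm3 | hm3
      · have hm012 : m = 0 ∨ m = 1 ∨ m = 2 := by omega
        rcases hm012 with rfl | rfl | rfl
        · omega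
        · omega
        · constructor <;> omega
      · have := Nat.mul_le_mul_left Q hm3
        omega
    · -- k = 2
      right; left
      rcases Nat.lt_or_ge m 2 with hm2 | hm2
      · have hm01 : m = 0 ∨ m = 1 := by omega
        rcases hm01 with rfl | rfl
        · omega
        · constructor <;> omega
      · have := Nat.mul_le_mul_left Q hm2
        omega
  · right; right
    have h3 := Nat.mul_le_mul_right (2 + P) hk
    have ha' : a = 1 := by
      by_contra hcon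
      have ha2 : 2 ≤ a := by omega
      have : 2 * N ≤ P := by rw [hP, mul_comm 2 N]; exact Nat.mul_le_mul_left N ha2
      omega
    subst ha'
    have hPN : P = N := by rw [hP, mul_one]
    have hd12 : d' = 1 ∨ d' = 2 := by omega
    rcases hd12 with rfl | rfl
    · have : Q = N := by rw [hQ, mul_one]
      omega
    · have hQ2 : Q = 2 * N := by rw [hQ]; ring
      have hk3 : k = 3 := by
        by_contra hcon
        have hk4 : 4 ≤ k := by omega
        have := Nat.mul_le_mul_right (2 + P) hk4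
        omega
      subst hk3
      refine ⟨rfl, rfl, ?_⟩
      omega

end WildArith

section Conj

variable {F : Type*} [Field F]

/-- The conjugate subgroup `c H c⁻¹`. -/
def conjSub (c : SL2 F) (H : Subgroup (SL2 F)) : Subgroup (SL2 F) :=
  H.map (MulAut.conj c).toMonoidHom

theorem mem_conjSub (c : SL2 F) (H : Subgroup (SL2 F)) (g : SL2 F) :
    g ∈ conjSub c H ↔ c⁻¹ * g * c ∈ H := by
  rw [conjSub, Subgroup.mem_map]
  constructor
  · rintro ⟨h, hh, rfl⟩
    have : c⁻¹ * ((MulAut.conj c).toMonoidHom h) * c = h := by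
      simp [MulAut.conj_apply, mul_assoc]
    rw [this]; exact hh
  · intro h
    refine ⟨c⁻¹ * g * c, h, ?_⟩
    simp [MulAut.conj_apply, mul_assoc]

theorem conj_mem_conjSub (c : SL2 F) (H : Subgroup (SL2 F)) (g : SL2 F) (hg : g ∈ H) :
    c * g * c⁻¹ ∈ conjSub c H := by
  rw [mem_conjSub]
  have : c⁻¹ * (c * g * c⁻¹) * c = g := by group
  rw [this]; exact hg

theorem card_conjSub (c : SL2 F) (H : Subgroup (SL2 F)) :
    Nat.card (conjSub c H) = Nat.card H := by
  rw [conjSub]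
  exact Nat.card_congr (Subgroup.equivMapOfInjective H _ (MulAut.conj c).injective).toEquiv.symm

/-- A conjugating matrix. -/
def conjP (a c : F) (hc : c ≠ 0) : SL2 F :=
  ⟨!![a - 1, -c⁻¹; c, 0], by
    rw [Matrix.det_fin_two_of]; field_simp; ring⟩

theorem conjP_00 (a c : F) (hc : c ≠ 0) : conjP a c hc 0 0 = a - 1 := rfl
theorem conjP_01 (a c : F) (hc : c ≠ 0) : conjP a c hc 0 1 = -c⁻¹ := rfl
theorem conjP_10 (a c : F) (hc : c ≠ 0) : conjP a c hc 1 0 = c := rfl
theorem conjP_11 (a c : F) (hc : c ≠ 0) : conjP a c hc 1 1 = 0 := rfl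

/-- A subgroup containing a nontrivial element of trace `2` is conjugate to one containing a
nontrivial `upSL t₀`. -/
theorem exists_conj_unip (H : Subgroup (SL2 F)) (g : SL2 F) (hg : g ∈ H) (hg1 : g ≠ 1)
    (htr : g 0 0 + g 1 1 = 2) :
    ∃ (c : SL2 F) (t₀ : F), t₀ ≠ 0 ∧ upSL t₀ ∈ conjSub c H := by
  have hd := sl2_det' g
  by_cases hc : g 1 0 = 0
  · have h00 : g 0 0 = 1 := by
      have : (g 0 0 - 1) * (g 0 0 - 1) = 0 := by
        linear_combination -hd - g 0 1 * hc + g 0 0 * htr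
      rcases mul_eq_zero.mp this with h | h <;> linear_combination h
    have hgu := eq_upSL h00 hc
    refine ⟨1, g 0 1, ?_, ?_⟩
    · intro h0
      apply hg1
      rw [hgu, h0, upSL_zero]
    · rw [mem_conjSub, inv_one, one_mul, mul_one, ← hgu]; exact hg
  · refine ⟨(conjP (g 0 0) (g 1 0) hc)⁻¹, -(g 1 0)⁻¹, neg_ne_zero.mpr (inv_ne_zero hc), ?_⟩
    have key : upSL (-(g 1 0)⁻¹) = (conjP (g 0 0) (g 1 0) hc)⁻¹ * g * (conjP (g 0 0) (g 1 0) hc) := by
      apply sl2_ext <;> simp only [sl2_mul_apply, sl2_inv_00, sl2_inv_01, sl2_inv_10, sl2_inv_11,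
        conjP_00, conjP_01, conjP_10, conjP_11, upSL_00, upSL_01, upSL_10, upSL_11]
      · field_simp
        linear_combination -htr
      · field_simp
        ring
      · field_simp
        linear_combination -(g 1 0) * hd + (g 1 0) * htr
      · field_simp
        ring
    rw [key]
    have := conj_mem_conjSub (conjP (g 0 0) (g 1 0) hc)⁻¹ H g hg
    rw [inv_inv] at this
    exact this

theorem negOne_comm (g : SL2 F) : negOne * g = g * negOne := by
  apply sl2_ext <;> simp only [sl2_mul_apply, negOne_00, negOne_01, negOne_10, negOne_11] <;> ring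

theorem negOne_mem_conjSub (c : SL2 F) (H : Subgroup (SL2 F)) (hneg : negOne ∈ H) :
    negOne ∈ conjSub c H := by
  rw [mem_conjSub, mul_assoc, negOne_comm, inv_mul_cancel_left]
  exact hneg

theorem upSL_mem_conjSub_upSL (s t₀ : F) (H : Subgroup (SL2 F)) (hu : upSL t₀ ∈ H) :
    upSL t₀ ∈ conjSub (upSL s) H := by
  rw [mem_conjSub, upSL_inv, upSL_add, upSL_add]
  have : -s + t₀ + s = t₀ := by ring
  rw [this]; exact hu

theorem diag_pow_entries (g : SL2 F) (h01 : g 0 1 = 0) (h10 : g 1 0 = 0) (k : ℕ) :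
    (g ^ k) 0 0 = (g 0 0) ^ k ∧ (g ^ k) 0 1 = 0 ∧ (g ^ k) 1 0 = 0 := by
  induction k with
  | zero => simp only [pow_zero, sl2_one_00, sl2_one_01, sl2_one_10]; exact ⟨trivial, trivial, trivial⟩
  | succ k ih =>
    obtain ⟨i00, i01, i10⟩ := ih
    rw [pow_succ]
    simp only [sl2_mul_apply, i00, i01, i10, h01, h10]
    refine ⟨by ring, by ring, by ring⟩

/-- The diagonal matrix of a unit. -/
def diagU (u : Fˣ) : SL2 F := diagSL (u : F) u.ne_zero

theorem diagU_00 (u : Fˣ) : diagU u 0 0 = (u : F) := rfl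
theorem diagU_01 (u : Fˣ) : diagU u 0 1 = 0 := rfl
theorem diagU_10 (u : Fˣ) : diagU u 1 0 = 0 := rfl
theorem diagU_11 (u : Fˣ) : diagU u 1 1 = ((u⁻¹ : Fˣ) : F) := by
  rw [Units.val_inv_eq_inv_val]; rfl

theorem diagU_one : diagU (1 : Fˣ) = 1 := by
  apply sl2_ext <;> simp only [diagU_00, diagU_01, diagU_10, diagU_11, sl2_one_00, sl2_one_01,
    sl2_one_10, sl2_one_11, inv_one, Units.val_one]

theorem diagU_mul (u v : Fˣ) : diagU (u * v) = diagU u * diagU v := by
  apply sl2_ext <;> simp only [sl2_mul_apply, diagU_00, diagU_01, diagU_10, diagU_11, mul_inv,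
    Units.val_mul] <;> ring

theorem diagU_inv (u : Fˣ) : diagU u⁻¹ = (diagU u)⁻¹ := by
  apply sl2_ext <;> simp only [sl2_inv_00, sl2_inv_01, sl2_inv_10, sl2_inv_11, diagU_00, diagU_01,
    diagU_10, diagU_11, inv_inv, neg_zero]

theorem diagU_conj_upSL (u : Fˣ) (t : F) :
    diagU u * upSL t * (diagU u)⁻¹ = upSL ((u : F) ^ 2 * t) := by
  have hu : (u : F) * ((u⁻¹ : Fˣ) : F) = 1 := by rw [← Units.val_mul, mul_inv_cancel, Units.val_one]
  apply sl2_ext <;> simp only [sl2_mul_apply, sl2_inv_00, sl2_inv_01, sl2_inv_10, sl2_inv_11,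
    diagU_00, diagU_01, diagU_10, diagU_11, upSL_00, upSL_01, upSL_10, upSL_11]
  · linear_combination hu
  · ring
  · ring
  · linear_combination hu

theorem eq_diagU (g : SL2 F) (h01 : g 0 1 = 0) (h10 : g 1 0 = 0) (u : Fˣ) (hu : g 0 0 = (u : F)) :
    g = diagU u := by
  have hd := sl2_det' g
  rw [h01, zero_mul, sub_zero, hu] at hd
  apply sl2_ext
  · rw [diagU_00, hu]
  · rw [diagU_01, h01]
  · rw [diagU_10, h10]
  · rw [diagU_11, Units.val_inv_eq_inv_val]
    exact eq_inv_of_mul_eq_one_right hd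

/-- The additive group of the `t` with `upSL t ∈ H`. -/
def UH (H : Subgroup (SL2 F)) : AddSubgroup F where
  carrier := {t | upSL t ∈ H}
  add_mem' := by
    intro a b ha hb
    show upSL (a + b) ∈ H
    rw [← upSL_add]; exact H.mul_mem ha hb
  zero_mem' := by
    show upSL 0 ∈ H
    rw [upSL_zero]; exact H.one_mem
  neg_mem' := by
    intro a ha
    show upSL (-a) ∈ H
    rw [← upSL_inv]; exact H.inv_mem ha

/-- The group of the units `u` with `diag(u, u⁻¹) ∈ H`. -/
def TH (H : Subgroup (SL2 F)) : Subgroup Fˣ where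
  carrier := {u | diagU u ∈ H}
  mul_mem' := by
    intro a b ha hb
    show diagU (a * b) ∈ H
    rw [diagU_mul]; exact H.mul_mem ha hb
  one_mem' := by
    show diagU 1 ∈ H
    rw [diagU_one]; exact H.one_mem
  inv_mem' := by
    intro a ha
    show diagU a⁻¹ ∈ H
    rw [diagU_inv]; exact H.inv_mem ha

theorem card_TH (H : Subgroup (SL2 F)) :
    Nat.card {g : SL2 F // g ∈ H ∧ g 0 1 = 0 ∧ g 1 0 = 0} = Nat.card (TH H) := by
  have hne : ∀ g : SL2 F, g 0 1 = 0 → g 0 0 ≠ 0 := by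
    intro g h01 h0
    have hd := sl2_det' g
    rw [h01, h0, zero_mul, zero_mul, sub_zero] at hd
    exact zero_ne_one hd
  refine Nat.card_congr ?_
  exact
    { toFun := fun g => ⟨Units.mk0 (g.1 0 0) (hne g.1 g.2.2.1), by
        show diagU _ ∈ H
        rw [← eq_diagU g.1 g.2.2.1 g.2.2.2 (Units.mk0 (g.1 0 0) (hne g.1 g.2.2.1)) rfl]
        exact g.2.1⟩
      invFun := fun u => ⟨diagU u.1, u.2, rfl, rfl⟩
      left_inv := fun g => by
        apply Subtype.ext
        exact (eq_diagU g.1 g.2.2.1 g.2.2.2 (Units.mk0 (g.1 0 0) (hne g.1 g.2.2.1)) rfl).symm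
      right_inv := fun u => by
        apply Subtype.ext
        apply Units.ext
        rfl }

end Conj

section Normalize

variable {F : Type*} [Field F] [Fintype F]

/-- After conjugation by an upper unitriangular matrix, the diagonal parts of the upper triangular
elements of `H` lie in `H`. -/
theorem exists_conj_hB (H : Subgroup (SL2 F)) (hneg : negOne ∈ H) :
    ∃ s : F, ∀ g ∈ conjSub (upSL s) H, g 1 0 = 0 →
      ∃ h ∈ conjSub (upSL s) H, h 0 0 = g 0 0 ∧ h 0 1 = 0 ∧ h 1 0 = 0 := by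
  obtain ⟨D, hD⟩ : ∃ D : Subgroup Fˣ, ∀ u : Fˣ, u ∈ D ↔ ∃ g ∈ H, g 1 0 = 0 ∧ g 0 0 = (u : F) := by
    refine ⟨{ carrier := {u : Fˣ | ∃ g ∈ H, g 1 0 = 0 ∧ g 0 0 = (u : F)}
              mul_mem' := ?_
              one_mem' := ?_
              inv_mem' := ?_ }, fun u => Iff.rfl⟩
    · rintro a b ⟨g, hg, g10, g00⟩ ⟨g', hg', g'10, g'00⟩
      refine ⟨g * g', H.mul_mem hg hg', ?_, ?_⟩
      · simp only [sl2_mul_apply, g10, g'10]; ring
      · simp only [sl2_mul_apply, g00, g'10, g'00, Units.val_mul]; ring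
    · exact ⟨1, H.one_mem, sl2_one_10, by rw [sl2_one_00, Units.val_one]⟩
    · rintro a ⟨g, hg, g10, g00⟩
      refine ⟨g⁻¹, H.inv_mem hg, by rw [sl2_inv_10, g10, neg_zero], ?_⟩
      have hd := sl2_det' g
      rw [g10, mul_zero, sub_zero, g00] at hd
      rw [sl2_inv_00, Units.val_inv_eq_inv_val]
      exact eq_inv_of_mul_eq_one_right hd
  have hne : ∀ g : SL2 F, g 1 0 = 0 → g 0 0 ≠ 0 := by
    intro g h10 h0
    have hd := sl2_det' g
    rw [h10, h0, zero_mul, mul_zero, sub_zero] at hd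
    exact zero_ne_one hd
  obtain ⟨a₁, ha₁⟩ := IsCyclic.exists_generator (α := D)
  obtain ⟨g₁, hg₁H, hg₁10, hg₁00⟩ := (hD a₁.1).mp a₁.2
  have hpow : ∀ g ∈ H, g 1 0 = 0 → ∃ k : ℕ, g 0 0 = ((a₁ : Fˣ) : F) ^ k := by
    intro g hg h10
    have hu : Units.mk0 (g 0 0) (hne g h10) ∈ D := (hD _).mpr ⟨g, hg, h10, rfl⟩
    have h1 := ha₁ ⟨_, hu⟩
    rw [← IsOfFinOrder.mem_powers_iff_mem_zpowers (isOfFinOrder_of_finite a₁)] at h1
    obtain ⟨k, hk⟩ := (Submonoid.mem_powers_iff _ _).mp h1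
    refine ⟨k, ?_⟩
    have h2 := congrArg (fun x : D => ((x : Fˣ) : F)) hk
    simp only [SubmonoidClass.coe_pow, Units.val_pow_eq_pow_val, Units.val_mk0] at h2
    exact h2.symm
  by_cases hsq : ((a₁ : Fˣ) : F) ^ 2 = 1
  · refine ⟨0, ?_⟩
    have hH : conjSub (upSL (0 : F)) H = H := by
      ext g
      rw [mem_conjSub, upSL_zero, inv_one, one_mul, mul_one]
    rw [hH]
    intro g hg h10
    obtain ⟨k, hk⟩ := hpow g hg h10
    have hg2 : (g 0 0 - 1) * (g 0 0 + 1) = 0 := by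
      have : (g 0 0) ^ 2 = 1 := by rw [hk, ← pow_mul, mul_comm, pow_mul, hsq, one_pow]
      linear_combination this
    rcases mul_eq_zero.mp hg2 with h | h
    · exact ⟨1, H.one_mem, by rw [sl2_one_00]; linear_combination -h, sl2_one_01, sl2_one_10⟩
    · exact ⟨negOne, hneg, by rw [negOne_00]; linear_combination -h, negOne_01, negOne_10⟩
  · have ha0 : ((a₁ : Fˣ) : F) ≠ 0 := Units.ne_zero _
    have hsq' : ((a₁ : Fˣ) : F) ^ 2 - 1 ≠ 0 := sub_ne_zero.mpr hsq
    obtain ⟨s, hs⟩ : ∃ s : F, s * (((a₁ : Fˣ) : F) ^ 2 - 1) = g₁ 0 1 * ((a₁ : Fˣ) : F) :=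
      ⟨g₁ 0 1 * ((a₁ : Fˣ) : F) / (((a₁ : Fˣ) : F) ^ 2 - 1), by field_simp⟩
    refine ⟨s, ?_⟩
    have hg₁' := conj_mem_conjSub (upSL s) H g₁ hg₁H
    have hd₁ := sl2_det' g₁
    rw [hg₁10, mul_zero, sub_zero, hg₁00] at hd₁
    have e00 : (upSL s * g₁ * (upSL s)⁻¹) 0 0 = ((a₁ : Fˣ) : F) := by
      simp only [sl2_mul_apply, sl2_inv_00, sl2_inv_01, sl2_inv_10, sl2_inv_11, upSL_00, upSL_01,
        upSL_10, upSL_11, hg₁10, hg₁00]
      ring
    have e01 : (upSL s * g₁ * (upSL s)⁻¹) 0 1 = 0 := by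
      simp only [sl2_mul_apply, sl2_inv_00, sl2_inv_01, sl2_inv_10, sl2_inv_11, upSL_00, upSL_01,
        upSL_10, upSL_11, hg₁10, hg₁00]
      have h3 : ((a₁ : Fˣ) : F) * (((a₁ : Fˣ) : F) * -s + (g₁ 0 1 + s * g₁ 1 1)) = 0 := by
        linear_combination -hs + s * hd₁
      rcases mul_eq_zero.mp h3 with h | h
      · exact absurd h ha0
      · linear_combination h
    have e10 : (upSL s * g₁ * (upSL s)⁻¹) 1 0 = 0 := by
      simp only [sl2_mul_apply, sl2_inv_00, sl2_inv_01, sl2_inv_10, sl2_inv_11, upSL_00, upSL_01,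
        upSL_10, upSL_11, hg₁10, hg₁00]
      ring
    intro g hg h10
    have hg' := (mem_conjSub _ _ _).mp hg
    have f10 : ((upSL s)⁻¹ * g * upSL s) 1 0 = 0 := by
      simp only [sl2_mul_apply, sl2_inv_00, sl2_inv_01, sl2_inv_10, sl2_inv_11, upSL_00, upSL_01,
        upSL_10, upSL_11, h10]
      ring
    have f00 : ((upSL s)⁻¹ * g * upSL s) 0 0 = g 0 0 := by
      simp only [sl2_mul_apply, sl2_inv_00, sl2_inv_01, sl2_inv_10, sl2_inv_11, upSL_00, upSL_01,
        upSL_10, upSL_11, h10]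
      ring
    obtain ⟨k, hk⟩ := hpow _ hg' f10
    rw [f00] at hk
    obtain ⟨p00, p01, p10⟩ := diag_pow_entries (upSL s * g₁ * (upSL s)⁻¹) e01 e10 k
    refine ⟨(upSL s * g₁ * (upSL s)⁻¹) ^ k, Subgroup.pow_mem _ hg₁' k, ?_, p01, p10⟩
    rw [p00, e00, hk]

theorem card_UH_dvd (H : Subgroup (SL2 F)) :
    Nat.card {t : F // upSL t ∈ H} ∣ Fintype.card F := by
  have h := AddSubgroup.card_addSubgroup_dvd_card (UH H)
  rw [Nat.card_eq_fintype_card (α := F)] at h
  exact h

theorem card_TH_dvd (H : Subgroup (SL2 F)) :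
    Nat.card {g : SL2 F // g ∈ H ∧ g 0 1 = 0 ∧ g 1 0 = 0} ∣ Fintype.card F - 1 := by
  rw [card_TH]
  have h := Subgroup.card_subgroup_dvd_card (TH H)
  rw [Nat.card_units, Nat.card_eq_fintype_card (α := F)] at h
  exact h

/-- The squares of `TH H`. -/
def SH (H : Subgroup (SL2 F)) : Subgroup Fˣ := (TH H).map (powMonoidHom 2)

instance actSH (H : Subgroup (SL2 F)) :
    MulAction (SH H) {t : F // upSL t ∈ H ∧ t ≠ 0} where
  smul s x := ⟨((s : Fˣ) : F) * x.1, by
    obtain ⟨u, hu, hus⟩ := Subgroup.mem_map.mp s.2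
    have h1 : ((s : Fˣ) : F) = (u : F) ^ 2 := by
      rw [← hus, powMonoidHom_apply, Units.val_pow_eq_pow_val]
    rw [h1, ← diagU_conj_upSL]
    exact H.mul_mem (H.mul_mem hu x.2.1) (H.inv_mem hu), mul_ne_zero (Units.ne_zero _) x.2.2⟩
  one_smul x := by
    apply Subtype.ext
    show (((1 : SH H) : Fˣ) : F) * x.1 = x.1
    rw [Subgroup.coe_one, Units.val_one, one_mul]
  mul_smul a b x := by
    apply Subtype.ext
    show (((a * b : SH H) : Fˣ) : F) * x.1 = ((a : Fˣ) : F) * (((b : Fˣ) : F) * x.1)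
    rw [Subgroup.coe_mul, Units.val_mul, mul_assoc]

theorem card_SH_dvd (H : Subgroup (SL2 F)) :
    Nat.card (SH H) ∣ Nat.card {t : F // upSL t ∈ H} - 1 := by
  have hfree : ∀ x : {t : F // upSL t ∈ H ∧ t ≠ 0}, MulAction.stabilizer (SH H) x = ⊥ := by
    intro x
    rw [eq_bot_iff]
    intro s hs
    rw [MulAction.mem_stabilizer_iff] at hs
    have h1 : ((s : Fˣ) : F) * x.1 = x.1 := congrArg Subtype.val hs
    have h2 : ((s : Fˣ) : F) = 1 := by
      have : (((s : Fˣ) : F) - 1) * x.1 = 0 := by linear_combination h1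
      rcases mul_eq_zero.mp this with h | h
      · linear_combination h
      · exact absurd h x.2.2
    rw [Subgroup.mem_bot]
    apply Subtype.ext
    apply Units.ext
    rw [h2]; rfl
  have e := MulAction.selfEquivOrbitsQuotientProd hfree
  have h3 : Nat.card {t : F // upSL t ∈ H ∧ t ≠ 0} = Nat.card {t : F // upSL t ∈ H} - 1 := by
    rw [natCard_subtype, natCard_subtype]
    have : Finset.univ.filter (fun t : F => upSL t ∈ H ∧ t ≠ 0) =
        (Finset.univ.filter (fun t : F => upSL t ∈ H)).erase 0 := by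
      ext t; simp [and_comm]
    rw [this, Finset.card_erase_of_mem]
    simp only [Finset.mem_filter, Finset.mem_univ, true_and]
    rw [upSL_zero]; exact H.one_mem
  rw [← h3, Nat.card_congr e, Nat.card_prod]
  exact Dvd.intro_left _ rfl

omit [Fintype F] in
theorem card_TH_eq (H : Subgroup (SL2 F)) :
    Nat.card (TH H) = Nat.card (SH H) * Nat.card ((powMonoidHom 2 : Fˣ →* Fˣ).domRestrict (TH H)).ker := by
  have h1 := Subgroup.card_eq_card_quotient_mul_card_subgroup
    ((powMonoidHom 2 : Fˣ →* Fˣ).domRestrict (TH H)).ker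
  rw [h1]
  congr 1
  rw [Nat.card_congr (QuotientGroup.quotientKerEquivRange
    ((powMonoidHom 2 : Fˣ →* Fˣ).domRestrict (TH H))).toEquiv, MonoidHom.domRestrict_range]
  rfl

theorem diag_free_odd (h2 : (2 : F) ≠ 0) (H : Subgroup (SL2 F)) (hneg : negOne ∈ H) :
    ∃ d' : ℕ, Nat.card {g : SL2 F // g ∈ H ∧ g 0 1 = 0 ∧ g 1 0 = 0} = 2 * d' ∧
      d' ∣ Nat.card {t : F // upSL t ∈ H} - 1 := by
  refine ⟨Nat.card (SH H), ?_, card_SH_dvd H⟩
  rw [card_TH, card_TH_eq, mul_comm]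
  congr 1
  have hm1 : (-1 : Fˣ) ∈ TH H := by
    show diagU (-1) ∈ H
    have : diagU (-1 : Fˣ) = negOne := by
      apply sl2_ext <;> simp only [diagU_00, diagU_01, diagU_10, diagU_11, negOne_00, negOne_01,
        negOne_10, negOne_11, Units.val_neg, Units.val_one, inv_neg, inv_one]
    rw [this]; exact hneg
  rw [Nat.card_eq_two_iff]
  refine ⟨1, ⟨⟨-1, hm1⟩, ?_⟩, ?_, ?_⟩
  · rw [MonoidHom.mem_ker, MonoidHom.domRestrict_apply, powMonoidHom_apply]
    simp
  · intro h
    have h3 := congrArg (fun x : ((powMonoidHom 2 : Fˣ →* Fˣ).domRestrict (TH H)).ker =>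
      (((x : TH H) : Fˣ) : F)) h
    simp only [Subgroup.coe_one, Units.val_one, Units.val_neg] at h3
    apply h2
    linear_combination h3
  · ext x
    simp only [Set.mem_insert_iff, Set.mem_singleton_iff, Set.mem_univ, iff_true]
    have hx := x.2
    rw [MonoidHom.mem_ker, MonoidHom.domRestrict_apply, powMonoidHom_apply] at hx
    have hx' : ((x : TH H) : Fˣ) ^ 2 = 1 := hx
    have h4 : ((((x : TH H) : Fˣ) : F) - 1) * ((((x : TH H) : Fˣ) : F) + 1) = 0 := by
      have := congrArg (fun u : Fˣ => (u : F)) hx'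
      simp only [Units.val_pow_eq_pow_val, Units.val_one] at this
      linear_combination this
    rcases mul_eq_zero.mp h4 with h | h
    · left
      apply Subtype.ext; apply Subtype.ext; apply Units.ext
      simp only [Subgroup.coe_one, Units.val_one]
      linear_combination h
    · right
      apply Subtype.ext; apply Subtype.ext; apply Units.ext
      simp only [Units.val_neg, Units.val_one]
      linear_combination h

theorem diag_free_even (h2 : (2 : F) = 0) (H : Subgroup (SL2 F)) :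
    Nat.card {g : SL2 F // g ∈ H ∧ g 0 1 = 0 ∧ g 1 0 = 0} ∣
      Nat.card {t : F // upSL t ∈ H} - 1 := by
  have hk : Nat.card ((powMonoidHom 2 : Fˣ →* Fˣ).domRestrict (TH H)).ker = 1 := by
    rw [Nat.card_eq_one_iff_unique]
    refine ⟨⟨fun x y => ?_⟩, ⟨1⟩⟩
    have key : ∀ x : ((powMonoidHom 2 : Fˣ →* Fˣ).domRestrict (TH H)).ker,
        (((x : TH H) : Fˣ) : F) = 1 := by
      intro x
      have hx := x.2
      rw [MonoidHom.mem_ker, MonoidHom.domRestrict_apply, powMonoidHom_apply] at hx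
      have hx' : ((x : TH H) : Fˣ) ^ 2 = 1 := hx
      have h4 : ((((x : TH H) : Fˣ) : F) - 1) * ((((x : TH H) : Fˣ) : F) - 1) = 0 := by
        have := congrArg (fun u : Fˣ => (u : F)) hx'
        simp only [Units.val_pow_eq_pow_val, Units.val_one] at this
        linear_combination this - (((x : TH H) : Fˣ) : F) * h2 + h2
      rcases mul_eq_zero.mp h4 with h | h <;> linear_combination h
    apply Subtype.ext; apply Subtype.ext; apply Units.ext
    rw [key x, key y]
  rw [card_TH, card_TH_eq, hk, mul_one]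
  exact card_SH_dvd H

end Normalize

section Final

variable {F : Type*} [Field F] [Fintype F]

/-- The upper triangular subgroup. -/
def borelSL (F : Type*) [Field F] : Subgroup (SL2 F) where
  carrier := {g | g 1 0 = 0}
  mul_mem' := by
    intro a b ha hb
    show (a * b) 1 0 = 0
    simp only [sl2_mul_apply]
    rw [show a 1 0 = 0 from ha, show b 1 0 = 0 from hb]; ring
  one_mem' := sl2_one_10
  inv_mem' := by
    intro a ha
    show a⁻¹ 1 0 = 0
    rw [sl2_inv_10, show a 1 0 = 0 from ha, neg_zero]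

omit [Fintype F] in
theorem mem_borelSL (g : SL2 F) : g ∈ borelSL F ↔ g 1 0 = 0 := Iff.rfl

theorem card_borelSL : Nat.card (borelSL F) = Fintype.card F * (Fintype.card F - 1) := by
  have h1 : Nat.card (borelSL F) =
      Nat.card {g : SL2 F // g ∈ (⊤ : Subgroup (SL2 F)) ∧ g 1 0 = 0} :=
    Nat.card_congr (Equiv.subtypeEquivRight (fun g => by
      rw [mem_borelSL]; simp))
  have hB : ∀ g ∈ (⊤ : Subgroup (SL2 F)), g 1 0 = 0 →
      ∃ h ∈ (⊤ : Subgroup (SL2 F)), h 0 0 = g 0 0 ∧ h 0 1 = 0 ∧ h 1 0 = 0 := by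
    intro g _ h10
    have hne : g 0 0 ≠ 0 := by
      intro h0
      have hd := sl2_det' g
      rw [h10, h0, zero_mul, mul_zero, sub_zero] at hd
      exact zero_ne_one hd
    exact ⟨diagSL (g 0 0) hne, Subgroup.mem_top _, rfl, rfl, rfl⟩
  rw [h1, card_borel ⊤ hB, card_TH]
  have h2 : Nat.card {t : F // upSL t ∈ (⊤ : Subgroup (SL2 F))} = Fintype.card F := by
    rw [← Nat.card_eq_fintype_card]
    exact Nat.card_congr (Equiv.subtypeUnivEquiv (fun t => Subgroup.mem_top _))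
  have h3 : TH (⊤ : Subgroup (SL2 F)) = ⊤ := by
    ext u
    simp only [Subgroup.mem_top, iff_true]
    show diagU u ∈ (⊤ : Subgroup (SL2 F))
    exact Subgroup.mem_top _
  rw [h2, h3, Subgroup.card_top, Nat.card_units, Nat.card_eq_fintype_card]

theorem index_borelSL : (borelSL F).index = Fintype.card F + 1 := by
  have h1 := Subgroup.card_mul_index (borelSL F)
  rw [card_borelSL, Cfsg.Agent.Lib.helper7.card_SL2 rfl] at h1
  have hq : 2 ≤ Fintype.card F := Fintype.one_lt_card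
  obtain ⟨r, hr⟩ : ∃ r, Fintype.card F = r + 2 := ⟨Fintype.card F - 2, by omega⟩
  rw [hr] at h1 ⊢
  have h2 : (r + 2) ^ 2 - 1 = (r + 1) * (r + 3) := by
    have : (r + 2) ^ 2 = (r + 1) * (r + 3) + 1 := by ring
    omega
  have h3 : r + 2 - 1 = r + 1 := by omega
  rw [h2, h3] at h1
  have h4 : (r + 2) * (r + 1) * (borelSL F).index = (r + 2) * (r + 1) * (r + 3) := by
    rw [h1]; ring
  exact Nat.eq_of_mul_eq_mul_left (by positivity) h4

/-- The index `N` of the upper triangular subgroup of `H` is at least `3` and at most `q + 1`. -/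
theorem borel_index_bounds (H : Subgroup (SL2 F)) (t₀ : F) (ht₀ : t₀ ≠ 0) (hu : upSL t₀ ∈ H)
    (hN : ∃ g ∈ H, g 1 0 ≠ 0) (N : ℕ)
    (hcard : Nat.card H = N * Nat.card {g : SL2 F // g ∈ H ∧ g 1 0 = 0}) :
    3 ≤ N ∧ N ≤ Fintype.card F + 1 := by
  have hBBcard : Nat.card ↥(H ⊓ borelSL F) = Nat.card {g : SL2 F // g ∈ H ∧ g 1 0 = 0} :=
    Nat.card_congr (Equiv.subtypeEquivRight (fun g => by rw [Subgroup.mem_inf, mem_borelSL]))
  have hsub : Nat.card ↥((H ⊓ borelSL F).subgroupOf H) = Nat.card ↥(H ⊓ borelSL F) :=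
    Nat.card_congr (Subgroup.subgroupOfEquivOfLe inf_le_left).toEquiv
  have hpos : 0 < Nat.card ↥(H ⊓ borelSL F) := Nat.card_pos
  have hidx : ((H ⊓ borelSL F).subgroupOf H).index = N := by
    have h1 := Subgroup.card_mul_index ((H ⊓ borelSL F).subgroupOf H)
    rw [hsub, hcard, ← hBBcard, mul_comm N] at h1
    exact Nat.eq_of_mul_eq_mul_left hpos h1
  obtain ⟨g, hg, hg10⟩ := hN
  constructor
  · by_contra hcon
    have hN012 : N = 0 ∨ N = 1 ∨ N = 2 := by omega
    rcases hN012 with h | h | h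
    · rw [h, zero_mul] at hcard
      have : 0 < Nat.card H := Nat.card_pos
      omega
    · rw [h, Subgroup.index_eq_one, Subgroup.subgroupOf_eq_top] at hidx
      exact hg10 ((mem_borelSL g).mp (hidx hg).2)
    · rw [h] at hidx
      have hnorm := Subgroup.normal_of_index_eq_two hidx
      have hmem : (⟨upSL t₀, hu⟩ : H) ∈ (H ⊓ borelSL F).subgroupOf H := by
        rw [Subgroup.mem_subgroupOf]
        exact ⟨hu, upSL_10 t₀⟩
      have hconj := hnorm.conj_mem _ hmem ⟨g, hg⟩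
      rw [Subgroup.mem_subgroupOf] at hconj
      have hx10 : (g * upSL t₀ * g⁻¹) 1 0 = 0 := (mem_borelSL _).mp hconj.2
      have hxtr := trace_conj_upSL g t₀
      have hxd := sl2_det' (g * upSL t₀ * g⁻¹)
      rw [hx10, mul_zero, sub_zero] at hxd
      have hx00 : (g * upSL t₀ * g⁻¹) 0 0 = 1 := by
        have : ((g * upSL t₀ * g⁻¹) 0 0 - 1) * ((g * upSL t₀ * g⁻¹) 0 0 - 1) = 0 := by
          linear_combination -hxd + (g * upSL t₀ * g⁻¹) 0 0 * hxtr
        rcases mul_eq_zero.mp this with h | h <;> linear_combination h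
      have hxu := eq_upSL hx00 hx10
      have hcomm : g * upSL t₀ = upSL ((g * upSL t₀ * g⁻¹) 0 1) * g := by
        rw [← hxu]; group
      exact hg10 (borel_of_conj g t₀ _ ht₀ hcomm).1
  · have h1 : ((H ⊓ borelSL F).subgroupOf H).index = (borelSL F).relIndex H := by
      rw [inf_comm]
      exact Subgroup.inf_relIndex_right (borelSL F) H
    have h2 : (borelSL F).relIndex H ≤ (borelSL F).relIndex ⊤ :=
      Subgroup.relIndex_le_of_le_right le_top (by
        rw [Subgroup.relIndex_top_right, index_borelSL]; omega)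
    rw [Subgroup.relIndex_top_right, index_borelSL] at h2
    rw [← hidx, h1]; exact h2

/-- The possible orders of a subgroup with unipotent elements which is not conjugate to a group of
upper triangular matrices. -/
def WildOrders (p q n : ℕ) : Prop :=
  (p = 2 ∧ ∃ N, N ≤ q + 1 ∧ n = 2 * N) ∨
  (∃ A, 2 ≤ A ∧ A ∣ q ∧ (A - 1) ∣ (q - 1) ∧
    (n = A * (A ^ 2 - 1) ∨ (p ≠ 2 ∧ 2 * (A - 1) ∣ q - 1 ∧ n = 2 * A * (A ^ 2 - 1)))) ∨
  (p = 3 ∧ 4 ∣ q - 1 ∧ n = 120)

theorem nat_cube (A : ℕ) (hA : 1 ≤ A) : (A + 1) * A * (A - 1) = A * (A ^ 2 - 1) := by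
  obtain ⟨b, rfl⟩ : ∃ b, A = b + 1 := ⟨A - 1, by omega⟩
  have h1 : (b + 1) ^ 2 - 1 = b * (b + 2) := by
    have : (b + 1) ^ 2 = b * (b + 2) + 1 := by ring
    omega
  rw [h1, Nat.add_sub_cancel]; ring

/-- The order of a normalized subgroup with unipotent elements. -/
theorem wild_normalized (p : ℕ) [Fact p.Prime] [CharP F p] (H : Subgroup (SL2 F))
    (hneg : negOne ∈ H)
    (hB : ∀ g ∈ H, g 1 0 = 0 → ∃ h ∈ H, h 0 0 = g 0 0 ∧ h 0 1 = 0 ∧ h 1 0 = 0)
    (t₀ : F) (ht₀ : t₀ ≠ 0) (hu : upSL t₀ ∈ H) :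
    (∀ g ∈ H, g 1 0 = 0) ∨ WildOrders p (Fintype.card F) (Nat.card H) := by
  by_cases hall : ∀ g ∈ H, g 1 0 = 0
  · left; exact hall
  right
  push Not at hall
  have hN : ∃ g ∈ H, g 1 0 ≠ 0 := hall
  have hAq := card_UH_dvd H
  have hdq := card_TH_dvd H
  have hA2 : 2 ≤ Nat.card {t : F // upSL t ∈ H} := by
    have : Nontrivial {t : F // upSL t ∈ H} :=
      ⟨⟨⟨0, by rw [upSL_zero]; exact H.one_mem⟩, ⟨t₀, hu⟩,
        fun h => ht₀ (congrArg Subtype.val h).symm⟩⟩
    exact Finite.one_lt_card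
  obtain ⟨n, -, hqn⟩ := FiniteField.card F p
  have hp := (Fact.out : p.Prime)
  obtain ⟨A, hA⟩ : ∃ A, A = Nat.card {t : F // upSL t ∈ H} := ⟨_, rfl⟩
  obtain ⟨d, hd⟩ : ∃ d, d = Nat.card {g : SL2 F // g ∈ H ∧ g 0 1 = 0 ∧ g 1 0 = 0} := ⟨_, rfl⟩
  obtain ⟨q, hq⟩ : ∃ q, q = Fintype.card F := ⟨_, rfl⟩
  rw [← hq] at hAq hdq hqn ⊢
  rw [← hA] at hAq hA2
  rw [← hd] at hdq
  have hp_of_dvd : ∀ r : ℕ, r.Prime → r ∣ A → p = r := by
    intro r hr hrA
    have h1 : r ∣ p ^ (n : ℕ) := hqn ▸ hrA.trans hAq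
    exact ((Nat.prime_dvd_prime_iff_eq hr hp).mp (hr.dvd_of_dvd_pow h1)).symm
  by_cases h2 : (2 : F) = 0
  · have hp2 : p = 2 := by
      have h3 : ((2 : ℕ) : F) = 0 := by exact_mod_cast h2
      have h4 := (CharP.cast_eq_zero_iff F p 2).mp h3
      exact (Nat.prime_dvd_prime_iff_eq hp Nat.prime_two).mp h4
    obtain ⟨N, s, hN2, hs2, hcard, hE⟩ := sl2_core_even p h2 H hB t₀ ht₀ hu hN
    have hd' := diag_free_even h2 H
    rw [← hA, ← hd] at hcard hE hd'
    obtain ⟨hN3, hNle⟩ := borel_index_bounds H t₀ ht₀ hu hN N (by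
      rw [hcard, card_borel H hB, ← hA, ← hd, mul_assoc])
    rw [← hq] at hNle
    rcases wild_arith N A d s hN3 hA2 hs2 hd' hE with ⟨hA2', hd1⟩ | ⟨hAd, hNA⟩ | ⟨hdA, hNA⟩ |
      ⟨hA3, -, -⟩
    · left
      refine ⟨hp2, N, hNle, ?_⟩
      rw [hcard, hA2', hd1]; ring
    · exfalso
      have := hp_of_dvd 2 Nat.prime_two
      have h2A : ¬ 2 ∣ A := by omega
      obtain ⟨j, -, hj⟩ := (Nat.dvd_prime_pow hp).mp (hqn ▸ hAq)
      rcases Nat.eq_zero_or_pos j with h0 | h0
      · rw [h0, pow_zero] at hj; omega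
      · apply h2A
        rw [hj, hp2]
        exact dvd_pow_self 2 (by omega)
    · right; left
      refine ⟨A, hA2, hAq, by rw [← hdA]; exact hdq, Or.inl ?_⟩
      rw [hcard, hNA, hdA]
      exact nat_cube A (by omega)
    · exfalso
      have := hp_of_dvd 3 Nat.prime_three (by rw [hA3])
      omega
  · have hp2 : p ≠ 2 := by
      intro h
      apply h2
      have := CharP.cast_eq_zero F p
      rw [h] at this
      exact_mod_cast this
    obtain ⟨N, s, hN2, hs2, hcard, hE⟩ := sl2_core_odd p h2 H hneg hB t₀ ht₀ hu hN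
    obtain ⟨d', hd2, hd'⟩ := diag_free_odd h2 H hneg
    rw [← hA, ← hd] at hcard hE
    rw [← hA] at hd'
    rw [← hd] at hd2
    obtain ⟨hN3, hNle⟩ := borel_index_bounds H t₀ ht₀ hu hN N (by
      rw [hcard, card_borel H hB, ← hA, ← hd, mul_assoc])
    have hE' : N * A * d' = s * (2 + N * (A - 2)) := by
      have : 2 * (N * A * d') = 2 * (s * (2 + N * (A - 2))) := by
        rw [← mul_assoc 2 s, ← hE, hd2]; ring
      exact Nat.eq_of_mul_eq_mul_left (by norm_num) this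
    rcases wild_arith N A d' s hN3 hA2 hs2 hd' hE' with ⟨hA2', hd1⟩ | ⟨hAd, hNA⟩ | ⟨hdA, hNA⟩ |
      ⟨hA3, hd'2, hN10⟩
    · exfalso
      exact hp2 (hp_of_dvd 2 Nat.prime_two (by rw [hA2']))
    · right; left
      have hdA : d = A - 1 := by omega
      refine ⟨A, hA2, hAq, by rw [← hdA]; exact hdq, Or.inl ?_⟩
      rw [hcard, hNA, hdA]
      exact nat_cube A (by omega)
    · right; left
      have hdA' : d = 2 * (A - 1) := by rw [hd2, hdA]
      refine ⟨A, hA2, hAq, dvd_of_mul_left_dvd (hdA' ▸ hdq), Or.inr ⟨hp2, hdA' ▸ hdq, ?_⟩⟩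
      rw [hcard, hNA, hdA']
      have h5 := nat_cube A (by omega)
      have h6 : (A + 1) * A * (2 * (A - 1)) = 2 * ((A + 1) * A * (A - 1)) := by ring
      rw [h6, h5]; ring
    · right; right
      refine ⟨hp_of_dvd 3 Nat.prime_three (by rw [hA3]), ?_, ?_⟩
      · have : d = 4 := by omega
        rw [← this]; exact hdq
      · rw [hcard, hN10, hA3, hd2, hd'2]

/-- **Orders of subgroups of `SL₂(q)` containing unipotent elements.** -/
theorem wild_orders (p : ℕ) [Fact p.Prime] [CharP F p] (H : Subgroup (SL2 F))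
    (hneg : negOne ∈ H) (hw : ∃ g ∈ H, g ≠ 1 ∧ g 0 0 + g 1 1 = 2) :
    (∃ c : SL2 F, ∀ g ∈ H, (c * g * c⁻¹) 1 0 = 0) ∨
      WildOrders p (Fintype.card F) (Nat.card H) := by
  obtain ⟨g, hg, hg1, htr⟩ := hw
  obtain ⟨c₁, t₀, ht₀, hu⟩ := exists_conj_unip H g hg hg1 htr
  obtain ⟨s, hB⟩ := exists_conj_hB (conjSub c₁ H) (negOne_mem_conjSub c₁ H hneg)
  rcases wild_normalized p (conjSub (upSL s) (conjSub c₁ H))
    (negOne_mem_conjSub _ _ (negOne_mem_conjSub c₁ H hneg)) hB t₀ ht₀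
    (upSL_mem_conjSub_upSL s t₀ _ hu) with h | h
  · left
    refine ⟨upSL s * c₁, fun g hg => ?_⟩
    have h1 : upSL s * c₁ * g * (upSL s * c₁)⁻¹ = upSL s * (c₁ * g * c₁⁻¹) * (upSL s)⁻¹ := by
      group
    rw [h1]
    exact h _ (conj_mem_conjSub _ _ _ (conj_mem_conjSub _ _ _ hg))
  · right
    rw [card_conjSub, card_conjSub] at h
    exact h

end Final

end Cfsg.Agent.Lib.helper98
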