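import Mathlib
import Cfsg.Agent.Lib.helper98.SL2Fix
import Cfsg.Agent.Lib.helper7.CardSL

/-!
# Subfield subgroups of `SL₂(F)` are maximal (odd characteristic, odd prime degree)

For finite fields `K ⊆ F` of odd characteristic with `|F| = |K|^r`, `r` an odd prime, the only
subgroups of `SL₂(F)` containing the image of `SL₂(K)` are that image and `SL₂(F)`.
-/

set_option autoImplicit false

namespace Cfsg.Agent.Lib.helper98

open Matrix
open scoped Classical

local notation "SL2" => Matrix.SpecialLinearGroup (Fin 2)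

/-- Arithmetic of the counting equation, odd case with `d = q - 1`. -/
theorem arith_subfield_odd (q N A s : ℕ) (hq3 : 3 ≤ q) (hqodd : Odd q) (hN : 2 ≤ N) (hs : 2 ≤ s)
    (hA : q ≤ A) (h : N * A * (q - 1) = 2 * s * (2 + N * (A - 2))) :
    N * A * (q - 1) = q * (q ^ 2 - 1) := by
  obtain ⟨e, rfl⟩ := hqodd
  obtain ⟨a, rfl⟩ : ∃ a, A = a + 2 := ⟨A - 2, by omega⟩
  have he : 1 ≤ e := by omega
  have h1 : 2 * e + 1 - 1 = 2 * e := by omega
  have h2 : a + 2 - 2 = a := by omega
  rw [h1, h2] at h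
  rw [h1]
  have ha : 2 * e - 1 ≤ a := by omega
  have hse : e < s := by
    by_contra hcon
    have hcon' : s ≤ e := by omega
    have h3 : N * (a + 2) * (2 * s) ≤ N * (a + 2) * (2 * e) :=
      Nat.mul_le_mul_left _ (by omega)
    nlinarith [Nat.mul_le_mul_left s hN, Nat.zero_le (N * a)]
  obtain ⟨j, rfl⟩ : ∃ j, s = e + j := ⟨s - e, by omega⟩
  have hj : 1 ≤ j := by omega
  have hE : 2 * N * e = 2 * e + 2 * j + j * (N * a) := by nlinarith
  have hja : j * a < 2 * e := by
    by_contra hcon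
    have hcon' : 2 * e ≤ j * a := by omega
    have h3 : N * (2 * e) ≤ N * (j * a) := Nat.mul_le_mul_left _ hcon'
    nlinarith
  have hj1 : j = 1 := by
    by_contra hcon
    have hj2 : 2 ≤ j := by omega
    have h3 : 2 * a ≤ j * a := Nat.mul_le_mul_right _ hj2
    omega
  subst hj1
  have ha' : a = 2 * e - 1 := by omega
  obtain ⟨e', rfl⟩ : ∃ e', e = e' + 1 := ⟨e - 1, by omega⟩
  have ha'' : a = 2 * e' + 1 := by omega
  subst ha''
  have hNeq : N = 2 * e' + 4 := by nlinarith
  subst hNeq
  have h5 : (2 * (e' + 1) + 1) ^ 2 - 1 = (2 * e' + 4) * (2 * (e' + 1)) := by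
    apply Nat.sub_eq_of_eq_add
    ring
  rw [h5]
  ring

section Maps

variable {F K : Type*} [Field F] [Field K]

theorem sl2_map_apply (φ : K →+* F) (g : SL2 K) (i j : Fin 2) :
    (Matrix.SpecialLinearGroup.map φ g) i j = φ (g i j) := by
  rw [Matrix.SpecialLinearGroup.map_apply_coe]; rfl

theorem map_upSL (φ : K →+* F) (k : K) :
    Matrix.SpecialLinearGroup.map φ (upSL k) = upSL (φ k) := by
  apply sl2_ext <;> simp only [sl2_map_apply, upSL_00, upSL_01, upSL_10, upSL_11, map_one,
    map_zero]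

theorem map_diagSL (φ : K →+* F) (a : K) (ha : a ≠ 0) :
    Matrix.SpecialLinearGroup.map φ (diagSL a ha) = diagSL (φ a) ((map_ne_zero φ).mpr ha) := by
  apply sl2_ext <;> simp only [sl2_map_apply, diagSL_00, diagSL_01, diagSL_10, diagSL_11,
    map_zero, map_inv₀]

theorem map_wSL (φ : K →+* F) : Matrix.SpecialLinearGroup.map φ (wSL : SL2 K) = wSL := by
  apply sl2_ext <;> simp only [sl2_map_apply, wSL_00, wSL_01, wSL_10, wSL_11, map_zero, map_one,
    map_neg]

theorem map_negOne (φ : K →+* F) : Matrix.SpecialLinearGroup.map φ (negOne : SL2 K) = negOne := by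
  apply sl2_ext <;> simp only [sl2_map_apply, negOne_00, negOne_01, negOne_10, negOne_11,
    map_zero, map_one, map_neg]

theorem sl2_map_injective (φ : K →+* F) :
    Function.Injective (Matrix.SpecialLinearGroup.map φ : SL2 K →* SL2 F) := by
  intro g h hgh
  apply sl2_ext
  all_goals
    apply φ.injective
    rw [← sl2_map_apply, ← sl2_map_apply, hgh]

theorem lowSL_eq (t : F) : lowSL t = (wSL : SL2 F)⁻¹ * upSL (-t) * wSL := by
  apply sl2_ext <;> simp only [sl2_mul_apply, sl2_inv_00, sl2_inv_01, sl2_inv_10, sl2_inv_11,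
    lowSL_00, lowSL_01, lowSL_10, lowSL_11, upSL_00, upSL_01, upSL_10, upSL_11, wSL_00, wSL_01,
    wSL_10, wSL_11] <;> ring

/-- A subgroup containing all `upSL t` and `wSL` is everything. -/
theorem eq_top_of_upSL (H : Subgroup (SL2 F)) (hu : ∀ t, upSL t ∈ H) (hw : wSL ∈ H) : H = ⊤ := by
  have hl : ∀ t, lowSL t ∈ H := by
    intro t
    rw [lowSL_eq]
    exact H.mul_mem (H.mul_mem (H.inv_mem hw) (hu _)) hw
  have key : ∀ g : SL2 F, g 1 0 ≠ 0 → g ∈ H := by
    intro g hg
    have hd := sl2_det' g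
    have : g = upSL ((g 0 0 - 1) / g 1 0) * lowSL (g 1 0) * upSL ((g 1 1 - 1) / g 1 0) := by
      apply sl2_ext <;> simp only [sl2_mul_apply, lowSL_00, lowSL_01, lowSL_10, lowSL_11,
        upSL_00, upSL_01, upSL_10, upSL_11]
      · field_simp; ring
      · field_simp; linear_combination (-1 : F) * hd
      · ring
      · field_simp; ring
    rw [this]
    exact H.mul_mem (H.mul_mem (hu _) (hl _)) (hu _)
  rw [eq_top_iff]
  intro g _
  by_cases hg : g 1 0 = 0
  · have hd := sl2_det' g
    rw [hg, mul_zero, sub_zero] at hd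
    have h11 : g 1 1 ≠ 0 := by
      intro h0; rw [h0, mul_zero] at hd; exact zero_ne_one hd
    have h1 : g * wSL ∈ H := by
      apply key
      simp only [sl2_mul_apply, wSL_00, wSL_10, hg]
      intro h0
      apply h11
      linear_combination -h0
    have h2 : g = g * wSL * (wSL)⁻¹ := by group
    rw [h2]
    exact H.mul_mem h1 (H.inv_mem hw)
  · exact key g hg

/-- Conjugating `upSL t` by an upper triangular `g` gives `upSL ((g 0 0)² t)`. -/
theorem conj_upSL_upper (g : SL2 F) (hg : g 1 0 = 0) (t : F) :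
    g * upSL t * g⁻¹ = upSL ((g 0 0) ^ 2 * t) := by
  have h := conj_upSL_eq g⁻¹ (by rw [sl2_inv_10, hg, neg_zero]) t
  rw [inv_inv, sl2_inv_11] at h
  rw [h, mul_comm]

end Maps

section Multiplier

variable {F K : Type*} [Field F] [Field K] [Fintype F] [Fintype K]

/-- The multiplier ring of a `K`-stable additive subset of `F` is `K` or `F` if `[F : K]` is
prime. -/
theorem multiplier_dichotomy (φ : K →+* F) (r : ℕ) (hr : r.Prime)
    (hcard : Fintype.card F = Fintype.card K ^ r)
    (U : Set F) (hU0 : (0 : F) ∈ U) (hUadd : ∀ s t, s ∈ U → t ∈ U → s + t ∈ U)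
    (hUK : ∀ k : K, ∀ t ∈ U, φ k * t ∈ U) :
    (∀ α t, t ∈ U → α * t ∈ U) ∨ (∀ α : F, (∀ t ∈ U, α * t ∈ U) → α ∈ Set.range φ) := by
  let _ : Algebra K F := φ.toAlgebra
  have hfin : Module.finrank K F = r := by
    have h1 := Module.card_eq_pow_finrank (K := K) (V := F)
    rw [hcard] at h1
    exact (Nat.pow_right_injective Fintype.one_lt_card h1).symm
  have : IsSimpleOrder (Subalgebra K F) :=
    Subalgebra.isSimpleOrder_of_finrank_prime K F (by rw [hfin]; exact hr)
  obtain ⟨M, hM⟩ : ∃ M : Subalgebra K F, ∀ α : F, α ∈ M ↔ ∀ t ∈ U, α * t ∈ U := by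
    refine ⟨{ carrier := {α : F | ∀ t ∈ U, α * t ∈ U}
              mul_mem' := ?_
              one_mem' := ?_
              add_mem' := ?_
              zero_mem' := ?_
              algebraMap_mem' := ?_ }, fun α => Iff.rfl⟩
    · intro a b ha hb t ht
      rw [mul_assoc]
      exact ha _ (hb t ht)
    · intro t ht
      rw [one_mul]; exact ht
    · intro a b ha hb t ht
      rw [add_mul]
      exact hUadd _ _ (ha t ht) (hb t ht)
    · intro t _
      rw [zero_mul]; exact hU0
    · intro k t ht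
      exact hUK k t ht
  rcases eq_bot_or_eq_top M with h | h
  · right
    intro α hα
    have h1 : α ∈ M := (hM α).mpr hα
    rw [h, Algebra.mem_bot] at h1
    exact h1
  · left
    intro α t ht
    have h1 : α ∈ M := by rw [h]; exact Algebra.mem_top
    exact (hM α).mp h1 t ht

omit [Fintype F] in
/-- Elements of `F` fixed by the `|K|`-power map lie in the image of `K`. -/
theorem mem_range_of_pow_card_eq (φ : K →+* F) (a : F) (h : a ^ Fintype.card K = a) :
    a ∈ Set.range φ := by
  obtain ⟨q, hq⟩ : ∃ q, q = Fintype.card K := ⟨_, rfl⟩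
  rw [← hq] at h
  have hq1 : 1 < q := by rw [hq]; exact Fintype.one_lt_card
  obtain ⟨P, hP⟩ : ∃ P : Polynomial F, P = Polynomial.X ^ q - Polynomial.X := ⟨_, rfl⟩
  have hP0 : P ≠ 0 := by rw [hP]; exact FiniteField.X_pow_card_sub_X_ne_zero F hq1
  have hdeg : P.natDegree = q := by rw [hP]; exact FiniteField.X_pow_card_sub_X_natDegree_eq F hq1
  have hroot : ∀ x : F, x ∈ P.roots.toFinset ↔ x ^ q = x := by
    intro x
    rw [Multiset.mem_toFinset, Polynomial.mem_roots hP0, Polynomial.IsRoot, hP,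
      Polynomial.eval_sub, Polynomial.eval_pow, Polynomial.eval_X, sub_eq_zero]
  have hsub : Finset.univ.image φ ⊆ P.roots.toFinset := by
    intro x hx
    rw [Finset.mem_image] at hx
    obtain ⟨k, -, rfl⟩ := hx
    rw [hroot, ← map_pow, hq, FiniteField.pow_card]
  have hcardle : P.roots.toFinset.card ≤ (Finset.univ.image φ).card := by
    rw [Finset.card_image_of_injective _ φ.injective, Finset.card_univ, ← hq, ← hdeg]
    exact (Multiset.toFinset_card_le _).trans (Polynomial.card_roots' P)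
  have heq := Finset.eq_of_subset_of_card_le hsub hcardle
  have ha : a ∈ P.roots.toFinset := (hroot a).mpr h
  rw [← heq, Finset.mem_image] at ha
  obtain ⟨k, -, hk⟩ := ha
  exact ⟨k, hk⟩

/-- If `[F : K]` is odd and `a² ∈ K` then `a ∈ K` (odd characteristic). -/
theorem mem_range_of_sq_mem_odd (φ : K →+* F) (h2 : (2 : F) ≠ 0) (r : ℕ) (hr : Odd r)
    (hq : Odd (Fintype.card K)) (hcard : Fintype.card F = Fintype.card K ^ r) (a : F)
    (ha : a ^ 2 ∈ Set.range φ) : a ∈ Set.range φ := by
  obtain ⟨q, hqdef⟩ : ∃ q, q = Fintype.card K := ⟨_, rfl⟩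
  rw [← hqdef] at hq hcard
  obtain ⟨k, hk⟩ := ha
  have h1 : (a ^ q) ^ 2 = a ^ 2 := by
    rw [← pow_mul, mul_comm, pow_mul, ← hk, ← map_pow, hqdef, FiniteField.pow_card]
  have h3 : (a ^ q - a) * (a ^ q + a) = 0 := by linear_combination h1
  rcases mul_eq_zero.mp h3 with h | h
  · apply mem_range_of_pow_card_eq φ a
    rw [← hqdef]
    linear_combination h
  · have hneg : a ^ q = -a := by linear_combination h
    have hpow : ∀ j : ℕ, a ^ (q ^ j) = (-1) ^ j * a := by
      intro j
      induction j with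
      | zero => simp
      | succ j ih =>
        rw [pow_succ, pow_mul, ih, mul_pow, ← pow_mul, hneg]
        have h8 : ((-1 : F) ^ (j * q)) = (-1) ^ j := by
          rw [mul_comm j q, pow_mul, Odd.neg_one_pow hq]
        rw [h8]
        ring
    have h5 := hpow r
    rw [← hcard, FiniteField.pow_card, Odd.neg_one_pow hr] at h5
    have h6 : 2 * a = 0 := by linear_combination h5
    rcases mul_eq_zero.mp h6 with h7 | h7
    · exact absurd h7 h2
    · exact ⟨0, by rw [map_zero, h7]⟩

end Multiplier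

section Main

variable {F K : Type*} [Field F] [Field K] [Fintype F] [Fintype K]

omit [Fintype F] [Fintype K] in
/-- `U = {t | upSL t ∈ H}` is stable under multiplication by `K` (odd characteristic). -/
theorem upSL_smul_mem_odd (φ : K →+* F) (h2 : (2 : F) ≠ 0) (H : Subgroup (SL2 F))
    (hS : (Matrix.SpecialLinearGroup.map φ).range ≤ H) (k : K) (t : F) (ht : upSL t ∈ H) :
    upSL (φ k * t) ∈ H := by
  have hsq : ∀ a : K, upSL (φ a ^ 2 * t) ∈ H := by
    intro a
    by_cases ha : a = 0
    · rw [ha, map_zero, zero_pow two_ne_zero, zero_mul, upSL_zero]; exact H.one_mem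
    · have hd : diagSL (φ a) ((map_ne_zero φ).mpr ha) ∈ H := by
        rw [← map_diagSL φ a ha]; exact hS ⟨_, rfl⟩
      have h3 := conj_upSL_upper (diagSL (φ a) ((map_ne_zero φ).mpr ha)) (diagSL_10 _ _) t
      rw [diagSL_00] at h3
      rw [← h3]
      exact H.mul_mem (H.mul_mem hd ht) (H.inv_mem hd)
  have h2K : (2 : K) ≠ 0 := by
    intro h
    apply h2
    have h3 := congrArg φ h
    rw [map_ofNat, map_zero] at h3
    exact h3
  obtain ⟨c, hc⟩ : ∃ c : K, 2 * c = 1 := ⟨2⁻¹, mul_inv_cancel₀ h2K⟩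
  have hk : φ k * t = φ ((k + 1) * c) ^ 2 * t + -(φ ((k - 1) * c) ^ 2 * t) := by
    have h3 : k = ((k + 1) * c) ^ 2 - ((k - 1) * c) ^ 2 := by
      linear_combination (-(k) * (2 * c + 1)) * hc
    rw [← map_pow, ← map_pow, ← sub_eq_add_neg, ← sub_mul, ← map_sub, ← h3]
  rw [hk, ← upSL_add, ← upSL_inv]
  exact H.mul_mem (hsq _) (H.inv_mem (hsq _))

/-- **Maximality of the subfield subgroup of `SL₂`, odd characteristic, odd prime degree.** -/
theorem subfield_max_odd (φ : K →+* F) (q r : ℕ) (hK : Fintype.card K = q)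
    (hF : Fintype.card F = q ^ r) (hq : Odd q) (hr : r.Prime) (hr2 : r ≠ 2)
    (H : Subgroup (SL2 F)) (hS : (Matrix.SpecialLinearGroup.map φ).range ≤ H) :
    H = (Matrix.SpecialLinearGroup.map φ).range ∨ H = ⊤ := by
  obtain ⟨p, hp⟩ := CharP.exists F
  have : Fact p.Prime := ⟨CharP.char_is_prime F p⟩
  have hFodd : Odd (Fintype.card F) := by rw [hF]; exact hq.pow
  have hchar : ringChar F ≠ 2 := fun h => by
    have h1 := FiniteField.even_card_of_char_two h
    have h3 := Nat.odd_iff.mp hFodd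
    omega
  have h2 : (2 : F) ≠ 0 := Ring.two_ne_zero hchar
  have hrodd : Odd r := hr.odd_of_ne_two hr2
  have hq3 : 3 ≤ q := by
    have h1 : 1 < q := by rw [← hK]; exact Fintype.one_lt_card
    obtain ⟨e, he⟩ := hq
    omega
  have hcard : Fintype.card F = Fintype.card K ^ r := by rw [hK, hF]
  have hu1 : upSL (1 : F) ∈ H := by
    have h1 : upSL (1 : F) = Matrix.SpecialLinearGroup.map φ (upSL 1) := by
      rw [map_upSL, map_one]
    rw [h1]; exact hS ⟨_, rfl⟩
  have hw : (wSL : SL2 F) ∈ H := by rw [← map_wSL φ]; exact hS ⟨_, rfl⟩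
  have hneg : (negOne : SL2 F) ∈ H := by rw [← map_negOne φ]; exact hS ⟨_, rfl⟩
  rcases multiplier_dichotomy φ r hr hcard {t : F | upSL t ∈ H}
      (by show upSL 0 ∈ H; rw [upSL_zero]; exact H.one_mem)
      (by intro s t hs ht; show upSL (s + t) ∈ H; rw [← upSL_add]; exact H.mul_mem hs ht)
      (by intro k t ht; exact upSL_smul_mem_odd φ h2 H hS k t ht) with hM | hM
  · right
    apply eq_top_of_upSL H _ hw
    intro t
    have h1 := hM t 1 hu1
    rw [mul_one] at h1
    exact h1
  · left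
    have hdiag : ∀ g ∈ H, g 1 0 = 0 → g 0 0 ∈ Set.range φ := by
      intro g hg hg10
      apply mem_range_of_sq_mem_odd φ h2 r hrodd (by rw [hK]; exact hq) hcard
      apply hM
      intro t ht
      show upSL (g 0 0 ^ 2 * t) ∈ H
      rw [← conj_upSL_upper g hg10 t]
      exact H.mul_mem (H.mul_mem hg ht) (H.inv_mem hg)
    have hne0 : ∀ (g : SL2 F) (a : K), g 1 0 = 0 → φ a = g 0 0 → a ≠ 0 := by
      intro g a hg10 ha
      have hd := sl2_det' g
      rw [hg10, mul_zero, sub_zero] at hd
      rintro rfl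
      rw [map_zero] at ha
      rw [← ha, zero_mul] at hd
      exact zero_ne_one hd
    have hB : ∀ g ∈ H, g 1 0 = 0 → ∃ h ∈ H, h 0 0 = g 0 0 ∧ h 0 1 = 0 ∧ h 1 0 = 0 := by
      intro g hg hg10
      obtain ⟨a, ha⟩ := hdiag g hg hg10
      refine ⟨Matrix.SpecialLinearGroup.map φ (diagSL a (hne0 g a hg10 ha)), hS ⟨_, rfl⟩,
        ?_, ?_, ?_⟩
      · rw [sl2_map_apply, diagSL_00, ha]
      · rw [sl2_map_apply, diagSL_01, map_zero]
      · rw [sl2_map_apply, diagSL_10, map_zero]
    obtain ⟨N, s, hN2, hs2, hcardH, hEq⟩ := sl2_core_odd p h2 H hneg hB 1 one_ne_zero hu1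
      ⟨wSL, hw, by rw [wSL_10]; exact neg_ne_zero.mpr one_ne_zero⟩
    have hd : Nat.card {g : SL2 F // g ∈ H ∧ g 0 1 = 0 ∧ g 1 0 = 0} = q - 1 := by
      rw [← hK, ← Nat.card_eq_fintype_card (α := K), ← Nat.card_units]
      symm
      refine Nat.card_congr (Equiv.ofBijective (fun a : Kˣ =>
        (⟨Matrix.SpecialLinearGroup.map φ (diagSL (a : K) a.ne_zero), hS ⟨_, rfl⟩,
          by rw [sl2_map_apply, diagSL_01, map_zero],
          by rw [sl2_map_apply, diagSL_10, map_zero]⟩ :
          {g : SL2 F // g ∈ H ∧ g 0 1 = 0 ∧ g 1 0 = 0})) ⟨?_, ?_⟩)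
      · intro a b hab
        have h1 := congrArg
          (fun x : {g : SL2 F // g ∈ H ∧ g 0 1 = 0 ∧ g 1 0 = 0} => (x : SL2 F) 0 0) hab
        simp only [sl2_map_apply, diagSL_00] at h1
        exact Units.ext (φ.injective h1)
      · rintro ⟨g, hg, hg01, hg10⟩
        obtain ⟨a, ha⟩ := hdiag g hg hg10
        have hd := sl2_det' g
        rw [hg10, mul_zero, sub_zero] at hd
        refine ⟨Units.mk0 a (hne0 g a hg10 ha), ?_⟩
        apply Subtype.ext
        show Matrix.SpecialLinearGroup.map φ (diagSL a (hne0 g a hg10 ha)) = g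
        apply sl2_ext
        · rw [sl2_map_apply, diagSL_00, ha]
        · rw [sl2_map_apply, diagSL_01, map_zero, hg01]
        · rw [sl2_map_apply, diagSL_10, map_zero, hg10]
        · rw [sl2_map_apply, diagSL_11, map_inv₀, ha]
          exact inv_eq_of_mul_eq_one_right hd
    have hA : q ≤ Nat.card {t : F // upSL t ∈ H} := by
      rw [← hK, ← Nat.card_eq_fintype_card]
      apply Nat.card_le_card_of_injective (fun k : K =>
        (⟨φ k, by rw [← map_upSL]; exact hS ⟨_, rfl⟩⟩ : {t : F // upSL t ∈ H}))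
      intro a b hab
      exact φ.injective (congrArg Subtype.val hab)
    rw [hd] at hcardH hEq
    have hfinal := arith_subfield_odd q N _ s hq3 hq hN2 hs2 hA hEq
    rw [hfinal] at hcardH
    have hrange : Nat.card (Matrix.SpecialLinearGroup.map φ : SL2 K →* SL2 F).range =
        q * (q ^ 2 - 1) := by
      rw [← Cfsg.Agent.Lib.helper7.card_SL2 hK]
      exact (Nat.card_congr (MonoidHom.ofInjective (sl2_map_injective φ)).toEquiv).symm
    exact (Subgroup.eq_of_le_of_card_ge hS (by rw [hcardH, hrange])).symm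

end Main

section PSL

/-- Transfer of maximality to a quotient. -/
theorem isCoatom_map_mk {G : Type*} [Group G] (Z : Subgroup G) [Z.Normal] (S : Subgroup G)
    (hZ : Z ≤ S) (hne : S ≠ ⊤) (hmax : ∀ H : Subgroup G, S ≤ H → H = S ∨ H = ⊤) :
    IsCoatom (S.map (QuotientGroup.mk' Z)) := by
  have hcm : (S.map (QuotientGroup.mk' Z)).comap (QuotientGroup.mk' Z) = S := by
    rw [Subgroup.comap_map_eq, QuotientGroup.ker_mk', sup_eq_left]
    exact hZ
  constructor
  · intro h
    apply hne
    rw [← hcm, h, Subgroup.comap_top]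
  · intro H' hlt
    have hle : S ≤ H'.comap (QuotientGroup.mk' Z) := Subgroup.map_le_iff_le_comap.mp (le_of_lt hlt)
    have hmc : (H'.comap (QuotientGroup.mk' Z)).map (QuotientGroup.mk' Z) = H' :=
      Subgroup.map_comap_eq_self_of_surjective (QuotientGroup.mk'_surjective Z) H'
    rcases hmax _ hle with h | h
    · exfalso
      rw [h] at hmc
      exact (ne_of_lt hlt) hmc
    · rw [← hmc, h]
      exact Subgroup.map_top_of_surjective _ (QuotientGroup.mk'_surjective Z)

variable {F K : Type*} [Field F] [Field K]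

theorem mem_center_sl2_iff (g : SL2 F) :
    g ∈ Subgroup.center (SL2 F) ↔ g 0 1 = 0 ∧ g 1 0 = 0 ∧ g 0 0 = g 1 1 := by
  rw [Subgroup.mem_center_iff]
  constructor
  · intro h
    have h1 := h (upSL 1)
    have h2 := h (lowSL 1)
    have e00 := congrArg (fun x : SL2 F => x 0 0) h1
    have e01 := congrArg (fun x : SL2 F => x 0 1) h1
    have f00 := congrArg (fun x : SL2 F => x 0 0) h2
    simp only [sl2_mul_apply, upSL_00, upSL_01, upSL_10, upSL_11] at e00 e01
    simp only [sl2_mul_apply, lowSL_00, lowSL_01, lowSL_10] at f00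
    refine ⟨?_, ?_, ?_⟩
    · linear_combination -f00
    · linear_combination e00
    · linear_combination -e01
  · rintro ⟨h01, h10, h00⟩ x
    apply sl2_ext <;> simp only [sl2_mul_apply, h01, h10, h00] <;> ring

theorem center_sl2_eq (g : SL2 F) (hg : g ∈ Subgroup.center (SL2 F)) : g = 1 ∨ g = negOne := by
  rw [mem_center_sl2_iff] at hg
  by_contra hcon
  push Not at hcon
  rcases nonscalar_of_ne g hcon.1 hcon.2 with h | h | h
  · exact h hg.1
  · exact h hg.2.1
  · exact h hg.2.2

theorem center_le_range (φ : K →+* F) :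
    Subgroup.center (SL2 F) ≤ (Matrix.SpecialLinearGroup.map φ : SL2 K →* SL2 F).range := by
  intro g hg
  rcases center_sl2_eq g hg with rfl | rfl
  · exact Subgroup.one_mem _
  · rw [← map_negOne φ]; exact ⟨_, rfl⟩

theorem range_ne_top [Fintype F] [Fintype K] (φ : K →+* F)
    (hlt : Fintype.card K < Fintype.card F) :
    (Matrix.SpecialLinearGroup.map φ : SL2 K →* SL2 F).range ≠ ⊤ := by
  intro h
  have hsurj : Function.Surjective φ := by
    intro t
    have h1 : upSL t ∈ (Matrix.SpecialLinearGroup.map φ : SL2 K →* SL2 F).range := by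
      rw [h]; trivial
    obtain ⟨g, hg⟩ := h1
    exact ⟨g 0 1, by rw [← sl2_map_apply, hg, upSL_01]⟩
  have := Fintype.card_le_of_surjective φ hsurj
  omega

/-- The image of `SL₂(K)` in `PSL₂(F)` is isomorphic to `PSL₂(K)`. -/
theorem psl_range_equiv (φ : K →+* F) :
    Nonempty (((Matrix.SpecialLinearGroup.map φ : SL2 K →* SL2 F).range.map
      (QuotientGroup.mk' (Subgroup.center (SL2 F)))) ≃*
        (SL2 K ⧸ Subgroup.center (SL2 K))) := by
  obtain ⟨ψ, hψ⟩ : ∃ ψ : SL2 K →* (SL2 F ⧸ Subgroup.center (SL2 F)), ψ =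
      (QuotientGroup.mk' (Subgroup.center (SL2 F))).comp (Matrix.SpecialLinearGroup.map φ) :=
    ⟨_, rfl⟩
  have hker : ψ.ker = Subgroup.center (SL2 K) := by
    ext A
    rw [MonoidHom.mem_ker, hψ, MonoidHom.comp_apply, QuotientGroup.mk'_apply,
      QuotientGroup.eq_one_iff, mem_center_sl2_iff, mem_center_sl2_iff]
    simp only [sl2_map_apply]
    constructor
    · rintro ⟨h01, h10, h00⟩
      refine ⟨?_, ?_, φ.injective h00⟩
      · apply φ.injective; rw [h01, map_zero]
      · apply φ.injective; rw [h10, map_zero]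
    · rintro ⟨h01, h10, h00⟩
      rw [h01, h10, h00, map_zero]
      exact ⟨rfl, rfl, rfl⟩
  have hrange : (Matrix.SpecialLinearGroup.map φ : SL2 K →* SL2 F).range.map
      (QuotientGroup.mk' (Subgroup.center (SL2 F))) = ψ.range := by
    rw [hψ, MonoidHom.map_range]
  exact ⟨(MulEquiv.subgroupCongr hrange).trans
    ((QuotientGroup.quotientKerEquivRange ψ).symm.trans (QuotientGroup.quotientMulEquivOfEq hker))⟩

end PSL

end Cfsg.Agent.Lib.helper98
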