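import Cfsg.Agent.Lib.helper98.DicksonTame
import Cfsg.Agent.Lib.helper98.DicksonWild
import Cfsg.Agent.Lib.helper98.SubfieldSL2

/-!
# Tools for maximality proofs in `PSL₂(q)`

* `mkSL`, `IsLin`, `cube_of_trace_one`, `pow5_of_trace_golden`, ...: powers of elements of `SL₂`
  from their trace.
* `isCoatom_of_comap`, `card_comap_mk`: reduction of maximality in `PSL₂` to `SL₂`.
* `tame_noncomm`: a tame subgroup of `SL₂(q)` with two elements whose squares do not commute has
  order `24`, `48` or `120`.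
* `no_borel_235`, `tame_of_coprime`, `five_isSquare`.
-/

set_option autoImplicit false
set_option linter.unusedSimpArgs false

namespace Cfsg.Agent.Lib.helper98

open Matrix
open scoped Classical

local notation "SL2" => Matrix.SpecialLinearGroup (Fin 2)
local notation "M2" => Matrix (Fin 2) (Fin 2)

section Mk

variable {F : Type*} [Field F]

/-- The element of `SL₂(F)` with given entries. -/
def mkSL (x y z w : F) (h : x * w - y * z = 1) : SL2 F :=
  ⟨!![x, y; z, w], by rw [Matrix.det_fin_two_of]; exact h⟩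

theorem mkSL_00 (x y z w : F) (h : x * w - y * z = 1) : mkSL x y z w h 0 0 = x := rfl
theorem mkSL_01 (x y z w : F) (h : x * w - y * z = 1) : mkSL x y z w h 0 1 = y := rfl
theorem mkSL_10 (x y z w : F) (h : x * w - y * z = 1) : mkSL x y z w h 1 0 = z := rfl
theorem mkSL_11 (x y z w : F) (h : x * w - y * z = 1) : mkSL x y z w h 1 1 = w := rfl

/-- `h = α g + β` entrywise. -/
def IsLin (g h : SL2 F) (α β : F) : Prop :=
  h 0 0 = α * g 0 0 + β ∧ h 0 1 = α * g 0 1 ∧ h 1 0 = α * g 1 0 ∧ h 1 1 = α * g 1 1 + β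

theorem isLin_self (g : SL2 F) : IsLin g g 1 0 :=
  ⟨by ring, by ring, by ring, by ring⟩

theorem isLin_mul {g h : SL2 F} {α β : F} (hl : IsLin g h α β) :
    IsLin g (h * g) (α * (g 0 0 + g 1 1) + β) (-α) := by
  obtain ⟨h00, h01, h10, h11⟩ := hl
  have hd := sl2_det' g
  refine ⟨?_, ?_, ?_, ?_⟩ <;> simp only [sl2_mul_apply, h00, h01, h10, h11]
  · linear_combination (-α) * hd
  · ring
  · ring
  · linear_combination (-α) * hd

theorem isLin_congr {g h : SL2 F} {α β α' β' : F} (hl : IsLin g h α β) (hα : α = α')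
    (hβ : β = β') : IsLin g h α' β' := by
  subst hα; subst hβ; exact hl

theorem isLin_negOne {g h : SL2 F} (hl : IsLin g h 0 (-1)) : h = negOne := by
  obtain ⟨h00, h01, h10, h11⟩ := hl
  apply sl2_ext <;> simp only [negOne_00, negOne_01, negOne_10, negOne_11]
  · rw [h00]; ring
  · rw [h01]; ring
  · rw [h10]; ring
  · rw [h11]; ring

theorem sq_of_trace_zero (g : SL2 F) (ht : g 0 0 + g 1 1 = 0) : g * g = negOne :=
  isLin_negOne (isLin_congr (isLin_mul (isLin_self g)) (by rw [ht]; ring) rfl)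

theorem cube_of_trace_one (g : SL2 F) (ht : g 0 0 + g 1 1 = 1) : g * g * g = negOne :=
  isLin_negOne (isLin_congr (isLin_mul (isLin_mul (isLin_self g))) (by rw [ht]; ring)
    (by rw [ht]; ring))

theorem pow4_of_trace_sqrt2 (g : SL2 F) (σ : F) (hσ : σ * σ = 2) (ht : g 0 0 + g 1 1 = σ) :
    g * g * g * g = negOne :=
  isLin_negOne (isLin_congr (isLin_mul (isLin_mul (isLin_mul (isLin_self g))))
    (by rw [ht]; linear_combination σ * hσ) (by rw [ht]; linear_combination (-1 : F) * hσ))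

theorem pow5_of_trace_golden (g : SL2 F) (τ : F) (hτ : τ * τ = τ + 1) (ht : g 0 0 + g 1 1 = τ) :
    g * g * g * g * g = negOne :=
  isLin_negOne (isLin_congr (isLin_mul (isLin_mul (isLin_mul (isLin_mul (isLin_self g)))))
    (by rw [ht]; linear_combination (τ * τ + τ - 1) * hτ)
    (by rw [ht]; linear_combination (-(τ + 1)) * hτ))

theorem negOne_mem_center : (negOne : SL2 F) ∈ Subgroup.center (SL2 F) :=
  (mem_center_sl2_iff negOne).mpr ⟨rfl, rfl, rfl⟩

theorem mk_negOne :
    (QuotientGroup.mk' (Subgroup.center (SL2 F))) negOne = 1 :=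
  (QuotientGroup.eq_one_iff _).mpr negOne_mem_center

theorem negOne_mem_comap (H : Subgroup (Matrix.ProjectiveSpecialLinearGroup (Fin 2) F)) :
    negOne ∈ H.comap (QuotientGroup.mk' (Subgroup.center (SL2 F))) := by
  rw [Subgroup.mem_comap, mk_negOne]; exact H.one_mem

theorem negOne_pow_two : (negOne : SL2 F) ^ 2 = 1 := by
  rw [pow_two, negOne_mul_self]

/-- Relations `A³ = B⁵ = (AB)² = -1` are impossible for upper triangular matrices. -/
theorem no_borel_235 (h2 : (2 : F) ≠ 0) (A B c : SL2 F) (hA3 : A * A * A = negOne)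
    (hB5 : B * B * B * B * B = negOne) (hAB : A * B * (A * B) = negOne)
    (hA : (c * A * c⁻¹) 1 0 = 0) (hB : (c * B * c⁻¹) 1 0 = 0) : False := by
  have hcn : c * negOne * c⁻¹ = negOne := by
    rw [← negOne_comm, mul_inv_cancel_right]
  have hA3' : (c * A * c⁻¹) * (c * A * c⁻¹) * (c * A * c⁻¹) = negOne := by
    rw [← hcn, ← hA3]; group
  have hB5' : (c * B * c⁻¹) * (c * B * c⁻¹) * (c * B * c⁻¹) * (c * B * c⁻¹) * (c * B * c⁻¹) =
      negOne := by
    rw [← hcn, ← hB5]; group
  have hAB' : (c * A * c⁻¹) * (c * B * c⁻¹) * ((c * A * c⁻¹) * (c * B * c⁻¹)) = negOne := by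
    rw [← hcn, ← hAB]; group
  obtain ⟨α, hα⟩ : ∃ α, α = (c * A * c⁻¹) 0 0 := ⟨_, rfl⟩
  obtain ⟨β, hβ⟩ : ∃ β, β = (c * B * c⁻¹) 0 0 := ⟨_, rfl⟩
  have e1 : α * α * α = -1 := by
    have := congrArg (fun g : SL2 F => g 0 0) hA3'
    simp only [sl2_mul_apply, hA, negOne_00, ← hα] at this
    linear_combination this
  have e2 : β * β * β * β * β = -1 := by
    have := congrArg (fun g : SL2 F => g 0 0) hB5'
    simp only [sl2_mul_apply, hB, negOne_00, ← hβ] at this
    linear_combination this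
  have e3 : α * β * (α * β) = -1 := by
    have := congrArg (fun g : SL2 F => g 0 0) hAB'
    simp only [sl2_mul_apply, hA, hB, negOne_00, ← hα, ← hβ] at this
    linear_combination this
  have h30 : (α * β) ^ 30 = 1 := by
    have ha : α ^ 30 = 1 := by
      calc α ^ 30 = (α * α * α) ^ 10 := by ring
        _ = 1 := by rw [e1]; norm_num
    have hb : β ^ 30 = 1 := by
      calc β ^ 30 = (β * β * β * β * β) ^ 6 := by ring
        _ = 1 := by rw [e2]; norm_num
    rw [mul_pow, ha, hb, mul_one]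
  have h30' : (α * β) ^ 30 = -1 := by
    calc (α * β) ^ 30 = (α * β * (α * β)) ^ 15 := by ring
      _ = -1 := by rw [e3]; norm_num
  apply h2
  rw [h30] at h30'
  linear_combination h30'

end Mk

section Fin

variable {F : Type*} [Field F] [Fintype F]

theorem card_comap_mk (h2 : (2 : F) ≠ 0)
    (H : Subgroup (Matrix.ProjectiveSpecialLinearGroup (Fin 2) F)) :
    Nat.card (H.comap (QuotientGroup.mk' (Subgroup.center (SL2 F)))) = 2 * Nat.card H := by
  have h1 := Subgroup.index_comap_of_surjective H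
    (QuotientGroup.mk'_surjective (Subgroup.center (SL2 F)))
  have h3 := Subgroup.card_mul_index (H.comap (QuotientGroup.mk' (Subgroup.center (SL2 F))))
  have h4 := Subgroup.card_mul_index H
  have h5 := Cfsg.Agent.Lib.helper7.two_mul_card_PSL2 (F := F) rfl h2
  rw [← Cfsg.Agent.Lib.helper7.card_SL2 (F := F) rfl, ← h3, ← h4, h1] at h5
  have hpos : 0 < H.index := Nat.pos_of_ne_zero Subgroup.index_ne_zero_of_finite
  have h6 : H.index * (2 * Nat.card H) =
      H.index * Nat.card (H.comap (QuotientGroup.mk' (Subgroup.center (SL2 F)))) := by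
    rw [mul_comm H.index (Nat.card _), ← h5]; ring
  exact (Nat.eq_of_mul_eq_mul_left hpos h6).symm

omit [Fintype F] in
/-- Maximality in `PSL₂` from an order bound for the overgroups of the preimage in `SL₂`. -/
theorem isCoatom_of_comap [Finite F]
    (H : Subgroup (Matrix.ProjectiveSpecialLinearGroup (Fin 2) F)) (hne : H ≠ ⊤)
    (hmax : ∀ K : Subgroup (SL2 F), H.comap (QuotientGroup.mk' (Subgroup.center (SL2 F))) ≤ K →
      K ≠ ⊤ → Nat.card K ≤ Nat.card (H.comap (QuotientGroup.mk' (Subgroup.center (SL2 F))))) :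
    IsCoatom H := by
  refine ⟨hne, fun K' hlt => ?_⟩
  by_contra hK
  have hle : H.comap (QuotientGroup.mk' (Subgroup.center (SL2 F))) ≤
      K'.comap (QuotientGroup.mk' (Subgroup.center (SL2 F))) := Subgroup.comap_mono hlt.le
  have hne' : K'.comap (QuotientGroup.mk' (Subgroup.center (SL2 F))) ≠ ⊤ := by
    intro h
    apply hK
    apply Subgroup.comap_injective (QuotientGroup.mk'_surjective _)
    rw [h, Subgroup.comap_top]
  have hc := hmax _ hle hne'
  have heq := Subgroup.eq_of_le_of_card_ge hle hc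
  exact hlt.ne (Subgroup.comap_injective (QuotientGroup.mk'_surjective _) heq)

/-- A tame subgroup with two elements whose squares do not commute has order `24`, `48` or
`120`. -/
theorem tame_noncomm (h2 : (2 : F) ≠ 0) {δ : F} (hδ : ¬ IsSquare δ) (K : Subgroup (SL2 F))
    (hneg : negOne ∈ K) (htame : ∀ g ∈ K, g 0 0 + g 1 1 = 2 → g = 1)
    (u v : SL2 F) (hu : u ∈ K) (hv : v ∈ K) (huv : u * u * (v * v) ≠ v * v * (u * u)) :
    (Nat.card K = 24 ∧ (∀ J : TZ δ, Nat.card ↥(K ⊓ MulAction.stabilizer (SL2 F) J) ≤ 6) ∧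
      ∃ J : TZ δ, Nat.card ↥(K ⊓ MulAction.stabilizer (SL2 F) J) = 6) ∨
    (Nat.card K = 48 ∧ (∀ J : TZ δ, Nat.card ↥(K ⊓ MulAction.stabilizer (SL2 F) J) ≤ 8) ∧
      ∃ J : TZ δ, Nat.card ↥(K ⊓ MulAction.stabilizer (SL2 F) J) = 8) ∨
    (Nat.card K = 120 ∧ (∀ J : TZ δ, Nat.card ↥(K ⊓ MulAction.stabilizer (SL2 F) J) ≤ 10) ∧
      ∃ J : TZ δ, Nat.card ↥(K ⊓ MulAction.stabilizer (SL2 F) J) = 10) := by
  have hδ0 : δ ≠ 0 := by
    rintro rfl; exact hδ ⟨0, by rw [mul_zero]⟩
  rcases tame_odd h2 hδ K hneg htame with h | ⟨J, hJ⟩ | ⟨J, hJ⟩ | h | h | h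
  · exfalso
    have hsq : ∀ g ∈ K, g * g = 1 := by
      intro g hg
      have h3 := pow_card_eq_one' (G := K) (x := ⟨g, hg⟩)
      rw [h, pow_two] at h3
      exact congrArg Subtype.val h3
    apply huv
    rw [hsq u hu, hsq v hv]
  · exfalso
    apply huv
    exact tz_stab_comm h2 hδ0 J _ _
      (MulAction.mem_stabilizer_iff.mp (hJ (K.mul_mem hu hu)))
      (MulAction.mem_stabilizer_iff.mp (hJ (K.mul_mem hv hv)))
  · exfalso
    have hsub : Nat.card ↥((K ⊓ MulAction.stabilizer (SL2 F) J).subgroupOf K) =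
        Nat.card ↥(K ⊓ MulAction.stabilizer (SL2 F) J) :=
      Nat.card_congr (Subgroup.subgroupOfEquivOfLe inf_le_left).toEquiv
    have hidx : ((K ⊓ MulAction.stabilizer (SL2 F) J).subgroupOf K).index = 2 := by
      have h1 := Subgroup.card_mul_index ((K ⊓ MulAction.stabilizer (SL2 F) J).subgroupOf K)
      rw [hsub, ← hJ] at h1
      have hpos : 0 < Nat.card ↥(K ⊓ MulAction.stabilizer (SL2 F) J) := Nat.card_pos
      have h3 : Nat.card ↥(K ⊓ MulAction.stabilizer (SL2 F) J) *
          ((K ⊓ MulAction.stabilizer (SL2 F) J).subgroupOf K).index =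
          Nat.card ↥(K ⊓ MulAction.stabilizer (SL2 F) J) * 2 := by rw [h1]; ring
      exact Nat.eq_of_mul_eq_mul_left hpos h3
    have hsq : ∀ g ∈ K, g * g ∈ MulAction.stabilizer (SL2 F) J := by
      intro g hg
      have h3 := Subgroup.mul_self_mem_of_index_two hidx (⟨g, hg⟩ : K)
      rw [Subgroup.mem_subgroupOf] at h3
      exact h3.2
    apply huv
    exact tz_stab_comm h2 hδ0 J _ _ (MulAction.mem_stabilizer_iff.mp (hsq u hu))
      (MulAction.mem_stabilizer_iff.mp (hsq v hv))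
  · left; exact h
  · right; left; exact h
  · right; right; exact h

omit [Fintype F] in
/-- A subgroup of order prime to `p` has no nontrivial unipotent element. -/
theorem tame_of_coprime (p : ℕ) [Fact p.Prime] [CharP F p] (K : Subgroup (SL2 F))
    (hp : ¬ p ∣ Nat.card K) : ∀ g ∈ K, g 0 0 + g 1 1 = 2 → g = 1 := by
  intro g hg htr
  have h1 := unip_pow_char p g htr
  have h2 : (⟨g, hg⟩ : K) ^ p = 1 := Subtype.ext h1
  have h3 := orderOf_dvd_of_pow_eq_one h2
  rcases (Nat.Prime.eq_one_or_self_of_dvd (Fact.out : p.Prime) _ h3) with h | h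
  · rw [orderOf_eq_one_iff] at h
    exact congrArg Subtype.val h
  · exfalso
    apply hp
    rw [← h]
    exact orderOf_dvd_natCard _

/-- `5` is a square in a finite field of odd order `≡ ±1 (mod 5)`. -/
theorem five_isSquare (hF : ringChar F ≠ 2)
    (h5 : Fintype.card F % 5 = 1 ∨ Fintype.card F % 5 = 4) : IsSquare ((5 : ℕ) : F) := by
  have : Fact (Nat.Prime 5) := ⟨by norm_num⟩
  rw [FiniteField.isSquare_odd_prime_iff hF (by norm_num)]
  have hodd := FiniteField.odd_card_of_char_ne_two hF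
  have hχ : ZMod.χ₄ (Fintype.card F : ZMod 4) = 1 ∨ ZMod.χ₄ (Fintype.card F : ZMod 4) = -1 := by
    rw [ZMod.χ₄_nat_eq_if_mod_four]
    rw [if_neg (by omega)]
    split_ifs <;> simp
  have hn : ((Fintype.card F : ℕ) : ZMod 5) = 1 ∨ ((Fintype.card F : ℕ) : ZMod 5) = 4 := by
    rw [← ZMod.natCast_mod]
    rcases h5 with h | h <;> rw [h]
    · left; exact Nat.cast_one
    · right; norm_num
  have h5z : (5 : ZMod 5) = 0 := by exact_mod_cast ZMod.natCast_self 5
  have h4 : (4 : ZMod 5) ≠ 0 := by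
    intro h
    have h' : ((4 : ℕ) : ZMod 5) = 0 := by exact_mod_cast h
    have := (ZMod.natCast_eq_zero_iff 4 5).mp h'
    norm_num at this
  have hsq : IsSquare (((ZMod.χ₄ (Fintype.card F : ZMod 4) : ℤ) : ZMod 5) *
      ((Fintype.card F : ℕ) : ZMod 5)) ∧
      (((ZMod.χ₄ (Fintype.card F : ZMod 4) : ℤ) : ZMod 5) *
      ((Fintype.card F : ℕ) : ZMod 5)) ≠ 0 := by
    rcases hχ with h | h <;> rcases hn with h' | h' <;> rw [h, h'] <;>
      simp only [Int.cast_one, Int.cast_neg, one_mul, mul_one, neg_mul]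
    · exact ⟨⟨1, (mul_one 1).symm⟩, one_ne_zero⟩
    · exact ⟨⟨2, by norm_num⟩, h4⟩
    · exact ⟨⟨2, by linear_combination (-1 : ZMod 5) * h5z⟩, neg_ne_zero.mpr one_ne_zero⟩
    · exact ⟨⟨1, by linear_combination (-1 : ZMod 5) * h5z⟩, neg_ne_zero.mpr h4⟩
  rw [(quadraticChar_one_iff_isSquare hsq.2).mpr hsq.1]
  norm_num

end Fin

end Cfsg.Agent.Lib.helper98
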