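import Mathlib
import Cfsg.Agent.Lib.helper98.DicksonMax
import Cfsg.Agent.Lib.helper98.SubfieldSL2
import Cfsg.Agent.Lib.helper46.TorusAll
import Cfsg.Agent.Lib.helper46.Sylow2Torus
import Cfsg.Agent.Lib.helper59.TwoGroups

/-!
# Torus normalizers in `SL₂(q)`, `q` even

A maximal subgroup `K` of `SL₂(q)`, `q ≥ 4` even, containing an element `x` of odd prime order
all of whose `K`-conjugates commute with `x`, is dihedral of order `2 (q - 1)` or `2 (q + 1)`.
-/

set_option autoImplicit false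
set_option linter.unusedSimpArgs false
set_option linter.unusedVariables false

namespace Cfsg.Agent.Lib.helper98

open Matrix
open scoped Classical
open Cfsg.Agent.Lib.helper46

local notation "SL2" => Matrix.SpecialLinearGroup (Fin 2)

section Grp

variable {G : Type*} [Group G]

/-- Sylow: an element of prime order `r` is conjugate into `⟨t⟩` if `⟨t⟩` contains a Sylow
`r`-subgroup. -/
theorem exists_conj_mem_zpowers [Finite G] (t x : G) (r : ℕ) (hr : r.Prime)
    (hfac : (Nat.card G).factorization r = (orderOf t).factorization r)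
    (hx : orderOf x = r) : ∃ g : G, g⁻¹ * x * g ∈ Subgroup.zpowers t := by
  have : Fact r.Prime := ⟨hr⟩
  obtain ⟨n, hn⟩ : ∃ n, n = orderOf t := ⟨_, rfl⟩
  have hn0 : n ≠ 0 := by rw [hn]; exact (orderOf_pos t).ne'
  obtain ⟨m, hm⟩ : ∃ m, m = n / r ^ n.factorization r := ⟨_, rfl⟩
  have hmul : r ^ n.factorization r * m = n := by
    rw [hm]; exact Nat.ordProj_mul_ordCompl_eq_self n r
  have hm0 : m ≠ 0 := by
    rintro rfl
    rw [mul_zero] at hmul
    exact hn0 hmul.symm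
  have hord : orderOf (t ^ m) = r ^ n.factorization r := by
    rw [orderOf_pow_of_dvd hm0 (by rw [← hn, ← hmul]; exact dvd_mul_left _ _), ← hn]
    exact Nat.div_eq_of_eq_mul_left (Nat.pos_of_ne_zero hm0) hmul.symm
  have hcard : Nat.card (Subgroup.zpowers (t ^ m)) = r ^ (Nat.card G).factorization r := by
    rw [Nat.card_zpowers, hord, hfac, hn]
  have hQ : IsPGroup r (Subgroup.zpowers x) :=
    IsPGroup.of_card (n := 1) (by rw [Nat.card_zpowers, hx, pow_one])
  obtain ⟨P₁, hP₁⟩ := hQ.exists_le_sylow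
  obtain ⟨g, hg⟩ := MulAction.exists_smul_eq G (Sylow.ofCard (Subgroup.zpowers (t ^ m)) hcard) P₁
  refine ⟨g, ?_⟩
  have hxP : x ∈ (P₁ : Subgroup G) := hP₁ (Subgroup.mem_zpowers x)
  rw [← hg, Sylow.coe_subgroup_smul, Subgroup.mem_pointwise_smul_iff_inv_smul_mem,
    Sylow.coe_ofCard] at hxP
  have hxP' : g⁻¹ * x * g ∈ Subgroup.zpowers (t ^ m) := by
    simpa [MulAut.smul_def, MulAut.conj_inv_apply] using hxP
  exact Subgroup.zpowers_le.mpr (Subgroup.pow_mem _ (Subgroup.mem_zpowers t) m) hxP'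

end Grp

section Even

variable {F : Type*} [Field F] [Fintype F]

omit [Fintype F] in
theorem center_eq_one_of_char_two (h2 : (2 : F) = 0) (g : SL2 F)
    (hg : g ∈ Subgroup.center (SL2 F)) : g = 1 := by
  rcases center_sl2_eq g hg with h | h
  · exact h
  · rw [h, negOne_eq_one h2]

omit [Fintype F] in
theorem conjSub_equiv (c : SL2 F) (H : Subgroup (SL2 F)) : Nonempty (conjSub c H ≃* H) :=
  ⟨(Subgroup.equivMapOfInjective H (MulAut.conj c).toMonoidHom (MulAut.conj c).injective).symm⟩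

/-- The torus normalizer: a maximal subgroup `K` with a nontrivial `x` conjugate into `⟨t⟩` and
commuting with its `K`-conjugates is dihedral. -/
theorem dihedral_of_pkg (h2 : (2 : F) = 0) (h4 : 4 ≤ Fintype.card F) (n : ℕ)
    (hn : n ≤ Fintype.card F + 1) (t w : SL2 F) (hpkg : TorusPkg n t w)
    (K : Subgroup (SL2 F)) (hK : IsCoatom K) (x : SL2 F) (hx1 : x ≠ 1)
    (hcomm : ∀ k ∈ K, (k * x * k⁻¹) * x = x * (k * x * k⁻¹))
    (g : SL2 F) (hgx : g⁻¹ * x * g ∈ Subgroup.zpowers t) :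
    Nonempty (K ≃* DihedralGroup n) := by
  obtain ⟨ht, hC, hcent, hconj, hw, hwT, hw2Z, hZ⟩ := hpkg
  have hcen : ∀ y : SL2 F, y ≠ 1 → y ∉ Subgroup.center (SL2 F) :=
    fun y hy hyc => hy (center_eq_one_of_char_two h2 y hyc)
  have hw2 : w * w = 1 := center_eq_one_of_char_two h2 _ hw2Z
  have hw2T : w * w ∈ Subgroup.zpowers t := hZ hw2Z
  obtain ⟨x₁, hx₁⟩ : ∃ x₁, x₁ = g⁻¹ * x * g := ⟨_, rfl⟩
  rw [← hx₁] at hgx
  have hx₁1 : x₁ ≠ 1 := by
    intro h
    apply hx1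
    have e : x = g * x₁ * g⁻¹ := by rw [hx₁]; group
    rw [e, h]; group
  have hCx : ∀ h : SL2 F, h * x₁ = x₁ * h → h ∈ Subgroup.zpowers t :=
    hcent x₁ hgx (hcen x₁ hx₁1)
  have htx : t * x₁ = x₁ * t := by
    obtain ⟨k, hk⟩ := Subgroup.mem_zpowers_iff.mp hgx
    rw [← hk]
    exact ((Commute.refl t).zpow_right k).eq
  have hle : K ≤ conjSub g (dicSub t w hw hw2T) := by
    intro k hk
    rw [mem_conjSub, mem_dicSub]
    obtain ⟨k₁, hk₁⟩ : ∃ k₁, k₁ = g⁻¹ * k * g := ⟨_, rfl⟩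
    rw [← hk₁]
    obtain ⟨y₁, hy₁⟩ : ∃ y₁, y₁ = k₁ * x₁ * k₁⁻¹ := ⟨_, rfl⟩
    have hy₁' : y₁ = g⁻¹ * (k * x * k⁻¹) * g := by rw [hy₁, hk₁, hx₁]; group
    have hy₁x : y₁ * x₁ = x₁ * y₁ := by
      rw [hy₁', hx₁]
      have h3 := hcomm k hk
      calc g⁻¹ * (k * x * k⁻¹) * g * (g⁻¹ * x * g) = g⁻¹ * ((k * x * k⁻¹) * x) * g := by group
        _ = g⁻¹ * (x * (k * x * k⁻¹)) * g := by rw [h3]
        _ = g⁻¹ * x * g * (g⁻¹ * (k * x * k⁻¹) * g) := by group
    have hy₁T : y₁ ∈ Subgroup.zpowers t := hCx y₁ hy₁x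
    have hy₁1 : y₁ ≠ 1 := by
      intro h
      apply hx₁1
      have e : x₁ = k₁⁻¹ * y₁ * k₁ := by rw [hy₁]; group
      rw [e, h]; group
    have hCy : ∀ h : SL2 F, h * y₁ = y₁ * h → h ∈ Subgroup.zpowers t :=
      hcent y₁ hy₁T (hcen y₁ hy₁1)
    have hkt : k₁ * t * k₁⁻¹ ∈ Subgroup.zpowers t := by
      apply hCy
      rw [hy₁]
      calc k₁ * t * k₁⁻¹ * (k₁ * x₁ * k₁⁻¹) = k₁ * (t * x₁) * k₁⁻¹ := by group
        _ = k₁ * (x₁ * t) * k₁⁻¹ := by rw [htx]
        _ = k₁ * x₁ * k₁⁻¹ * (k₁ * t * k₁⁻¹) := by group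
    rcases hconj k₁ hkt with h | h
    · left
      apply hC
      calc k₁ * t = (k₁ * t * k₁⁻¹) * k₁ := by group
        _ = t * k₁ := by rw [h]
    · right
      apply hC
      calc w⁻¹ * k₁ * t = w⁻¹ * (k₁ * t * k₁⁻¹) * k₁ := by group
        _ = w⁻¹ * (w * t * w⁻¹) * k₁ := by rw [h, hw]
        _ = t * (w⁻¹ * k₁) := by group
  have hcardN : Nat.card (dicSub t w hw hw2T) = 2 * n := by
    rw [card_dicSub t w hw hw2T hwT, ht]
  have hne : conjSub g (dicSub t w hw hw2T) ≠ ⊤ := by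
    intro h
    have h1 := card_conjSub g (dicSub t w hw hw2T)
    rw [h, Subgroup.card_top, Cfsg.Agent.Lib.helper7.card_SL2 (F := F) rfl, hcardN] at h1
    obtain ⟨m, hm⟩ : ∃ m, Fintype.card F = m + 4 := ⟨Fintype.card F - 4, by omega⟩
    rw [hm] at h1 hn
    have h3 : (m + 4) ^ 2 - 1 = m ^ 2 + 8 * m + 15 := by
      apply Nat.sub_eq_of_eq_add; ring
    rw [h3] at h1
    nlinarith
  have heq : K = conjSub g (dicSub t w hw hw2T) := by
    rcases hK.le_iff.mp hle with h | h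
    · exact absurd h hne
    · exact h.symm
  have e1 : Nonempty (dicSub t w hw hw2T ≃* DihedralGroup n) := by
    have htN : t ∈ dicSub t w hw hw2T :=
      (mem_dicSub t w hw hw2T t).mpr (Or.inl (Subgroup.mem_zpowers t))
    have hwN : w ∈ dicSub t w hw hw2T :=
      (mem_dicSub t w hw hw2T w).mpr (Or.inr (by rw [inv_mul_cancel]; exact Subgroup.one_mem _))
    refine Cfsg.Agent.Lib.helper59.dihedral_equiv_of_rel n
      (⟨t, htN⟩ : dicSub t w hw hw2T) ⟨w, hwN⟩ ?_ hcardN ?_ ?_ ?_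
    · rw [← ht]; exact Subgroup.orderOf_mk t htN
    · intro hmem
      obtain ⟨k, hk⟩ := Subgroup.mem_zpowers_iff.mp hmem
      have hk' := congrArg Subtype.val hk
      simp only [Subgroup.coe_zpow] at hk'
      apply hwT
      rw [← hk']
      exact Subgroup.zpow_mem _ (Subgroup.mem_zpowers t) k
    · apply Subtype.ext
      simp only [Subgroup.coe_pow, Subgroup.coe_one]
      rw [pow_two]; exact hw2
    · apply Subtype.ext
      simp only [Subgroup.coe_mul, Subgroup.coe_inv]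
      exact hw
  obtain ⟨e1⟩ := e1
  obtain ⟨e2⟩ := conjSub_equiv g (dicSub t w hw hw2T)
  exact ⟨((MulEquiv.subgroupCongr heq).trans e2).trans e1⟩

/-- **Maximal subgroups with an abelian normal subgroup of odd order.** -/
theorem dihedral_of_commuting_conj (h2 : (2 : F) = 0) (h4 : 4 ≤ Fintype.card F)
    (K : Subgroup (SL2 F)) (hK : IsCoatom K) (x : SL2 F) (r : ℕ) (hr : r.Prime)
    (hr2 : r ≠ 2) (hxr : orderOf x = r)
    (hcomm : ∀ k ∈ K, (k * x * k⁻¹) * x = x * (k * x * k⁻¹)) :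
    Nonempty (K ≃* DihedralGroup (Fintype.card F - 1)) ∨
      Nonempty (K ≃* DihedralGroup (Fintype.card F + 1)) := by
  obtain ⟨q, hq⟩ : ∃ q, q = Fintype.card F := ⟨_, rfl⟩
  have hx1 : x ≠ 1 := by
    rintro rfl
    rw [orderOf_one] at hxr
    exact hr.one_lt.ne' hxr.symm
  have hcardG := Cfsg.Agent.Lib.helper7.card_SL2 (F := F) hq.symm
  have hrG : r ∣ q * (q ^ 2 - 1) := by
    rw [← hcardG, ← hxr]; exact orderOf_dvd_natCard x
  have : CharP F 2 := CharTwo.of_one_ne_zero_of_two_eq_zero one_ne_zero h2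
  obtain ⟨n, -, hqn⟩ := FiniteField.card F 2
  have hrq : ¬ r ∣ q := by
    intro h
    rw [hq, hqn] at h
    exact hr2 ((Nat.prime_dvd_prime_iff_eq hr Nat.prime_two).mp (hr.dvd_of_dvd_pow h))
  have hq4 : 4 ≤ q := by rw [hq]; exact h4
  have hfact : q ^ 2 - 1 = (q - 1) * (q + 1) := by
    obtain ⟨m, rfl⟩ : ∃ m, q = m + 1 := ⟨q - 1, by omega⟩
    apply Nat.sub_eq_of_eq_add
    simp only [Nat.add_sub_cancel]; ring
  have hr' : r ∣ (q - 1) * (q + 1) := by
    rw [← hfact]; exact (hr.dvd_mul.mp hrG).resolve_left hrq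
  have hnot_both : ¬ (r ∣ q - 1 ∧ r ∣ q + 1) := by
    rintro ⟨h1, h2'⟩
    have h3 : r ∣ (q + 1) - (q - 1) := Nat.dvd_sub h2' h1
    have h4' : (q + 1) - (q - 1) = 2 := by omega
    rw [h4'] at h3
    exact hr2 ((Nat.prime_dvd_prime_iff_eq hr Nat.prime_two).mp h3)
  have hfacG : ∀ n' : ℕ, (n' = q - 1 ∨ n' = q + 1) → r ∣ n' →
      (q * (q ^ 2 - 1)).factorization r = n'.factorization r := by
    intro n' hn' hrn'
    rw [hfact, Nat.factorization_mul (by omega) (Nat.mul_ne_zero (by omega) (by omega)),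
      Nat.factorization_mul (by omega) (by omega)]
    simp only [Finsupp.coe_add, Pi.add_apply]
    rw [Nat.factorization_eq_zero_of_not_dvd hrq, zero_add]
    rcases hn' with rfl | rfl
    · rw [Nat.factorization_eq_zero_of_not_dvd (fun h => hnot_both ⟨hrn', h⟩), add_zero]
    · rw [Nat.factorization_eq_zero_of_not_dvd (fun h => hnot_both ⟨h, hrn'⟩), zero_add]
  rcases hr.dvd_mul.mp hr' with h | h
  · left
    obtain ⟨t, w, hpkg⟩ := split_torus_pkg (F := F) h4
    rw [← hq] at hpkg ⊢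
    obtain ⟨g, hg⟩ := exists_conj_mem_zpowers t x r hr
      (by rw [hcardG, hpkg.1]; exact hfacG _ (Or.inl rfl) h) hxr
    exact dihedral_of_pkg h2 h4 (q - 1) (by omega) t w hpkg K hK x hx1 hcomm g hg
  · right
    obtain ⟨t, w, hpkg⟩ := nonsplit_torus_pkg (F := F)
    rw [← hq] at hpkg ⊢
    obtain ⟨g, hg⟩ := exists_conj_mem_zpowers t x r hr
      (by rw [hcardG, hpkg.1]; exact hfacG _ (Or.inr rfl) h) hxr
    exact dihedral_of_pkg h2 h4 (q + 1) (by omega) t w hpkg K hK x hx1 hcomm g hg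

end Even

end Cfsg.Agent.Lib.helper98
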