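import Mathlib
import Cfsg.Agent.Lib.helper98.EvenTorus
import Cfsg.Agent.Lib.helper46.SL2Tori
import Cfsg.Agent.Lib.helper46.DicksonSylow
import Cfsg.Agent.Lib.helper6.SLCard

/-!
# Subgroups of torus normalizers in `SL₂(q)`

* `cyclic_or_dihedral_of_le_dicSub`: the image modulo a central subgroup `Z` of a subgroup of
  `⟨t⟩ ∪ w⟨t⟩` containing `Z` is cyclic or dihedral.
* `le_conj_dicSub`: a subgroup in which the conjugates of a non-central torus element commute
  with it lies in the torus normalizer.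
* `exists_conj_mem_torus`: every non-central element of order prime to `p` of `SL₂(q)` is
  conjugate into a torus.
* `torus_type`: the resulting description of such subgroups modulo the centre.
-/

set_option autoImplicit false
set_option linter.unusedSimpArgs false
set_option linter.unusedVariables false

namespace Cfsg.Agent.Lib.helper98

open Matrix
open scoped Classical
open Cfsg.Agent.Lib.helper46

local notation "SL2" => Matrix.SpecialLinearGroup (Fin 2)

section Grp

variable {G : Type*} [Group G]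

/-- Subgroups of `⟨t⟩ ∪ w⟨t⟩` containing a central subgroup `Z ≤ ⟨t⟩` are cyclic or dihedral
modulo `Z`. -/
theorem cyclic_or_dihedral_of_le_dicSub [Finite G] (t w : G) (Z : Subgroup G) [Z.Normal]
    (hZ : Z ≤ Subgroup.zpowers t) (hw : w * t * w⁻¹ = t⁻¹) (hw2Z : w * w ∈ Z)
    (hwT : w ∉ Subgroup.zpowers t) (m : ℕ) (hm : orderOf t = m * Nat.card Z)
    (K : Subgroup G) (hZK : Z ≤ K) (hK : K ≤ dicSub t w hw (hZ hw2Z)) :
    ∃ k : ℕ, k ∣ m ∧
      ((IsCyclic (K.map (QuotientGroup.mk' Z)) ∧ Nat.card (K.map (QuotientGroup.mk' Z)) = k) ∨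
        Nonempty (K.map (QuotientGroup.mk' Z) ≃* DihedralGroup k)) := by
  have hZpos : 0 < Nat.card Z := Nat.card_pos
  have hCcyc : IsCyclic ↥(K ⊓ Subgroup.zpowers t) :=
    Subgroup.isCyclic_of_le (inf_le_right : K ⊓ Subgroup.zpowers t ≤ Subgroup.zpowers t)
  obtain ⟨a', ha'⟩ := hCcyc.exists_generator
  obtain ⟨a, haC⟩ : ∃ a : G, a = a'.1 := ⟨_, rfl⟩
  have haK : a ∈ K := haC ▸ a'.2.1
  have haT : a ∈ Subgroup.zpowers t := haC ▸ a'.2.2
  have hCeq : ∀ x, x ∈ K → x ∈ Subgroup.zpowers t → x ∈ Subgroup.zpowers a := by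
    intro x hxK hxT
    obtain ⟨i, hi⟩ := Subgroup.mem_zpowers_iff.mp (ha' ⟨x, hxK, hxT⟩)
    have h1 := congrArg Subtype.val hi
    simp only [Subgroup.coe_zpow] at h1
    rw [haC]; exact Subgroup.mem_zpowers_iff.mpr ⟨i, h1⟩
  have haKT : Subgroup.zpowers a ≤ K ⊓ Subgroup.zpowers t :=
    Subgroup.zpowers_le.mpr ⟨haK, haT⟩
  have hCset : K ⊓ Subgroup.zpowers t = Subgroup.zpowers a :=
    le_antisymm (fun x hx => hCeq x hx.1 hx.2) haKT
  have hZa : Z ≤ Subgroup.zpowers a := fun z hz => hCeq z (hZK hz) (hZ hz)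
  have hdvd1 : Nat.card Z ∣ orderOf a := by
    rw [← Nat.card_zpowers]; exact Subgroup.card_dvd_of_le hZa
  have hdvd2 : orderOf a ∣ orderOf t := by
    rw [← Nat.card_zpowers, ← Nat.card_zpowers t]
    exact Subgroup.card_dvd_of_le (haKT.trans inf_le_right)
  obtain ⟨k, hk⟩ := hdvd1
  have hkm : k ∣ m := by
    rw [hk, hm, mul_comm m] at hdvd2
    exact (Nat.mul_dvd_mul_iff_left hZpos).mp hdvd2
  refine ⟨k, hkm, ?_⟩
  by_cases hKT : K ≤ Subgroup.zpowers t
  · left
    have hKa : K = Subgroup.zpowers a := by rw [← hCset]; exact (inf_eq_left.mpr hKT).symm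
    constructor
    · rw [hKa, MonoidHom.map_zpowers]; infer_instance
    · have h1 := card_map_mk_mul Z K hZK
      have h2 : Nat.card K = Nat.card Z * k := by rw [hKa, Nat.card_zpowers, hk]
      rw [h2] at h1
      exact Nat.eq_of_mul_eq_mul_right hZpos (by rw [h1]; ring)
  · right
    obtain ⟨s, hsK, hsT⟩ := SetLike.not_le_iff_exists.mp hKT
    have hsw : w⁻¹ * s ∈ Subgroup.zpowers t := ((mem_dicSub _ _ _ _ _).mp (hK hsK)).resolve_left hsT
    have hs : s * a * s⁻¹ = a⁻¹ := by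
      have h1 := conj_eq_inv_of_mem_zpowers t w hw a haT
      have hc : (w⁻¹ * s) * a = a * (w⁻¹ * s) := by
        obtain ⟨i, hi⟩ := Subgroup.mem_zpowers_iff.mp hsw
        obtain ⟨j, hj⟩ := Subgroup.mem_zpowers_iff.mp haT
        rw [← hi, ← hj, ← _root_.zpow_add, ← _root_.zpow_add, add_comm]
      calc s * a * s⁻¹ = w * ((w⁻¹ * s) * a) * (w⁻¹ * s)⁻¹ * w⁻¹ := by group
        _ = w * (a * (w⁻¹ * s)) * (w⁻¹ * s)⁻¹ * w⁻¹ := by rw [hc]
        _ = w * a * w⁻¹ := by group
        _ = a⁻¹ := h1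
    have hs2Z : s * s ∈ Z := by
      have h1 := conj_eq_inv_of_mem_zpowers t w hw (w⁻¹ * s) hsw
      have e : s * s = (w⁻¹ * s)⁻¹ * (w * w) * (w⁻¹ * s) := by
        calc s * s = (w * (w⁻¹ * s) * w⁻¹) * (w * w) * (w⁻¹ * s) := by group
          _ = (w⁻¹ * s)⁻¹ * (w * w) * (w⁻¹ * s) := by rw [h1]
      rw [e]
      have h3 := (inferInstance : Z.Normal).conj_mem (w * w) hw2Z (w⁻¹ * s)⁻¹
      rwa [inv_inv] at h3
    have hsTa : s ∉ Subgroup.zpowers a := fun h => hsT (haKT h).2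
    have hKeq : K = dicSub a s hs (hZa hs2Z) := by
      ext x
      rw [mem_dicSub]
      constructor
      · intro hx
        by_cases hxT : x ∈ Subgroup.zpowers t
        · left; exact hCeq x hx hxT
        · right
          have hxw : w⁻¹ * x ∈ Subgroup.zpowers t :=
            ((mem_dicSub _ _ _ _ _).mp (hK hx)).resolve_left hxT
          apply hCeq _ (K.mul_mem (K.inv_mem hsK) hx)
          have e : s⁻¹ * x = (w⁻¹ * s)⁻¹ * (w⁻¹ * x) := by group
          rw [e]; exact Subgroup.mul_mem _ (Subgroup.inv_mem _ hsw) hxw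
      · rintro (hx | hx)
        · exact (haKT hx).1
        · have e : x = s * (s⁻¹ * x) := by group
          rw [e]; exact K.mul_mem hsK (haKT hx).1
    obtain ⟨e⟩ := torus_quotient_dihedral a s Z hZa hs hs2Z hsTa k (by rw [hk, mul_comm])
    exact ⟨(MulEquiv.subgroupCongr (congrArg (Subgroup.map (QuotientGroup.mk' Z)) hKeq)).trans e⟩

/-- A subgroup in which all conjugates of a non-central element `x` of a conjugate of the torus
commute with `x` lies in the corresponding torus normalizer. -/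
theorem le_conj_dicSub (n : ℕ) (t w : G) (hpkg : TorusPkg n t w)
    (hw : w * t * w⁻¹ = t⁻¹) (hw2T : w * w ∈ Subgroup.zpowers t)
    (K : Subgroup G) (x : G) (hxc : x ∉ Subgroup.center G)
    (hcomm : ∀ k ∈ K, (k * x * k⁻¹) * x = x * (k * x * k⁻¹))
    (g : G) (hgx : g⁻¹ * x * g ∈ Subgroup.zpowers t) :
    ∀ k ∈ K, g⁻¹ * k * g ∈ dicSub t w hw hw2T := by
  obtain ⟨ht, hC, hcent, hconj, -, hwT, hw2Z, hZ⟩ := hpkg
  have hnc : ∀ (y c : G), y ∉ Subgroup.center G → c⁻¹ * y * c ∉ Subgroup.center G := by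
    intro y c hy h
    apply hy
    have h3 := (inferInstance : (Subgroup.center G).Normal).conj_mem _ h c
    have e : c * (c⁻¹ * y * c) * c⁻¹ = y := by group
    rwa [e] at h3
  obtain ⟨x₁, hx₁⟩ : ∃ x₁, x₁ = g⁻¹ * x * g := ⟨_, rfl⟩
  rw [← hx₁] at hgx
  have hx₁c : x₁ ∉ Subgroup.center G := by rw [hx₁]; exact hnc x g hxc
  have hCx : ∀ h : G, h * x₁ = x₁ * h → h ∈ Subgroup.zpowers t := hcent x₁ hgx hx₁c
  have htx : t * x₁ = x₁ * t := by
    obtain ⟨k, hk⟩ := Subgroup.mem_zpowers_iff.mp hgx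
    rw [← hk]
    exact ((Commute.refl t).zpow_right k).eq
  intro k hk
  rw [mem_dicSub]
  obtain ⟨k₁, hk₁⟩ : ∃ k₁, k₁ = g⁻¹ * k * g := ⟨_, rfl⟩
  rw [← hk₁]
  obtain ⟨y₁, hy₁⟩ : ∃ y₁, y₁ = k₁ * x₁ * k₁⁻¹ := ⟨_, rfl⟩
  have hy₁' : y₁ = g⁻¹ * (k * x * k⁻¹) * g := by rw [hy₁, hk₁, hx₁]; group
  have hy₁x : y₁ * x₁ = x₁ * y₁ := by
    rw [hy₁', hx₁]
    have h3 := hcomm k hk
    calc g⁻¹ * (k * x * k⁻¹) * g * (g⁻¹ * x * g) = g⁻¹ * ((k * x * k⁻¹) * x) * g := by group
      _ = g⁻¹ * (x * (k * x * k⁻¹)) * g := by rw [h3]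
      _ = g⁻¹ * x * g * (g⁻¹ * (k * x * k⁻¹) * g) := by group
  have hy₁T : y₁ ∈ Subgroup.zpowers t := hCx y₁ hy₁x
  have hy₁c : y₁ ∉ Subgroup.center G := by
    have h3 := hnc x₁ k₁⁻¹ hx₁c
    rw [inv_inv] at h3
    rw [hy₁]; exact h3
  have hCy : ∀ h : G, h * y₁ = y₁ * h → h ∈ Subgroup.zpowers t := hcent y₁ hy₁T hy₁c
  have hkt : k₁ * t * k₁⁻¹ ∈ Subgroup.zpowers t := by
    apply hCy
    rw [hy₁]
    calc k₁ * t * k₁⁻¹ * (k₁ * x₁ * k₁⁻¹) = k₁ * (t * x₁) * k₁⁻¹ := by group
      _ = k₁ * (x₁ * t) * k₁⁻¹ := by rw [htx]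
      _ = k₁ * x₁ * k₁⁻¹ * (k₁ * t * k₁⁻¹) := by group
  rcases hconj k₁ hkt with h | h
  · left
    apply hC
    calc k₁ * t = (k₁ * t * k₁⁻¹) * k₁ := by group
      _ = t * k₁ := by rw [h]
  · right
    apply hC
    calc w⁻¹ * k₁ * t = w⁻¹ * (k₁ * t * k₁⁻¹) * k₁ := by group
      _ = w⁻¹ * (w * t * w⁻¹) * k₁ := by rw [h, hw]
      _ = t * (w⁻¹ * k₁) := by group

/-- In a torus package, an element with a non-central power conjugate into the torus is itself
conjugate into the torus. -/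
theorem conj_mem_of_pow (n : ℕ) (t w : G) (hpkg : TorusPkg n t w) (x : G) (j : ℕ)
    (hy : x ^ j ∉ Subgroup.center G) (g : G) (hg : g⁻¹ * x ^ j * g ∈ Subgroup.zpowers t) :
    g⁻¹ * x * g ∈ Subgroup.zpowers t := by
  obtain ⟨ht, hC, hcent, hconj, -, hwT, hw2Z, hZ⟩ := hpkg
  have hnc : g⁻¹ * x ^ j * g ∉ Subgroup.center G := by
    intro h
    apply hy
    have h3 := (inferInstance : (Subgroup.center G).Normal).conj_mem _ h g
    have e : g * (g⁻¹ * x ^ j * g) * g⁻¹ = x ^ j := by group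
    rwa [e] at h3
  apply hcent _ hg hnc
  have h1 : x * x ^ j = x ^ j * x := by rw [← pow_succ, ← pow_succ']
  calc g⁻¹ * x * g * (g⁻¹ * x ^ j * g) = g⁻¹ * (x * x ^ j) * g := by group
    _ = g⁻¹ * (x ^ j * x) * g := by rw [h1]
    _ = g⁻¹ * x ^ j * g * (g⁻¹ * x * g) := by group

/-- An automorphism induces an isomorphism between the images modulo the centre. -/
theorem map_aut_equiv (σ : G ≃* G) (K : Subgroup G) :
    Nonempty (↥(K.map (QuotientGroup.mk' (Subgroup.center G))) ≃*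
      ↥((K.map σ.toMonoidHom).map (QuotientGroup.mk' (Subgroup.center G)))) := by
  have hchar : (Subgroup.center G).map σ.toMonoidHom = Subgroup.center G :=
    (Subgroup.characteristic_iff_map_eq.mp inferInstance) σ
  obtain ⟨σ', hσ'⟩ : ∃ σ' : G ⧸ Subgroup.center G ≃* G ⧸ Subgroup.center G,
      ∀ g : G, σ' (QuotientGroup.mk' (Subgroup.center G) g) =
        QuotientGroup.mk' (Subgroup.center G) (σ g) :=
    ⟨QuotientGroup.congr _ _ σ hchar, fun g => rfl⟩
  have h1 : (K.map σ.toMonoidHom).map (QuotientGroup.mk' (Subgroup.center G)) =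
      (K.map (QuotientGroup.mk' (Subgroup.center G))).map σ'.toMonoidHom := by
    rw [Subgroup.map_map, Subgroup.map_map]
    congr 1
    ext g
    exact (hσ' g).symm
  exact ⟨(Subgroup.equivMapOfInjective _ σ'.toMonoidHom σ'.injective).trans
    (MulEquiv.subgroupCongr h1.symm)⟩

end Grp

section SL

variable {F : Type*} [Field F]

local notation "M2" => Matrix (Fin 2) (Fin 2)

/-- Every element of a finite field of odd characteristic is a sum of two squares. -/
theorem sum_two_sq [Fintype F] (h2 : (2 : F) ≠ 0) (c : F) : ∃ a b : F, a * a + b * b = c := by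
  have hchar : ringChar F ≠ 2 := by
    intro h
    apply h2
    have h3 := CharP.cast_eq_zero F (ringChar F)
    rw [h] at h3
    exact_mod_cast h3
  have hodd := FiniteField.odd_card_of_char_ne_two hchar
  obtain ⟨a, b, hab⟩ := FiniteField.exists_root_sum_quadratic
    (f := (Polynomial.X : Polynomial F) ^ 2)
    (g := (Polynomial.X : Polynomial F) ^ 2 - Polynomial.C c)
    (Polynomial.degree_X_pow 2) (Polynomial.degree_X_pow_sub_C (by decide) _) hodd
  simp only [Polynomial.eval_pow, Polynomial.eval_X, Polynomial.eval_sub, Polynomial.eval_C] at hab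
  exact ⟨a, b, by linear_combination hab⟩

theorem trace_zero_of_sq_negOne (y : SL2 F) (hy : y * y = negOne) : y 0 0 + y 1 1 = 0 := by
  have e00 := congrArg (fun z : SL2 F => z 0 0) hy
  have e11 := congrArg (fun z : SL2 F => z 1 1) hy
  simp only [sl2_mul_apply, negOne_00, negOne_11] at e00 e11
  have hd := sl2_det' y
  have h3 : (y 0 0 + y 1 1) ^ 2 = 0 := by linear_combination e00 + e11 + 2 * hd
  exact pow_eq_zero_iff two_ne_zero |>.mp h3

/-- Conjugating with a matrix of nonzero determinant intertwining `y` and `y''`. -/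
theorem conj_core [Fintype F] (h2 : (2 : F) ≠ 0) (y y'' : SL2 F) (P : M2 F)
    (hyP : (y : M2 F) * P = P * (y'' : M2 F)) (hP : P.det ≠ 0)
    (htr : y'' 0 0 + y'' 1 1 = 0) : ∃ g : SL2 F, g⁻¹ * y * g = y'' := by
  obtain ⟨α, β, hαβ⟩ := sum_two_sq h2 (P.det)⁻¹
  have hd := sl2_det' y''
  obtain ⟨M, hM⟩ : ∃ M : M2 F, M = α • (1 : M2 F) + β • (y'' : M2 F) := ⟨_, rfl⟩
  have hcomm : (y'' : M2 F) * M = M * (y'' : M2 F) := by
    rw [hM, mul_add, add_mul, Matrix.mul_smul, Matrix.smul_mul, Matrix.mul_one, Matrix.one_mul,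
      Matrix.mul_smul, Matrix.smul_mul]
  have hMdet : M.det = (P.det)⁻¹ := by
    rw [Matrix.det_fin_two, hM]
    simp only [Matrix.add_apply, Matrix.smul_apply, Matrix.one_apply_eq, smul_eq_mul,
      Matrix.one_apply_ne (show (0 : Fin 2) ≠ 1 by decide),
      Matrix.one_apply_ne (show (1 : Fin 2) ≠ 0 by decide)]
    linear_combination hαβ + (α * β) * htr + (β * β) * hd
  have hQdet : (P * M).det = 1 := by
    rw [Matrix.det_mul, hMdet, mul_inv_cancel₀ hP]
  obtain ⟨Q, hQ⟩ : ∃ Q : SL2 F, (Q : M2 F) = P * M := ⟨⟨P * M, hQdet⟩, rfl⟩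
  refine ⟨Q, ?_⟩
  have key : y * Q = Q * y'' := by
    apply Subtype.ext
    show (y : M2 F) * (Q : M2 F) = (Q : M2 F) * (y'' : M2 F)
    rw [hQ, ← Matrix.mul_assoc, hyP, Matrix.mul_assoc, hcomm, Matrix.mul_assoc]
  rw [mul_assoc, key]; group

/-- Two elements with square `-1` are conjugate up to sign. -/
theorem conj_of_sq_negOne [Fintype F] (h2 : (2 : F) ≠ 0) (y y' : SL2 F) (hy : y * y = negOne)
    (hy' : y' * y' = negOne) :
    ∃ g : SL2 F, g⁻¹ * y * g = y' ∨ g⁻¹ * y * g = negOne * y' := by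
  have hY : (y : M2 F) * (y : M2 F) = -1 := by
    have h := congrArg (fun z : SL2 F => (z : M2 F)) hy
    simp only [Matrix.SpecialLinearGroup.coe_mul] at h
    rw [h]
    apply mat2_ext <;> simp [negOne]
  have hY' : (y' : M2 F) * (y' : M2 F) = -1 := by
    have h := congrArg (fun z : SL2 F => (z : M2 F)) hy'
    simp only [Matrix.SpecialLinearGroup.coe_mul] at h
    rw [h]
    apply mat2_ext <;> simp [negOne]
  have hN : ((negOne * y' : SL2 F) : M2 F) = -(y' : M2 F) := by
    apply mat2_ext <;>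
      simp only [Matrix.SpecialLinearGroup.coe_mul, mul2_apply, Matrix.neg_apply] <;>
      simp [negOne]
  have htr := trace_zero_of_sq_negOne y hy
  have htr' := trace_zero_of_sq_negOne y' hy'
  have htr'' : (negOne * y' : SL2 F) 0 0 + (negOne * y' : SL2 F) 1 1 = 0 := by
    simp only [sl2_mul_apply, negOne_00, negOne_01, negOne_10, negOne_11]
    linear_combination -htr'
  have hdy := sl2_det' y
  have hdy' := sl2_det' y'
  have hsum : ((y : M2 F) + (y' : M2 F)).det + ((y : M2 F) - (y' : M2 F)).det = 4 := by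
    rw [Matrix.det_fin_two, Matrix.det_fin_two]
    simp only [Matrix.add_apply, Matrix.sub_apply]
    linear_combination 2 * hdy + 2 * hdy'
  by_cases hP : ((y : M2 F) + (y' : M2 F)).det = 0
  · have hP' : ((y : M2 F) - (y' : M2 F)).det ≠ 0 := by
      intro h
      rw [hP, h, add_zero] at hsum
      have h4 : (2 : F) * 2 = 0 := by linear_combination -hsum
      rcases mul_eq_zero.mp h4 with h | h <;> exact h2 h
    obtain ⟨g, hg⟩ := conj_core h2 y (negOne * y') ((y : M2 F) - (y' : M2 F))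
      (by rw [hN, mul_sub, sub_mul, hY, mul_neg, mul_neg, hY']; abel) hP' htr''
    exact ⟨g, Or.inr hg⟩
  · obtain ⟨g, hg⟩ := conj_core h2 y y' ((y : M2 F) + (y' : M2 F))
      (by rw [mul_add, add_mul, hY, hY']; abel) hP htr'
    exact ⟨g, Or.inl hg⟩

end SL

section Torus

variable {F : Type*} [Field F] [Fintype F]

local notation "M2" => Matrix (Fin 2) (Fin 2)

omit [Fintype F] in
theorem sq_eq_one_of_mem_center (z : SL2 F) (hz : z ∈ Subgroup.center (SL2 F)) : z * z = 1 := by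
  rcases center_sl2_eq z hz with h | h
  · rw [h, mul_one]
  · rw [h, negOne_mul_self]

omit [Fintype F] in
theorem sq_eq_negOne_of_orderOf_four (h2 : (2 : F) ≠ 0) (y : SL2 F) (hy : orderOf y = 4) :
    y * y = negOne := by
  have h4 : y ^ 4 = 1 := by rw [← hy]; exact pow_orderOf_eq_one y
  have hne : y * y ≠ 1 := by
    intro h
    have h3 : orderOf y ∣ 2 := orderOf_dvd_of_pow_eq_one (by rw [pow_two]; exact h)
    rw [hy] at h3
    norm_num at h3
  have hM : ((y * y : SL2 F) : M2 F) * ((y * y : SL2 F) : M2 F) = 1 := by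
    have e : (y * y) * (y * y) = (1 : SL2 F) := by
      rw [← h4]; simp only [pow_succ, pow_zero, one_mul, mul_assoc]
    have h3 := congrArg (fun z : SL2 F => (z : M2 F)) e
    simpa only [Matrix.SpecialLinearGroup.coe_mul, Matrix.SpecialLinearGroup.coe_one] using h3
  rcases sq_eq_one_cases h2 _ (y * y).det_coe hM with h | h
  · exfalso; apply hne; apply Subtype.ext; exact h
  · apply Subtype.ext
    refine h.trans ?_
    apply mat2_ext <;> simp [negOne]

/-- Every non-central element of order prime to the characteristic is conjugate into a torus. -/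
theorem exists_conj_mem_torus (p : ℕ) [Fact p.Prime] [CharP F p] (x : SL2 F)
    (hxc : x ∉ Subgroup.center (SL2 F)) (hp : ¬ p ∣ orderOf x) :
    ∃ (n : ℕ) (t w g : SL2 F), (n = Fintype.card F - 1 ∨ n = Fintype.card F + 1) ∧
      TorusPkg n t w ∧ g⁻¹ * x * g ∈ Subgroup.zpowers t := by
  obtain ⟨q, hq⟩ : ∃ q, q = Fintype.card F := ⟨_, rfl⟩
  rw [← hq]
  have hpp := (Fact.out : p.Prime)
  have hcardG := Cfsg.Agent.Lib.helper7.card_SL2 (F := F) hq.symm
  obtain ⟨n0, -, hqn⟩ := FiniteField.card F p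
  have hq2 : 2 ≤ q := by rw [hq]; exact Fintype.one_lt_card
  have hfact : q ^ 2 - 1 = (q - 1) * (q + 1) := by
    obtain ⟨m, rfl⟩ : ∃ m, q = m + 1 := ⟨q - 1, by omega⟩
    apply Nat.sub_eq_of_eq_add
    simp only [Nat.add_sub_cancel]; ring
  have hx1 : x ≠ 1 := by
    rintro rfl; exact hxc (Subgroup.one_mem _)
  have hord0 : orderOf x ≠ 0 := (orderOf_pos x).ne'
  have hcen : ∀ z : SL2 F, z ∈ Subgroup.center (SL2 F) → z * z = 1 := sq_eq_one_of_mem_center
  by_cases hodd : ∃ r : ℕ, r.Prime ∧ r ≠ 2 ∧ r ∣ orderOf x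
  · obtain ⟨r, hr, hr2, hrx⟩ := hodd
    obtain ⟨j, hj⟩ : ∃ j, j = orderOf x / r := ⟨_, rfl⟩
    have hj0 : j ≠ 0 := by
      rw [hj]; exact (Nat.div_pos (Nat.le_of_dvd (orderOf_pos x) hrx) hr.pos).ne'
    have hjd : j ∣ orderOf x := by rw [hj]; exact Nat.div_dvd_of_dvd hrx
    have hyr : orderOf (x ^ j) = r := by
      rw [orderOf_pow_of_dvd hj0 hjd, hj, Nat.div_div_self hrx hord0]
    have hyc : x ^ j ∉ Subgroup.center (SL2 F) := by
      intro h
      have h1 := hcen _ h
      have h3 : orderOf (x ^ j) ∣ 2 := orderOf_dvd_of_pow_eq_one (by rw [pow_two]; exact h1)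
      rw [hyr] at h3
      exact hr2 ((Nat.prime_dvd_prime_iff_eq hr Nat.prime_two).mp h3)
    have hrp : r ≠ p := by
      rintro rfl; exact hp hrx
    have hrG : r ∣ q * (q ^ 2 - 1) := by
      rw [← hcardG, ← hyr]; exact orderOf_dvd_natCard _
    have hrq : ¬ r ∣ q := by
      intro h
      rw [hq, hqn] at h
      exact hrp ((Nat.prime_dvd_prime_iff_eq hr hpp).mp (hr.dvd_of_dvd_pow h))
    have hr' : r ∣ (q - 1) * (q + 1) := by
      rw [← hfact]; exact (hr.dvd_mul.mp hrG).resolve_left hrq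
    have hnot_both : ¬ (r ∣ q - 1 ∧ r ∣ q + 1) := by
      rintro ⟨h1, h2'⟩
      have h3 : r ∣ (q + 1) - (q - 1) := Nat.dvd_sub h2' h1
      have h4' : (q + 1) - (q - 1) = 2 := by omega
      rw [h4'] at h3
      exact hr2 ((Nat.prime_dvd_prime_iff_eq hr Nat.prime_two).mp h3)
    have hfacG : ∀ n' : ℕ, (n' = q - 1 ∨ n' = q + 1) → r ∣ n' →
        (q * (q ^ 2 - 1)).factorization r = n'.factorization r := by
      intro n' hn' hrn'
      rw [hfact, Nat.factorization_mul (by omega) (Nat.mul_ne_zero (by omega) (by omega)),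
        Nat.factorization_mul (by omega) (by omega)]
      simp only [Finsupp.coe_add, Pi.add_apply]
      rw [Nat.factorization_eq_zero_of_not_dvd hrq, zero_add]
      rcases hn' with rfl | rfl
      · rw [Nat.factorization_eq_zero_of_not_dvd (fun h => hnot_both ⟨hrn', h⟩), add_zero]
      · rw [Nat.factorization_eq_zero_of_not_dvd (fun h => hnot_both ⟨h, hrn'⟩), zero_add]
    rcases hr.dvd_mul.mp hr' with h | h
    · have h4 : 4 ≤ Fintype.card F := by
        rw [← hq]
        have h5 := Nat.le_of_dvd (by omega) h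
        have h6 := hr.two_le
        omega
      obtain ⟨t, w, hpkg⟩ := split_torus_pkg (F := F) h4
      rw [← hq] at hpkg
      obtain ⟨g, hg⟩ := exists_conj_mem_zpowers t (x ^ j) r hr
        (by rw [hcardG, hpkg.1]; exact hfacG _ (Or.inl rfl) h) hyr
      exact ⟨q - 1, t, w, g, Or.inl rfl, hpkg, conj_mem_of_pow _ t w hpkg x j hyc g hg⟩
    · obtain ⟨t, w, hpkg⟩ := nonsplit_torus_pkg (F := F)
      rw [← hq] at hpkg
      obtain ⟨g, hg⟩ := exists_conj_mem_zpowers t (x ^ j) r hr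
        (by rw [hcardG, hpkg.1]; exact hfacG _ (Or.inr rfl) h) hyr
      exact ⟨q + 1, t, w, g, Or.inr rfl, hpkg, conj_mem_of_pow _ t w hpkg x j hyc g hg⟩
  · push Not at hodd
    have hpow : orderOf x = 2 ^ (orderOf x).primeFactorsList.length :=
      Nat.eq_prime_pow_of_unique_prime_dvd hord0 (fun {d} hd hdx => by
        by_contra hd2; exact hodd d hd hd2 hdx)
    obtain ⟨e, he⟩ : ∃ e, orderOf x = 2 ^ e := ⟨_, hpow⟩
    have he1 : e ≠ 0 := by
      rintro rfl
      rw [pow_zero] at he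
      exact hx1 (orderOf_eq_one_iff.mp he)
    have h2x : 2 ∣ orderOf x := by rw [he]; exact dvd_pow_self 2 he1
    have hp2 : p ≠ 2 := by rintro rfl; exact hp h2x
    have h2 : (2 : F) ≠ 0 := by
      intro h
      have h3 : ((2 : ℕ) : F) = 0 := by exact_mod_cast h
      have h4 := (CharP.cast_eq_zero_iff F p 2).mp h3
      exact hp2 ((Nat.prime_dvd_prime_iff_eq hpp Nat.prime_two).mp h4)
    have he2 : 2 ≤ e := by
      by_contra hlt
      have he1' : e = 1 := by omega
      rw [he1', pow_one] at he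
      have hxx : x * x = 1 := by
        have h3 := pow_orderOf_eq_one x
        rw [he, pow_two] at h3
        exact h3
      have hM : (x : M2 F) * (x : M2 F) = 1 := by
        have h3 := congrArg (fun z : SL2 F => (z : M2 F)) hxx
        simpa only [Matrix.SpecialLinearGroup.coe_mul, Matrix.SpecialLinearGroup.coe_one] using h3
      rcases sq_eq_one_cases h2 _ x.det_coe hM with h | h
      · exact hx1 (Subtype.ext h)
      · apply hxc
        have h3 : x = negOne := by
          apply Subtype.ext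
          refine h.trans ?_
          apply mat2_ext <;> simp [negOne]
        rw [h3]; exact negOne_mem_center
    obtain ⟨j, hj⟩ : ∃ j, j = 2 ^ (e - 2) := ⟨_, rfl⟩
    have hj0 : j ≠ 0 := by rw [hj]; positivity
    have hjd : j ∣ orderOf x := by rw [hj, he]; exact pow_dvd_pow 2 (by omega)
    have hy4 : orderOf (x ^ j) = 4 := by
      rw [orderOf_pow_of_dvd hj0 hjd, he, hj, Nat.pow_div (by omega) (by norm_num)]
      have h3 : e - (e - 2) = 2 := by omega
      rw [h3]
    have hyy := sq_eq_negOne_of_orderOf_four h2 _ hy4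
    have hyc : x ^ j ∉ Subgroup.center (SL2 F) := by
      intro h
      have h1 := hcen _ h
      have h3 : orderOf (x ^ j) ∣ 2 := orderOf_dvd_of_pow_eq_one (by rw [pow_two]; exact h1)
      rw [hy4] at h3
      norm_num at h3
    have hqodd : q % 2 = 1 := by
      rw [hq]
      apply FiniteField.odd_card_of_char_ne_two
      rw [ringChar.eq F p]; exact hp2
    have key : ∀ (n : ℕ) (t w : SL2 F), 4 ∣ n → TorusPkg n t w →
        ∃ g : SL2 F, g⁻¹ * x * g ∈ Subgroup.zpowers t := by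
      intro n t w h4n hpkg
      have hn0 : n ≠ 0 := by rw [← hpkg.1]; exact (orderOf_pos t).ne'
      have hi0 : n / 4 ≠ 0 :=
        (Nat.div_pos (Nat.le_of_dvd (Nat.pos_of_ne_zero hn0) h4n) (by norm_num)).ne'
      have hy'4 : orderOf (t ^ (n / 4)) = 4 := by
        rw [orderOf_pow_of_dvd hi0 (by rw [hpkg.1]; exact Nat.div_dvd_of_dvd h4n), hpkg.1,
          Nat.div_div_self h4n hn0]
      have hy'y' := sq_eq_negOne_of_orderOf_four h2 _ hy'4
      have hnegT : negOne ∈ Subgroup.zpowers t := hpkg.2.2.2.2.2.2.2 negOne_mem_center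
      have hy'T : t ^ (n / 4) ∈ Subgroup.zpowers t :=
        Subgroup.pow_mem _ (Subgroup.mem_zpowers t) _
      obtain ⟨g, hg | hg⟩ := conj_of_sq_negOne h2 (x ^ j) (t ^ (n / 4)) hyy hy'y'
      · exact ⟨g, conj_mem_of_pow n t w hpkg x j hyc g (by rw [hg]; exact hy'T)⟩
      · exact ⟨g, conj_mem_of_pow n t w hpkg x j hyc g
          (by rw [hg]; exact Subgroup.mul_mem _ hnegT hy'T)⟩
    by_cases h41 : 4 ∣ q - 1
    · have h4 : 4 ≤ Fintype.card F := by
        rw [← hq]
        have h5 := Nat.le_of_dvd (by omega) h41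
        omega
      obtain ⟨t, w, hpkg⟩ := split_torus_pkg (F := F) h4
      rw [← hq] at hpkg
      obtain ⟨g, hg⟩ := key _ t w h41 hpkg
      exact ⟨q - 1, t, w, g, Or.inl rfl, hpkg, hg⟩
    · have h43 : 4 ∣ q + 1 := by omega
      obtain ⟨t, w, hpkg⟩ := nonsplit_torus_pkg (F := F)
      rw [← hq] at hpkg
      obtain ⟨g, hg⟩ := key _ t w h43 hpkg
      exact ⟨q + 1, t, w, g, Or.inr rfl, hpkg, hg⟩

/-- **Torus type.** A subgroup `K ⊇ Z` such that the `K`-conjugates of some non-central element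
`x` of order prime to `p` commute with `x` is cyclic or dihedral modulo the centre. -/
theorem torus_type (p : ℕ) [Fact p.Prime] [CharP F p] (K : Subgroup (SL2 F))
    (hZK : Subgroup.center (SL2 F) ≤ K) (x : SL2 F) (hxc : x ∉ Subgroup.center (SL2 F))
    (hp : ¬ p ∣ orderOf x)
    (hcomm : ∀ k ∈ K, (k * x * k⁻¹) * x = x * (k * x * k⁻¹)) :
    ∃ k : ℕ, (k ∣ (Fintype.card F + 1) / Nat.gcd 2 (Fintype.card F - 1) ∨
        k ∣ (Fintype.card F - 1) / Nat.gcd 2 (Fintype.card F - 1)) ∧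
      ((IsCyclic (K.map (QuotientGroup.mk' (Subgroup.center (SL2 F)))) ∧
          Nat.card (K.map (QuotientGroup.mk' (Subgroup.center (SL2 F)))) = k) ∨
        Nonempty (K.map (QuotientGroup.mk' (Subgroup.center (SL2 F))) ≃* DihedralGroup k)) := by
  obtain ⟨n, t, w, g, hn, hpkg, hg⟩ := exists_conj_mem_torus p x hxc hp
  have hpkg' := hpkg
  obtain ⟨ht, hC, hcent, hconj, hw, hwT, hw2Z, hZ⟩ := hpkg'
  have hZcard : Nat.card (Subgroup.center (SL2 F)) = Nat.gcd 2 (Fintype.card F - 1) :=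
    Cfsg.Agent.Lib.helper6.card_center_SL 2 (by norm_num)
  have hdvd : Nat.card (Subgroup.center (SL2 F)) ∣ n := by
    rw [← ht, ← Nat.card_zpowers]; exact Subgroup.card_dvd_of_le hZ
  have hK' : conjSub g⁻¹ K ≤ dicSub t w hw (hZ hw2Z) := by
    intro k' hk'
    rw [mem_conjSub, inv_inv] at hk'
    have h1 := le_conj_dicSub n t w hpkg hw (hZ hw2Z) K x hxc hcomm g hg _ hk'
    have e : g⁻¹ * (g * k' * g⁻¹) * g = k' := by group
    rwa [e] at h1
  have hZK' : Subgroup.center (SL2 F) ≤ conjSub g⁻¹ K := by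
    intro z hz
    rw [mem_conjSub, inv_inv]
    have e : g * z * g⁻¹ = z := by
      rw [Subgroup.mem_center_iff] at hz
      rw [hz g]; group
    rw [e]; exact hZK hz
  obtain ⟨k, hkm, hk⟩ := cyclic_or_dihedral_of_le_dicSub t w (Subgroup.center (SL2 F)) hZ hw
    hw2Z hwT (n / Nat.card (Subgroup.center (SL2 F))) (by rw [ht, Nat.div_mul_cancel hdvd])
    (conjSub g⁻¹ K) hZK' hK'
  obtain ⟨e⟩ : Nonempty (↥(K.map (QuotientGroup.mk' (Subgroup.center (SL2 F)))) ≃*
      ↥((conjSub g⁻¹ K).map (QuotientGroup.mk' (Subgroup.center (SL2 F))))) :=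
    map_aut_equiv (MulAut.conj g⁻¹) K
  refine ⟨k, ?_, ?_⟩
  · rw [hZcard] at hkm
    rcases hn with rfl | rfl
    · right; exact hkm
    · left; exact hkm
  · rcases hk with ⟨hcyc, hcard⟩ | he'
    · left
      refine ⟨?_, ?_⟩
      · have := hcyc
        exact isCyclic_of_surjective e.symm e.symm.surjective
      · rw [← hcard]; exact Nat.card_congr e.toEquiv
    · right
      obtain ⟨e'⟩ := he'
      exact ⟨e.trans e'⟩

end Torus

end Cfsg.Agent.Lib.helper98
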