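import Mathlib
import Cfsg.Agent.Lib.helper98.DkTorus
import Cfsg.Agent.Lib.helper98.DicksonTame
import Cfsg.Agent.Lib.helper11.SmallSimple
import Cfsg.Agent.S0228
import Cfsg.Agent.S1012
import Cfsg.Agent.S0494
import Cfsg.Agent.S0003

/-!
# Recognition of `A₄`, `S₄`, `A₅` among the subgroups of `PSL₂(q)`

* `rec12`, `rec60`: groups of order `12` / `60` without commuting elements of orders `2, 3` /
  `5, 3` are `A₄` / `A₅`.
* `tame_pow_bound`: element orders in the image of a tame subgroup of `SL₂(q)` with bounded point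
  stabilizers.
* `psl_cube_of_comm`: in characteristic `3`, the centralizer in `PSL₂` of an element of order `3`
  has exponent `3`.
-/

set_option autoImplicit false
set_option linter.unusedSimpArgs false
set_option linter.unusedVariables false

namespace Cfsg.Agent.Lib.helper98

open Matrix
open scoped Classical
open Cfsg.Agent.Lib.helper46

local notation "SL2" => Matrix.SpecialLinearGroup (Fin 2)

section Rec

universe u

theorem card_lt_of_ne' {G : Type*} [Group G] [Finite G] (N : Subgroup G) (h1 : N ≠ ⊥)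
    (h2 : N ≠ ⊤) : Nat.card N < Nat.card G ∧ Nat.card (G ⧸ N) < Nat.card G := by
  have hc := Subgroup.card_eq_card_quotient_mul_card_subgroup N
  have hN : 1 < Nat.card N := (Subgroup.one_lt_card_iff_ne_bot N).mpr h1
  have hQ : 1 < Nat.card (G ⧸ N) := by
    have hne : N.index ≠ 1 := fun h => h2 (Subgroup.index_eq_one.mp h)
    have hpos : N.index ≠ 0 := Subgroup.index_ne_zero_of_finite
    change Nat.card (G ⧸ N) ≠ 1 at hne
    change Nat.card (G ⧸ N) ≠ 0 at hpos
    omega
  constructor <;> nlinarith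

theorem solvable_of_card_lt_sixty_aux : ∀ n : ℕ, ∀ (G : Type u) [Group G] [Finite G],
    Nat.card G = n → n < 60 → Group.IsSolvable G := by
  intro n
  induction n using Nat.strong_induction_on with
  | _ n ih =>
    intro G _ _ hn hlt
    by_cases hs : IsSimpleGroup G
    · by_cases hc : IsCyclic G
      · exact Group.isSolvable_of_comm (fun a b => (IsCyclic.commGroup (α := G)).mul_comm a b)
      · have := Cfsg.Agent.Lib.helper11.card_eq_sixty_of_le_hundred hc (by omega)
        omega
    · by_cases htriv : Subsingleton G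
      · exact inferInstance
      · have hnt : Nontrivial G := not_subsingleton_iff_nontrivial.mp htriv
        obtain ⟨N, hNn, hN1, hN2⟩ : ∃ N : Subgroup G, N.Normal ∧ N ≠ ⊥ ∧ N ≠ ⊤ := by
          by_contra hcon
          push Not at hcon
          exact hs { hnt with
            eq_bot_or_eq_top_of_normal := fun N hN => by
              by_cases h : N = ⊥
              · exact Or.inl h
              · exact Or.inr (hcon N hN h) }
        obtain ⟨h1, h2⟩ := card_lt_of_ne' N hN1 hN2
        have s1 : Group.IsSolvable N := ih _ (hn ▸ h1) N rfl (by omega)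
        have s2 : Group.IsSolvable (G ⧸ N) := ih _ (hn ▸ h2) (G ⧸ N) rfl (by omega)
        exact Group.isSolvable_of_ker_le_range N.subtype (QuotientGroup.mk' N) (by simp)

/-- A non-solvable group of order 60 is simple. -/
theorem simple_of_card_sixty (G : Type u) [Group G] [Finite G] (h : Nat.card G = 60)
    (hns : ¬ Group.IsSolvable G) : IsSimpleGroup G := by
  have hnt : Nontrivial G := by
    rw [← Finite.one_lt_card_iff_nontrivial, h]; norm_num
  refine { hnt with eq_bot_or_eq_top_of_normal := fun N hN => ?_ }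
  by_contra hcon
  push Not at hcon
  obtain ⟨h1, h2⟩ := card_lt_of_ne' N hcon.1 hcon.2
  have s1 : Group.IsSolvable N := solvable_of_card_lt_sixty_aux _ N rfl (by omega)
  have s2 : Group.IsSolvable (G ⧸ N) := solvable_of_card_lt_sixty_aux _ (G ⧸ N) rfl (by omega)
  exact hns (Group.isSolvable_of_ker_le_range N.subtype (QuotientGroup.mk' N) (by simp))

/-- In a group of order `15` elements of orders `5` and `3` commute. -/
theorem comm_of_card_fifteen {M : Type*} [Group M] [Finite M] (hM : Nat.card M = 15) (x y : M)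
    (hx : orderOf x = 5) (hy : orderOf y = 3) : x * y = y * x := by
  have : Fact (Nat.Prime 3) := ⟨Nat.prime_three⟩
  have : Fact (Nat.Prime 5) := ⟨by norm_num⟩
  have key : ∀ (r : ℕ) [Fact r.Prime], (r = 3 ∨ r = 5) → Subsingleton (Sylow r M) := by
    intro r _ hr
    have h1 := card_sylow_modEq_one r M
    obtain ⟨P⟩ : Nonempty (Sylow r M) := inferInstance
    have h2 : Nat.card (Sylow r M) ∣ 15 := by
      rw [← hM]; exact (Sylow.card_dvd_index P).trans (Subgroup.index_dvd_card _)
    obtain ⟨n, hn⟩ : ∃ n, n = Nat.card (Sylow r M) := ⟨_, rfl⟩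
    rw [← hn] at h1 h2
    have h3 : n ≤ 15 := Nat.le_of_dvd (by norm_num) h2
    have h4 : n = 1 := by
      rcases hr with rfl | rfl
      · interval_cases n <;> first | rfl | (exfalso; revert h1 h2; decide)
      · interval_cases n <;> first | rfl | (exfalso; revert h1 h2; decide)
    rw [hn] at h4
    exact (Nat.card_eq_one_iff_unique.mp h4).1
  have s3 := key 3 (Or.inl rfl)
  have s5 := key 5 (Or.inr rfl)
  have hQx : IsPGroup 5 (Subgroup.zpowers x) :=
    IsPGroup.of_card (n := 1) (by rw [Nat.card_zpowers, hx, pow_one])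
  have hQy : IsPGroup 3 (Subgroup.zpowers y) :=
    IsPGroup.of_card (n := 1) (by rw [Nat.card_zpowers, hy, pow_one])
  obtain ⟨P5, hP5⟩ := hQx.exists_le_sylow
  obtain ⟨P3, hP3⟩ := hQy.exists_le_sylow
  have n5 : (P5 : Subgroup M).Normal := Sylow.normal_of_subsingleton P5
  have n3 : (P3 : Subgroup M).Normal := Sylow.normal_of_subsingleton P3
  exact (Subgroup.commute_of_normal_of_disjoint _ _ n5 n3
    (IsPGroup.disjoint_of_ne 5 3 (by norm_num) _ _ P5.isPGroup' P3.isPGroup') x y
    (hP5 (Subgroup.mem_zpowers x)) (hP3 (Subgroup.mem_zpowers y))).eq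

variable {G : Type u} [Group G] [Finite G]

/-- Groups of order `12` without commuting elements of orders `2` and `3` are `A₄`. -/
theorem rec12 (hG : Nat.card G = 12)
    (h : ∀ x y : G, orderOf x = 2 → orderOf y = 3 → x * y ≠ y * x) :
    Nonempty (G ≃* alternatingGroup (Fin 4)) := by
  have : Fact (Nat.Prime 3) := ⟨Nat.prime_three⟩
  obtain ⟨y, hy⟩ := exists_prime_orderOf_dvd_card' (G := G) 3 (by rw [hG]; norm_num)
  apply Cfsg.Agent.S0228.result hG
  intro z hz hzc
  exact h z y hz hy ((Subgroup.mem_center_iff.mp hzc y).symm)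

/-- Groups of order `60` without commuting elements of orders `5` and `3` are `A₅`. -/
theorem rec60 (hG : Nat.card G = 60)
    (h : ∀ x y : G, orderOf x = 5 → orderOf y = 3 → x * y ≠ y * x) :
    Nonempty (G ≃* alternatingGroup (Fin 5)) := by
  have hns : ¬ Group.IsSolvable G := by
    intro hs
    obtain ⟨M, hM⟩ := Cfsg.Agent.S0003.result (G := G) 15 4 (by rw [hG]) (by norm_num)
    have : Fact (Nat.Prime 3) := ⟨Nat.prime_three⟩
    have : Fact (Nat.Prime 5) := ⟨by norm_num⟩
    obtain ⟨x, hx⟩ := exists_prime_orderOf_dvd_card' (G := M) 5 (by rw [hM]; norm_num)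
    obtain ⟨y, hy⟩ := exists_prime_orderOf_dvd_card' (G := M) 3 (by rw [hM]; norm_num)
    have hc := comm_of_card_fifteen hM x y hx hy
    apply h (x : G) (y : G) (by rw [Subgroup.orderOf_coe]; exact hx)
      (by rw [Subgroup.orderOf_coe]; exact hy)
    have h3 := congrArg Subtype.val hc
    simpa only [Subgroup.coe_mul] using h3
  have hsimple := simple_of_card_sixty G hG hns
  exact Cfsg.Agent.S0494.result hG

/-- Bounded element orders exclude commuting elements of coprime orders with large product. -/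
theorem no_comm_of_bound {G : Type*} [Group G] (b a c : ℕ)
    (hb : ∀ g : G, ∃ j, 1 ≤ j ∧ j ≤ b ∧ g ^ j = 1) (hac : a.Coprime c) (hlt : b < a * c)
    (x y : G) (hx : orderOf x = a) (hy : orderOf y = c) : x * y ≠ y * x := by
  intro hc
  have h1 : orderOf (x * y) = a * c := by
    rw [Commute.orderOf_mul_eq_mul_orderOf_of_coprime hc (by rw [hx, hy]; exact hac), hx, hy]
  obtain ⟨j, hj1, hjb, hj⟩ := hb (x * y)
  have h2 := orderOf_dvd_of_pow_eq_one hj
  rw [h1] at h2
  have h3 := Nat.le_of_dvd (by omega) h2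
  omega

end Rec

section SL

variable {F : Type*} [Field F]

/-- An element commuting with a nontrivial element of trace `2` has trace `±2`. -/
theorem comm_unip_trace (y x : SL2 F) (hy1 : y ≠ 1) (htr : y 0 0 + y 1 1 = 2)
    (hc : x * y = y * x) : (x 0 0 + x 1 1) ^ 2 = 4 := by
  have e00 := congrArg (fun z : SL2 F => z 0 0) hc
  have e01 := congrArg (fun z : SL2 F => z 0 1) hc
  have e10 := congrArg (fun z : SL2 F => z 1 0) hc
  simp only [sl2_mul_apply] at e00 e01 e10
  have hdy := sl2_det' y
  have hdx := sl2_det' x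
  have E1 : x 0 1 * y 1 0 - y 0 1 * x 1 0 = 0 := by linear_combination e00
  have E2 : y 0 1 * (x 0 0 - x 1 1) - x 0 1 * (y 0 0 - y 1 1) = 0 := by linear_combination e01
  have E3 : y 1 0 * (x 1 1 - x 0 0) - x 1 0 * (y 1 1 - y 0 0) = 0 := by linear_combination e10
  have hD : (x 0 0 - x 1 1) ^ 2 + 4 * (x 0 1 * x 1 0) = 0 := by
    by_cases hb : y 0 1 = 0
    · by_cases hc' : y 1 0 = 0
      · exfalso
        apply hy1
        rw [hb, zero_mul, sub_zero] at hdy
        have h00 : y 0 0 = 1 := by
          have h3 : (y 0 0 - 1) ^ 2 = 0 := by linear_combination y 0 0 * htr - hdy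
          have h4 := pow_eq_zero_iff two_ne_zero |>.mp h3
          linear_combination h4
        have h11 : y 1 1 = 1 := by linear_combination htr - h00
        apply sl2_ext <;> simp only [sl2_one_00, sl2_one_01, sl2_one_10, sl2_one_11, h00, h11, hb,
          hc']
      · have h3 : y 1 0 ^ 2 * ((x 0 0 - x 1 1) ^ 2 + 4 * (x 0 1 * x 1 0)) = 0 := by
          linear_combination (y 1 0 * (x 1 1 - x 0 0) + x 1 0 * (y 1 1 - y 0 0)) * E3 +
            (4 * y 1 0 * x 1 0) * E1 + (x 1 0 ^ 2 * (y 0 0 + y 1 1 + 2)) * htr -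
            (4 * x 1 0 ^ 2) * hdy
        rcases mul_eq_zero.mp h3 with h | h
        · exact absurd (pow_eq_zero_iff two_ne_zero |>.mp h) hc'
        · exact h
    · have h3 : y 0 1 ^ 2 * ((x 0 0 - x 1 1) ^ 2 + 4 * (x 0 1 * x 1 0)) = 0 := by
        linear_combination (y 0 1 * (x 0 0 - x 1 1) + x 0 1 * (y 0 0 - y 1 1)) * E2 -
          (4 * y 0 1 * x 0 1) * E1 + (x 0 1 ^ 2 * (y 0 0 + y 1 1 + 2)) * htr -
          (4 * x 0 1 ^ 2) * hdy
      rcases mul_eq_zero.mp h3 with h | h
      · exact absurd (pow_eq_zero_iff two_ne_zero |>.mp h) hb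
      · exact h
  linear_combination hD + 4 * hdx

end SL

section PSL

variable {F : Type*} [Field F] [Fintype F]

omit [Fintype F] in
/-- In characteristic `3`, an element of `PSL₂` commuting with an element of order `3` has
cube `1`. -/
theorem psl_cube_of_comm [CharP F 3] (X Y : Matrix.ProjectiveSpecialLinearGroup (Fin 2) F)
    (hY : orderOf Y = 3) (hXY : X * Y = Y * X) : X ^ 3 = 1 := by
  have : Fact (Nat.Prime 3) := ⟨Nat.prime_three⟩
  obtain ⟨x, rfl⟩ := QuotientGroup.mk'_surjective (Subgroup.center (SL2 F)) X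
  obtain ⟨y, rfl⟩ := QuotientGroup.mk'_surjective (Subgroup.center (SL2 F)) Y
  obtain ⟨π, hπ⟩ : ∃ π : SL2 F →* Matrix.ProjectiveSpecialLinearGroup (Fin 2) F,
      π = QuotientGroup.mk' (Subgroup.center (SL2 F)) := ⟨_, rfl⟩
  rw [← hπ] at hY hXY ⊢
  have hker : ∀ z : SL2 F, π z = 1 → z = 1 ∨ z = negOne := by
    intro z hz
    rw [hπ] at hz
    exact center_sl2_eq z ((QuotientGroup.eq_one_iff z).mp hz)
  have hπneg : π negOne = 1 := by rw [hπ]; exact mk_negOne
  have h3F : (3 : F) = 0 := by exact_mod_cast CharP.cast_eq_zero F 3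
  have hY1 : π y ≠ 1 := by
    intro h
    rw [h, orderOf_one] at hY
    norm_num at hY
  have hy3 : π (y ^ 3) = 1 := by rw [map_pow, ← hY]; exact pow_orderOf_eq_one _
  obtain ⟨y', hy'π, hy'3⟩ : ∃ y' : SL2 F, π y' = π y ∧ y' ^ 3 = 1 := by
    rcases hker _ hy3 with h | h
    · exact ⟨y, rfl, h⟩
    · refine ⟨negOne * y, by rw [map_mul, hπneg, one_mul], ?_⟩
      have hcm : Commute (negOne : SL2 F) y := negOne_comm y
      rw [hcm.mul_pow, h]
      have h4 : (negOne : SL2 F) ^ 3 * negOne = negOne ^ 2 * negOne ^ 2 := by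
        simp only [pow_succ, pow_zero, one_mul, mul_assoc]
      rw [h4, negOne_pow_two, one_mul]
  have hy'1 : y' ≠ 1 := by
    rintro rfl
    rw [map_one] at hy'π
    exact hY1 hy'π.symm
  have htr : y' 0 0 + y' 1 1 = 2 := trace_of_pow_char_pow 3 y' 1 (by rw [pow_one]; exact hy'3)
  rw [← hy'π] at hXY
  have hcz : π (x * y' * x⁻¹ * y'⁻¹) = 1 := by
    rw [map_mul, map_mul, map_mul, map_inv, map_inv, hXY]; group
  have hxy : x * y' = y' * x := by
    rcases hker _ hcz with h | h
    · calc x * y' = (x * y' * x⁻¹ * y'⁻¹) * (y' * x) := by group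
        _ = y' * x := by rw [h, one_mul]
    · exfalso
      have h5 : x * y' * x⁻¹ = negOne * y' := by
        calc x * y' * x⁻¹ = (x * y' * x⁻¹ * y'⁻¹) * y' := by group
          _ = negOne * y' := by rw [h]
      have h6 := dk_trace_conj x y'
      rw [h5] at h6
      have h7 : (negOne * y' : SL2 F) 0 0 + (negOne * y' : SL2 F) 1 1 = -(y' 0 0 + y' 1 1) := by
        simp only [sl2_mul_apply, negOne_00, negOne_01, negOne_10, negOne_11]; ring
      have h8 : (4 : F) = 0 := by
        have h9 : -(y' 0 0 + y' 1 1) = y' 0 0 + y' 1 1 := by rw [← h7]; exact h6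
        rw [htr] at h9
        linear_combination -h9
      exact one_ne_zero (by linear_combination h8 - h3F : (1 : F) = 0)
  have htx := comm_unip_trace y' x hy'1 htr hxy
  have h9 : (x 0 0 + x 1 1 - 2) * (x 0 0 + x 1 1 + 2) = 0 := by linear_combination htx
  rcases mul_eq_zero.mp h9 with h | h
  · have hx3 : x ^ 3 = 1 := unip_pow_char 3 x (by linear_combination h)
    rw [← map_pow, hx3, map_one]
  · have hx3 : (negOne * x) ^ 3 = 1 := unip_pow_char 3 (negOne * x) (by
      simp only [sl2_mul_apply, negOne_00, negOne_01, negOne_10, negOne_11]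
      linear_combination -h)
    have h10 : π (negOne * x) = π x := by rw [map_mul, hπneg, one_mul]
    rw [← h10, ← map_pow, hx3, map_one]

/-- Element orders in the image of a tame subgroup with bounded point stabilizers. -/
theorem tame_pow_bound (h2 : (2 : F) ≠ 0) {δ : F} (hδ : ¬ IsSquare δ) (K : Subgroup (SL2 F))
    (hneg : negOne ∈ K) (htame : ∀ g ∈ K, g 0 0 + g 1 1 = 2 → g = 1) (m : ℕ) (hm2 : 2 ≤ m)
    (hm : ∀ J : TZ δ, Nat.card ↥(K ⊓ MulAction.stabilizer (SL2 F) J) ≤ m)
    (k : SL2 F) (hk : k ∈ K) :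
    ∃ j, 1 ≤ j ∧ 2 * j ≤ m ∧ (QuotientGroup.mk' (Subgroup.center (SL2 F)) k) ^ j = 1 := by
  by_cases hkZ : k ∈ Subgroup.center (SL2 F)
  · exact ⟨1, le_refl 1, by omega, by rw [pow_one]; exact (QuotientGroup.eq_one_iff k).mpr hkZ⟩
  have h1 : k ≠ 1 := by rintro rfl; exact hkZ (Subgroup.one_mem _)
  have hn : k ≠ negOne := by rintro rfl; exact hkZ negOne_mem_center
  have h3 : (k 0 0 + k 1 1) ^ 2 ≠ 4 := by
    intro h
    have h4 : (k 0 0 + k 1 1 - 2) * (k 0 0 + k 1 1 + 2) = 0 := by linear_combination h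
    rcases mul_eq_zero.mp h4 with h5 | h5
    · exact h1 (htame _ hk (by linear_combination h5))
    · have h6 := htame (negOne * k) (K.mul_mem hneg hk) (by
        simp only [sl2_mul_apply, negOne_00, negOne_01, negOne_10, negOne_11]
        linear_combination -h5)
      apply hn
      rw [← negOne_mul_cancel k, h6, mul_one]
  have hfix := tz_fixCard_two h2 hδ k (nonscalar_of_ne k h1 hn) h3
  obtain ⟨J, hJ⟩ : ∃ J : TZ δ, k • J = J := by
    unfold fixCard at hfix
    have hpos : 0 < (Finset.univ.filter (fun y : TZ δ => k • y = y)).card := by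
      rw [hfix]; norm_num
    obtain ⟨J, hJ⟩ := Finset.card_pos.mp hpos
    exact ⟨J, (Finset.mem_filter.mp hJ).2⟩
  obtain ⟨A, hA⟩ : ∃ A : Subgroup (SL2 F), A = K ⊓ MulAction.stabilizer (SL2 F) J := ⟨_, rfl⟩
  have hkA : k ∈ A := by rw [hA]; exact ⟨hk, MulAction.mem_stabilizer_iff.mpr hJ⟩
  have hZA : Subgroup.center (SL2 F) ≤ A := by
    intro z hz
    rw [hA]
    rcases center_sl2_eq z hz with h | h
    · rw [h]; exact Subgroup.one_mem _
    · rw [h]
      refine ⟨hneg, MulAction.mem_stabilizer_iff.mpr ?_⟩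
      rw [TZ.smul_eq_iff]
      apply mat2_ext <;> simp only [mul2_apply, negOne_00, negOne_01, negOne_10, negOne_11] <;>
        ring
  have hcard := card_map_mk_mul (Subgroup.center (SL2 F)) A hZA
  have hZ2 : 2 ≤ Nat.card (Subgroup.center (SL2 F)) := by
    have : Nontrivial (Subgroup.center (SL2 F)) :=
      ⟨⟨⟨1, Subgroup.one_mem _⟩, ⟨negOne, negOne_mem_center⟩,
        fun h => negOne_ne_one h2 (congrArg Subtype.val h).symm⟩⟩
    exact Finite.one_lt_card
  have hAm : Nat.card A ≤ m := by rw [hA]; exact hm J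
  refine ⟨Nat.card (A.map (QuotientGroup.mk' (Subgroup.center (SL2 F)))), Nat.card_pos, ?_, ?_⟩
  · nlinarith
  · have h5 := pow_card_eq_one' (x := (⟨QuotientGroup.mk' (Subgroup.center (SL2 F)) k,
      Subgroup.mem_map_of_mem _ hkA⟩ : A.map (QuotientGroup.mk' (Subgroup.center (SL2 F)))))
    have h6 := congrArg Subtype.val h5
    simpa only [Subgroup.coe_pow, Subgroup.coe_one] using h6

end PSL

end Cfsg.Agent.Lib.helper98
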