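import Cfsg.Agent.Lib.helper98.DicksonWild

/-!
# Subgroups of `SL₂(q)`, `q` even, containing involutions

* `solvable_of_self_centralizing_involution`: a finite group with an involution `u` whose
  centralizer is `{1, u}` is solvable (the complement of the class of `u` is an abelian normal
  subgroup of index `2`).
* `wild_even`: a subgroup `H` of `SL₂(q)`, `q` even, containing an involution is conjugate to a
  group of upper triangular matrices, or has an involution with centralizer of order `2`, or has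
  order `A (A² - 1)` with `A ∣ q`, `A - 1 ∣ q - 1`.
-/

set_option autoImplicit false
set_option linter.unusedSimpArgs false

namespace Cfsg.Agent.Lib.helper98

open Matrix
open scoped Classical

local notation "SL2" => Matrix.SpecialLinearGroup (Fin 2)

section Grp

variable {G : Type*} [Group G]

/-- In a finite group with an involution `u` whose centralizer is `{1, u}`, the elements which are
not conjugate to `u` form an abelian normal subgroup `A`, and every element outside `A` lies in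
`u A`. -/
theorem exists_abelian_of_self_centralizing_involution [Finite G] (u : G) (hu1 : u ≠ 1)
    (hu2 : u * u = 1) (hC : ∀ g : G, g * u = u * g → g = 1 ∨ g = u) :
    ∃ A : Subgroup G, A.Normal ∧ (∀ a ∈ A, ∀ b ∈ A, a * b = b * a) ∧
      (∀ g : G, g ∈ A ∨ u * g ∈ A) ∧ (∀ a ∈ A, u * a * u = a⁻¹) := by
  classical
  let _ : Fintype G := Fintype.ofFinite G
  have huinv : u⁻¹ = u := inv_eq_of_mul_eq_one_right hu2
  -- the class of `u`
  obtain ⟨S, hS⟩ : ∃ S : Finset G, S = Finset.univ.image (fun g : G => g * u * g⁻¹) := ⟨_, rfl⟩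
  have mS : ∀ x : G, x ∈ S ↔ ∃ g : G, g * u * g⁻¹ = x := by
    intro x; rw [hS]; simp
  have hSsq : ∀ s ∈ S, s * s = 1 := by
    intro s hs
    obtain ⟨g, rfl⟩ := (mS s).mp hs
    calc g * u * g⁻¹ * (g * u * g⁻¹) = g * (u * u) * g⁻¹ := by group
      _ = 1 := by rw [hu2]; group
  have hSne : ∀ s ∈ S, s ≠ 1 := by
    intro s hs h1
    obtain ⟨g, rfl⟩ := (mS s).mp hs
    apply hu1
    calc u = g⁻¹ * (g * u * g⁻¹) * g := by group
      _ = 1 := by rw [h1]; group
  have hSconj : ∀ s ∈ S, ∀ g : G, g * s * g⁻¹ ∈ S := by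
    intro s hs g
    obtain ⟨h, rfl⟩ := (mS s).mp hs
    exact (mS _).mpr ⟨g * h, by group⟩
  have hSC : ∀ s ∈ S, ∀ g : G, g * s = s * g → g = 1 ∨ g = s := by
    intro s hs g hg
    obtain ⟨h, rfl⟩ := (mS s).mp hs
    have h1 : (h⁻¹ * g * h) * u = u * (h⁻¹ * g * h) := by
      calc (h⁻¹ * g * h) * u = h⁻¹ * (g * (h * u * h⁻¹)) * h := by group
        _ = h⁻¹ * ((h * u * h⁻¹) * g) * h := by rw [hg]
        _ = u * (h⁻¹ * g * h) := by group
    rcases hC _ h1 with h2 | h2
    · left
      calc g = h * (h⁻¹ * g * h) * h⁻¹ := by group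
        _ = 1 := by rw [h2]; group
    · right
      calc g = h * (h⁻¹ * g * h) * h⁻¹ := by group
        _ = h * u * h⁻¹ := by rw [h2]
  -- a product of two conjugates of `u` is not a conjugate of `u`
  have hprod : ∀ s ∈ S, ∀ s' ∈ S, s * s' ∉ S := by
    intro s hs s' hs' hmem
    have h1 := hSsq _ hmem
    have h2 : s' * s = s * s' := by
      have e1 : s * s' * (s' * s) = 1 := by
        calc s * s' * (s' * s) = s * (s' * s') * s := by group
          _ = 1 := by rw [hSsq s' hs', mul_one, hSsq s hs]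
      have e2 : (s * s')⁻¹ = s * s' := inv_eq_of_mul_eq_one_right h1
      calc s' * s = (s * s')⁻¹ := (inv_eq_of_mul_eq_one_right e1).symm
        _ = s * s' := e2
    rcases hSC s hs s' h2 with h3 | h3
    · exact hSne s' hs' h3
    · rw [h3, hSsq s hs] at hmem
      exact hSne 1 hmem rfl
  -- counting: `|G| = 2 |S|`
  have hcard : Fintype.card G = 2 * S.card := by
    have h1 : (Finset.univ : Finset G).card =
        ∑ s ∈ S, (Finset.univ.filter (fun g : G => g * u * g⁻¹ = s)).card :=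
      Finset.card_eq_sum_card_fiberwise (fun g _ => (mS _).mpr ⟨g, rfl⟩)
    have h2 : ∀ s ∈ S, (Finset.univ.filter (fun g : G => g * u * g⁻¹ = s)).card = 2 := by
      intro s hs
      obtain ⟨h, rfl⟩ := (mS s).mp hs
      have hne : h ≠ h * u := by
        intro h0
        apply hu1
        calc u = h⁻¹ * (h * u) := by group
          _ = 1 := by rw [← h0]; group
      have : Finset.univ.filter (fun g : G => g * u * g⁻¹ = h * u * h⁻¹) = {h, h * u} := by
        ext g
        simp only [Finset.mem_filter, Finset.mem_univ, true_and, Finset.mem_insert,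
          Finset.mem_singleton]
        constructor
        · intro hg
          have h3 : (h⁻¹ * g) * u = u * (h⁻¹ * g) := by
            calc (h⁻¹ * g) * u = h⁻¹ * (g * u * g⁻¹) * g := by group
              _ = h⁻¹ * (h * u * h⁻¹) * g := by rw [hg]
              _ = u * (h⁻¹ * g) := by group
          rcases hC _ h3 with h4 | h4
          · left
            calc g = h * (h⁻¹ * g) := by group
              _ = h := by rw [h4, mul_one]
          · right
            calc g = h * (h⁻¹ * g) := by group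
              _ = h * u := by rw [h4]
        · rintro (rfl | rfl)
          · rfl
          · calc h * u * u * (h * u)⁻¹ = h * (u * u) * u⁻¹ * h⁻¹ := by group
              _ = h * u * h⁻¹ := by rw [hu2, huinv, mul_one]
      rw [this, Finset.card_pair hne]
    rw [Finset.sum_congr rfl h2, Finset.sum_const, smul_eq_mul, mul_comm] at h1
    rw [← h1]; rfl
  -- every element outside `S` is `s * s'` for a given `s ∈ S`
  have hsurj : ∀ s ∈ S, ∀ a : G, a ∉ S → ∃ s' ∈ S, a = s * s' := by
    intro s hs a ha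
    have himg : S.image (fun s' => s * s') ⊆ Sᶜ := by
      intro x hx
      obtain ⟨s', hs', rfl⟩ := Finset.mem_image.mp hx
      exact Finset.mem_compl.mpr (hprod s hs s' hs')
    have hcardimg : (S.image (fun s' => s * s')).card = S.card :=
      Finset.card_image_of_injective _ (mul_right_injective s)
    have hcompl : (Sᶜ).card = S.card := by
      rw [Finset.card_compl, hcard]; omega
    have heq : S.image (fun s' => s * s') = Sᶜ :=
      Finset.eq_of_subset_of_card_le himg (by rw [hcardimg, hcompl])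
    have : a ∈ S.image (fun s' => s * s') := by
      rw [heq]; exact Finset.mem_compl.mpr ha
    obtain ⟨s', hs', rfl⟩ := Finset.mem_image.mp this
    exact ⟨s', hs', rfl⟩
  have huS : u ∈ S := (mS u).mpr ⟨1, by group⟩
  -- the subgroup
  refine ⟨{ carrier := {a | a ∉ S}
            mul_mem' := ?_
            one_mem' := fun h => hSne 1 h rfl
            inv_mem' := ?_ }, ⟨?_⟩, ?_, ?_, ?_⟩
  · intro a b ha hb
    obtain ⟨s₁, hs₁, rfl⟩ := hsurj u huS a ha
    obtain ⟨s₂, hs₂, rfl⟩ := hsurj s₁ hs₁ b hb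
    have : u * s₁ * (s₁ * s₂) = u * s₂ := by
      calc u * s₁ * (s₁ * s₂) = u * (s₁ * s₁) * s₂ := by group
        _ = u * s₂ := by rw [hSsq s₁ hs₁, mul_one]
    show u * s₁ * (s₁ * s₂) ∉ S
    rw [this]
    exact hprod u huS s₂ hs₂
  · intro a ha
    obtain ⟨s₁, hs₁, rfl⟩ := hsurj u huS a ha
    have : (u * s₁)⁻¹ = s₁ * u := by
      apply inv_eq_of_mul_eq_one_right
      calc u * s₁ * (s₁ * u) = u * (s₁ * s₁) * u := by group
        _ = 1 := by rw [hSsq s₁ hs₁, mul_one, hu2]
    show (u * s₁)⁻¹ ∉ S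
    rw [this]
    exact hprod s₁ hs₁ u huS
  · intro a ha g
    show g * a * g⁻¹ ∉ S
    intro hmem
    apply ha
    have := hSconj _ hmem g⁻¹
    have e : g⁻¹ * (g * a * g⁻¹) * g⁻¹⁻¹ = a := by group
    rwa [e] at this
  · -- commutativity: `u` inverts every element of the subgroup
    have hinv : ∀ a : G, a ∉ S → u * a * u = a⁻¹ := by
      intro a ha
      obtain ⟨s₁, hs₁, rfl⟩ := hsurj u huS a ha
      have e1 : (u * s₁)⁻¹ = s₁ * u := by
        apply inv_eq_of_mul_eq_one_right
        calc u * s₁ * (s₁ * u) = u * (s₁ * s₁) * u := by group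
          _ = 1 := by rw [hSsq s₁ hs₁, mul_one, hu2]
      rw [e1]
      calc u * (u * s₁) * u = (u * u) * s₁ * u := by group
        _ = s₁ * u := by rw [hu2, one_mul]
    intro a ha b hb
    have hab : a * b ∉ S := by
      obtain ⟨s₁, hs₁, rfl⟩ := hsurj u huS a ha
      obtain ⟨s₂, hs₂, rfl⟩ := hsurj s₁ hs₁ b hb
      have : u * s₁ * (s₁ * s₂) = u * s₂ := by
        calc u * s₁ * (s₁ * s₂) = u * (s₁ * s₁) * s₂ := by group
          _ = u * s₂ := by rw [hSsq s₁ hs₁, mul_one]
      rw [this]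
      exact hprod u huS s₂ hs₂
    have e1 := hinv a ha
    have e2 := hinv b hb
    have e3 := hinv (a * b) hab
    have e4 : u * (a * b) * u = (u * a * u) * (u * b * u) := by
      calc u * (a * b) * u = u * a * (u * u) * b * u := by rw [hu2]; group
        _ = (u * a * u) * (u * b * u) := by group
    rw [e4, e1, e2, _root_.mul_inv_rev] at e3
    -- `a⁻¹ * b⁻¹ = b⁻¹ * a⁻¹`
    have e5 : (a⁻¹ * b⁻¹)⁻¹ = (b⁻¹ * a⁻¹)⁻¹ := by rw [e3]
    rw [_root_.mul_inv_rev, _root_.mul_inv_rev, inv_inv, inv_inv] at e5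
    exact e5.symm
  · intro g
    by_cases hg : g ∈ S
    · right
      exact hprod u huS g hg
    · left
      exact hg
  · intro a ha
    obtain ⟨s₁, hs₁, rfl⟩ := hsurj u huS a ha
    have e1 : (u * s₁)⁻¹ = s₁ * u := by
      apply inv_eq_of_mul_eq_one_right
      calc u * s₁ * (s₁ * u) = u * (s₁ * s₁) * u := by group
        _ = 1 := by rw [hSsq s₁ hs₁, mul_one, hu2]
    rw [e1]
    calc u * (u * s₁) * u = (u * u) * s₁ * u := by group
      _ = s₁ * u := by rw [hu2, one_mul]

/-- A finite group with an involution whose centralizer has order `2` is solvable. -/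
theorem solvable_of_self_centralizing_involution [Finite G] (u : G) (hu1 : u ≠ 1)
    (hu2 : u * u = 1) (hC : ∀ g : G, g * u = u * g → g = 1 ∨ g = u) : Group.IsSolvable G := by
  obtain ⟨A, hAn, hAc, hAu, -⟩ := exists_abelian_of_self_centralizing_involution u hu1 hu2 hC
  have h1 : Group.IsSolvable A := by
    apply Group.isSolvable_of_comm
    intro a b
    exact Subtype.ext (hAc a a.2 b b.2)
  have h2 : Group.IsSolvable (G ⧸ A) := by
    apply Group.isSolvable_of_comm
    have key : ∀ x : G ⧸ A, x = 1 ∨ x = QuotientGroup.mk' A u := by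
      intro x
      obtain ⟨g, rfl⟩ := QuotientGroup.mk'_surjective A x
      rcases hAu g with hg | hg
      · left
        exact (QuotientGroup.eq_one_iff g).mpr hg
      · right
        have e := (QuotientGroup.eq_one_iff (u * g)).mpr hg
        have e' : QuotientGroup.mk' A u * QuotientGroup.mk' A g = 1 := by
          rw [← map_mul]; exact e
        have e'' : QuotientGroup.mk' A u * QuotientGroup.mk' A u = 1 := by
          rw [← map_mul, hu2, map_one]
        calc QuotientGroup.mk' A g = (QuotientGroup.mk' A u)⁻¹ :=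
              (inv_eq_of_mul_eq_one_right e').symm
          _ = QuotientGroup.mk' A u := inv_eq_of_mul_eq_one_right e''
    intro x y
    rcases key x with rfl | rfl <;> rcases key y with rfl | rfl <;> simp
  exact Group.isSolvable_of_ker_le_range A.subtype (QuotientGroup.mk' A) (by
    rw [QuotientGroup.ker_mk', Subgroup.range_subtype])

end Grp

section Even

variable {F : Type*} [Field F] [Fintype F]

/-- Normalized subgroups of `SL₂(q)`, `q` even, containing `upSL t₀`. -/
theorem wild_even_normalized (p : ℕ) [Fact p.Prime] [CharP F p] (h2 : (2 : F) = 0)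
    (H : Subgroup (SL2 F))
    (hB : ∀ g ∈ H, g 1 0 = 0 → ∃ h ∈ H, h 0 0 = g 0 0 ∧ h 0 1 = 0 ∧ h 1 0 = 0)
    (t₀ : F) (ht₀ : t₀ ≠ 0) (hu : upSL t₀ ∈ H) :
    (∀ g ∈ H, g 1 0 = 0) ∨ (∀ g ∈ H, g 1 0 = 0 → g = 1 ∨ g = upSL t₀) ∨
      ∃ A, 2 ≤ A ∧ A ∣ Fintype.card F ∧ (A - 1) ∣ (Fintype.card F - 1) ∧
        Nat.card H = A * (A ^ 2 - 1) := by
  by_cases hall : ∀ g ∈ H, g 1 0 = 0
  · left; exact hall
  right
  push Not at hall
  have hN : ∃ g ∈ H, g 1 0 ≠ 0 := hall
  have hAq := card_UH_dvd H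
  have hdq := card_TH_dvd H
  have hA2 : 2 ≤ Nat.card {t : F // upSL t ∈ H} := by
    have : Nontrivial {t : F // upSL t ∈ H} :=
      ⟨⟨⟨0, by rw [upSL_zero]; exact H.one_mem⟩, ⟨t₀, hu⟩,
        fun h => ht₀ (congrArg Subtype.val h).symm⟩⟩
    exact Finite.one_lt_card
  obtain ⟨n, -, hqn⟩ := FiniteField.card F p
  have hp := (Fact.out : p.Prime)
  have hp2 : p = 2 := by
    have h3 : ((2 : ℕ) : F) = 0 := by exact_mod_cast h2
    have h4 := (CharP.cast_eq_zero_iff F p 2).mp h3
    exact (Nat.prime_dvd_prime_iff_eq hp Nat.prime_two).mp h4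
  have hborel := card_borel H hB
  obtain ⟨A, hA⟩ : ∃ A, A = Nat.card {t : F // upSL t ∈ H} := ⟨_, rfl⟩
  obtain ⟨d, hd⟩ : ∃ d, d = Nat.card {g : SL2 F // g ∈ H ∧ g 0 1 = 0 ∧ g 1 0 = 0} := ⟨_, rfl⟩
  rw [← hA] at hAq hA2
  rw [← hd] at hdq
  rw [← hA, ← hd] at hborel
  have hp_of_dvd : ∀ r : ℕ, r.Prime → r ∣ A → p = r := by
    intro r hr hrA
    have h1 : r ∣ p ^ (n : ℕ) := hqn ▸ hrA.trans hAq
    exact ((Nat.prime_dvd_prime_iff_eq hr hp).mp (hr.dvd_of_dvd_pow h1)).symm
  obtain ⟨N, s, hN2, hs2, hcard, hE⟩ := sl2_core_even p h2 H hB t₀ ht₀ hu hN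
  have hd' := diag_free_even h2 H
  rw [← hA, ← hd] at hcard hE hd'
  obtain ⟨hN3, hNle⟩ := borel_index_bounds H t₀ ht₀ hu hN N (by
    rw [hcard, card_borel H hB, ← hA, ← hd, mul_assoc])
  rcases wild_arith N A d s hN3 hA2 hs2 hd' hE with ⟨hA2', hd1⟩ | ⟨hAd, hNA⟩ | ⟨hdA, hNA⟩ |
    ⟨hA3, -, -⟩
  · left
    rw [hA2', hd1] at hborel
    intro g hg hg10
    by_contra hcon
    push Not at hcon
    have h3 : 2 < Nat.card {g : SL2 F // g ∈ H ∧ g 1 0 = 0} := by
      rw [Nat.card_eq_fintype_card, Fintype.two_lt_card_iff]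
      refine ⟨⟨1, H.one_mem, sl2_one_10⟩, ⟨upSL t₀, hu, upSL_10 t₀⟩, ⟨g, hg, hg10⟩, ?_, ?_, ?_⟩
      · intro h
        have h' : (1 : SL2 F) = upSL t₀ := congrArg Subtype.val h
        rw [← upSL_zero] at h'
        exact ht₀ (upSL_injective h').symm
      · intro h
        exact hcon.1 (congrArg Subtype.val h).symm
      · intro h
        exact hcon.2 (congrArg Subtype.val h).symm
    omega
  · exfalso
    have h2A : ¬ 2 ∣ A := by omega
    obtain ⟨j, -, hj⟩ := (Nat.dvd_prime_pow hp).mp (hqn ▸ hAq)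
    rcases Nat.eq_zero_or_pos j with h0 | h0
    · rw [h0, pow_zero] at hj; omega
    · apply h2A
      rw [hj, hp2]
      exact dvd_pow_self 2 (by omega)
  · right
    refine ⟨A, hA2, hAq, by rw [← hdA]; exact hdq, ?_⟩
    rw [hcard, hNA, hdA]
    exact nat_cube A (by omega)
  · exfalso
    have := hp_of_dvd 3 Nat.prime_three (by rw [hA3])
    omega

/-- **Subgroups of `SL₂(q)`, `q` even, containing involutions.** -/
theorem wild_even (p : ℕ) [Fact p.Prime] [CharP F p] (h2 : (2 : F) = 0) (H : Subgroup (SL2 F))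
    (hw : ∃ g ∈ H, g ≠ 1 ∧ g 0 0 + g 1 1 = 2) :
    (∃ c : SL2 F, ∀ g ∈ H, (c * g * c⁻¹) 1 0 = 0) ∨
      (∃ u ∈ H, u ≠ 1 ∧ u * u = 1 ∧ ∀ g ∈ H, g * u = u * g → g = 1 ∨ g = u) ∨
      ∃ A, 2 ≤ A ∧ A ∣ Fintype.card F ∧ (A - 1) ∣ (Fintype.card F - 1) ∧
        Nat.card H = A * (A ^ 2 - 1) := by
  obtain ⟨g, hg, hg1, htr⟩ := hw
  have hneg : negOne ∈ H := by rw [negOne_eq_one h2]; exact H.one_mem
  obtain ⟨c₁, t₀, ht₀, hu⟩ := exists_conj_unip H g hg hg1 htr
  obtain ⟨s, hB⟩ := exists_conj_hB (conjSub c₁ H) (negOne_mem_conjSub c₁ H hneg)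
  have hconj : ∀ x : SL2 F, x ∈ H → upSL s * c₁ * x * (upSL s * c₁)⁻¹ ∈
      conjSub (upSL s) (conjSub c₁ H) := by
    intro x hx
    have h1 : upSL s * c₁ * x * (upSL s * c₁)⁻¹ = upSL s * (c₁ * x * c₁⁻¹) * (upSL s)⁻¹ := by
      group
    rw [h1]
    exact conj_mem_conjSub _ _ _ (conj_mem_conjSub _ _ _ hx)
  rcases wild_even_normalized p h2 (conjSub (upSL s) (conjSub c₁ H)) hB t₀ ht₀
    (upSL_mem_conjSub_upSL s t₀ _ hu) with h | h | ⟨A, hA2, hAq, hA1, hcard⟩
  · left
    exact ⟨upSL s * c₁, fun x hx => h _ (hconj x hx)⟩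
  · right; left
    have humem : (upSL s * c₁)⁻¹ * upSL t₀ * (upSL s * c₁) ∈ H := by
      have h1 := (mem_conjSub _ _ _).mp (upSL_mem_conjSub_upSL s t₀ _ hu)
      have h2' := (mem_conjSub _ _ _).mp h1
      have e : (upSL s * c₁)⁻¹ * upSL t₀ * (upSL s * c₁) =
          c₁⁻¹ * ((upSL s)⁻¹ * upSL t₀ * upSL s) * c₁ := by group
      rw [e]; exact h2'
    refine ⟨_, humem, ?_, ?_, ?_⟩
    · intro h1
      have e : upSL t₀ = (upSL s * c₁) * ((upSL s * c₁)⁻¹ * upSL t₀ * (upSL s * c₁)) *
          (upSL s * c₁)⁻¹ := by group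
      rw [h1] at e
      have e' : upSL t₀ = upSL 0 := by rw [e, upSL_zero]; group
      exact ht₀ (upSL_injective e')
    · have e : (upSL s * c₁)⁻¹ * upSL t₀ * (upSL s * c₁) *
          ((upSL s * c₁)⁻¹ * upSL t₀ * (upSL s * c₁)) =
          (upSL s * c₁)⁻¹ * (upSL t₀ * upSL t₀) * (upSL s * c₁) := by group
      rw [e, upSL_add]
      have : t₀ + t₀ = 0 := by linear_combination t₀ * h2
      rw [this, upSL_zero]; group
    · intro x hx hcomm
      have hx' := hconj x hx
      have hcomm' : (upSL s * c₁ * x * (upSL s * c₁)⁻¹) * upSL t₀ =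
          upSL t₀ * (upSL s * c₁ * x * (upSL s * c₁)⁻¹) := by
        have e1 : (upSL s * c₁ * x * (upSL s * c₁)⁻¹) * upSL t₀ =
            (upSL s * c₁) * (x * ((upSL s * c₁)⁻¹ * upSL t₀ * (upSL s * c₁))) *
              (upSL s * c₁)⁻¹ := by group
        have e2 : upSL t₀ * (upSL s * c₁ * x * (upSL s * c₁)⁻¹) =
            (upSL s * c₁) * (((upSL s * c₁)⁻¹ * upSL t₀ * (upSL s * c₁)) * x) *
              (upSL s * c₁)⁻¹ := by group
        rw [e1, e2, hcomm]
      have h10 := (borel_of_conj _ t₀ t₀ ht₀ hcomm').1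
      rcases h _ hx' h10 with h3 | h3
      · left
        have e : x = (upSL s * c₁)⁻¹ * (upSL s * c₁ * x * (upSL s * c₁)⁻¹) * (upSL s * c₁) := by
          group
        rw [e, h3]; group
      · right
        have e : x = (upSL s * c₁)⁻¹ * (upSL s * c₁ * x * (upSL s * c₁)⁻¹) * (upSL s * c₁) := by
          group
        rw [e, h3]
  · right; right
    refine ⟨A, hA2, hAq, hA1, ?_⟩
    rw [← hcard, card_conjSub, card_conjSub]

end Even

end Cfsg.Agent.Lib.helper98
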