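import Mathlib
import Cfsg.Agent.Lib.helper98.SubfieldSL2
import Cfsg.Agent.Lib.helper98.SL2Fix2

/-!
# Subfield subgroups of `SL₂(F)`: general frame, and maximality in characteristic `2`

* `subfield_frame`: for `H ≥ SL₂(K)` in `SL₂(F)`, `[F : K]` prime, `H ≠ ⊤`: the data needed for the
  counting equations.
* `arith_subfield_gen`: the arithmetic of the counting equation `N A (q-1) = s (2 + N (A-2))`.
* `subfield_max_even`: maximality of `SL₂(K)` in `SL₂(F)` in characteristic `2` (`|K| > 2`).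
-/

set_option autoImplicit false

namespace Cfsg.Agent.Lib.helper98

open Matrix
open scoped Classical

local notation "SL2" => Matrix.SpecialLinearGroup (Fin 2)

/-- Arithmetic of the counting equation `N A (q - 1) = s (2 + N (A - 2))`. -/
theorem arith_subfield_gen (q N A s : ℕ) (hq3 : 3 ≤ q) (hN : 2 ≤ N) (hs : 2 ≤ s)
    (hA : q ≤ A) (hdvd : q ∣ A) (hdiv : q * (q ^ 2 - 1) ∣ N * A * (q - 1))
    (h : N * A * (q - 1) = s * (2 + N * (A - 2))) :
    N * A * (q - 1) = q * (q ^ 2 - 1) := by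
  obtain ⟨d, rfl⟩ : ∃ d, q = d + 1 := ⟨q - 1, by omega⟩
  obtain ⟨a, rfl⟩ : ∃ a, A = a + 2 := ⟨A - 2, by omega⟩
  have hd2 : 2 ≤ d := by omega
  have h1 : d + 1 - 1 = d := by omega
  have h2 : a + 2 - 2 = a := by omega
  rw [h1, h2] at h
  rw [h1] at hdiv ⊢
  have ha : d - 1 ≤ a := by omega
  have h5 : (d + 1) ^ 2 - 1 = d * (d + 2) := by
    apply Nat.sub_eq_of_eq_add
    ring
  rw [h5] at hdiv ⊢
  have hpos : 0 < N * (a + 2) * d := by positivity
  have hge : (d + 1) * (d * (d + 2)) ≤ N * (a + 2) * d := Nat.le_of_dvd hpos hdiv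
  have hsd : d < s := by
    by_contra hcon
    have hcon' : s ≤ d := by omega
    have h3 : N * (a + 2) * s ≤ N * (a + 2) * d := Nat.mul_le_mul_left _ hcon'
    nlinarith [Nat.mul_le_mul_left s hN, Nat.zero_le (N * a)]
  obtain ⟨j, rfl⟩ : ∃ j, s = d + j := ⟨s - d, by omega⟩
  have hj : 1 ≤ j := by omega
  have hE : 2 * N * d = 2 * d + 2 * j + j * (N * a) := by nlinarith
  have hja : j * a < 2 * d := by
    by_contra hcon
    have hcon' : 2 * d ≤ j * a := by omega
    have h3 : N * (2 * d) ≤ N * (j * a) := Nat.mul_le_mul_left _ hcon'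
    nlinarith
  have hj2 : j ≤ 2 := by
    by_contra hcon
    have hj3 : 3 ≤ j := by omega
    have h3 : 3 * a ≤ j * a := Nat.mul_le_mul_right _ hj3
    -- then `d = 2`, `a = 1`, `j = 3`, `N = 10`
    have hd : d = 2 := by omega
    subst hd
    have ha1 : a = 1 := by omega
    subst ha1
    have hj3' : j = 3 := by omega
    subst hj3'
    have hN10 : N = 10 := by omega
    subst hN10
    revert hdiv
    decide
  have hj12 : j = 1 ∨ j = 2 := by omega
  rcases hj12 with rfl | rfl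
  · exfalso
    obtain ⟨c, hc⟩ := hdvd
    have hc1 : c = 1 := by
      have hc0 : c ≠ 0 := by
        rintro rfl
        omega
      have hc2 : c < 2 := by
        by_contra hcon
        have hc2' : 2 ≤ c := by omega
        have h3 : (d + 1) * 2 ≤ (d + 1) * c := Nat.mul_le_mul_left _ hc2'
        omega
      omega
    rw [hc1, mul_one] at hc
    have ha' : a = d - 1 := by omega
    obtain ⟨d', rfl⟩ : ∃ d', d = d' + 1 := ⟨d - 1, by omega⟩
    have ha'' : a = d' := by omega
    subst ha''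
    have hN2 : N = 2 := by nlinarith
    subst hN2
    nlinarith
  · have ha' : a = d - 1 := by omega
    obtain ⟨d', rfl⟩ : ∃ d', d = d' + 1 := ⟨d - 1, by omega⟩
    have ha'' : a = d' := by omega
    subst ha''
    have hNeq : N = a + 3 := by nlinarith
    subst hNeq
    ring

section Frame

variable {F K : Type*} [Field F] [Field K]

/-- `upSL ((φ a)² t) ∈ H` if `upSL t ∈ H ≥ SL₂(K)`. -/
theorem upSL_sq_mem (φ : K →+* F) (H : Subgroup (SL2 F))
    (hS : (Matrix.SpecialLinearGroup.map φ).range ≤ H) (a : K) (t : F) (ht : upSL t ∈ H) :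
    upSL (φ a ^ 2 * t) ∈ H := by
  by_cases ha : a = 0
  · rw [ha, map_zero, zero_pow two_ne_zero, zero_mul, upSL_zero]; exact H.one_mem
  · have hd : diagSL (φ a) ((map_ne_zero φ).mpr ha) ∈ H := by
      rw [← map_diagSL φ a ha]; exact hS ⟨_, rfl⟩
    have h3 := conj_upSL_upper (diagSL (φ a) ((map_ne_zero φ).mpr ha)) (diagSL_10 _ _) t
    rw [diagSL_00] at h3
    rw [← h3]
    exact H.mul_mem (H.mul_mem hd ht) (H.inv_mem hd)

/-- If squares detect `K`, the diagonal matrices with `a² ∈ K` lie in `SL₂(K)`. -/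
theorem diag_mem_of_sq (φ : K →+* F) (H : Subgroup (SL2 F))
    (hS : (Matrix.SpecialLinearGroup.map φ).range ≤ H)
    (hsq : ∀ a : F, a ^ 2 ∈ Set.range φ → a ∈ Set.range φ) (a : F) (ha : a ≠ 0)
    (h : a ^ 2 ∈ Set.range φ) : diagSL a ha ∈ H := by
  obtain ⟨b, hb⟩ := hsq a h
  subst hb
  have hb0 : b ≠ 0 := by
    rintro rfl
    exact ha (map_zero φ)
  rw [← map_diagSL φ b hb0]
  exact hS ⟨_, rfl⟩

theorem card_sq_mem_range [Fintype K] (φ : K →+* F)
    (hsq : ∀ a : F, a ^ 2 ∈ Set.range φ → a ∈ Set.range φ) :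
    Nat.card {a : F // a ≠ 0 ∧ a ^ 2 ∈ Set.range φ} = Fintype.card K - 1 := by
  rw [← Nat.card_eq_fintype_card (α := K), ← Nat.card_units]
  symm
  refine Nat.card_congr (Equiv.ofBijective (fun k : Kˣ =>
    (⟨φ k, (map_ne_zero φ).mpr k.ne_zero, ⟨(k : K) ^ 2, map_pow φ _ 2⟩⟩ :
      {a : F // a ≠ 0 ∧ a ^ 2 ∈ Set.range φ})) ⟨?_, ?_⟩)
  · intro a b hab
    exact Units.ext (φ.injective (congrArg Subtype.val hab))
  · rintro ⟨a, ha0, ha⟩
    obtain ⟨b, hb⟩ := hsq a ha
    have hb0 : b ≠ 0 := by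
      rintro rfl
      rw [map_zero] at hb
      exact ha0 hb.symm
    exact ⟨Units.mk0 b hb0, Subtype.ext hb⟩

variable [Fintype F] [Fintype K]

/-- The frame: for `SL₂(K) ≤ H < SL₂(F)`, `[F : K]` prime, the diagonal parts of the upper
triangular elements of `H` lie in `H`, the diagonal elements of `H` correspond to the `a` with
`a² ∈ K`, and `|K|` divides `#{t | upSL t ∈ H}`. -/
theorem subfield_frame (φ : K →+* F) (r : ℕ) (hr : r.Prime)
    (hcard : Fintype.card F = Fintype.card K ^ r)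
    (H : Subgroup (SL2 F)) (hS : (Matrix.SpecialLinearGroup.map φ).range ≤ H)
    (hUK : ∀ (k : K) (t : F), upSL t ∈ H → upSL (φ k * t) ∈ H)
    (hP : ∀ (a : F) (ha : a ≠ 0), a ^ 2 ∈ Set.range φ → diagSL a ha ∈ H)
    (hne : H ≠ ⊤) :
    (∀ g ∈ H, g 1 0 = 0 → ∃ h ∈ H, h 0 0 = g 0 0 ∧ h 0 1 = 0 ∧ h 1 0 = 0) ∧
    Nat.card {g : SL2 F // g ∈ H ∧ g 0 1 = 0 ∧ g 1 0 = 0} =
      Nat.card {a : F // a ≠ 0 ∧ a ^ 2 ∈ Set.range φ} ∧
    Fintype.card K ≤ Nat.card {t : F // upSL t ∈ H} ∧
    Fintype.card K ∣ Nat.card {t : F // upSL t ∈ H} := by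
  have hu1 : upSL (1 : F) ∈ H := by
    have h1 : upSL (1 : F) = Matrix.SpecialLinearGroup.map φ (upSL 1) := by
      rw [map_upSL, map_one]
    rw [h1]; exact hS ⟨_, rfl⟩
  have hw : (wSL : SL2 F) ∈ H := by rw [← map_wSL φ]; exact hS ⟨_, rfl⟩
  rcases multiplier_dichotomy φ r hr hcard {t : F | upSL t ∈ H}
      (by show upSL 0 ∈ H; rw [upSL_zero]; exact H.one_mem)
      (by intro s t hs ht; show upSL (s + t) ∈ H; rw [← upSL_add]; exact H.mul_mem hs ht)
      (by intro k t ht; exact hUK k t ht) with hM | hM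
  · exfalso
    apply hne
    apply eq_top_of_upSL H _ hw
    intro t
    have h1 := hM t 1 hu1
    rw [mul_one] at h1
    exact h1
  · have hdiag : ∀ g ∈ H, g 1 0 = 0 → g 0 0 ^ 2 ∈ Set.range φ := by
      intro g hg hg10
      apply hM
      intro t ht
      show upSL (g 0 0 ^ 2 * t) ∈ H
      rw [← conj_upSL_upper g hg10 t]
      exact H.mul_mem (H.mul_mem hg ht) (H.inv_mem hg)
    have hg00 : ∀ g : SL2 F, g 1 0 = 0 → g 0 0 ≠ 0 := by
      intro g hg10 h0
      have hd := sl2_det' g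
      rw [hg10, mul_zero, sub_zero, h0, zero_mul] at hd
      exact zero_ne_one hd
    refine ⟨?_, ?_, ?_, ?_⟩
    · intro g hg hg10
      exact ⟨diagSL (g 0 0) (hg00 g hg10), hP _ _ (hdiag g hg hg10), diagSL_00 _ _,
        diagSL_01 _ _, diagSL_10 _ _⟩
    · refine Nat.card_congr (Equiv.ofBijective
        (fun x : {g : SL2 F // g ∈ H ∧ g 0 1 = 0 ∧ g 1 0 = 0} =>
          (⟨(x : SL2 F) 0 0, hg00 _ x.2.2.2, hdiag _ x.2.1 x.2.2.2⟩ :
            {a : F // a ≠ 0 ∧ a ^ 2 ∈ Set.range φ})) ⟨?_, ?_⟩)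
      · rintro ⟨g, hg, hg01, hg10⟩ ⟨g', hg', hg01', hg10'⟩ hgg'
        have h00 : g 0 0 = g' 0 0 := congrArg Subtype.val hgg'
        apply Subtype.ext
        show g = g'
        have hd := sl2_det' g
        have hd' := sl2_det' g'
        rw [hg10, mul_zero, sub_zero] at hd
        rw [hg10', mul_zero, sub_zero, ← h00] at hd'
        have h11 : g 1 1 = g' 1 1 := by
          have h3 : g 0 0 * (g 1 1 - g' 1 1) = 0 := by linear_combination hd - hd'
          rcases mul_eq_zero.mp h3 with h | h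
          · exact absurd h (hg00 g hg10)
          · linear_combination h
        exact sl2_ext h00 (by rw [hg01, hg01']) (by rw [hg10, hg10']) h11
      · rintro ⟨a, ha0, ha⟩
        exact ⟨⟨diagSL a ha0, hP a ha0 ha, diagSL_01 a ha0, diagSL_10 a ha0⟩,
          Subtype.ext (diagSL_00 a ha0)⟩
    · rw [← Nat.card_eq_fintype_card]
      apply Nat.card_le_card_of_injective (fun k : K =>
        (⟨φ k, by rw [← map_upSL]; exact hS ⟨_, rfl⟩⟩ : {t : F // upSL t ∈ H}))
      intro a b hab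
      exact φ.injective (congrArg Subtype.val hab)
    · obtain ⟨Uadd, hUadd⟩ : ∃ Uadd : AddSubgroup F, ∀ t, t ∈ Uadd ↔ upSL t ∈ H :=
        ⟨{ carrier := {t : F | upSL t ∈ H}
           add_mem' := fun {s t} hs ht => by
             show upSL (s + t) ∈ H; rw [← upSL_add]; exact H.mul_mem hs ht
           zero_mem' := by show upSL 0 ∈ H; rw [upSL_zero]; exact H.one_mem
           neg_mem' := fun {t} ht => by
             show upSL (-t) ∈ H; rw [← upSL_inv]; exact H.inv_mem ht }, fun t => Iff.rfl⟩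
      have hle : φ.toAddMonoidHom.range ≤ Uadd := by
        rintro _ ⟨k, rfl⟩
        rw [hUadd]
        show upSL (φ k) ∈ H
        rw [← map_upSL]; exact hS ⟨_, rfl⟩
      have h1 := AddSubgroup.card_dvd_of_le hle
      have h2 : Nat.card φ.toAddMonoidHom.range = Fintype.card K := by
        rw [← Nat.card_eq_fintype_card]
        exact (Nat.card_congr
          (AddMonoidHom.ofInjective (f := φ.toAddMonoidHom) φ.injective).toEquiv).symm
      have h3 : Nat.card Uadd = Nat.card {t : F // upSL t ∈ H} :=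
        Nat.card_congr (Equiv.subtypeEquivRight hUadd)
      rw [h2, h3] at h1
      exact h1

end Frame

section Even

variable {F K : Type*} [Field F] [Field K] [Fintype F] [Fintype K]

omit [Fintype F] in
/-- In characteristic `2`, `a² ∈ K` implies `a ∈ K`. -/
theorem mem_range_of_sq_mem_even (φ : K →+* F) (hKchar : ringChar K = 2) (h2 : (2 : F) = 0)
    (a : F) (ha : a ^ 2 ∈ Set.range φ) : a ∈ Set.range φ := by
  obtain ⟨k, hk⟩ := ha
  obtain ⟨b, hb⟩ := FiniteField.isSquare_of_char_two hKchar k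
  rw [hb, map_mul] at hk
  have h3 : (a - φ b) ^ 2 = 0 := by
    linear_combination -hk + (φ b * φ b - a * φ b) * h2
  have h4 : a - φ b = 0 := by
    rcases pow_eq_zero_iff two_ne_zero |>.mp h3 with h
    exact h
  exact ⟨b, (sub_eq_zero.mp h4).symm⟩

/-- **Maximality of the subfield subgroup of `SL₂`, characteristic `2`, prime degree,
`|K| > 2`.** -/
theorem subfield_max_even (φ : K →+* F) (q r : ℕ) (hK : Fintype.card K = q)
    (hF : Fintype.card F = q ^ r) (hq : Even q) (hq2 : q ≠ 2) (hr : r.Prime)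
    (H : Subgroup (SL2 F)) (hS : (Matrix.SpecialLinearGroup.map φ).range ≤ H) :
    H = (Matrix.SpecialLinearGroup.map φ).range ∨ H = ⊤ := by
  by_cases hne : H = ⊤
  · exact Or.inr hne
  left
  obtain ⟨p, hp⟩ := CharP.exists F
  have : Fact p.Prime := ⟨CharP.char_is_prime F p⟩
  have hq1 : 1 < q := by rw [← hK]; exact Fintype.one_lt_card
  have hq4 : 4 ≤ q := by
    obtain ⟨e, he⟩ := hq
    omega
  have hFchar : ringChar F = 2 := by
    rw [FiniteField.even_card_iff_char_two, hF]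
    exact Nat.even_iff.mp (Nat.even_pow.mpr ⟨hq, hr.ne_zero⟩)
  have hKchar : ringChar K = 2 := by
    rw [FiniteField.even_card_iff_char_two, hK]
    exact Nat.even_iff.mp hq
  have h2 : (2 : F) = 0 := by
    have : CharP F 2 := ringChar.of_eq hFchar
    exact CharTwo.two_eq_zero
  have hcard : Fintype.card F = Fintype.card K ^ r := by rw [hK, hF]
  have hu1 : upSL (1 : F) ∈ H := by
    have h1 : upSL (1 : F) = Matrix.SpecialLinearGroup.map φ (upSL 1) := by
      rw [map_upSL, map_one]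
    rw [h1]; exact hS ⟨_, rfl⟩
  have hw : (wSL : SL2 F) ∈ H := by rw [← map_wSL φ]; exact hS ⟨_, rfl⟩
  have hUK : ∀ (k : K) (t : F), upSL t ∈ H → upSL (φ k * t) ∈ H := by
    intro k t ht
    obtain ⟨a, ha⟩ := FiniteField.isSquare_of_char_two hKchar k
    rw [ha, map_mul, ← pow_two]
    exact upSL_sq_mem φ H hS a t ht
  have hsq := mem_range_of_sq_mem_even φ hKchar h2
  obtain ⟨hB, hd, hA, hAdvd⟩ := subfield_frame φ r hr hcard H hS hUK
    (diag_mem_of_sq φ H hS hsq) hne
  obtain ⟨N, s, hN2, hs2, hcardH, hEq⟩ := sl2_core_even p h2 H hB 1 one_ne_zero hu1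
    ⟨wSL, hw, by rw [wSL_10]; exact neg_ne_zero.mpr one_ne_zero⟩
  rw [hd, card_sq_mem_range φ hsq, hK] at hcardH hEq
  rw [hK] at hA hAdvd
  have hrange : Nat.card (Matrix.SpecialLinearGroup.map φ : SL2 K →* SL2 F).range =
      q * (q ^ 2 - 1) := by
    rw [← Cfsg.Agent.Lib.helper7.card_SL2 hK]
    exact (Nat.card_congr (MonoidHom.ofInjective (sl2_map_injective φ)).toEquiv).symm
  have hdiv : q * (q ^ 2 - 1) ∣ N * Nat.card {t : F // upSL t ∈ H} * (q - 1) := by
    rw [← hrange, ← hcardH]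
    exact Subgroup.card_dvd_of_le hS
  have hfinal := arith_subfield_gen q N _ s (by omega) hN2 hs2 hA hAdvd hdiv hEq
  rw [hfinal] at hcardH
  exact (Subgroup.eq_of_le_of_card_ge hS (by rw [hcardH, hrange])).symm

end Even

end Cfsg.Agent.Lib.helper98
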