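import Mathlib
import Cfsg.Agent.Lib.helper98.DicksonEven
import Cfsg.Agent.Lib.helper98.DicksonMax
import Cfsg.Agent.Lib.helper98.SubfieldSL2b

/-!
# Subfield subgroups of `SL₂(q)`, `q` even, from normalized counting data

Let `H ≤ SL₂(F)`, `char F = 2`, be normalized (the diagonal parts of its upper triangular
elements lie in `H`, and `upSL 1 ∈ H`) with `A` upper unitriangular elements, `A - 1` diagonal
elements and order `A (A² - 1)`, where `A ≥ 3` is the order of a field `K₀` with an embedding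
`φ : K₀ →+* F`.  Then `H` is the image of `SL₂(K₀)`.
-/

set_option autoImplicit false
set_option linter.unusedSimpArgs false
set_option linter.unusedVariables false

namespace Cfsg.Agent.Lib.helper98

open Matrix
open scoped Classical

local notation "SL2" => Matrix.SpecialLinearGroup (Fin 2)

section EvenSub

variable {F K₀ : Type*} [Field F] [Fintype F] [Field K₀] [Fintype K₀]

omit [Fintype F] [Fintype K₀] in
theorem two_eq_zero_of_hom (φ : K₀ →+* F) (h2 : (2 : F) = 0) : (2 : K₀) = 0 := by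
  apply φ.injective
  rw [map_ofNat, h2, map_zero]

omit [Fintype F] [Fintype K₀] in
theorem ringChar_two_of_hom (φ : K₀ →+* F) (h2 : (2 : F) = 0) : ringChar K₀ = 2 := by
  have h2' := two_eq_zero_of_hom φ h2
  have : CharP K₀ 2 := CharTwo.of_one_ne_zero_of_two_eq_zero one_ne_zero h2'
  exact ringChar.eq K₀ 2

omit [Fintype F] in
/-- Diagonal entries of a subgroup with `|K₀| - 1` diagonal elements lie in `K₀`. -/
theorem diag_mem_range (φ : K₀ →+* F) (H : Subgroup (SL2 F))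
    (hD : Nat.card {g : SL2 F // g ∈ H ∧ g 0 1 = 0 ∧ g 1 0 = 0} = Fintype.card K₀ - 1)
    (g : SL2 F) (hg : g ∈ H) (h01 : g 0 1 = 0) (h10 : g 1 0 = 0) : g 0 0 ∈ Set.range φ := by
  have hne : g 0 0 ≠ 0 := by
    intro h0
    have hd := sl2_det' g
    rw [h01, h0, zero_mul, zero_mul, sub_zero] at hd
    exact zero_ne_one hd
  have hu : Units.mk0 (g 0 0) hne ∈ TH H := by
    show diagU (Units.mk0 (g 0 0) hne) ∈ H
    rw [← eq_diagU g h01 h10 (Units.mk0 (g 0 0) hne) rfl]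
    exact hg
  have hc : Nat.card (TH H) = Fintype.card K₀ - 1 := by rw [← card_TH, hD]
  have hp : (⟨Units.mk0 (g 0 0) hne, hu⟩ : TH H) ^ (Fintype.card K₀ - 1) = 1 := by
    rw [← hc]; exact pow_card_eq_one'
  have hp' : (g 0 0) ^ (Fintype.card K₀ - 1) = 1 := by
    have := congrArg (fun x : TH H => ((x : Fˣ) : F)) hp
    simpa using this
  apply mem_range_of_pow_card_eq φ
  have h1 : 1 ≤ Fintype.card K₀ := Fintype.card_pos
  calc g 0 0 ^ Fintype.card K₀ = g 0 0 ^ (Fintype.card K₀ - 1 + 1) := by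
        rw [Nat.sub_add_cancel h1]
    _ = g 0 0 := by rw [pow_succ, hp', one_mul]

omit [Fintype F] in
/-- Conversely the diagonal matrices over `K₀` lie in `H`. -/
theorem diag_mem_of_range (φ : K₀ →+* F) (H : Subgroup (SL2 F))
    (hD : Nat.card {g : SL2 F // g ∈ H ∧ g 0 1 = 0 ∧ g 1 0 = 0} = Fintype.card K₀ - 1)
    (e : K₀) (he : e ≠ 0) : diagSL (φ e) ((map_ne_zero φ).mpr he) ∈ H := by
  have hc : Nat.card (TH H) = Fintype.card K₀ - 1 := by rw [← card_TH, hD]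
  have key : ∀ u : TH H, ∃ e : K₀ˣ, φ (e : K₀) = ((u : Fˣ) : F) := by
    intro u
    obtain ⟨e, he⟩ := diag_mem_range φ H hD (diagU (u : Fˣ)) u.2 (diagU_01 _) (diagU_10 _)
    rw [diagU_00] at he
    have he0 : e ≠ 0 := by
      rintro rfl
      rw [map_zero] at he
      exact (u : Fˣ).ne_zero he.symm
    exact ⟨Units.mk0 e he0, he⟩
  choose f hf using key
  have hinj : Function.Injective f := by
    intro u v huv
    apply Subtype.ext; apply Units.ext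
    rw [← hf u, ← hf v, huv]
  have hbij := hinj.bijective_of_nat_card_le
    (by rw [hc, Nat.card_units, Nat.card_eq_fintype_card])
  obtain ⟨u, hu⟩ := hbij.2 (Units.mk0 e he)
  have h1 := hf u
  rw [hu] at h1
  have h2 : diagSL (φ e) ((map_ne_zero φ).mpr he) = diagU (u : Fˣ) := by
    apply eq_diagU _ (diagSL_01 _ _) (diagSL_10 _ _)
    rw [diagSL_00]; exact h1
  rw [h2]; exact u.2

omit [Fintype F] in
/-- `{t | upSL t ∈ H}` is stable under multiplication by `K₀`. -/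
theorem upSL_smul_mem_range (φ : K₀ →+* F) (h2 : (2 : F) = 0) (H : Subgroup (SL2 F))
    (hD : Nat.card {g : SL2 F // g ∈ H ∧ g 0 1 = 0 ∧ g 1 0 = 0} = Fintype.card K₀ - 1)
    (e : K₀) (t : F) (ht : upSL t ∈ H) : upSL (φ e * t) ∈ H := by
  by_cases he : e = 0
  · rw [he, map_zero, zero_mul, upSL_zero]; exact H.one_mem
  · obtain ⟨a, ha⟩ := FiniteField.isSquare_of_char_two (ringChar_two_of_hom φ h2) e
    have ha0 : a ≠ 0 := by
      rintro rfl
      rw [mul_zero] at ha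
      exact he ha
    have hd := diag_mem_of_range φ H hD a ha0
    have h3 := conj_upSL_upper (diagSL (φ a) ((map_ne_zero φ).mpr ha0)) (diagSL_10 _ _) t
    rw [diagSL_00] at h3
    have h4 : φ e * t = φ a ^ 2 * t := by rw [ha, map_mul]; ring
    rw [h4, ← h3]
    exact H.mul_mem (H.mul_mem hd ht) (H.inv_mem hd)

/-- `{t | upSL t ∈ H} = K₀`. -/
theorem upSL_mem_iff_range (φ : K₀ →+* F) (h2 : (2 : F) = 0) (H : Subgroup (SL2 F))
    (hD : Nat.card {g : SL2 F // g ∈ H ∧ g 0 1 = 0 ∧ g 1 0 = 0} = Fintype.card K₀ - 1)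
    (hu1 : upSL 1 ∈ H) (hT : Nat.card {t : F // upSL t ∈ H} = Fintype.card K₀) (t : F) :
    upSL t ∈ H ↔ t ∈ Set.range φ := by
  have hmem : ∀ e : K₀, upSL (φ e) ∈ H := by
    intro e
    have := upSL_smul_mem_range φ h2 H hD e 1 hu1
    rwa [mul_one] at this
  constructor
  · intro ht
    have hinj : Function.Injective (fun e : K₀ => (⟨φ e, hmem e⟩ : {t : F // upSL t ∈ H})) := by
      intro a b hab
      exact φ.injective (congrArg Subtype.val hab)
    have hbij := hinj.bijective_of_nat_card_le (by rw [hT, Nat.card_eq_fintype_card])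
    obtain ⟨e, he⟩ := hbij.2 ⟨t, ht⟩
    exact ⟨e, congrArg Subtype.val he⟩
  · rintro ⟨e, rfl⟩; exact hmem e

/-- The counting step: two elements of `H` outside the Borel subgroup have `g 0 0 / g 1 0` in the
same coset of `K₀`. -/
theorem xi_add_mem (φ : K₀ →+* F) (h2 : (2 : F) = 0) (H : Subgroup (SL2 F))
    (hB : ∀ g ∈ H, g 1 0 = 0 → ∃ h ∈ H, h 0 0 = g 0 0 ∧ h 0 1 = 0 ∧ h 1 0 = 0)
    (hD : Nat.card {g : SL2 F // g ∈ H ∧ g 0 1 = 0 ∧ g 1 0 = 0} = Fintype.card K₀ - 1)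
    (hu1 : upSL 1 ∈ H) (hT : Nat.card {t : F // upSL t ∈ H} = Fintype.card K₀)
    (hcard : Nat.card H = Fintype.card K₀ * (Fintype.card K₀ ^ 2 - 1))
    (g g' : SL2 F) (hg : g ∈ H) (hg' : g' ∈ H) (hg10 : g 1 0 ≠ 0) (hg'10 : g' 1 0 ≠ 0) :
    g 0 0 / g 1 0 + g' 0 0 / g' 1 0 ∈ Set.range φ := by
  have hUmem := upSL_mem_iff_range φ h2 H hD hu1 hT
  obtain ⟨A, hA⟩ : ∃ A, A = Fintype.card K₀ := ⟨_, rfl⟩
  rw [← hA] at hD hT hcard
  have hA2 : 2 ≤ A := by rw [hA]; exact Fintype.one_lt_card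
  obtain ⟨Bf, hBf⟩ : ∃ Bf : Finset (SL2 F),
      Bf = Finset.univ.filter (fun b : SL2 F => b ∈ H ∧ b 1 0 = 0) := ⟨_, rfl⟩
  obtain ⟨S, hS⟩ : ∃ S : Finset (SL2 F),
      S = Finset.univ.filter (fun b : SL2 F => b ∈ H ∧ b 1 0 ≠ 0) := ⟨_, rfl⟩
  have mBf : ∀ b : SL2 F, b ∈ Bf ↔ b ∈ H ∧ b 1 0 = 0 := by intro b; rw [hBf]; simp
  have mS : ∀ b : SL2 F, b ∈ S ↔ b ∈ H ∧ b 1 0 ≠ 0 := by intro b; rw [hS]; simp
  have cBf : Bf.card = A * (A - 1) := by
    rw [hBf, ← natCard_subtype, card_borel H hB, hT, hD]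
  have cH : (Finset.univ.filter (fun b : SL2 F => b ∈ H)).card = A * (A ^ 2 - 1) := by
    rw [← natCard_subtype]; exact hcard
  have cS : S.card + Bf.card = (Finset.univ.filter (fun b : SL2 F => b ∈ H)).card := by
    have h1 := Finset.card_filter_add_card_filter_not
      (s := Finset.univ.filter (fun b : SL2 F => b ∈ H)) (fun b : SL2 F => b 1 0 ≠ 0)
    have e1 : S = (Finset.univ.filter (fun b : SL2 F => b ∈ H)).filter
        (fun b : SL2 F => b 1 0 ≠ 0) := by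
      ext b; rw [mS]; simp
    have e2 : Bf = (Finset.univ.filter (fun b : SL2 F => b ∈ H)).filter
        (fun b : SL2 F => ¬ b 1 0 ≠ 0) := by
      ext b; rw [mBf]; simp
    rw [e1, e2]; exact h1
  have cS' : S.card = A * Bf.card := by
    have h1 : S.card + Bf.card = A * Bf.card + Bf.card := by
      rw [cS, cH, cBf, ← nat_cube A (by omega)]; ring
    exact Nat.add_right_cancel h1
  have cBfpos : 0 < Bf.card := by
    rw [cBf]; exact Nat.mul_pos (by omega) (by omega)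
  obtain ⟨ξ, hξ⟩ : ∃ ξ : SL2 F → F, ξ = fun g => g 0 0 / g 1 0 := ⟨_, rfl⟩
  have hξa : ∀ g : SL2 F, ξ g = g 0 0 / g 1 0 := by intro g; rw [hξ]
  have hfib : ∀ x ∈ S.image ξ, Bf.card ≤ (S.filter (fun g => ξ g = x)).card := by
    intro x hx
    obtain ⟨g₀, hg₀S, rfl⟩ := Finset.mem_image.mp hx
    have hg₀ := (mS g₀).mp hg₀S
    apply Finset.card_le_card_of_injOn (fun b => g₀ * b)
    · intro b hb
      have hb' := (mBf b).mp hb
      have hb00 : b 0 0 ≠ 0 := by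
        intro h0
        have hd := sl2_det' b
        rw [h0, hb'.2, zero_mul, mul_zero, sub_zero] at hd
        exact zero_ne_one hd
      have h10 : (g₀ * b) 1 0 = g₀ 1 0 * b 0 0 := by
        rw [sl2_mul_apply, hb'.2, mul_zero, add_zero]
      have h00 : (g₀ * b) 0 0 = g₀ 0 0 * b 0 0 := by
        rw [sl2_mul_apply, hb'.2, mul_zero, add_zero]
      have hmem : g₀ * b ∈ S.filter (fun g => ξ g = ξ g₀) := by
        rw [Finset.mem_filter, mS]
        refine ⟨⟨H.mul_mem hg₀.1 hb'.1, ?_⟩, ?_⟩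
        · rw [h10]; exact mul_ne_zero hg₀.2 hb00
        · rw [hξa, hξa, h10, h00]
          exact mul_div_mul_right _ _ hb00
      exact hmem
    · intro a _ b _ hab
      exact mul_left_cancel hab
  have hX : (S.image ξ).card ≤ A := by
    have h1 := Finset.mul_card_image_le_card S Bf.card hfib
    rw [cS', mul_comm A] at h1
    exact Nat.le_of_mul_le_mul_left h1 cBfpos
  have hstab : ∀ x ∈ S.image ξ, ∀ e : K₀, x + φ e ∈ S.image ξ := by
    intro x hx e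
    obtain ⟨g₀, hg₀S, rfl⟩ := Finset.mem_image.mp hx
    have hg₀ := (mS g₀).mp hg₀S
    have hu : upSL (φ e) ∈ H := (hUmem _).mpr ⟨e, rfl⟩
    have h10 : (upSL (φ e) * g₀) 1 0 = g₀ 1 0 := by
      rw [sl2_mul_apply, upSL_10, upSL_11, zero_mul, zero_add, one_mul]
    have h00 : (upSL (φ e) * g₀) 0 0 = g₀ 0 0 + φ e * g₀ 1 0 := by
      rw [sl2_mul_apply, upSL_00, upSL_01, one_mul]
    refine Finset.mem_image.mpr ⟨upSL (φ e) * g₀, (mS _).mpr ⟨H.mul_mem hu hg₀.1, ?_⟩, ?_⟩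
    · rw [h10]; exact hg₀.2
    · rw [hξa, hξa, h10, h00, add_div, mul_div_assoc, div_self hg₀.2, mul_one]
  have hgS : ξ g ∈ S.image ξ := Finset.mem_image_of_mem _ ((mS g).mpr ⟨hg, hg10⟩)
  have hg'S : ξ g' ∈ S.image ξ := Finset.mem_image_of_mem _ ((mS g').mpr ⟨hg', hg'10⟩)
  have hsub : (Finset.univ.image (fun e : K₀ => ξ g + φ e)) ⊆ S.image ξ := by
    intro y hy
    obtain ⟨e, -, rfl⟩ := Finset.mem_image.mp hy
    exact hstab _ hgS e
  have hcY : (Finset.univ.image (fun e : K₀ => ξ g + φ e)).card = A := by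
    rw [Finset.card_image_of_injective, Finset.card_univ, hA]
    intro a b hab
    exact φ.injective (add_left_cancel hab)
  have heq := Finset.eq_of_subset_of_card_le hsub (by rw [hcY]; exact hX)
  rw [← heq] at hg'S
  obtain ⟨e, -, he⟩ := Finset.mem_image.mp hg'S
  refine ⟨e, ?_⟩
  rw [← hξa, ← hξa, ← he]
  linear_combination (-ξ g) * h2

/-- `g 0 0 / g 1 0 ∈ K₀` for `g ∈ H` outside the Borel subgroup. -/
theorem xi_mem (φ : K₀ →+* F) (h2 : (2 : F) = 0) (H : Subgroup (SL2 F))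
    (hB : ∀ g ∈ H, g 1 0 = 0 → ∃ h ∈ H, h 0 0 = g 0 0 ∧ h 0 1 = 0 ∧ h 1 0 = 0)
    (hD : Nat.card {g : SL2 F // g ∈ H ∧ g 0 1 = 0 ∧ g 1 0 = 0} = Fintype.card K₀ - 1)
    (hu1 : upSL 1 ∈ H) (hT : Nat.card {t : F // upSL t ∈ H} = Fintype.card K₀)
    (hcard : Nat.card H = Fintype.card K₀ * (Fintype.card K₀ ^ 2 - 1))
    (hA3 : 3 ≤ Fintype.card K₀)
    (g : SL2 F) (hg : g ∈ H) (hg10 : g 1 0 ≠ 0) : g 0 0 / g 1 0 ∈ Set.range φ := by
  have h2K := two_eq_zero_of_hom φ h2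
  obtain ⟨e₁, -, he₁⟩ := Finset.exists_mem_notMem_of_card_lt_card
    (s := ({0, 1} : Finset K₀)) (t := Finset.univ) (by
      rw [Finset.card_univ]
      exact lt_of_le_of_lt Finset.card_le_two (by omega))
  rw [Finset.mem_insert, Finset.mem_singleton] at he₁
  push Not at he₁
  obtain ⟨he0, he1⟩ := he₁
  obtain ⟨a, ha⟩ := FiniteField.isSquare_of_char_two (ringChar_two_of_hom φ h2) e₁
  have ha0 : a ≠ 0 := by
    rintro rfl
    rw [mul_zero] at ha
    exact he0 ha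
  have hφa : φ a ≠ 0 := (map_ne_zero φ).mpr ha0
  have hd := diag_mem_of_range φ H hD a ha0
  have h10 : (diagSL (φ a) hφa * g) 1 0 = (φ a)⁻¹ * g 1 0 := by
    rw [sl2_mul_apply, diagSL_10, diagSL_11, zero_mul, zero_add]
  have h00 : (diagSL (φ a) hφa * g) 0 0 = φ a * g 0 0 := by
    rw [sl2_mul_apply, diagSL_00, diagSL_01, zero_mul, add_zero]
  obtain ⟨e₂, he₂⟩ := xi_add_mem φ h2 H hB hD hu1 hT hcard g (diagSL (φ a) hφa * g) hg
    (H.mul_mem hd hg) hg10 (by rw [h10]; exact mul_ne_zero (inv_ne_zero hφa) hg10)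
  rw [h10, h00] at he₂
  have h1e : (1 : K₀) + a * a ≠ 0 := by
    intro h
    apply he1
    rw [ha]
    linear_combination h - h2K
  have hφ1e : (1 : F) + φ a * φ a ≠ 0 := by
    rw [← map_mul, ← map_one φ, ← map_add]; exact (map_ne_zero φ).mpr h1e
  have hφ1e' : (1 : F) + φ a ^ 2 ≠ 0 := by rwa [pow_two]
  refine ⟨e₂ / (1 + a * a), ?_⟩
  rw [map_div₀, map_add, map_one, he₂, map_mul]
  field_simp

/-- The entries of an element of `H` with `g 0 0 = 0` lie in `K₀`. -/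
theorem entries_of_zero (φ : K₀ →+* F) (h2 : (2 : F) = 0) (H : Subgroup (SL2 F))
    (hB : ∀ g ∈ H, g 1 0 = 0 → ∃ h ∈ H, h 0 0 = g 0 0 ∧ h 0 1 = 0 ∧ h 1 0 = 0)
    (hD : Nat.card {g : SL2 F // g ∈ H ∧ g 0 1 = 0 ∧ g 1 0 = 0} = Fintype.card K₀ - 1)
    (hu1 : upSL 1 ∈ H) (hT : Nat.card {t : F // upSL t ∈ H} = Fintype.card K₀)
    (hcard : Nat.card H = Fintype.card K₀ * (Fintype.card K₀ ^ 2 - 1))
    (hA3 : 3 ≤ Fintype.card K₀)
    (g : SL2 F) (hg : g ∈ H) (h00 : g 0 0 = 0) :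
    g 0 1 ∈ φ.fieldRange ∧ g 1 0 ∈ φ.fieldRange ∧ g 1 1 ∈ φ.fieldRange := by
  have hUmem := upSL_mem_iff_range φ h2 H hD hu1 hT
  have hd := sl2_det' g
  rw [h00, zero_mul, zero_sub] at hd
  have hg10 : g 1 0 ≠ 0 := by
    intro h
    rw [h, mul_zero, neg_zero] at hd
    exact zero_ne_one hd
  have hprod : g 0 1 * g 1 0 = 1 := by linear_combination -hd - h2
  have hinv10 : (g⁻¹) 1 0 ≠ 0 := by rw [sl2_inv_10]; exact neg_ne_zero.mpr hg10
  obtain ⟨e₃, he₃⟩ := xi_mem φ h2 H hB hD hu1 hT hcard hA3 g⁻¹ (H.inv_mem hg) hinv10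
  rw [sl2_inv_00, sl2_inv_10] at he₃
  have hu3 : upSL (φ e₃) ∈ H := (hUmem _).mpr ⟨e₃, rfl⟩
  obtain ⟨g₂, hg₂⟩ : ∃ g₂, g₂ = g * upSL (φ e₃) := ⟨_, rfl⟩
  have hg₂H : g₂ ∈ H := by rw [hg₂]; exact H.mul_mem hg hu3
  have e00 : g₂ 0 0 = 0 := by rw [hg₂, sl2_mul_apply, upSL_00, upSL_10, h00]; ring
  have e01 : g₂ 0 1 = g 0 1 := by rw [hg₂, sl2_mul_apply, upSL_01, upSL_11, h00]; ring
  have e10 : g₂ 1 0 = g 1 0 := by rw [hg₂, sl2_mul_apply, upSL_00, upSL_10]; ring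
  have e11 : g₂ 1 1 = 0 := by
    rw [hg₂, sl2_mul_apply, upSL_01, upSL_11, he₃]
    field_simp
    ring
  obtain ⟨g₃, hg₃⟩ : ∃ g₃, g₃ = g₂ * upSL 1 * g₂ := ⟨_, rfl⟩
  have hg₃H : g₃ ∈ H := by rw [hg₃]; exact H.mul_mem (H.mul_mem hg₂H hu1) hg₂H
  have f00 : g₃ 0 0 = g 0 1 * g 1 0 := by
    rw [hg₃]
    simp only [sl2_mul_apply, upSL_00, upSL_01, upSL_10, upSL_11, e00, e01, e10, e11]
    ring
  have f10 : g₃ 1 0 = g 1 0 * g 1 0 := by
    rw [hg₃]
    simp only [sl2_mul_apply, upSL_00, upSL_01, upSL_10, upSL_11, e00, e01, e10, e11]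
    ring
  obtain ⟨e₄, he₄⟩ := xi_mem φ h2 H hB hD hu1 hT hcard hA3 g₃ hg₃H
    (by rw [f10]; exact mul_ne_zero hg10 hg10)
  rw [f00, f10, hprod] at he₄
  have he₄0 : e₄ ≠ 0 := by
    rintro rfl
    rw [map_zero] at he₄
    exact (one_div_ne_zero (mul_ne_zero hg10 hg10)) he₄.symm
  obtain ⟨a, ha⟩ := FiniteField.isSquare_of_char_two (ringChar_two_of_hom φ h2) e₄⁻¹
  have hsq : g 1 0 * g 1 0 = φ a * φ a := by
    rw [← map_mul, ← ha, map_inv₀, he₄]
    field_simp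
  have hg10a : g 1 0 = φ a := by
    have h3 : (g 1 0 - φ a) ^ 2 = 0 := by
      linear_combination hsq + (φ a * φ a - g 1 0 * φ a) * h2
    exact sub_eq_zero.mp (pow_eq_zero_iff two_ne_zero |>.mp h3)
  have m10 : g 1 0 ∈ φ.fieldRange := by
    rw [hg10a]; exact RingHom.mem_fieldRange.mpr ⟨a, rfl⟩
  have m01 : g 0 1 ∈ φ.fieldRange := by
    have h3 : g 0 1 = (g 1 0)⁻¹ := eq_inv_of_mul_eq_one_left hprod
    rw [h3]; exact inv_mem m10
  have m11 : g 1 1 ∈ φ.fieldRange := by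
    have h3 : g 1 1 = -(φ e₃ * g 1 0) := by
      rw [he₃]; field_simp
    rw [h3]; exact neg_mem (mul_mem (RingHom.mem_fieldRange.mpr ⟨e₃, rfl⟩) m10)
  exact ⟨m01, m10, m11⟩

/-- All entries of the elements of `H` lie in `K₀`. -/
theorem entries_mem (φ : K₀ →+* F) (h2 : (2 : F) = 0) (H : Subgroup (SL2 F))
    (hB : ∀ g ∈ H, g 1 0 = 0 → ∃ h ∈ H, h 0 0 = g 0 0 ∧ h 0 1 = 0 ∧ h 1 0 = 0)
    (hD : Nat.card {g : SL2 F // g ∈ H ∧ g 0 1 = 0 ∧ g 1 0 = 0} = Fintype.card K₀ - 1)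
    (hu1 : upSL 1 ∈ H) (hT : Nat.card {t : F // upSL t ∈ H} = Fintype.card K₀)
    (hcard : Nat.card H = Fintype.card K₀ * (Fintype.card K₀ ^ 2 - 1))
    (hA3 : 3 ≤ Fintype.card K₀)
    (g : SL2 F) (hg : g ∈ H) :
    g 0 0 ∈ φ.fieldRange ∧ g 0 1 ∈ φ.fieldRange ∧ g 1 0 ∈ φ.fieldRange ∧
      g 1 1 ∈ φ.fieldRange := by
  have hUmem := upSL_mem_iff_range φ h2 H hD hu1 hT
  have hd := sl2_det' g
  by_cases hg10 : g 1 0 = 0
  · obtain ⟨h, hh, h00, h01, h10⟩ := hB g hg hg10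
    have m00 : g 0 0 ∈ φ.fieldRange := by
      have h3 := diag_mem_range φ H hD h hh h01 h10
      rw [h00] at h3
      exact RingHom.mem_fieldRange.mpr h3
    rw [hg10, mul_zero, sub_zero] at hd
    have hg00 : g 0 0 ≠ 0 := by
      intro h0
      rw [h0, zero_mul] at hd
      exact zero_ne_one hd
    have hg11 : g 1 1 = (g 0 0)⁻¹ := eq_inv_of_mul_eq_one_right hd
    have hdh := sl2_det' h
    rw [h01, zero_mul, sub_zero, h00] at hdh
    have hh11 : h 1 1 = (g 0 0)⁻¹ := eq_inv_of_mul_eq_one_right hdh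
    have hu : g * h⁻¹ ∈ H := H.mul_mem hg (H.inv_mem hh)
    have u00 : (g * h⁻¹) 0 0 = 1 := by
      rw [sl2_mul_apply, sl2_inv_00, sl2_inv_10, h10, hh11]
      field_simp
      ring
    have u10 : (g * h⁻¹) 1 0 = 0 := by
      rw [sl2_mul_apply, sl2_inv_00, sl2_inv_10, h10, hg10]; ring
    have u01 : (g * h⁻¹) 0 1 = g 0 1 * g 0 0 := by
      rw [sl2_mul_apply, sl2_inv_01, sl2_inv_11, h01, h00]; ring
    have hu' := eq_upSL u00 u10
    rw [hu', u01] at hu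
    have m := RingHom.mem_fieldRange.mpr ((hUmem _).mp hu)
    have m01 : g 0 1 ∈ φ.fieldRange := by
      have h3 : g 0 1 = (g 0 1 * g 0 0) * (g 0 0)⁻¹ := by field_simp
      rw [h3]; exact mul_mem m (inv_mem m00)
    refine ⟨m00, m01, ?_, ?_⟩
    · rw [hg10]; exact zero_mem _
    · rw [hg11]; exact inv_mem m00
  · obtain ⟨e, he⟩ := xi_mem φ h2 H hB hD hu1 hT hcard hA3 g hg hg10
    have hu : upSL (φ e) ∈ H := (hUmem _).mpr ⟨e, rfl⟩
    have hg' : upSL (φ e) * g ∈ H := H.mul_mem hu hg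
    have g00 : (upSL (φ e) * g) 0 0 = 0 := by
      rw [sl2_mul_apply, upSL_00, upSL_01, he]
      field_simp
      linear_combination (g 0 0) * h2
    have g01 : (upSL (φ e) * g) 0 1 = g 0 1 + φ e * g 1 1 := by
      rw [sl2_mul_apply, upSL_00, upSL_01]; ring
    have g10 : (upSL (φ e) * g) 1 0 = g 1 0 := by
      rw [sl2_mul_apply, upSL_10, upSL_11]; ring
    have g11 : (upSL (φ e) * g) 1 1 = g 1 1 := by
      rw [sl2_mul_apply, upSL_10, upSL_11]; ring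
    obtain ⟨m01, m10, m11⟩ := entries_of_zero φ h2 H hB hD hu1 hT hcard hA3 _ hg' g00
    rw [g01] at m01
    rw [g10] at m10
    rw [g11] at m11
    have me : φ e ∈ φ.fieldRange := RingHom.mem_fieldRange.mpr ⟨e, rfl⟩
    refine ⟨?_, ?_, m10, m11⟩
    · have h3 : g 0 0 = φ e * g 1 0 := by
        rw [he]; field_simp
      rw [h3]; exact mul_mem me m10
    · have h3 : g 0 1 = (g 0 1 + φ e * g 1 1) - φ e * g 1 1 := by ring
      rw [h3]; exact sub_mem m01 (mul_mem me m11)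

/-- **The normalized subgroup is the subfield subgroup.** -/
theorem eq_range_of_normalized (φ : K₀ →+* F) (h2 : (2 : F) = 0) (H : Subgroup (SL2 F))
    (hB : ∀ g ∈ H, g 1 0 = 0 → ∃ h ∈ H, h 0 0 = g 0 0 ∧ h 0 1 = 0 ∧ h 1 0 = 0)
    (hD : Nat.card {g : SL2 F // g ∈ H ∧ g 0 1 = 0 ∧ g 1 0 = 0} = Fintype.card K₀ - 1)
    (hu1 : upSL 1 ∈ H) (hT : Nat.card {t : F // upSL t ∈ H} = Fintype.card K₀)
    (hcard : Nat.card H = Fintype.card K₀ * (Fintype.card K₀ ^ 2 - 1))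
    (hA3 : 3 ≤ Fintype.card K₀) :
    H = (Matrix.SpecialLinearGroup.map φ : SL2 K₀ →* SL2 F).range := by
  have hle : H ≤ (Matrix.SpecialLinearGroup.map φ : SL2 K₀ →* SL2 F).range := by
    intro g hg
    obtain ⟨m00, m01, m10, m11⟩ := entries_mem φ h2 H hB hD hu1 hT hcard hA3 g hg
    obtain ⟨a, ha⟩ := RingHom.mem_fieldRange.mp m00
    obtain ⟨b, hb⟩ := RingHom.mem_fieldRange.mp m01
    obtain ⟨c, hc⟩ := RingHom.mem_fieldRange.mp m10
    obtain ⟨d, hd⟩ := RingHom.mem_fieldRange.mp m11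
    have hdet : a * d - b * c = 1 := by
      apply φ.injective
      rw [map_sub, map_mul, map_mul, map_one, ha, hb, hc, hd]
      exact sl2_det' g
    refine ⟨mkSL a b c d hdet, ?_⟩
    apply sl2_ext <;> simp only [sl2_map_apply, mkSL_00, mkSL_01, mkSL_10, mkSL_11, ha, hb, hc, hd]
  have hrange : Nat.card (Matrix.SpecialLinearGroup.map φ : SL2 K₀ →* SL2 F).range =
      Fintype.card K₀ * (Fintype.card K₀ ^ 2 - 1) := by
    rw [← Cfsg.Agent.Lib.helper7.card_SL2 (F := K₀) rfl]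
    exact (Nat.card_congr (MonoidHom.ofInjective (sl2_map_injective φ)).toEquiv).symm
  exact Subgroup.eq_of_le_of_card_ge hle (by rw [hrange, hcard])

end EvenSub

end Cfsg.Agent.Lib.helper98
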