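import Mathlib
import Cfsg.Agent.Lib.helper98.EvenSub
import Cfsg.Agent.Lib.helper98.EvenTorus
import Cfsg.Agent.S0805

/-!
# Maximal subgroups of `SL₂(q)`, `q ≥ 4` even

`maximal_even`: a maximal subgroup of `SL₂(q)`, `q = 2^n ≥ 4`, has order `q (q - 1)`, or is
dihedral of order `2 (q - 1)` or `2 (q + 1)`, or is conjugate to `SL₂(q₀)` with `q = q₀^r`, `r`
prime, `q₀ ≠ 2`.
-/

set_option autoImplicit false
set_option linter.unusedSimpArgs false
set_option linter.unusedVariables false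

namespace Cfsg.Agent.Lib.helper98

open Matrix
open scoped Classical
open Cfsg.Agent.Lib.helper46

local notation "SL2" => Matrix.SpecialLinearGroup (Fin 2)

section EvenMax

variable {F : Type*} [Field F] [Fintype F]

/-- Normalized subgroups of `SL₂(q)`, `q` even, containing `upSL t₀`: refined version of
`wild_even_normalized` recording the structure constants. -/
theorem wild_even_normalized' (p : ℕ) [Fact p.Prime] [CharP F p] (h2 : (2 : F) = 0)
    (H : Subgroup (SL2 F))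
    (hB : ∀ g ∈ H, g 1 0 = 0 → ∃ h ∈ H, h 0 0 = g 0 0 ∧ h 0 1 = 0 ∧ h 1 0 = 0)
    (t₀ : F) (ht₀ : t₀ ≠ 0) (hu : upSL t₀ ∈ H) :
    (∀ g ∈ H, g 1 0 = 0) ∨ (∀ g ∈ H, g 1 0 = 0 → g = 1 ∨ g = upSL t₀) ∨
      (4 ≤ Nat.card {t : F // upSL t ∈ H} ∧
        Nat.card {t : F // upSL t ∈ H} ∣ Fintype.card F ∧
        Nat.card {g : SL2 F // g ∈ H ∧ g 0 1 = 0 ∧ g 1 0 = 0} =
          Nat.card {t : F // upSL t ∈ H} - 1 ∧
        Nat.card H = Nat.card {t : F // upSL t ∈ H} *
          (Nat.card {t : F // upSL t ∈ H} ^ 2 - 1)) := by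
  by_cases hall : ∀ g ∈ H, g 1 0 = 0
  · left; exact hall
  right
  push Not at hall
  have hN : ∃ g ∈ H, g 1 0 ≠ 0 := hall
  have hAq := card_UH_dvd H
  have hdq := card_TH_dvd H
  have hA2 : 2 ≤ Nat.card {t : F // upSL t ∈ H} := by
    have : Nontrivial {t : F // upSL t ∈ H} :=
      ⟨⟨⟨0, by rw [upSL_zero]; exact H.one_mem⟩, ⟨t₀, hu⟩,
        fun h => ht₀ (congrArg Subtype.val h).symm⟩⟩
    exact Finite.one_lt_card
  obtain ⟨n, -, hqn⟩ := FiniteField.card F p
  have hp := (Fact.out : p.Prime)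
  have hp2 : p = 2 := by
    have h3 : ((2 : ℕ) : F) = 0 := by exact_mod_cast h2
    have h4 := (CharP.cast_eq_zero_iff F p 2).mp h3
    exact (Nat.prime_dvd_prime_iff_eq hp Nat.prime_two).mp h4
  have hborel := card_borel H hB
  obtain ⟨A, hA⟩ : ∃ A, A = Nat.card {t : F // upSL t ∈ H} := ⟨_, rfl⟩
  obtain ⟨d, hd⟩ : ∃ d, d = Nat.card {g : SL2 F // g ∈ H ∧ g 0 1 = 0 ∧ g 1 0 = 0} := ⟨_, rfl⟩
  rw [← hA] at hAq hA2
  rw [← hd] at hdq
  rw [← hA, ← hd] at hborel
  have hp_of_dvd : ∀ r : ℕ, r.Prime → r ∣ A → p = r := by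
    intro r hr hrA
    have h1 : r ∣ p ^ (n : ℕ) := hqn ▸ hrA.trans hAq
    exact ((Nat.prime_dvd_prime_iff_eq hr hp).mp (hr.dvd_of_dvd_pow h1)).symm
  obtain ⟨N, s, hN2, hs2, hcard, hE⟩ := sl2_core_even p h2 H hB t₀ ht₀ hu hN
  have hd' := diag_free_even h2 H
  rw [← hA, ← hd] at hcard hE hd'
  obtain ⟨hN3, hNle⟩ := borel_index_bounds H t₀ ht₀ hu hN N (by
    rw [hcard, card_borel H hB, ← hA, ← hd, mul_assoc])
  have hsmall : A = 2 → d = 1 → ∀ g ∈ H, g 1 0 = 0 → g = 1 ∨ g = upSL t₀ := by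
    intro hA2' hd1
    rw [hA2', hd1] at hborel
    intro g hg hg10
    by_contra hcon
    push Not at hcon
    have h3 : 2 < Nat.card {g : SL2 F // g ∈ H ∧ g 1 0 = 0} := by
      rw [Nat.card_eq_fintype_card, Fintype.two_lt_card_iff]
      refine ⟨⟨1, H.one_mem, sl2_one_10⟩, ⟨upSL t₀, hu, upSL_10 t₀⟩, ⟨g, hg, hg10⟩, ?_, ?_, ?_⟩
      · intro h
        have h' : (1 : SL2 F) = upSL t₀ := congrArg Subtype.val h
        rw [← upSL_zero] at h'
        exact ht₀ (upSL_injective h').symm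
      · intro h
        exact hcon.1 (congrArg Subtype.val h).symm
      · intro h
        exact hcon.2 (congrArg Subtype.val h).symm
    omega
  rcases wild_arith N A d s hN3 hA2 hs2 hd' hE with ⟨hA2', hd1⟩ | ⟨hAd, hNA⟩ | ⟨hdA, hNA⟩ |
    ⟨hA3, -, -⟩
  · left
    exact hsmall hA2' hd1
  · exfalso
    have h2A : ¬ 2 ∣ A := by omega
    obtain ⟨j, -, hj⟩ := (Nat.dvd_prime_pow hp).mp (hqn ▸ hAq)
    rcases Nat.eq_zero_or_pos j with h0 | h0
    · rw [h0, pow_zero] at hj; omega
    · apply h2A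
      rw [hj, hp2]
      exact dvd_pow_self 2 (by omega)
  · by_cases hA2' : A = 2
    · left
      exact hsmall hA2' (by rw [hdA, hA2'])
    · right
      have hA3 : A ≠ 3 := by
        intro h3
        have := hp_of_dvd 3 Nat.prime_three (by rw [h3])
        omega
      rw [← hA, ← hd]
      refine ⟨by omega, hAq, hdA, ?_⟩
      rw [hcard, hNA, hdA]
      exact nat_cube A (by omega)
  · exfalso
    have := hp_of_dvd 3 Nat.prime_three (by rw [hA3])
    omega

omit [Fintype F] in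
theorem conjSub_conjSub (c c' : SL2 F) (H : Subgroup (SL2 F)) :
    conjSub c (conjSub c' H) = conjSub (c * c') H := by
  ext g
  rw [mem_conjSub, mem_conjSub, mem_conjSub]
  have e : c'⁻¹ * (c⁻¹ * g * c) * c' = (c * c')⁻¹ * g * (c * c') := by group
  rw [e]

omit [Fintype F] in
theorem isCoatom_conjSub (c : SL2 F) (H : Subgroup (SL2 F)) (hH : IsCoatom H) :
    IsCoatom (conjSub c H) :=
  ((MulAut.conj c).mapSubgroup.isCoatom_iff H).mpr hH

/-- Normalization in characteristic `2`: a subgroup containing an involution is conjugate to a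
subgroup containing `upSL 1` in which the diagonal parts of upper triangular elements lie. -/
theorem exists_conj_normal_even (h2 : (2 : F) = 0) (H : Subgroup (SL2 F))
    (hw : ∃ g ∈ H, g ≠ 1 ∧ g 0 0 + g 1 1 = 2) :
    ∃ c : SL2 F, upSL 1 ∈ conjSub c H ∧
      ∀ g ∈ conjSub c H, g 1 0 = 0 →
        ∃ h ∈ conjSub c H, h 0 0 = g 0 0 ∧ h 0 1 = 0 ∧ h 1 0 = 0 := by
  obtain ⟨g, hg, hg1, htr⟩ := hw
  have hneg : negOne ∈ H := by rw [negOne_eq_one h2]; exact H.one_mem
  obtain ⟨c₁, t₀, ht₀, hu⟩ := exists_conj_unip H g hg hg1 htr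
  have hchar : ringChar F = 2 := by
    have : CharP F 2 := CharTwo.of_one_ne_zero_of_two_eq_zero one_ne_zero h2
    exact ringChar.eq F 2
  obtain ⟨s₀, hs₀⟩ := FiniteField.isSquare_of_char_two hchar t₀⁻¹
  have hs₀0 : s₀ ≠ 0 := by
    rintro rfl
    rw [mul_zero] at hs₀
    exact (inv_ne_zero ht₀) hs₀
  have hu1 : upSL 1 ∈ conjSub (diagSL s₀ hs₀0) (conjSub c₁ H) := by
    have h3 := conj_upSL_upper (diagSL s₀ hs₀0) (diagSL_10 _ _) t₀
    rw [diagSL_00] at h3
    have h4 : s₀ ^ 2 * t₀ = 1 := by rw [pow_two, ← hs₀]; exact inv_mul_cancel₀ ht₀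
    rw [h4] at h3
    rw [← h3]
    exact conj_mem_conjSub _ _ _ hu
  have hneg' : negOne ∈ conjSub (diagSL s₀ hs₀0) (conjSub c₁ H) :=
    negOne_mem_conjSub _ _ (negOne_mem_conjSub _ _ hneg)
  obtain ⟨s, hB⟩ := exists_conj_hB _ hneg'
  refine ⟨upSL s * (diagSL s₀ hs₀0 * c₁), ?_, ?_⟩
  · rw [← conjSub_conjSub, ← conjSub_conjSub]; exact upSL_mem_conjSub_upSL s 1 _ hu1
  · rw [← conjSub_conjSub, ← conjSub_conjSub]; exact hB

section Prime

variable {K₀ : Type*} [Field K₀] [Fintype K₀]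

omit [Fintype F] [Fintype K₀] in
theorem mem_range_map_of_entries (ψ : K₀ →+* F) (g : SL2 F)
    (h : ∀ i j, g i j ∈ Set.range ψ) :
    g ∈ (Matrix.SpecialLinearGroup.map ψ : SL2 K₀ →* SL2 F).range := by
  obtain ⟨a, ha⟩ := h 0 0
  obtain ⟨b, hb⟩ := h 0 1
  obtain ⟨c, hc⟩ := h 1 0
  obtain ⟨d, hd⟩ := h 1 1
  have hdet : a * d - b * c = 1 := by
    apply ψ.injective
    rw [map_sub, map_mul, map_mul, map_one, ha, hb, hc, hd]
    exact sl2_det' g
  refine ⟨mkSL a b c d hdet, ?_⟩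
  apply sl2_ext <;> simp only [sl2_map_apply, mkSL_00, mkSL_01, mkSL_10, mkSL_11, ha, hb, hc, hd]

omit [Fintype F] in
theorem card_range_map (ψ : K₀ →+* F) :
    Nat.card (Matrix.SpecialLinearGroup.map ψ : SL2 K₀ →* SL2 F).range =
      Fintype.card K₀ * (Fintype.card K₀ ^ 2 - 1) := by
  rw [← Cfsg.Agent.Lib.helper7.card_SL2 (F := K₀) rfl]
  exact (Nat.card_congr (MonoidHom.ofInjective (sl2_map_injective ψ)).toEquiv).symm

/-- A maximal subfield subgroup has prime degree. -/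
theorem prime_degree_of_coatom (φ : K₀ →+* F) (k m : ℕ) (hk : 1 ≤ k)
    (hK₀ : Fintype.card K₀ = 2 ^ k) (hF : Fintype.card F = 2 ^ (k * m))
    (hco : IsCoatom (Matrix.SpecialLinearGroup.map φ : SL2 K₀ →* SL2 F).range) : m.Prime := by
  have hm0 : m ≠ 0 := by
    rintro rfl
    rw [mul_zero, pow_zero] at hF
    have := Fintype.one_lt_card (α := F)
    omega
  have hm1 : m ≠ 1 := by
    rintro rfl
    rw [mul_one] at hF
    apply hco.1
    rw [← Subgroup.card_eq_iff_eq_top, card_range_map,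
      Cfsg.Agent.Lib.helper7.card_SL2 (F := F) rfl, hK₀, hF]
  by_contra hnp
  obtain ⟨a, b, ha, hb, hab⟩ := (Nat.not_prime_iff_exists_mul_eq (by omega : 2 ≤ m)).mp hnp
  have ha2 : 2 ≤ a := by
    by_contra h
    have h' : a = 0 ∨ a = 1 := by omega
    rcases h' with rfl | rfl
    · rw [zero_mul] at hab; omega
    · rw [one_mul] at hab; omega
  let _ : Fintype (GaloisField 2 (k * a)) := Fintype.ofFinite _
  have hK₁ : Fintype.card (GaloisField 2 (k * a)) = 2 ^ (k * a) := by
    rw [← Nat.card_eq_fintype_card]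
    exact GaloisField.card 2 (k * a) (Nat.mul_ne_zero (by omega) (by omega))
  obtain ⟨ψ⟩ := Cfsg.Agent.S0805.exists_ringHom (F := F) (K := GaloisField 2 (k * a)) b
    (by rw [hK₁, hF, ← pow_mul, mul_assoc, hab])
  have hle : (Matrix.SpecialLinearGroup.map φ : SL2 K₀ →* SL2 F).range ≤
      (Matrix.SpecialLinearGroup.map ψ : SL2 (GaloisField 2 (k * a)) →* SL2 F).range := by
    rintro _ ⟨g₀, rfl⟩
    apply mem_range_map_of_entries
    intro i j
    rw [sl2_map_apply]
    apply mem_range_of_pow_card_eq ψ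
    rw [hK₁, pow_mul, ← hK₀, ← map_pow, FiniteField.pow_card_pow]
  have hka : k < k * a := by nlinarith
  have hkam : k * a < k * m := by nlinarith
  have hlt : 2 ^ k < 2 ^ (k * a) := Nat.pow_lt_pow_right (by norm_num) hka
  have hne : (Matrix.SpecialLinearGroup.map ψ : SL2 (GaloisField 2 (k * a)) →* SL2 F).range ≠ ⊤ :=
    range_ne_top ψ (by rw [hK₁, hF]; exact Nat.pow_lt_pow_right (by norm_num) hkam)
  rcases hco.le_iff.mp hle with h | h
  · exact hne h
  · have h1 := congrArg (fun S : Subgroup (SL2 F) => Nat.card S) h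
    rw [card_range_map, card_range_map, hK₁, hK₀] at h1
    have hpos : 0 < (2 ^ (k * a)) ^ 2 - 1 := by
      have h3 : 1 < (2 ^ (k * a)) ^ 2 :=
        Nat.one_lt_pow (by norm_num) (Nat.one_lt_two_pow (by omega))
      omega
    have h3 : 2 ^ k * ((2 ^ k) ^ 2 - 1) < 2 ^ (k * a) * ((2 ^ (k * a)) ^ 2 - 1) :=
      calc 2 ^ k * ((2 ^ k) ^ 2 - 1) ≤ 2 ^ k * ((2 ^ (k * a)) ^ 2 - 1) :=
            Nat.mul_le_mul_left _ (Nat.sub_le_sub_right (Nat.pow_le_pow_left hlt.le 2) 1)
        _ < 2 ^ (k * a) * ((2 ^ (k * a)) ^ 2 - 1) := Nat.mul_lt_mul_of_pos_right hlt hpos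
    omega

end Prime

section Cases

omit [Fintype F] in
theorem borelSL_ne_top : borelSL F ≠ ⊤ := by
  intro h
  have h1 : lowSL (1 : F) ∈ borelSL F := by rw [h]; trivial
  rw [mem_borelSL, lowSL_10] at h1
  exact one_ne_zero h1

theorem exists_prime_order_pow {G : Type*} [Group G] [Finite G] (a : G) (ha : a ≠ 1) :
    ∃ (r : ℕ) (j : ℕ), r.Prime ∧ orderOf (a ^ j) = r := by
  have hm1 : orderOf a ≠ 1 := fun h => ha (orderOf_eq_one_iff.mp h)
  have hm0 : orderOf a ≠ 0 := (orderOf_pos a).ne'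
  have hr := Nat.minFac_prime hm1
  have hdvd := Nat.minFac_dvd (orderOf a)
  refine ⟨(orderOf a).minFac, orderOf a / (orderOf a).minFac, hr, ?_⟩
  have hj0 : orderOf a / (orderOf a).minFac ≠ 0 := by
    intro h
    have h1 := Nat.div_mul_cancel hdvd
    rw [h, zero_mul] at h1
    exact hm0 h1.symm
  rw [orderOf_pow_of_dvd hj0 (Nat.div_dvd_of_dvd hdvd)]
  exact Nat.div_div_self hdvd hm0

/-- The case of an involution with centralizer of order `2`. -/
theorem dihedral_of_self_centralizing (h2 : (2 : F) = 0) (h4 : 4 ≤ Fintype.card F)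
    (K : Subgroup (SL2 F)) (hK : IsCoatom K) (hu1 : upSL 1 ∈ K)
    (hC : ∀ g ∈ K, g 1 0 = 0 → g = 1 ∨ g = upSL 1) (hN : ∃ g ∈ K, g 1 0 ≠ 0) :
    Nonempty (K ≃* DihedralGroup (Fintype.card F - 1)) ∨
      Nonempty (K ≃* DihedralGroup (Fintype.card F + 1)) := by
  obtain ⟨g₀, hg₀, hg₀10⟩ := hN
  have hu_ne : (upSL 1 : SL2 F) ≠ 1 := by
    intro h
    rw [← upSL_zero] at h
    exact one_ne_zero (upSL_injective h)
  have hu_sq : (upSL 1 : SL2 F) * upSL 1 = 1 := by
    rw [upSL_add, ← upSL_zero]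
    congr 1
    linear_combination h2
  obtain ⟨u, hu⟩ : ∃ u : K, u = ⟨upSL 1, hu1⟩ := ⟨_, rfl⟩
  have hu' : (u : SL2 F) = upSL 1 := by rw [hu]
  have hu1' : u ≠ 1 := by
    intro h
    apply hu_ne
    rw [← hu', h]; rfl
  have hu2' : u * u = 1 := by
    apply Subtype.ext
    rw [Subgroup.coe_mul, hu', Subgroup.coe_one]; exact hu_sq
  have hCu : ∀ g : K, g * u = u * g → g = 1 ∨ g = u := by
    intro g hg
    have hg' : (g : SL2 F) * upSL 1 = upSL 1 * (g : SL2 F) := by
      have h3 := congrArg Subtype.val hg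
      rwa [Subgroup.coe_mul, Subgroup.coe_mul, hu'] at h3
    have h10 := (borel_of_conj _ 1 1 one_ne_zero hg').1
    rcases hC _ g.2 h10 with h | h
    · left; exact Subtype.ext h
    · right
      apply Subtype.ext
      rw [h, hu']
  obtain ⟨A, hAn, hAc, hAu, hAinv⟩ :=
    exists_abelian_of_self_centralizing_involution u hu1' hu2' hCu
  obtain ⟨a, haA, ha10⟩ : ∃ a : K, a ∈ A ∧ (a : SL2 F) 1 0 ≠ 0 := by
    rcases hAu ⟨g₀, hg₀⟩ with h | h
    · exact ⟨_, h, hg₀10⟩
    · refine ⟨_, h, ?_⟩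
      rw [Subgroup.coe_mul, hu', sl2_mul_apply, upSL_10, upSL_11, zero_mul, zero_add, one_mul]
      exact hg₀10
  have ha1 : a ≠ 1 := by
    rintro rfl
    apply ha10
    rw [Subgroup.coe_one]; exact sl2_one_10
  have hau : a ≠ u := by
    intro h
    apply ha10
    rw [h, hu']; exact upSL_10 1
  obtain ⟨r, j, hr, hord⟩ := exists_prime_order_pow a ha1
  have hajA : a ^ j ∈ A := A.pow_mem haA j
  have hr2 : r ≠ 2 := by
    intro hr2
    rw [hr2] at hord
    have hsq : a ^ j * a ^ j = 1 := by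
      have h3 := pow_orderOf_eq_one (a ^ j)
      rw [hord] at h3
      rw [← pow_two]; exact h3
    have hne1 : a ^ j ≠ 1 := by
      intro h
      rw [h, orderOf_one] at hord
      omega
    have hinv := hAinv _ hajA
    have hinv' : (a ^ j)⁻¹ = a ^ j := inv_eq_of_mul_eq_one_right hsq
    rw [hinv'] at hinv
    have hcomm : a ^ j * u = u * a ^ j := by
      calc a ^ j * u = (u * a ^ j * u) * u := by rw [hinv]
        _ = u * a ^ j * (u * u) := by group
        _ = u * a ^ j := by rw [hu2', mul_one]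
    rcases hCu _ hcomm with h | h
    · exact hne1 h
    · have huA : u ∈ A := h ▸ hajA
      rcases hCu a (hAc a haA u huA) with h' | h'
      · exact ha1 h'
      · exact hau h'
  have hxr : orderOf ((a ^ j : K) : SL2 F) = r := by
    rw [Subgroup.orderOf_coe]; exact hord
  apply dihedral_of_commuting_conj h2 h4 K hK ((a ^ j : K) : SL2 F) r hr hr2 hxr
  intro k hk
  have hconjA : (⟨k, hk⟩ : K) * a ^ j * (⟨k, hk⟩ : K)⁻¹ ∈ A := hAn.conj_mem _ hajA _
  have h3 := hAc _ hconjA _ hajA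
  have h4' := congrArg Subtype.val h3
  simpa using h4'

/-- The tame case. -/
theorem dihedral_of_tame (h2 : (2 : F) = 0) (h4 : 4 ≤ Fintype.card F)
    (K : Subgroup (SL2 F)) (hK : IsCoatom K)
    (htame : ∀ g ∈ K, g 0 0 + g 1 1 = 2 → g = 1) :
    Nonempty (K ≃* DihedralGroup (Fintype.card F - 1)) ∨
      Nonempty (K ≃* DihedralGroup (Fintype.card F + 1)) := by
  obtain ⟨ν, hν, hν'⟩ := exists_artinSchreier (F := F) h2
  have hKbot : K ≠ ⊥ := by
    rintro rfl
    have hle : (⊥ : Subgroup (SL2 F)) ≤ borelSL F := bot_le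
    rcases hK.le_iff.mp hle with h | h
    · exact borelSL_ne_top h
    · have h1 : upSL (1 : F) ∈ borelSL F := (mem_borelSL _).mpr (upSL_10 1)
      rw [h, Subgroup.mem_bot, ← upSL_zero] at h1
      exact one_ne_zero (upSL_injective h1)
  have hcard1 : Nat.card K ≠ 1 := fun h => hKbot (Subgroup.card_eq_one.mp h)
  rcases tame_even h2 hν hν' K htame with h | ⟨J, hJ⟩
  · exact absurd h hcard1
  · have hodd := tame_even_odd_card h2 K htame
    have hr := Nat.minFac_prime hcard1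
    have hr2 : (Nat.card K).minFac ≠ 2 := by
      intro h
      apply hodd
      have h3 := Nat.minFac_dvd (Nat.card K)
      rw [h] at h3
      exact h3
    have : Fact (Nat.card K).minFac.Prime := ⟨hr⟩
    obtain ⟨x, hx⟩ := exists_prime_orderOf_dvd_card' (G := K) (Nat.card K).minFac
      (Nat.minFac_dvd _)
    apply dihedral_of_commuting_conj h2 h4 K hK (x : SL2 F) _ hr hr2
      (by rw [Subgroup.orderOf_coe]; exact hx)
    intro k hk
    have h1 : (k * (x : SL2 F) * k⁻¹) • J = J :=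
      hJ (K.mul_mem (K.mul_mem hk x.2) (K.inv_mem hk))
    have h2' : (x : SL2 F) • J = J := hJ x.2
    exact to_stab_comm h2 J _ _ h1 h2'

/-- **Maximal subgroups of `SL₂(q)`, `q ≥ 4` even.** -/
theorem maximal_even (heven : Even (Fintype.card F)) (h4 : 4 ≤ Fintype.card F)
    (K : Subgroup (SL2 F)) (hK : IsCoatom K) :
    Nat.card K = Fintype.card F * (Fintype.card F - 1) ∨
    Nonempty (K ≃* DihedralGroup (Fintype.card F - 1)) ∨
    Nonempty (K ≃* DihedralGroup (Fintype.card F + 1)) ∨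
    ∃ (F₀ : Type) (_ : Field F₀) (_ : Fintype F₀) (r : ℕ) (φ : F₀ →+* F) (c : SL2 F),
      r.Prime ∧ Fintype.card F₀ ≠ 2 ∧ Fintype.card F = Fintype.card F₀ ^ r ∧
      conjSub c K = (Matrix.SpecialLinearGroup.map φ : SL2 F₀ →* SL2 F).range := by
  have h2 : (2 : F) = 0 := two_eq_zero_of_even_card heven
  have : CharP F 2 := CharTwo.of_one_ne_zero_of_two_eq_zero one_ne_zero h2
  have : Fact (Nat.Prime 2) := ⟨Nat.prime_two⟩
  by_cases hw : ∃ g ∈ K, g ≠ 1 ∧ g 0 0 + g 1 1 = 2
  · obtain ⟨c, hu1, hB⟩ := exists_conj_normal_even h2 K hw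
    have hK' : IsCoatom (conjSub c K) := isCoatom_conjSub c K hK
    obtain ⟨eK⟩ := conjSub_equiv c K
    have hborel : (∀ g ∈ conjSub c K, g 1 0 = 0) →
        Nat.card K = Fintype.card F * (Fintype.card F - 1) := by
      intro h
      have hle : conjSub c K ≤ borelSL F := fun g hg => (mem_borelSL g).mpr (h g hg)
      have heq : borelSL F = conjSub c K := (hK'.le_iff.mp hle).resolve_left borelSL_ne_top
      rw [← card_conjSub c K, ← heq, card_borelSL]
    rcases wild_even_normalized' 2 h2 (conjSub c K) hB 1 one_ne_zero hu1 with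
      h | h | ⟨hA4, hAq, hd, hcard⟩
    · left; exact hborel h
    · by_cases hall : ∀ g ∈ conjSub c K, g 1 0 = 0
      · left; exact hborel hall
      · push Not at hall
        right
        rcases dihedral_of_self_centralizing h2 h4 (conjSub c K) hK' hu1 h hall with h' | h'
        · obtain ⟨e⟩ := h'
          left; exact ⟨eK.symm.trans e⟩
        · obtain ⟨e⟩ := h'
          right; left; exact ⟨eK.symm.trans e⟩
    · right; right; right
      obtain ⟨n, -, hqn⟩ := FiniteField.card F 2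
      obtain ⟨A, hA⟩ : ∃ A, A = Nat.card {t : F // upSL t ∈ conjSub c K} := ⟨_, rfl⟩
      rw [← hA] at hA4 hAq hd hcard
      obtain ⟨k, hkn, hAk⟩ := (Nat.dvd_prime_pow Nat.prime_two).mp (hqn ▸ hAq)
      have hk2 : 2 ≤ k := by
        by_contra hlt
        have h' : k = 0 ∨ k = 1 := by omega
        rcases h' with rfl | rfl
        · rw [pow_zero] at hAk; omega
        · rw [pow_one] at hAk; omega
      have hdvd : 2 ^ k - 1 ∣ 2 ^ (n : ℕ) - 1 := by
        have h3 := card_TH_dvd (conjSub c K)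
        rw [hd, hAk, hqn] at h3
        exact h3
      have hkdvd : k ∣ (n : ℕ) := by
        have h1 := Nat.pow_sub_one_gcd_pow_sub_one 2 k n
        rw [Nat.gcd_eq_left hdvd] at h1
        have h3 : 2 ^ k = 2 ^ Nat.gcd k n := by
          have h5 := Nat.one_le_two_pow (n := k)
          have h6 := Nat.one_le_two_pow (n := Nat.gcd k n)
          omega
        have h4' := Nat.pow_right_injective (le_refl 2) h3
        rw [h4']; exact Nat.gcd_dvd_right k n
      obtain ⟨m, hm⟩ := hkdvd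
      let _ : Fintype (GaloisField 2 k) := Fintype.ofFinite _
      have hK₀ : Fintype.card (GaloisField 2 k) = 2 ^ k := by
        rw [← Nat.card_eq_fintype_card]; exact GaloisField.card 2 k (by omega)
      obtain ⟨φ⟩ := Cfsg.Agent.S0805.exists_ringHom (F := F) (K := GaloisField 2 k) m
        (by rw [hK₀, hqn, hm, pow_mul])
      have heq := eq_range_of_normalized φ h2 (conjSub c K) hB
        (by rw [hK₀, ← hAk]; exact hd) hu1 (by rw [hK₀, ← hAk, hA])
        (by rw [hK₀, ← hAk]; exact hcard) (by rw [hK₀, ← hAk]; omega)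
      have hco : IsCoatom (Matrix.SpecialLinearGroup.map φ :
          SL2 (GaloisField 2 k) →* SL2 F).range := by
        rw [← heq]; exact hK'
      have hprime := prime_degree_of_coatom φ k m (by omega) hK₀ (by rw [hqn, hm]) hco
      refine ⟨GaloisField 2 k, inferInstance, inferInstance, m, φ, c, hprime, ?_, ?_, heq⟩
      · rw [hK₀]
        intro h
        have h5 := Nat.pow_le_pow_right (by norm_num : 1 ≤ 2) hk2
        omega
      · rw [hK₀, hqn, hm, pow_mul]
  · push Not at hw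
    right
    have htame : ∀ g ∈ K, g 0 0 + g 1 1 = 2 → g = 1 := by
      intro g hg htr
      by_contra h1
      exact hw g hg h1 htr
    rcases dihedral_of_tame h2 h4 K hK htame with h | h
    · left; exact h
    · right; left; exact h

end Cases

end EvenMax

end Cfsg.Agent.Lib.helper98
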