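import Mathlib
import Cfsg.Agent.Lib.helper98.SubfieldSL2b
import Cfsg.Agent.S0805

/-!
# `PGL₂(K)` is maximal in `PSL₂(F)` for `|F| = |K|²`, odd characteristic
-/

set_option autoImplicit false

namespace Cfsg.Agent.Lib.helper98

open Matrix
open scoped Classical

local notation "SL2" => Matrix.SpecialLinearGroup (Fin 2)

section PGL

variable {F K : Type*} [Field F] [Field K]

/-- The copy of `PGL₂(K)` in `PSL₂(F)` (when the elements of `K` are squares in `F`). -/
def pglSub (φ : K →+* F) : Subgroup (Matrix.ProjectiveSpecialLinearGroup (Fin 2) F) :=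
  ((Matrix.ProjGenLinGroup.mk.comp (Matrix.GeneralLinearGroup.map φ) :
    GL (Fin 2) K →* Matrix.ProjGenLinGroup (Fin 2) F).range).comap
      Matrix.ProjectiveSpecialLinearGroup.toPGL

/-- `pglSub φ ≃* PGL₂(K)` (adapted from `Cfsg.Agent.S0805.pgl_embed`). -/
theorem pglSub_equiv (φ : K →+* F) (hsq : ∀ x : K, x ≠ 0 → IsSquare (φ x)) :
    Nonempty (pglSub φ ≃* Matrix.ProjGenLinGroup (Fin 2) K) := by
  obtain ⟨θ, hθ⟩ : ∃ θ : GL (Fin 2) K →* Matrix.ProjGenLinGroup (Fin 2) F, θ =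
      Matrix.ProjGenLinGroup.mk.comp (Matrix.GeneralLinearGroup.map φ) := ⟨_, rfl⟩
  have hker : θ.ker = Subgroup.center (GL (Fin 2) K) := by
    ext A
    rw [MonoidHom.mem_ker, hθ, MonoidHom.comp_apply, Matrix.ProjGenLinGroup.mk_eq_one,
      Matrix.GeneralLinearGroup.mem_center_iff_val_mem_range_scalar,
      Matrix.GeneralLinearGroup.mem_center_iff_val_mem_range_scalar]
    constructor
    · rintro ⟨s, hA⟩
      have h00 : s = φ (A.1 0 0) := by
        have := congrFun (congrFun hA 0) 0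
        simpa using this
      have h11 : s = φ (A.1 1 1) := by
        have := congrFun (congrFun hA 1) 1
        simpa using this
      have h01 : 0 = φ (A.1 0 1) := by
        have := congrFun (congrFun hA 0) 1
        simpa using this
      have h10 : 0 = φ (A.1 1 0) := by
        have := congrFun (congrFun hA 1) 0
        simpa using this
      refine ⟨A.1 0 0, ?_⟩
      ext i j
      fin_cases i <;> fin_cases j
      · simp
      · simp
        apply φ.injective
        rw [← h01, map_zero]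
      · simp
        apply φ.injective
        rw [← h10, map_zero]
      · simp
        apply φ.injective
        rw [← h11, h00]
    · rintro ⟨r, hA⟩
      refine ⟨φ r, ?_⟩
      ext i j
      have := congrFun (congrFun hA i) j
      fin_cases i <;> fin_cases j <;> simp at this ⊢ <;> simp [← this]
  have hrange : θ.range ≤ (Matrix.ProjectiveSpecialLinearGroup.toPGL
      (n := Fin 2) (R := F)).range := by
    rintro _ ⟨A, rfl⟩
    have hdet : A.1.det ≠ 0 := by
      have := A.isUnit.map (Matrix.detMonoidHom)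
      exact this.ne_zero
    obtain ⟨s, hs⟩ := hsq _ hdet
    have hs0 : s ≠ 0 := by
      rintro rfl
      rw [mul_zero] at hs
      exact hdet ((map_eq_zero φ).mp hs)
    have hdetB : (s⁻¹ • φ.mapMatrix A.1).det = 1 := by
      rw [Matrix.det_smul, Fintype.card_fin, ← RingHom.map_det, hs]
      field_simp
    refine ⟨QuotientGroup.mk ⟨s⁻¹ • φ.mapMatrix A.1, hdetB⟩, ?_⟩
    rw [hθ, MonoidHom.comp_apply]
    show Matrix.ProjGenLinGroup.mk (Matrix.SpecialLinearGroup.toGL _) = _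
    rw [Matrix.ProjGenLinGroup.mk_eq_mk_iff]
    refine ⟨Units.mk0 s hs0, ?_⟩
    apply Units.ext
    show (s⁻¹ • φ.mapMatrix A.1) * Matrix.scalar (Fin 2) s = φ.mapMatrix A.1
    rw [Matrix.scalar_apply, ← Matrix.smul_one_eq_diagonal, Matrix.mul_smul, Matrix.mul_one,
      smul_smul, mul_inv_cancel₀ hs0, one_smul]
  have e1 := Subgroup.equivMapOfInjective (θ.range.comap
    (Matrix.ProjectiveSpecialLinearGroup.toPGL (n := Fin 2) (R := F)))
    Matrix.ProjectiveSpecialLinearGroup.toPGL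
    Matrix.ProjectiveSpecialLinearGroup.toPGL_injective
  have e2 : Subgroup.map Matrix.ProjectiveSpecialLinearGroup.toPGL (θ.range.comap
    (Matrix.ProjectiveSpecialLinearGroup.toPGL (n := Fin 2) (R := F))) = θ.range :=
    Subgroup.map_comap_eq_self hrange
  have e3 : pglSub φ = θ.range.comap
      (Matrix.ProjectiveSpecialLinearGroup.toPGL (n := Fin 2) (R := F)) := by
    rw [hθ]; rfl
  exact ⟨(MulEquiv.subgroupCongr e3).trans ((e1.trans (MulEquiv.subgroupCongr e2)).trans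
    ((QuotientGroup.quotientKerEquivRange θ).symm.trans (QuotientGroup.quotientMulEquivOfEq hker)))⟩

/-- The preimage of `pglSub φ` in `SL₂(F)`. -/
def pglSL (φ : K →+* F) : Subgroup (SL2 F) :=
  (pglSub φ).comap (QuotientGroup.mk' (Subgroup.center (SL2 F)))

theorem mem_pglSL_iff (φ : K →+* F) (g : SL2 F) :
    g ∈ pglSL φ ↔ ∃ (A : GL (Fin 2) K) (u : Fˣ),
      Matrix.GeneralLinearGroup.map φ A * Matrix.GeneralLinearGroup.scalar (Fin 2) u =
        Matrix.SpecialLinearGroup.toGL g := by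
  show (∃ A : GL (Fin 2) K, (Matrix.ProjGenLinGroup.mk.comp (Matrix.GeneralLinearGroup.map φ)) A =
    Matrix.ProjGenLinGroup.mk (Matrix.SpecialLinearGroup.toGL g)) ↔ _
  constructor
  · rintro ⟨A, hA⟩
    rw [MonoidHom.comp_apply, Matrix.ProjGenLinGroup.mk_eq_mk_iff] at hA
    obtain ⟨u, hu⟩ := hA
    exact ⟨A, u, hu⟩
  · rintro ⟨A, u, hu⟩
    refine ⟨A, ?_⟩
    rw [MonoidHom.comp_apply, Matrix.ProjGenLinGroup.mk_eq_mk_iff]
    exact ⟨u, hu⟩

theorem gl_mul_scalar_apply (B : GL (Fin 2) F) (u : Fˣ) (i j : Fin 2) :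
    (B * Matrix.GeneralLinearGroup.scalar (Fin 2) u) i j = B i j * (u : F) := by
  rw [Matrix.GeneralLinearGroup.coe_mul, Matrix.GeneralLinearGroup.coe_scalar,
    Matrix.scalar_apply, Matrix.mul_diagonal]

theorem range_le_pglSL (φ : K →+* F) :
    (Matrix.SpecialLinearGroup.map φ : SL2 K →* SL2 F).range ≤ pglSL φ := by
  rintro _ ⟨g₀, rfl⟩
  rw [mem_pglSL_iff]
  refine ⟨Matrix.SpecialLinearGroup.toGL g₀, 1, ?_⟩
  apply Matrix.GeneralLinearGroup.ext
  intro i j
  rw [gl_mul_scalar_apply, Units.val_one, mul_one, Matrix.GeneralLinearGroup.map_apply]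
  show φ (g₀ i j) = (Matrix.SpecialLinearGroup.map φ g₀) i j
  rw [sl2_map_apply]

theorem diagSL_mem_pglSL (φ : K →+* F) (a : F) (ha : a ≠ 0) (k : K) (hk : φ k = a ^ 2) :
    diagSL a ha ∈ pglSL φ := by
  have hk0 : k ≠ 0 := by
    rintro rfl
    rw [map_zero] at hk
    exact (pow_ne_zero 2 ha) hk.symm
  rw [mem_pglSL_iff]
  refine ⟨Matrix.GeneralLinearGroup.mkOfDetNeZero !![k, 0; 0, 1]
    (by rw [Matrix.det_fin_two_of]; simpa using hk0), Units.mk0 a⁻¹ (inv_ne_zero ha), ?_⟩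
  apply Matrix.GeneralLinearGroup.ext
  intro i j
  rw [gl_mul_scalar_apply, Units.val_mk0, Matrix.GeneralLinearGroup.map_apply]
  show φ ((!![k, 0; 0, 1] : Matrix (Fin 2) (Fin 2) K) i j) * a⁻¹ = (diagSL a ha) i j
  fin_cases i <;> fin_cases j
  · show φ k * a⁻¹ = a
    rw [hk]; field_simp
  · show φ 0 * a⁻¹ = 0
    rw [map_zero, zero_mul]
  · show φ 0 * a⁻¹ = 0
    rw [map_zero, zero_mul]
  · show φ 1 * a⁻¹ = a⁻¹
    rw [map_one, one_mul]

/-- The number of `a ≠ 0` with `a² ∈ K`, when the elements of `K` are squares in `F`. -/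
theorem card_sq_mem_range_two [Fintype K] (φ : K →+* F) (h2 : (2 : F) ≠ 0)
    (hsq : ∀ x : K, x ≠ 0 → IsSquare (φ x)) :
    Nat.card {a : F // a ≠ 0 ∧ a ^ 2 ∈ Set.range φ} = 2 * (Fintype.card K - 1) := by
  have hsq' : ∀ k : Kˣ, ∃ b : F, φ k = b * b := fun k => hsq k k.ne_zero
  choose b hb using hsq'
  have hb0 : ∀ k : Kˣ, b k ≠ 0 := by
    intro k h0
    have h1 := hb k
    rw [h0, mul_zero] at h1
    exact k.ne_zero ((map_eq_zero φ).mp h1)
  have hmem : ∀ k : Kˣ, b k ^ 2 ∈ Set.range φ := fun k => ⟨k, by rw [hb k, pow_two]⟩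
  have hmem' : ∀ k : Kˣ, (-b k) ^ 2 ∈ Set.range φ := fun k => ⟨k, by rw [hb k, neg_sq, pow_two]⟩
  have hcard : Nat.card (Kˣ ⊕ Kˣ) = 2 * (Fintype.card K - 1) := by
    rw [Nat.card_sum, Nat.card_units, Nat.card_eq_fintype_card, two_mul]
  rw [← hcard]
  symm
  refine Nat.card_congr (Equiv.ofBijective (Sum.elim
    (fun k : Kˣ => (⟨b k, hb0 k, hmem k⟩ : {a : F // a ≠ 0 ∧ a ^ 2 ∈ Set.range φ}))
    (fun k : Kˣ => (⟨-b k, neg_ne_zero.mpr (hb0 k), hmem' k⟩ :
      {a : F // a ≠ 0 ∧ a ^ 2 ∈ Set.range φ}))) ⟨?_, ?_⟩)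
  · have key : ∀ k k' : Kˣ, (b k = b k' ∨ b k = -b k') → k = k' := by
      intro k k' h
      apply Units.ext
      apply φ.injective
      rw [hb k, hb k']
      rcases h with h | h
      · rw [h]
      · rw [h]; ring
    have hneq : ∀ k : Kˣ, b k ≠ -b k := by
      intro k h
      have h3 : 2 * b k = 0 := by linear_combination h
      rcases mul_eq_zero.mp h3 with h4 | h4
      · exact h2 h4
      · exact hb0 k h4
    rintro (k | k) (k' | k') h
    · have h1 : b k = b k' := congrArg Subtype.val h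
      rw [key k k' (Or.inl h1)]
    · have h1 : b k = -b k' := congrArg Subtype.val h
      have h3 := key k k' (Or.inr h1)
      rw [h3] at h1
      exact absurd h1 (hneq k')
    · have h1 : -b k = b k' := congrArg Subtype.val h
      have h3 := key k' k (Or.inr h1.symm)
      rw [h3] at h1
      exact absurd h1.symm (hneq k)
    · have h1 : -b k = -b k' := congrArg Subtype.val h
      rw [key k k' (Or.inl (neg_injective h1))]
  · rintro ⟨a, ha0, k₀, hk₀⟩
    have hk₀0 : k₀ ≠ 0 := by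
      rintro rfl
      rw [map_zero] at hk₀
      exact (pow_ne_zero 2 ha0) hk₀.symm
    have h3 : (a - b (Units.mk0 k₀ hk₀0)) * (a + b (Units.mk0 k₀ hk₀0)) = 0 := by
      have h4 := hb (Units.mk0 k₀ hk₀0)
      rw [Units.val_mk0, hk₀] at h4
      linear_combination h4
    rcases mul_eq_zero.mp h3 with h5 | h5
    · refine ⟨Sum.inl (Units.mk0 k₀ hk₀0), Subtype.ext ?_⟩
      show b (Units.mk0 k₀ hk₀0) = a
      linear_combination -h5
    · refine ⟨Sum.inr (Units.mk0 k₀ hk₀0), Subtype.ext ?_⟩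
      show -b (Units.mk0 k₀ hk₀0) = a
      linear_combination -h5

variable [Fintype F] [Fintype K]

/-- The order of `pglSL φ`. -/
theorem card_pglSL (φ : K →+* F) (q : ℕ) (hK : Fintype.card K = q) (h2 : (2 : F) ≠ 0)
    (hsq : ∀ x : K, x ≠ 0 → IsSquare (φ x)) :
    Nat.card (pglSL φ) = 2 * (q * (q ^ 2 - 1)) := by
  have hq1 : 1 < q := by rw [← hK]; exact Fintype.one_lt_card
  obtain ⟨e⟩ := pglSub_equiv φ hsq
  have h1 : Nat.card (pglSub φ) = q * (q ^ 2 - 1) := by
    rw [Nat.card_congr e.toEquiv]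
    have h3 := Cfsg.Agent.S0805.card_PGL2 (K := K)
    rw [hK] at h3
    have h4 : q ^ 2 - q = q * (q - 1) := by
      obtain ⟨q', rfl⟩ : ∃ q', q = q' + 1 := ⟨q - 1, by omega⟩
      rw [Nat.add_sub_cancel]
      apply Nat.sub_eq_of_eq_add
      ring
    rw [h4] at h3
    have h5 : Nat.card (Matrix.ProjGenLinGroup (Fin 2) K) * (q - 1) =
        q * (q ^ 2 - 1) * (q - 1) := by
      rw [h3]; ring
    exact Nat.eq_of_mul_eq_mul_right (by omega) h5
  have h3 := Subgroup.card_mul_index (pglSL φ)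
  have h4 := Subgroup.card_mul_index (pglSub φ)
  have h5 : (pglSL φ).index = (pglSub φ).index :=
    Subgroup.index_comap_of_surjective _ (QuotientGroup.mk'_surjective _)
  have h6 := Subgroup.card_eq_card_quotient_mul_card_subgroup (Subgroup.center (SL2 F))
  rw [Cfsg.Agent.Lib.helper7.card_center_SL2 h2] at h6
  have h7 : Nat.card (SL2 F ⧸ Subgroup.center (SL2 F)) =
      Nat.card (Matrix.ProjectiveSpecialLinearGroup (Fin 2) F) := rfl
  rw [h7, ← h4, h1] at h6
  rw [h6, h5] at h3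
  have hidx : 0 < (pglSub φ).index := by
    rcases Nat.eq_zero_or_pos (pglSub φ).index with h0 | h0
    · rw [h0, mul_zero] at h4
      have : 0 < Nat.card (Matrix.ProjectiveSpecialLinearGroup (Fin 2) F) := Nat.card_pos
      omega
    · exact h0
  have h8 : Nat.card (pglSL φ) * (pglSub φ).index =
      2 * (q * (q ^ 2 - 1)) * (pglSub φ).index := by
    rw [h3]; ring
  exact Nat.eq_of_mul_eq_mul_right hidx h8

/-- **Maximality of `PGL₂(K)` in `SL₂(F)`-terms: `|F| = |K|²`, odd characteristic.** -/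
theorem subfield_max_pgl (φ : K →+* F) (q : ℕ) (hK : Fintype.card K = q)
    (hF : Fintype.card F = q ^ 2) (hq : Odd q)
    (H : Subgroup (SL2 F)) (hS : pglSL φ ≤ H) : H = pglSL φ ∨ H = ⊤ := by
  by_cases hne : H = ⊤
  · exact Or.inr hne
  left
  obtain ⟨p, hp⟩ := CharP.exists F
  have : Fact p.Prime := ⟨CharP.char_is_prime F p⟩
  have hFodd : Odd (Fintype.card F) := by rw [hF]; exact hq.pow
  have hchar : ringChar F ≠ 2 := fun h => by
    have h1 := FiniteField.even_card_of_char_two h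
    have h3 := Nat.odd_iff.mp hFodd
    omega
  have h2 : (2 : F) ≠ 0 := Ring.two_ne_zero hchar
  have hq3 : 3 ≤ q := by
    have h1 : 1 < q := by rw [← hK]; exact Fintype.one_lt_card
    obtain ⟨e, he⟩ := hq
    omega
  have hcard : Fintype.card F = Fintype.card K ^ 2 := by rw [hK, hF]
  have hS' : (Matrix.SpecialLinearGroup.map φ : SL2 K →* SL2 F).range ≤ H :=
    (range_le_pglSL φ).trans hS
  have hsqmap : ∀ x : K, x ≠ 0 → IsSquare (φ x) :=
    Cfsg.Agent.S0805.isSquare_map φ hFodd 2 even_two (by rw [hK, hF])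
  have hu1 : upSL (1 : F) ∈ H := by
    have h1 : upSL (1 : F) = Matrix.SpecialLinearGroup.map φ (upSL 1) := by
      rw [map_upSL, map_one]
    rw [h1]; exact hS' ⟨_, rfl⟩
  have hw : (wSL : SL2 F) ∈ H := by rw [← map_wSL φ]; exact hS' ⟨_, rfl⟩
  have hneg : (negOne : SL2 F) ∈ H := by rw [← map_negOne φ]; exact hS' ⟨_, rfl⟩
  obtain ⟨hB, hd, hA, hAdvd⟩ := subfield_frame φ 2 Nat.prime_two hcard H hS'
    (fun k t ht => upSL_smul_mem_odd φ h2 H hS' k t ht)
    (fun a ha ⟨k, hk⟩ => hS (diagSL_mem_pglSL φ a ha k hk)) hne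
  obtain ⟨N, s, hN2, hs2, hcardH, hEq⟩ := sl2_core_odd p h2 H hneg hB 1 one_ne_zero hu1
    ⟨wSL, hw, by rw [wSL_10]; exact neg_ne_zero.mpr one_ne_zero⟩
  rw [hd, card_sq_mem_range_two φ h2 hsqmap, hK] at hcardH hEq
  rw [hK] at hA hAdvd
  obtain ⟨A, hAdef⟩ : ∃ A, A = Nat.card {t : F // upSL t ∈ H} := ⟨_, rfl⟩
  rw [← hAdef] at hcardH hEq hA hAdvd
  have hEq' : N * A * (q - 1) = s * (2 + N * (A - 2)) := by
    have h5 : 2 * (N * A * (q - 1)) = 2 * (s * (2 + N * (A - 2))) := by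
      rw [← mul_assoc 2 s, ← hEq]; ring
    exact Nat.eq_of_mul_eq_mul_left two_pos h5
  have hcS := card_pglSL φ q hK h2 hsqmap
  have hdiv : q * (q ^ 2 - 1) ∣ N * A * (q - 1) := by
    have h5 := Subgroup.card_dvd_of_le hS
    rw [hcS, hcardH] at h5
    have h6 : N * A * (2 * (q - 1)) = 2 * (N * A * (q - 1)) := by ring
    rw [h6] at h5
    exact Nat.dvd_of_mul_dvd_mul_left two_pos h5
  have hfinal := arith_subfield_gen q N A s hq3 hN2 hs2 hA hAdvd hdiv hEq'
  have hcH : Nat.card H = 2 * (q * (q ^ 2 - 1)) := by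
    rw [hcardH, ← hfinal]; ring
  exact (Subgroup.eq_of_le_of_card_ge hS (by rw [hcH, hcS])).symm

/-- `pglSub φ` is a maximal subgroup of `PSL₂(F)`. -/
theorem isCoatom_pglSub (φ : K →+* F) (q : ℕ) (hK : Fintype.card K = q)
    (hF : Fintype.card F = q ^ 2) (hq : Odd q) : IsCoatom (pglSub φ) := by
  have hFodd : Odd (Fintype.card F) := by rw [hF]; exact hq.pow
  have hchar : ringChar F ≠ 2 := fun h => by
    have h1 := FiniteField.even_card_of_char_two h
    have h3 := Nat.odd_iff.mp hFodd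
    omega
  have h2 : (2 : F) ≠ 0 := Ring.two_ne_zero hchar
  have hq3 : 3 ≤ q := by
    have h1 : 1 < q := by rw [← hK]; exact Fintype.one_lt_card
    obtain ⟨e, he⟩ := hq
    omega
  have hsqmap : ∀ x : K, x ≠ 0 → IsSquare (φ x) :=
    Cfsg.Agent.S0805.isSquare_map φ hFodd 2 even_two (by rw [hK, hF])
  have hmc : (pglSL φ).map (QuotientGroup.mk' (Subgroup.center (SL2 F))) = pglSub φ :=
    Subgroup.map_comap_eq_self_of_surjective (QuotientGroup.mk'_surjective _) _
  rw [← hmc]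
  apply isCoatom_map_mk
  · intro g hg
    show QuotientGroup.mk' (Subgroup.center (SL2 F)) g ∈ pglSub φ
    have h1 : QuotientGroup.mk' (Subgroup.center (SL2 F)) g = 1 := by
      rw [← MonoidHom.mem_ker, QuotientGroup.ker_mk']; exact hg
    rw [h1]
    exact Subgroup.one_mem _
  · intro htop
    have h1 := card_pglSL φ q hK h2 hsqmap
    rw [htop, Subgroup.card_top, Cfsg.Agent.Lib.helper7.card_SL2 hF] at h1
    obtain ⟨m, hm⟩ : ∃ m, q ^ 2 = m + 1 := ⟨q ^ 2 - 1, by
      have : 0 < q ^ 2 := by positivity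
      omega⟩
    have h3 : (q ^ 2) ^ 2 - 1 = m * (m + 2) := by
      rw [hm]
      apply Nat.sub_eq_of_eq_add
      ring
    have h4 : q ^ 2 - 1 = m := by omega
    rw [h3, h4, hm] at h1
    have hqm : q ≤ m + 1 := by
      rw [← hm]
      nlinarith
    have hm8 : 8 ≤ m := by nlinarith
    nlinarith [Nat.mul_le_mul_right m hqm]
  · intro H hS
    exact subfield_max_pgl φ q hK hF hq H hS

end PGL

end Cfsg.Agent.Lib.helper98
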