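import Mathlib
import Cfsg.Agent.Lib.helper98.EvenMax
import Cfsg.Agent.Lib.helper98.SubfieldPGL
import Cfsg.Agent.Lib.helper98.DkTorus

/-!
# Subfield subgroups of `SL₂(q)`, `q` odd, from normalized counting data

Let `H ≤ SL₂(F)`, `char F ≠ 2`, be normalized (the diagonal parts of its upper triangular
elements lie in `H`, and `upSL 1 ∈ H`) with `A = |K₀|` upper unitriangular elements.

* `sl_type_conj`: if `H` has `A - 1` diagonal elements and order `A (A² - 1)`, then `H` is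
  conjugate to the image of `SL₂(K₀)`.
* `pgl_type_eq`: if `H` has `2 (A - 1)` diagonal elements and order `2 A (A² - 1)`, then `H` is
  the preimage `pglSL φ` of the copy of `PGL₂(K₀)`.
-/

set_option autoImplicit false
set_option linter.unusedSimpArgs false
set_option linter.unusedVariables false

namespace Cfsg.Agent.Lib.helper98

open Matrix
open scoped Classical

local notation "SL2" => Matrix.SpecialLinearGroup (Fin 2)

section OddSub

variable {F K₀ : Type*} [Field F] [Fintype F] [Field K₀] [Fintype K₀]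

/-- The counting step: two elements of `H` outside the Borel subgroup have `g 0 0 / g 1 0` in the
same coset of `K₀`. -/
theorem xi_sub_mem (φ : K₀ →+* F) (H : Subgroup (SL2 F))
    (hU : ∀ e : K₀, upSL (φ e) ∈ H)
    (hcount : Nat.card H =
      (Fintype.card K₀ + 1) * Nat.card {g : SL2 F // g ∈ H ∧ g 1 0 = 0})
    (g g' : SL2 F) (hg : g ∈ H) (hg' : g' ∈ H) (hg10 : g 1 0 ≠ 0) (hg'10 : g' 1 0 ≠ 0) :
    g' 0 0 / g' 1 0 - g 0 0 / g 1 0 ∈ Set.range φ := by
  obtain ⟨A, hA⟩ : ∃ A, A = Fintype.card K₀ := ⟨_, rfl⟩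
  rw [← hA] at hcount
  obtain ⟨Bf, hBf⟩ : ∃ Bf : Finset (SL2 F),
      Bf = Finset.univ.filter (fun b : SL2 F => b ∈ H ∧ b 1 0 = 0) := ⟨_, rfl⟩
  obtain ⟨S, hS⟩ : ∃ S : Finset (SL2 F),
      S = Finset.univ.filter (fun b : SL2 F => b ∈ H ∧ b 1 0 ≠ 0) := ⟨_, rfl⟩
  have mBf : ∀ b : SL2 F, b ∈ Bf ↔ b ∈ H ∧ b 1 0 = 0 := by intro b; rw [hBf]; simp
  have mS : ∀ b : SL2 F, b ∈ S ↔ b ∈ H ∧ b 1 0 ≠ 0 := by intro b; rw [hS]; simp
  have cH : (Finset.univ.filter (fun b : SL2 F => b ∈ H)).card = (A + 1) * Bf.card := by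
    rw [← natCard_subtype, hBf, ← natCard_subtype]; exact hcount
  have cS : S.card + Bf.card = (Finset.univ.filter (fun b : SL2 F => b ∈ H)).card := by
    have h1 := Finset.card_filter_add_card_filter_not
      (s := Finset.univ.filter (fun b : SL2 F => b ∈ H)) (fun b : SL2 F => b 1 0 ≠ 0)
    have e1 : S = (Finset.univ.filter (fun b : SL2 F => b ∈ H)).filter
        (fun b : SL2 F => b 1 0 ≠ 0) := by
      ext b; rw [mS]; simp
    have e2 : Bf = (Finset.univ.filter (fun b : SL2 F => b ∈ H)).filter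
        (fun b : SL2 F => ¬ b 1 0 ≠ 0) := by
      ext b; rw [mBf]; simp
    rw [e1, e2]; exact h1
  have cS' : S.card = A * Bf.card := by
    have h1 : S.card + Bf.card = A * Bf.card + Bf.card := by
      rw [cS, cH]; ring
    exact Nat.add_right_cancel h1
  have cBfpos : 0 < Bf.card :=
    Finset.card_pos.mpr ⟨1, (mBf 1).mpr ⟨H.one_mem, sl2_one_10⟩⟩
  obtain ⟨ξ, hξ⟩ : ∃ ξ : SL2 F → F, ξ = fun g => g 0 0 / g 1 0 := ⟨_, rfl⟩
  have hξa : ∀ g : SL2 F, ξ g = g 0 0 / g 1 0 := by intro g; rw [hξ]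
  have hfib : ∀ x ∈ S.image ξ, Bf.card ≤ (S.filter (fun g => ξ g = x)).card := by
    intro x hx
    obtain ⟨g₀, hg₀S, rfl⟩ := Finset.mem_image.mp hx
    have hg₀ := (mS g₀).mp hg₀S
    apply Finset.card_le_card_of_injOn (fun b => g₀ * b)
    · intro b hb
      have hb' := (mBf b).mp hb
      have hb00 : b 0 0 ≠ 0 := by
        intro h0
        have hd := sl2_det' b
        rw [h0, hb'.2, zero_mul, mul_zero, sub_zero] at hd
        exact zero_ne_one hd
      have h10 : (g₀ * b) 1 0 = g₀ 1 0 * b 0 0 := by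
        rw [sl2_mul_apply, hb'.2, mul_zero, add_zero]
      have h00 : (g₀ * b) 0 0 = g₀ 0 0 * b 0 0 := by
        rw [sl2_mul_apply, hb'.2, mul_zero, add_zero]
      have hmem : g₀ * b ∈ S.filter (fun g => ξ g = ξ g₀) := by
        rw [Finset.mem_filter, mS]
        refine ⟨⟨H.mul_mem hg₀.1 hb'.1, ?_⟩, ?_⟩
        · rw [h10]; exact mul_ne_zero hg₀.2 hb00
        · rw [hξa, hξa, h10, h00]
          exact mul_div_mul_right _ _ hb00
      exact hmem
    · intro a _ b _ hab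
      exact mul_left_cancel hab
  have hX : (S.image ξ).card ≤ A := by
    have h1 := Finset.mul_card_image_le_card S Bf.card hfib
    rw [cS', mul_comm A] at h1
    exact Nat.le_of_mul_le_mul_left h1 cBfpos
  have hstab : ∀ x ∈ S.image ξ, ∀ e : K₀, x + φ e ∈ S.image ξ := by
    intro x hx e
    obtain ⟨g₀, hg₀S, rfl⟩ := Finset.mem_image.mp hx
    have hg₀ := (mS g₀).mp hg₀S
    have hu : upSL (φ e) ∈ H := hU e
    have h10 : (upSL (φ e) * g₀) 1 0 = g₀ 1 0 := by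
      rw [sl2_mul_apply, upSL_10, upSL_11, zero_mul, zero_add, one_mul]
    have h00 : (upSL (φ e) * g₀) 0 0 = g₀ 0 0 + φ e * g₀ 1 0 := by
      rw [sl2_mul_apply, upSL_00, upSL_01, one_mul]
    refine Finset.mem_image.mpr ⟨upSL (φ e) * g₀, (mS _).mpr ⟨H.mul_mem hu hg₀.1, ?_⟩, ?_⟩
    · rw [h10]; exact hg₀.2
    · rw [hξa, hξa, h10, h00, add_div, mul_div_assoc, div_self hg₀.2, mul_one]
  have hgS : ξ g ∈ S.image ξ := Finset.mem_image_of_mem _ ((mS g).mpr ⟨hg, hg10⟩)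
  have hg'S : ξ g' ∈ S.image ξ := Finset.mem_image_of_mem _ ((mS g').mpr ⟨hg', hg'10⟩)
  have hsub : (Finset.univ.image (fun e : K₀ => ξ g + φ e)) ⊆ S.image ξ := by
    intro y hy
    obtain ⟨e, -, rfl⟩ := Finset.mem_image.mp hy
    exact hstab _ hgS e
  have hcY : (Finset.univ.image (fun e : K₀ => ξ g + φ e)).card = A := by
    rw [Finset.card_image_of_injective, Finset.card_univ, hA]
    intro a b hab
    exact φ.injective (add_left_cancel hab)
  have heq := Finset.eq_of_subset_of_card_le hsub (by rw [hcY]; exact hX)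
  rw [← heq] at hg'S
  obtain ⟨e, -, he⟩ := Finset.mem_image.mp hg'S
  refine ⟨e, ?_⟩
  rw [← hξa, ← hξa, ← he]
  ring

omit [Fintype F] [Fintype K₀] in
/-- Generation: if all `g 0 0 / g 1 0` lie in `K₀`, then `H` contains the image of `SL₂(K₀)`. -/
theorem range_le_of_xi (φ : K₀ →+* F) (H : Subgroup (SL2 F))
    (hU : ∀ e : K₀, upSL (φ e) ∈ H)
    (hX : ∀ g ∈ H, g 1 0 ≠ 0 → g 0 0 / g 1 0 ∈ Set.range φ)
    (hne : ∃ g ∈ H, g 1 0 ≠ 0) :
    (Matrix.SpecialLinearGroup.map φ : SL2 K₀ →* SL2 F).range ≤ H := by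
  obtain ⟨g, hg, hg10⟩ := hne
  obtain ⟨e, he⟩ := hX g hg hg10
  obtain ⟨g₁, hg₁⟩ : ∃ g₁, g₁ = upSL (φ (-e)) * g := ⟨_, rfl⟩
  have hg₁H : g₁ ∈ H := by rw [hg₁]; exact H.mul_mem (hU _) hg
  have a00 : g₁ 0 0 = 0 := by
    rw [hg₁, sl2_mul_apply, upSL_00, upSL_01, map_neg, he]
    field_simp
    ring
  have a10 : g₁ 1 0 = g 1 0 := by
    rw [hg₁, sl2_mul_apply, upSL_10, upSL_11]; ring
  have hd₁ := sl2_det' g₁
  rw [a00, zero_mul, zero_sub, a10] at hd₁
  have hinv10 : (g₁⁻¹) 1 0 ≠ 0 := by rw [sl2_inv_10, a10]; exact neg_ne_zero.mpr hg10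
  obtain ⟨e', he'⟩ := hX g₁⁻¹ (H.inv_mem hg₁H) hinv10
  rw [sl2_inv_00, sl2_inv_10, a10] at he'
  obtain ⟨g₂, hg₂⟩ : ∃ g₂, g₂ = g₁ * upSL (φ e') := ⟨_, rfl⟩
  have hg₂H : g₂ ∈ H := by rw [hg₂]; exact H.mul_mem hg₁H (hU _)
  have b00 : g₂ 0 0 = 0 := by rw [hg₂, sl2_mul_apply, upSL_00, upSL_10, a00]; ring
  have b01 : g₂ 0 1 = g₁ 0 1 := by rw [hg₂, sl2_mul_apply, upSL_01, upSL_11, a00]; ring
  have b10 : g₂ 1 0 = g 1 0 := by rw [hg₂, sl2_mul_apply, upSL_00, upSL_10, a10]; ring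
  have b11 : g₂ 1 1 = 0 := by
    rw [hg₂, sl2_mul_apply, upSL_01, upSL_11, a10, he']
    field_simp
    ring
  have hβγ : g₁ 0 1 * g 1 0 = -1 := by linear_combination -hd₁
  obtain ⟨g₃, hg₃⟩ : ∃ g₃, g₃ = g₂ * upSL (φ 1) * g₂ := ⟨_, rfl⟩
  have hg₃H : g₃ ∈ H := by rw [hg₃]; exact H.mul_mem (H.mul_mem hg₂H (hU 1)) hg₂H
  have c00 : g₃ 0 0 = -1 := by
    rw [hg₃]
    simp only [sl2_mul_apply, upSL_00, upSL_01, upSL_10, upSL_11, b00, b01, b10, b11, map_one]
    linear_combination hβγ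
  have c10 : g₃ 1 0 = g 1 0 * g 1 0 := by
    rw [hg₃]
    simp only [sl2_mul_apply, upSL_00, upSL_01, upSL_10, upSL_11, b00, b01, b10, b11, map_one]
    ring
  obtain ⟨e₄, he₄⟩ := hX g₃ hg₃H (by rw [c10]; exact mul_ne_zero hg10 hg10)
  rw [c00, c10] at he₄
  have hlow : lowSL (-1) ∈ H := by
    have h1 : g₂ * upSL (φ (-e₄)) * g₂⁻¹ ∈ H :=
      H.mul_mem (H.mul_mem hg₂H (hU _)) (H.inv_mem hg₂H)
    have h2 : g₂ * upSL (φ (-e₄)) * g₂⁻¹ = lowSL (-1) := by
      apply sl2_ext <;> simp only [sl2_mul_apply, sl2_inv_00, sl2_inv_01, sl2_inv_10,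
        sl2_inv_11, upSL_00, upSL_01, upSL_10, upSL_11, lowSL_00, lowSL_01, lowSL_10, lowSL_11,
        b00, b01, b10, b11, map_neg, he₄]
      · linear_combination -hβγ
      · ring
      · field_simp
        ring
      · linear_combination -hβγ
    rw [← h2]; exact h1
  have hw : (wSL : SL2 F) ∈ H := by
    have h1 : upSL (φ 1) * lowSL (-1) * upSL (φ 1) ∈ H :=
      H.mul_mem (H.mul_mem (hU 1) hlow) (hU 1)
    have h2 : upSL (φ 1) * lowSL (-1) * upSL (φ 1) = (wSL : SL2 F) := by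
      apply sl2_ext <;> simp only [sl2_mul_apply, upSL_00, upSL_01, upSL_10, upSL_11, lowSL_00,
        lowSL_01, lowSL_10, lowSL_11, wSL_00, wSL_01, wSL_10, wSL_11, map_one] <;> ring
    rw [← h2]; exact h1
  have htop : H.comap (Matrix.SpecialLinearGroup.map φ : SL2 K₀ →* SL2 F) = ⊤ := by
    apply eq_top_of_upSL
    · intro t
      rw [Subgroup.mem_comap, map_upSL]; exact hU t
    · rw [Subgroup.mem_comap, map_wSL]; exact hw
  rintro _ ⟨g₀, rfl⟩
  have h1 : g₀ ∈ H.comap (Matrix.SpecialLinearGroup.map φ : SL2 K₀ →* SL2 F) := by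
    rw [htop]; trivial
  exact h1

/-- After a twist by an upper unitriangular matrix, `H` contains the image of `SL₂(K₀)`. -/
theorem range_le_conj_of_count (φ : K₀ →+* F) (H : Subgroup (SL2 F))
    (hU : ∀ e : K₀, upSL (φ e) ∈ H)
    (hcount : Nat.card H =
      (Fintype.card K₀ + 1) * Nat.card {g : SL2 F // g ∈ H ∧ g 1 0 = 0})
    (g₀ : SL2 F) (hg₀ : g₀ ∈ H) (hg₀10 : g₀ 1 0 ≠ 0) :
    (Matrix.SpecialLinearGroup.map φ : SL2 K₀ →* SL2 F).range ≤
      conjSub (upSL (-(g₀ 0 0 / g₀ 1 0))) H := by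
  obtain ⟨s, hs⟩ : ∃ s : F, s = -(g₀ 0 0 / g₀ 1 0) := ⟨_, rfl⟩
  rw [← hs]
  have e10 : ∀ g' : SL2 F, ((upSL s)⁻¹ * g' * upSL s) 1 0 = g' 1 0 := by
    intro g'
    simp only [sl2_mul_apply, sl2_inv_00, sl2_inv_01, sl2_inv_10, sl2_inv_11, upSL_00, upSL_01,
      upSL_10, upSL_11]
    ring
  have e00 : ∀ g' : SL2 F, ((upSL s)⁻¹ * g' * upSL s) 0 0 = g' 0 0 - s * g' 1 0 := by
    intro g'
    simp only [sl2_mul_apply, sl2_inv_00, sl2_inv_01, sl2_inv_10, sl2_inv_11, upSL_00, upSL_01,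
      upSL_10, upSL_11]
    ring
  apply range_le_of_xi φ
  · intro e
    rw [mem_conjSub]
    have h1 : (upSL s)⁻¹ * upSL (φ e) * upSL s = upSL (φ e) := by
      rw [upSL_inv, upSL_add, upSL_add]; congr 1; ring
    rw [h1]; exact hU e
  · intro g' hg' hg'10
    rw [mem_conjSub] at hg'
    have h1 := xi_sub_mem φ H hU hcount g₀ _ hg₀ hg' hg₀10 (by rw [e10]; exact hg'10)
    rw [e10, e00] at h1
    obtain ⟨e, he⟩ := h1
    refine ⟨e, ?_⟩
    rw [he, hs]
    field_simp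
    ring
  · refine ⟨upSL s * g₀ * (upSL s)⁻¹, conj_mem_conjSub _ _ _ hg₀, ?_⟩
    simp only [sl2_mul_apply, sl2_inv_00, sl2_inv_01, sl2_inv_10, sl2_inv_11, upSL_00, upSL_01,
      upSL_10, upSL_11]
    intro h
    apply hg₀10
    linear_combination h

omit [Fintype F] [Fintype K₀] in
theorem two_ne_zero_of_hom (φ : K₀ →+* F) (h2 : (2 : F) ≠ 0) : (2 : K₀) ≠ 0 := by
  intro h
  apply h2
  have h3 := congrArg φ h
  rwa [map_ofNat, map_zero] at h3

/-- A subgroup with more elements than its upper triangular part has an element outside it. -/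
theorem exists_not_upper (H : Subgroup (SL2 F)) (n : ℕ) (hn : 2 ≤ n)
    (hcount : Nat.card H = n * Nat.card {g : SL2 F // g ∈ H ∧ g 1 0 = 0}) :
    ∃ g ∈ H, g 1 0 ≠ 0 := by
  by_contra hcon
  push Not at hcon
  have h1 : Nat.card {g : SL2 F // g ∈ H ∧ g 1 0 = 0} = Nat.card H :=
    Nat.card_congr (Equiv.subtypeEquivRight (fun g => ⟨fun h => h.1, fun h => ⟨h, hcon g h⟩⟩))
  rw [h1] at hcount
  have hpos : 0 < Nat.card H := Nat.card_pos
  nlinarith

/-- **`SL`-type.** -/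
theorem sl_type_conj (φ : K₀ →+* F) (h2 : (2 : F) ≠ 0) (H : Subgroup (SL2 F))
    (hB : ∀ g ∈ H, g 1 0 = 0 → ∃ h ∈ H, h 0 0 = g 0 0 ∧ h 0 1 = 0 ∧ h 1 0 = 0)
    (hD : Nat.card {g : SL2 F // g ∈ H ∧ g 0 1 = 0 ∧ g 1 0 = 0} = Fintype.card K₀ - 1)
    (hu1 : upSL 1 ∈ H) (hT : Nat.card {t : F // upSL t ∈ H} = Fintype.card K₀)
    (hcard : Nat.card H = Fintype.card K₀ * (Fintype.card K₀ ^ 2 - 1)) :
    ∃ c : SL2 F, conjSub c H = (Matrix.SpecialLinearGroup.map φ : SL2 K₀ →* SL2 F).range := by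
  have hA2 : 2 ≤ Fintype.card K₀ := Fintype.one_lt_card
  have h2K := two_ne_zero_of_hom φ h2
  have hsq : ∀ a : K₀, upSL (φ (a * a)) ∈ H := by
    intro a
    by_cases ha : a = 0
    · rw [ha, mul_zero, map_zero, upSL_zero]; exact H.one_mem
    · have hd := diag_mem_of_range φ H hD a ha
      have h3 := conj_upSL_upper (diagSL (φ a) ((map_ne_zero φ).mpr ha)) (diagSL_10 _ _) 1
      rw [diagSL_00] at h3
      have h4 : φ (a * a) = φ a ^ 2 * 1 := by rw [map_mul]; ring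
      rw [h4, ← h3]
      exact H.mul_mem (H.mul_mem hd hu1) (H.inv_mem hd)
  have hU : ∀ e : K₀, upSL (φ e) ∈ H := by
    intro e
    obtain ⟨a, b, hab⟩ := sum_two_sq h2K e
    rw [← hab, map_add, ← upSL_add]
    exact H.mul_mem (hsq a) (hsq b)
  have hcount : Nat.card H =
      (Fintype.card K₀ + 1) * Nat.card {g : SL2 F // g ∈ H ∧ g 1 0 = 0} := by
    rw [hcard, card_borel H hB, hT, hD, ← nat_cube _ (by omega)]; ring
  obtain ⟨g₀, hg₀, hg₀10⟩ := exists_not_upper H _ (by omega) hcount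
  refine ⟨upSL (-(g₀ 0 0 / g₀ 1 0)), ?_⟩
  have hle := range_le_conj_of_count φ H hU hcount g₀ hg₀ hg₀10
  exact (Subgroup.eq_of_le_of_card_ge hle (by rw [card_conjSub, hcard, card_range_map])).symm

/-- **`PGL`-type.** -/
theorem pgl_type_eq (φ : K₀ →+* F) (h2 : (2 : F) ≠ 0) (H : Subgroup (SL2 F))
    (hB : ∀ g ∈ H, g 1 0 = 0 → ∃ h ∈ H, h 0 0 = g 0 0 ∧ h 0 1 = 0 ∧ h 1 0 = 0)
    (hD : Nat.card {g : SL2 F // g ∈ H ∧ g 0 1 = 0 ∧ g 1 0 = 0} = 2 * (Fintype.card K₀ - 1))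
    (hu1 : upSL 1 ∈ H) (hT : Nat.card {t : F // upSL t ∈ H} = Fintype.card K₀)
    (hcard : Nat.card H = 2 * (Fintype.card K₀ * (Fintype.card K₀ ^ 2 - 1))) :
    (∀ x : K₀, x ≠ 0 → IsSquare (φ x)) ∧ H = pglSL φ := by
  obtain ⟨A, hA⟩ : ∃ A, A = Fintype.card K₀ := ⟨_, rfl⟩
  rw [← hA] at hD hT hcard
  have hA2 : 2 ≤ A := by rw [hA]; exact Fintype.one_lt_card
  have h2K := two_ne_zero_of_hom φ h2
  have hTH : Nat.card (TH H) = 2 * (A - 1) := by rw [← card_TH, hD]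
  let _ : Fintype (TH H) := Fintype.ofFinite _
  -- squares of the diagonal entries lie in `K₀`
  have hsqmem : ∀ u : TH H, ∃ e : K₀ˣ, φ (e : K₀) = ((u : Fˣ) : F) ^ 2 := by
    intro u
    have hp : u ^ (2 * (A - 1)) = 1 := by rw [← hTH]; exact pow_card_eq_one'
    have hp' : (((u : Fˣ) : F) ^ 2) ^ (A - 1) = 1 := by
      have h3 := congrArg (fun x : TH H => ((x : Fˣ) : F)) hp
      simp only [Subgroup.coe_pow, Units.val_pow_eq_pow_val, Subgroup.coe_one, Units.val_one] at h3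
      rw [← pow_mul]; exact h3
    have hmem : ((u : Fˣ) : F) ^ 2 ∈ Set.range φ := by
      apply mem_range_of_pow_card_eq φ
      rw [← hA]
      calc (((u : Fˣ) : F) ^ 2) ^ A = (((u : Fˣ) : F) ^ 2) ^ (A - 1 + 1) := by
            rw [Nat.sub_add_cancel (by omega)]
        _ = ((u : Fˣ) : F) ^ 2 := by rw [pow_succ, hp', one_mul]
    obtain ⟨e, he⟩ := hmem
    have he0 : e ≠ 0 := by
      rintro rfl
      rw [map_zero] at he
      exact (pow_ne_zero 2 (u : Fˣ).ne_zero) he.symm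
    exact ⟨Units.mk0 e he0, he⟩
  -- every nonzero element of `K₀` is the square of a diagonal entry
  have hsurj : ∀ e : K₀, e ≠ 0 → ∃ u : TH H, ((u : Fˣ) : F) ^ 2 = φ e := by
    obtain ⟨f, hf⟩ : ∃ f : TH H → F, f = fun u : TH H => ((u : Fˣ) : F) ^ 2 := ⟨_, rfl⟩
    have hfa : ∀ u : TH H, f u = ((u : Fˣ) : F) ^ 2 := by intro u; rw [hf]
    have hfib : ∀ b ∈ (Finset.univ : Finset (TH H)).image f,
        ((Finset.univ : Finset (TH H)).filter (fun u => f u = b)).card ≤ 2 := by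
      intro b hb
      obtain ⟨u₀, -, rfl⟩ := Finset.mem_image.mp hb
      have hinj : Function.Injective (fun u : TH H => ((u : Fˣ) : F)) := by
        intro a b hab
        exact Subtype.ext (Units.ext hab)
      rw [← Finset.card_image_of_injective _ hinj]
      refine (Finset.card_le_card (t := {((u₀ : Fˣ) : F), -((u₀ : Fˣ) : F)}) ?_).trans
        Finset.card_le_two
      intro x hx
      obtain ⟨u, hu, rfl⟩ := Finset.mem_image.mp hx
      have hu' := (Finset.mem_filter.mp hu).2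
      rw [hfa, hfa] at hu'
      rw [Finset.mem_insert, Finset.mem_singleton]
      have h3 : (((u : Fˣ) : F) - ((u₀ : Fˣ) : F)) * (((u : Fˣ) : F) + ((u₀ : Fˣ) : F)) = 0 := by
        linear_combination hu'
      rcases mul_eq_zero.mp h3 with h | h
      · left; linear_combination h
      · right; linear_combination h
    have h1 := Finset.card_le_mul_card_image (f := f) (Finset.univ : Finset (TH H)) 2 hfib
    rw [Finset.card_univ, ← Nat.card_eq_fintype_card, hTH] at h1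
    have hsub : (Finset.univ : Finset (TH H)).image f ⊆
        (Finset.univ : Finset K₀ˣ).image (fun e : K₀ˣ => φ (e : K₀)) := by
      intro x hx
      obtain ⟨u, -, rfl⟩ := Finset.mem_image.mp hx
      obtain ⟨e, he⟩ := hsqmem u
      rw [hfa, ← he]
      exact Finset.mem_image_of_mem _ (Finset.mem_univ e)
    have hcR : ((Finset.univ : Finset K₀ˣ).image (fun e : K₀ˣ => φ (e : K₀))).card = A - 1 := by
      rw [Finset.card_image_of_injective, Finset.card_univ, Fintype.card_units, hA]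
      intro a b hab
      exact Units.ext (φ.injective hab)
    have heq := Finset.eq_of_subset_of_card_le hsub (by rw [hcR]; omega)
    intro e he
    have hmem : φ e ∈ (Finset.univ : Finset K₀ˣ).image (fun e : K₀ˣ => φ (e : K₀)) :=
      Finset.mem_image.mpr ⟨Units.mk0 e he, Finset.mem_univ _, rfl⟩
    rw [← heq] at hmem
    obtain ⟨u, -, hu⟩ := Finset.mem_image.mp hmem
    exact ⟨u, by rw [← hfa]; exact hu⟩
  have hU : ∀ e : K₀, upSL (φ e) ∈ H := by
    intro e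
    by_cases he : e = 0
    · rw [he, map_zero, upSL_zero]; exact H.one_mem
    · obtain ⟨u, hu⟩ := hsurj e he
      have h3 := diagU_conj_upSL (u : Fˣ) 1
      rw [hu, mul_one] at h3
      rw [← h3]
      exact H.mul_mem (H.mul_mem u.2 hu1) (H.inv_mem u.2)
  have hcount : Nat.card H =
      (Fintype.card K₀ + 1) * Nat.card {g : SL2 F // g ∈ H ∧ g 1 0 = 0} := by
    rw [hcard, card_borel H hB, hT, hD, ← hA, ← nat_cube _ (by omega)]; ring
  have hne := exists_not_upper H _ (by omega) hcount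
  obtain ⟨ui, hui⟩ := hsurj (-1) (neg_ne_zero.mpr one_ne_zero)
  rw [map_neg, map_one] at hui
  have hX : ∀ g ∈ H, g 1 0 ≠ 0 → g 0 0 / g 1 0 ∈ Set.range φ := by
    intro g hg hg10
    have hu0 : ((ui : Fˣ) : F) ≠ 0 := (ui : Fˣ).ne_zero
    have hinv : (((ui : Fˣ)⁻¹ : Fˣ) : F) = ((ui : Fˣ) : F)⁻¹ := Units.val_inv_eq_inv_val _
    have h10 : (diagU (ui : Fˣ) * g) 1 0 = ((ui : Fˣ) : F)⁻¹ * g 1 0 := by
      rw [sl2_mul_apply, diagU_10, diagU_11, zero_mul, zero_add, hinv]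
    have h00 : (diagU (ui : Fˣ) * g) 0 0 = ((ui : Fˣ) : F) * g 0 0 := by
      rw [sl2_mul_apply, diagU_00, diagU_01, zero_mul, add_zero]
    obtain ⟨e, he⟩ := xi_sub_mem φ H hU hcount g (diagU (ui : Fˣ) * g) hg
      (H.mul_mem ui.2 hg) hg10 (by rw [h10]; exact mul_ne_zero (inv_ne_zero hu0) hg10)
    rw [h10, h00] at he
    refine ⟨e / (-2), ?_⟩
    rw [map_div₀, map_neg, map_ofNat, he]
    have h5 : ((ui : Fˣ) : F) * g 0 0 / (((ui : Fˣ) : F)⁻¹ * g 1 0) =
        ((ui : Fˣ) : F) ^ 2 * (g 0 0 / g 1 0) := by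
      field_simp
    rw [h5, hui]
    field_simp
    ring
  have hle := range_le_of_xi φ H hU hX hne
  have hsq : ∀ x : K₀, x ≠ 0 → IsSquare (φ x) := by
    intro x hx
    obtain ⟨u, hu⟩ := hsurj x hx
    exact ⟨((u : Fˣ) : F), by rw [← hu, pow_two]⟩
  refine ⟨hsq, ?_⟩
  have hcP := card_pglSL φ A hA.symm h2 hsq
  -- an element of `H` outside the image of `SL₂(K₀)`, inside `pglSL φ`
  have hcharK : ringChar K₀ ≠ 2 := by
    intro h
    apply h2K
    have h3 := CharP.cast_eq_zero K₀ (ringChar K₀)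
    rw [h] at h3
    exact_mod_cast h3
  obtain ⟨ν, hν⟩ := FiniteField.exists_nonsquare hcharK
  have hν0 : ν ≠ 0 := by
    rintro rfl; exact hν ⟨0, by rw [mul_zero]⟩
  obtain ⟨uν, huν⟩ := hsurj ν hν0
  have hδH : diagU (uν : Fˣ) ∈ H := uν.2
  have hδR : diagU (uν : Fˣ) ∉ (Matrix.SpecialLinearGroup.map φ : SL2 K₀ →* SL2 F).range := by
    rintro ⟨g₀, hg₀⟩
    have h3 := congrArg (fun z : SL2 F => z 0 0) hg₀
    simp only [sl2_map_apply, diagU_00] at h3
    apply hν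
    refine ⟨g₀ 0 0, ?_⟩
    apply φ.injective
    rw [map_mul, h3, ← huν, pow_two]
  have hδP : diagU (uν : Fˣ) ∈ pglSL φ :=
    diagSL_mem_pglSL φ ((uν : Fˣ) : F) (uν : Fˣ).ne_zero ν huν.symm
  have hidx : ((Matrix.SpecialLinearGroup.map φ : SL2 K₀ →* SL2 F).range.subgroupOf H).index
      = 2 := by
    have h3 := Subgroup.card_mul_index
      ((Matrix.SpecialLinearGroup.map φ : SL2 K₀ →* SL2 F).range.subgroupOf H)
    rw [Nat.card_congr (Subgroup.subgroupOfEquivOfLe hle).toEquiv, card_range_map, hcard,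
      ← hA] at h3
    have hpos : 0 < A * (A ^ 2 - 1) := by
      have h4 : 1 < A ^ 2 := by nlinarith
      exact Nat.mul_pos (by omega) (by omega)
    have h5 : A * (A ^ 2 - 1) * ((Matrix.SpecialLinearGroup.map φ :
        SL2 K₀ →* SL2 F).range.subgroupOf H).index = A * (A ^ 2 - 1) * 2 := by
      rw [h3]; ring
    exact Nat.eq_of_mul_eq_mul_left hpos h5
  have hHle : H ≤ pglSL φ := by
    intro h hh
    by_cases hR : h ∈ (Matrix.SpecialLinearGroup.map φ : SL2 K₀ →* SL2 F).range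
    · exact range_le_pglSL φ hR
    · have h3 := Subgroup.mul_mem_iff_of_index_two hidx
        (a := (⟨(diagU (uν : Fˣ))⁻¹, H.inv_mem hδH⟩ : H)) (b := (⟨h, hh⟩ : H))
      rw [Subgroup.mem_subgroupOf, Subgroup.mem_subgroupOf, Subgroup.mem_subgroupOf] at h3
      have h4 : (diagU (uν : Fˣ))⁻¹ * h ∈
          (Matrix.SpecialLinearGroup.map φ : SL2 K₀ →* SL2 F).range := by
        apply h3.mpr
        constructor
        · intro h5
          exact absurd (by simpa using Subgroup.inv_mem _ h5) hδR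
        · intro h5
          exact absurd h5 hR
      have e : h = diagU (uν : Fˣ) * ((diagU (uν : Fˣ))⁻¹ * h) := by group
      rw [e]
      exact Subgroup.mul_mem _ hδP (range_le_pglSL φ h4)
  exact Subgroup.eq_of_le_of_card_ge hHle (by rw [hcP, hcard])

end OddSub

end Cfsg.Agent.Lib.helper98
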