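import Mathlib
import Cfsg.Agent.Lib.helper98.OddSub
import Cfsg.Agent.Lib.helper98.DkSmall

/-!
# Dickson's theorem: the subgroups of `PSL₂(q)` up to isomorphism

`dickson_iso`: the image in `PSL₂(F)` of a subgroup `K ⊇ Z` of `SL₂(F)` is cyclic or dihedral of
the appropriate orders, or isomorphic to a subgroup of the normalizer of a Sylow `p`-subgroup, or
to `A₄`, `S₄`, `A₅`, or to `PSL₂(K₀)` or `PGL₂(K₀)` for a subfield `K₀`.
-/

set_option autoImplicit false
set_option linter.unusedSimpArgs false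
set_option linter.unusedVariables false

namespace Cfsg.Agent.Lib.helper98

open Matrix
open scoped Classical
open Cfsg.Agent.Lib.helper46

local notation "SL2" => Matrix.SpecialLinearGroup (Fin 2)
local notation "PSL2" => Matrix.ProjectiveSpecialLinearGroup (Fin 2)

section Concl

variable (F : Type*) [Field F] [Fintype F]

/-- The conclusion of Dickson's theorem for a subgroup `H` of `PSL₂(F)`. -/
def DkConcl (p : ℕ) (H : Subgroup (PSL2 F)) : Prop :=
  (∃ k : ℕ, (k ∣ (Fintype.card F + 1) / Nat.gcd 2 (Fintype.card F - 1) ∨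
      k ∣ (Fintype.card F - 1) / Nat.gcd 2 (Fintype.card F - 1)) ∧
    ((IsCyclic H ∧ Nat.card H = k) ∨ Nonempty (H ≃* DihedralGroup k))) ∨
  (∃ (P : Sylow p (PSL2 F)) (K : Subgroup (PSL2 F)),
    K ≤ Subgroup.normalizer ((P : Subgroup (PSL2 F)) : Set (PSL2 F)) ∧ Nonempty (H ≃* K)) ∨
  Nonempty (H ≃* alternatingGroup (Fin 4)) ∨ Nonempty (H ≃* Equiv.Perm (Fin 4)) ∨
  Nonempty (H ≃* alternatingGroup (Fin 5)) ∨
  (∃ (K : Type) (_ : Field K) (_ : Fintype K) (m : ℕ), Fintype.card K ^ m = Fintype.card F ∧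
    (Nonempty (H ≃* PSL2 K) ∨ Nonempty (H ≃* Matrix.ProjGenLinGroup (Fin 2) K)))

variable {F}

theorem dkConcl_congr (p : ℕ) {H H' : Subgroup (PSL2 F)} (e : H ≃* H')
    (h : DkConcl F p H) : DkConcl F p H' := by
  rcases h with ⟨k, hk, hc⟩ | ⟨P, K, hK, he'⟩ | he' | he' | he' | ⟨K₀, i1, i2, m, hm, hc⟩
  · left
    refine ⟨k, hk, ?_⟩
    rcases hc with ⟨hcyc, hcard⟩ | he'
    · left
      exact ⟨isCyclic_of_surjective e e.surjective,
        by rw [← hcard]; exact Nat.card_congr e.symm.toEquiv⟩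
    · right
      obtain ⟨e'⟩ := he'
      exact ⟨e.symm.trans e'⟩
  · right; left
    obtain ⟨e'⟩ := he'
    exact ⟨P, K, hK, ⟨e.symm.trans e'⟩⟩
  · right; right; left
    obtain ⟨e'⟩ := he'
    exact ⟨e.symm.trans e'⟩
  · right; right; right; left
    obtain ⟨e'⟩ := he'
    exact ⟨e.symm.trans e'⟩
  · right; right; right; right; left
    obtain ⟨e'⟩ := he'
    exact ⟨e.symm.trans e'⟩
  · right; right; right; right; right
    refine ⟨K₀, i1, i2, m, hm, ?_⟩
    rcases hc with he' | he'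
    · left
      obtain ⟨e'⟩ := he'
      exact ⟨e.symm.trans e'⟩
    · right
      obtain ⟨e'⟩ := he'
      exact ⟨e.symm.trans e'⟩

/-- Transfer along an automorphism of `SL₂(F)`. -/
theorem dk_of_aut (p : ℕ) (σ : SL2 F ≃* SL2 F) (K : Subgroup (SL2 F))
    (h : DkConcl F p ((K.map σ.toMonoidHom).map (QuotientGroup.mk' (Subgroup.center (SL2 F))))) :
    DkConcl F p (K.map (QuotientGroup.mk' (Subgroup.center (SL2 F)))) := by
  obtain ⟨e⟩ := map_aut_equiv σ K
  exact dkConcl_congr p e.symm h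

theorem dk_of_conj (p : ℕ) (c : SL2 F) (K : Subgroup (SL2 F))
    (h : DkConcl F p ((conjSub c K).map (QuotientGroup.mk' (Subgroup.center (SL2 F))))) :
    DkConcl F p (K.map (QuotientGroup.mk' (Subgroup.center (SL2 F)))) :=
  dk_of_aut p (MulAut.conj c) K h

theorem dk_of_card_one (p : ℕ) (H : Subgroup (PSL2 F)) (h : Nat.card H = 1) :
    DkConcl F p H := by
  have hs := (Nat.card_eq_one_iff_unique.mp h).1
  exact Or.inl ⟨1, Or.inl (one_dvd _), Or.inl ⟨inferInstance, h⟩⟩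

end Concl

section Borel

variable {F : Type*} [Field F]

/-- The upper unitriangular subgroup. -/
def unipSL (F : Type*) [Field F] : Subgroup (SL2 F) where
  carrier := {g | g 0 0 = 1 ∧ g 1 0 = 0}
  one_mem' := ⟨sl2_one_00, sl2_one_10⟩
  mul_mem' := by
    intro a b ha hb
    rw [eq_upSL ha.1 ha.2, eq_upSL hb.1 hb.2, upSL_add]
    exact ⟨upSL_00 _, upSL_10 _⟩
  inv_mem' := by
    intro a ha
    rw [eq_upSL ha.1 ha.2, upSL_inv]
    exact ⟨upSL_00 _, upSL_10 _⟩

theorem mem_unipSL (g : SL2 F) : g ∈ unipSL F ↔ g 0 0 = 1 ∧ g 1 0 = 0 := Iff.rfl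

variable [Fintype F]

theorem card_unipSL : Nat.card (unipSL F) = Fintype.card F := by
  rw [← Nat.card_eq_fintype_card]
  exact Nat.card_congr
    { toFun := fun g => g.1 0 1
      invFun := fun t => ⟨upSL t, upSL_00 t, upSL_10 t⟩
      left_inv := fun g => Subtype.ext (eq_upSL g.2.1 g.2.2).symm
      right_inv := fun t => rfl }

theorem card_unipSL_sylow (p : ℕ) [Fact p.Prime] [CharP F p] :
    Nat.card (unipSL F) = p ^ (Nat.card (SL2 F)).factorization p := by
  obtain ⟨n, -, hqn⟩ := FiniteField.card F p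
  rw [card_unipSL, Cfsg.Agent.Lib.helper7.card_SL2 (F := F) rfl, hqn]
  have hp := (Fact.out : p.Prime)
  have h3 : 1 ≤ (p ^ (n : ℕ)) ^ 2 := Nat.one_le_pow _ _ (Nat.pow_pos hp.pos)
  have h1 : ¬ p ∣ (p ^ (n : ℕ)) ^ 2 - 1 := by
    intro h
    have h2 : p ∣ (p ^ (n : ℕ)) ^ 2 := dvd_pow (dvd_pow_self p n.ne_zero) two_ne_zero
    have h4 : p ∣ 1 := by
      have h5 := Nat.dvd_sub h2 h
      rwa [Nat.sub_sub_self h3] at h5
    exact hp.one_lt.ne' (Nat.dvd_one.mp h4)
  have hne : (p ^ (n : ℕ)) ^ 2 - 1 ≠ 0 := fun h => h1 (h ▸ dvd_zero p)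
  rw [Nat.factorization_mul (pow_ne_zero _ hp.ne_zero) hne, Finsupp.add_apply,
    Nat.Prime.factorization_pow hp, Finsupp.single_eq_same,
    Nat.factorization_eq_zero_of_not_dvd h1, add_zero]

/-- Subgroups of upper triangular matrices give alternative (b). -/
theorem dk_of_upper (p : ℕ) [Fact p.Prime] [CharP F p] (K : Subgroup (SL2 F))
    (hK : ∀ g ∈ K, g 1 0 = 0) :
    DkConcl F p (K.map (QuotientGroup.mk' (Subgroup.center (SL2 F)))) := by
  right; left
  refine ⟨(Sylow.ofCard (unipSL F) (card_unipSL_sylow p)).mapSurjective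
    (QuotientGroup.mk'_surjective (Subgroup.center (SL2 F))),
    K.map (QuotientGroup.mk' (Subgroup.center (SL2 F))), ?_, ⟨MulEquiv.refl _⟩⟩
  rw [Sylow.coe_mapSurjective, Sylow.coe_ofCard]
  refine le_trans (Subgroup.map_mono ?_) (Subgroup.le_normalizer_map _)
  intro k hk
  rw [Subgroup.mem_normalizer_iff]
  have hk10 := hK k hk
  intro g
  constructor
  · intro hg
    rw [eq_upSL hg.1 hg.2, conj_upSL_upper k hk10]
    exact ⟨upSL_00 _, upSL_10 _⟩
  · intro hg
    have hk' : (k⁻¹) 1 0 = 0 := by rw [sl2_inv_10, hk10, neg_zero]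
    have h3 := conj_upSL_upper k⁻¹ hk' ((k * g * k⁻¹) 0 1)
    rw [← eq_upSL hg.1 hg.2, inv_inv] at h3
    have e : k⁻¹ * (k * g * k⁻¹) * k = g := by group
    rw [e] at h3
    rw [h3]
    exact ⟨upSL_00 _, upSL_10 _⟩

/-- A subfield of the given order. -/
theorem exists_subfield_data (p : ℕ) [Fact p.Prime] [CharP F p] (A : ℕ) (hA2 : 2 ≤ A)
    (hAq : A ∣ Fintype.card F) (hA1 : A - 1 ∣ Fintype.card F - 1) :
    ∃ (K₀ : Type) (_ : Field K₀) (_ : Fintype K₀) (m : ℕ) (_ : K₀ →+* F),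
      Fintype.card K₀ = A ∧ Fintype.card K₀ ^ m = Fintype.card F := by
  have hp := (Fact.out : p.Prime)
  obtain ⟨n, -, hqn⟩ := FiniteField.card F p
  obtain ⟨k, hkn, hAk⟩ := (Nat.dvd_prime_pow hp).mp (hqn ▸ hAq)
  have hk1 : 1 ≤ k := by
    by_contra hlt
    have h' : k = 0 := by omega
    rw [h', pow_zero] at hAk; omega
  have hdvd : p ^ k - 1 ∣ p ^ (n : ℕ) - 1 := by
    rw [hAk, hqn] at hA1
    exact hA1
  have hkdvd : k ∣ (n : ℕ) := by
    have h1 := Nat.pow_sub_one_gcd_pow_sub_one p k n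
    rw [Nat.gcd_eq_left hdvd] at h1
    have h3 : p ^ k = p ^ Nat.gcd k n := by
      have h5 : 1 ≤ p ^ k := Nat.one_le_pow _ _ hp.pos
      have h6 : 1 ≤ p ^ Nat.gcd k n := Nat.one_le_pow _ _ hp.pos
      omega
    have h4' := Nat.pow_right_injective hp.two_le h3
    rw [h4']; exact Nat.gcd_dvd_right k n
  obtain ⟨m, hm⟩ := hkdvd
  let _ : Fintype (GaloisField p k) := Fintype.ofFinite _
  have hK₀ : Fintype.card (GaloisField p k) = p ^ k := by
    rw [← Nat.card_eq_fintype_card]; exact GaloisField.card p k (by omega)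
  obtain ⟨φ⟩ := Cfsg.Agent.S0805.exists_ringHom (F := F) (K := GaloisField p k) m
    (by rw [hK₀, hqn, hm, pow_mul])
  exact ⟨GaloisField p k, inferInstance, inferInstance, m, φ, by rw [hK₀, hAk],
    by rw [hK₀, hqn, hm, pow_mul]⟩

/-- Elements of a tame subgroup have order prime to `p`. -/
theorem tame_not_dvd (p : ℕ) [Fact p.Prime] [CharP F p] (K : Subgroup (SL2 F))
    (htame : ∀ g ∈ K, g 0 0 + g 1 1 = 2 → g = 1) (x : SL2 F) (hx : x ∈ K) :
    ¬ p ∣ orderOf x := by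
  intro hdvd
  have hp := (Fact.out : p.Prime)
  have hord0 : orderOf x ≠ 0 := (orderOf_pos x).ne'
  obtain ⟨j, hj⟩ : ∃ j, j = orderOf x / p := ⟨_, rfl⟩
  have hj0 : j ≠ 0 := by
    rw [hj]; exact (Nat.div_pos (Nat.le_of_dvd (orderOf_pos x) hdvd) hp.pos).ne'
  have hyp : orderOf (x ^ j) = p := by
    rw [orderOf_pow_of_dvd hj0 (by rw [hj]; exact Nat.div_dvd_of_dvd hdvd), hj,
      Nat.div_div_self hdvd hord0]
  have h1 : (x ^ j) ^ p ^ 1 = 1 := by
    have h3 := pow_orderOf_eq_one (x ^ j)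
    rw [hyp] at h3
    rw [pow_one]; exact h3
  have htr := trace_of_pow_char_pow p (x ^ j) 1 h1
  have h2 := htame _ (K.pow_mem hx j) htr
  rw [h2, orderOf_one] at hyp
  exact hp.one_lt.ne hyp

end Borel

section Odd

variable {F : Type*} [Field F] [Fintype F]

/-- Normalized subgroups of `SL₂(q)`, `q` odd, containing `upSL t₀`: refined version of
`wild_normalized` recording the structure constants. -/
theorem wild_odd_normalized' (p : ℕ) [Fact p.Prime] [CharP F p] (h2 : (2 : F) ≠ 0)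
    (H : Subgroup (SL2 F)) (hneg : negOne ∈ H)
    (hB : ∀ g ∈ H, g 1 0 = 0 → ∃ h ∈ H, h 0 0 = g 0 0 ∧ h 0 1 = 0 ∧ h 1 0 = 0)
    (t₀ : F) (ht₀ : t₀ ≠ 0) (hu : upSL t₀ ∈ H) :
    (∀ g ∈ H, g 1 0 = 0) ∨
    (Nat.card {g : SL2 F // g ∈ H ∧ g 0 1 = 0 ∧ g 1 0 = 0} =
        Nat.card {t : F // upSL t ∈ H} - 1 ∧
      Nat.card H = Nat.card {t : F // upSL t ∈ H} *
        (Nat.card {t : F // upSL t ∈ H} ^ 2 - 1)) ∨
    (Nat.card {g : SL2 F // g ∈ H ∧ g 0 1 = 0 ∧ g 1 0 = 0} =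
        2 * (Nat.card {t : F // upSL t ∈ H} - 1) ∧
      Nat.card H = 2 * (Nat.card {t : F // upSL t ∈ H} *
        (Nat.card {t : F // upSL t ∈ H} ^ 2 - 1))) ∨
    (p = 3 ∧ Nat.card H = 120) := by
  by_cases hall : ∀ g ∈ H, g 1 0 = 0
  · left; exact hall
  right
  push Not at hall
  have hN : ∃ g ∈ H, g 1 0 ≠ 0 := hall
  have hAq := card_UH_dvd H
  have hA2 : 2 ≤ Nat.card {t : F // upSL t ∈ H} := by
    have : Nontrivial {t : F // upSL t ∈ H} :=
      ⟨⟨⟨0, by rw [upSL_zero]; exact H.one_mem⟩, ⟨t₀, hu⟩,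
        fun h => ht₀ (congrArg Subtype.val h).symm⟩⟩
    exact Finite.one_lt_card
  obtain ⟨n, -, hqn⟩ := FiniteField.card F p
  have hp := (Fact.out : p.Prime)
  obtain ⟨N, s, hN2, hs2, hcard, hE⟩ := sl2_core_odd p h2 H hneg hB t₀ ht₀ hu hN
  obtain ⟨d', hd2, hd'⟩ := diag_free_odd h2 H hneg
  have hbi := borel_index_bounds H t₀ ht₀ hu hN N (by rw [hcard, card_borel H hB, mul_assoc])
  obtain ⟨A, hA⟩ : ∃ A, A = Nat.card {t : F // upSL t ∈ H} := ⟨_, rfl⟩
  obtain ⟨d, hd⟩ : ∃ d, d = Nat.card {g : SL2 F // g ∈ H ∧ g 0 1 = 0 ∧ g 1 0 = 0} := ⟨_, rfl⟩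
  rw [← hA] at hAq hA2 hcard hE hd' ⊢
  rw [← hd] at hcard hE hd2 ⊢
  obtain ⟨hN3, hNle⟩ := hbi
  have hp_of_dvd : ∀ r : ℕ, r.Prime → r ∣ A → p = r := by
    intro r hr hrA
    have h1 : r ∣ p ^ (n : ℕ) := hqn ▸ hrA.trans hAq
    exact ((Nat.prime_dvd_prime_iff_eq hr hp).mp (hr.dvd_of_dvd_pow h1)).symm
  have hp2 : p ≠ 2 := by
    intro h
    apply h2
    have h3 := CharP.cast_eq_zero F p
    rw [h] at h3
    exact_mod_cast h3
  have hE' : N * A * d' = s * (2 + N * (A - 2)) := by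
    have h3 : 2 * (N * A * d') = 2 * (s * (2 + N * (A - 2))) := by
      rw [← mul_assoc 2 s, ← hE, hd2]; ring
    exact Nat.eq_of_mul_eq_mul_left (by norm_num) h3
  rcases wild_arith N A d' s hN3 hA2 hs2 hd' hE' with ⟨hA2', hd1⟩ | ⟨hAd, hNA⟩ | ⟨hdA, hNA⟩ |
    ⟨hA3, hd'2, hN10⟩
  · exfalso
    exact hp2 (hp_of_dvd 2 Nat.prime_two (by rw [hA2']))
  · left
    have hdA : d = A - 1 := by omega
    refine ⟨hdA, ?_⟩
    rw [hcard, hNA, hdA]
    exact nat_cube A (by omega)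
  · right; left
    have hdA' : d = 2 * (A - 1) := by rw [hd2, hdA]
    refine ⟨hdA', ?_⟩
    rw [hcard, hNA, hdA']
    have h5 := nat_cube A (by omega)
    have h6 : (A + 1) * A * (2 * (A - 1)) = 2 * ((A + 1) * A * (A - 1)) := by ring
    rw [h6, h5]
  · right; right
    refine ⟨hp_of_dvd 3 Nat.prime_three (by rw [hA3]), ?_⟩
    rw [hcard, hN10, hA3, hd2, hd'2]

omit [Fintype F] in
theorem ringChar_ne_two (h2 : (2 : F) ≠ 0) : ringChar F ≠ 2 := by
  intro h
  apply h2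
  have h3 := CharP.cast_eq_zero F (ringChar F)
  rw [h] at h3
  exact_mod_cast h3

theorem card_odd (h2 : (2 : F) ≠ 0) : Fintype.card F % 2 = 1 :=
  FiniteField.odd_card_of_char_ne_two (ringChar_ne_two h2)

theorem gcd_two_odd (h2 : (2 : F) ≠ 0) : Nat.gcd 2 (Fintype.card F - 1) = 2 := by
  have h1 := card_odd h2
  exact Nat.gcd_eq_left (by omega)

theorem card_center_odd (h2 : (2 : F) ≠ 0) : Nat.card (Subgroup.center (SL2 F)) = 2 := by
  rw [Cfsg.Agent.Lib.helper6.card_center_SL 2 (by norm_num), gcd_two_odd h2]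

omit [Fintype F] in
theorem center_le_of_negOne (K : Subgroup (SL2 F)) (hneg : negOne ∈ K) :
    Subgroup.center (SL2 F) ≤ K := by
  intro z hz
  rcases center_sl2_eq z hz with h | h
  · rw [h]; exact K.one_mem
  · rw [h]; exact hneg

/-- **Tame subgroups, odd characteristic.** -/
theorem dk_tame_odd (p : ℕ) [Fact p.Prime] [CharP F p] (h2 : (2 : F) ≠ 0)
    (K : Subgroup (SL2 F)) (hZK : Subgroup.center (SL2 F) ≤ K)
    (htame : ∀ g ∈ K, g 0 0 + g 1 1 = 2 → g = 1) :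
    DkConcl F p (K.map (QuotientGroup.mk' (Subgroup.center (SL2 F)))) := by
  have hneg : negOne ∈ K := hZK negOne_mem_center
  have hchar : ringChar F ≠ 2 := ringChar_ne_two h2
  obtain ⟨δ, hδ⟩ := FiniteField.exists_nonsquare hchar
  have hδ0 : δ ≠ 0 := by
    rintro rfl; exact hδ ⟨0, by rw [mul_zero]⟩
  have hZ2 := card_center_odd h2
  have hcardmap := card_map_mk_mul (Subgroup.center (SL2 F)) K hZK
  rw [hZ2] at hcardmap
  have habel : ∀ (x : SL2 F), x ∈ K → x ∉ Subgroup.center (SL2 F) →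
      (∀ k ∈ K, (k * x * k⁻¹) * x = x * (k * x * k⁻¹)) →
      DkConcl F p (K.map (QuotientGroup.mk' (Subgroup.center (SL2 F)))) := by
    intro x hx hxc hcomm
    exact Or.inl (torus_type p K hZK x hxc (tame_not_dvd p K htame x hx) hcomm)
  have hZstab : ∀ J : TZ δ, Subgroup.center (SL2 F) ≤ MulAction.stabilizer (SL2 F) J := by
    intro J z hz
    rw [MulAction.mem_stabilizer_iff]
    rcases center_sl2_eq z hz with h | h
    · rw [h, one_smul]
    · rw [h, TZ.smul_eq_iff]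
      apply mat2_ext <;> simp only [mul2_apply, negOne_00, negOne_01, negOne_10, negOne_11] <;>
        ring
  have hbound : ∀ (m b : ℕ), 2 ≤ m → m ≤ 2 * b →
      (∀ J : TZ δ, Nat.card ↥(K ⊓ MulAction.stabilizer (SL2 F) J) ≤ m) →
      ∀ g : ↥(K.map (QuotientGroup.mk' (Subgroup.center (SL2 F)))),
        ∃ j, 1 ≤ j ∧ j ≤ b ∧ g ^ j = 1 := by
    intro m b hm2 hmb hb
    rintro ⟨g, hg⟩
    obtain ⟨k, hk, rfl⟩ := Subgroup.mem_map.mp hg
    obtain ⟨j, hj1, hj2, hj⟩ := tame_pow_bound h2 hδ K hneg htame m hm2 hb k hk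
    refine ⟨j, hj1, by omega, ?_⟩
    apply Subtype.ext
    rw [Subgroup.coe_pow, Subgroup.coe_one]; exact hj
  rcases tame_odd h2 hδ K hneg htame with h | ⟨J, hJ⟩ | ⟨J, hJ⟩ | ⟨hc, hb, -⟩ | ⟨hc, hb, -⟩ |
    ⟨hc, hb, -⟩
  · apply dk_of_card_one
    have h3 : Nat.card (K.map (QuotientGroup.mk' (Subgroup.center (SL2 F)))) = 1 := by omega
    exact h3
  · by_cases hKZ : K ≤ Subgroup.center (SL2 F)
    · apply dk_of_card_one
      have hK2 : Nat.card K = 2 := by rw [le_antisymm hKZ hZK, hZ2]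
      have h3 : Nat.card (K.map (QuotientGroup.mk' (Subgroup.center (SL2 F)))) = 1 := by omega
      exact h3
    · obtain ⟨x, hx, hxc⟩ := SetLike.not_le_iff_exists.mp hKZ
      apply habel x hx hxc
      intro k hk
      exact tz_stab_comm h2 hδ0 J _ _
        (MulAction.mem_stabilizer_iff.mp (hJ (K.mul_mem (K.mul_mem hk hx) (K.inv_mem hk))))
        (MulAction.mem_stabilizer_iff.mp (hJ hx))
  · obtain ⟨A₀, hA₀⟩ : ∃ A₀ : Subgroup (SL2 F), A₀ = K ⊓ MulAction.stabilizer (SL2 F) J :=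
      ⟨_, rfl⟩
    rw [← hA₀] at hJ
    have hA₀K : A₀ ≤ K := by rw [hA₀]; exact inf_le_left
    have hA₀J : ∀ y ∈ A₀, y • J = J := by
      intro y hy
      rw [hA₀] at hy
      exact MulAction.mem_stabilizer_iff.mp hy.2
    by_cases hAZ : A₀ ≤ Subgroup.center (SL2 F)
    · have hZA : Subgroup.center (SL2 F) ≤ A₀ := by
        rw [hA₀]; exact le_inf hZK (hZstab J)
      have hA2 : Nat.card A₀ = 2 := by rw [le_antisymm hAZ hZA, hZ2]
      have hc2 : Nat.card (K.map (QuotientGroup.mk' (Subgroup.center (SL2 F)))) = 2 := by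
        omega
      left
      have : Fact (Nat.Prime 2) := ⟨Nat.prime_two⟩
      refine ⟨2, ?_, Or.inl ⟨isCyclic_of_prime_card hc2, hc2⟩⟩
      rw [gcd_two_odd h2]
      have hqodd := card_odd h2
      omega
    · obtain ⟨x, hx, hxc⟩ := SetLike.not_le_iff_exists.mp hAZ
      apply habel x (hA₀K hx) hxc
      have hidx : (A₀.subgroupOf K).index = 2 := by
        have h3 := Subgroup.card_mul_index (A₀.subgroupOf K)
        rw [Nat.card_congr (Subgroup.subgroupOfEquivOfLe hA₀K).toEquiv, ← hJ] at h3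
        have hpos : 0 < Nat.card A₀ := Nat.card_pos
        have h5 : Nat.card A₀ * (A₀.subgroupOf K).index = Nat.card A₀ * 2 := by
          rw [h3]; ring
        exact Nat.eq_of_mul_eq_mul_left hpos h5
      have hnormal := Subgroup.normal_of_index_eq_two hidx
      intro k hk
      have hmem : (⟨k, hk⟩ : K) * ⟨x, hA₀K hx⟩ * (⟨k, hk⟩ : K)⁻¹ ∈ A₀.subgroupOf K :=
        hnormal.conj_mem _ (Subgroup.mem_subgroupOf.mpr hx) _
      rw [Subgroup.mem_subgroupOf] at hmem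
      exact tz_stab_comm h2 hδ0 J _ _ (hA₀J _ hmem) (hA₀J _ hx)
  · right; right; left
    have hc' : Nat.card (K.map (QuotientGroup.mk' (Subgroup.center (SL2 F)))) = 12 := by omega
    exact rec12 hc' (no_comm_of_bound 3 2 3 (hbound 6 3 (by norm_num) (by norm_num) hb)
      (by norm_num) (by norm_num))
  · right; right; right; left
    have hc' : Nat.card (K.map (QuotientGroup.mk' (Subgroup.center (SL2 F)))) = 24 := by omega
    apply Cfsg.Agent.S1012.result hc'
    intro g hg6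
    obtain ⟨j, hj1, hj4, hj⟩ := hbound 8 4 (by norm_num) (by norm_num) hb g
    have h3 := Nat.le_of_dvd (by omega) (orderOf_dvd_of_pow_eq_one hj)
    omega
  · right; right; right; right; left
    have hc' : Nat.card (K.map (QuotientGroup.mk' (Subgroup.center (SL2 F)))) = 60 := by omega
    exact rec60 hc' (no_comm_of_bound 5 5 3 (hbound 10 5 (by norm_num) (by norm_num) hb)
      (by norm_num) (by norm_num))

/-- **Normalized wild subgroups, odd characteristic.** -/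
theorem dk_wild_odd_norm (p : ℕ) [Fact p.Prime] [CharP F p] (h2 : (2 : F) ≠ 0)
    (H : Subgroup (SL2 F)) (hneg : negOne ∈ H)
    (hB : ∀ g ∈ H, g 1 0 = 0 → ∃ h ∈ H, h 0 0 = g 0 0 ∧ h 0 1 = 0 ∧ h 1 0 = 0)
    (hu1 : upSL 1 ∈ H) :
    DkConcl F p (H.map (QuotientGroup.mk' (Subgroup.center (SL2 F)))) := by
  have hZH := center_le_of_negOne H hneg
  have hZ2 := card_center_odd h2
  have hcardmap := card_map_mk_mul (Subgroup.center (SL2 F)) H hZH
  rw [hZ2] at hcardmap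
  have hAq := card_UH_dvd H
  have hdq := card_TH_dvd H
  have hA2 : 2 ≤ Nat.card {t : F // upSL t ∈ H} := by
    have : Nontrivial {t : F // upSL t ∈ H} :=
      ⟨⟨⟨0, by rw [upSL_zero]; exact H.one_mem⟩, ⟨1, hu1⟩,
        fun h => one_ne_zero (congrArg Subtype.val h).symm⟩⟩
    exact Finite.one_lt_card
  rcases wild_odd_normalized' p h2 H hneg hB 1 one_ne_zero hu1 with h | ⟨hd, hcard⟩ |
    ⟨hd, hcard⟩ | ⟨hp3, hcard⟩
  · exact dk_of_upper p H h
  · obtain ⟨K₀, _, _, m, φ, hK₀, hm⟩ := exists_subfield_data p _ hA2 hAq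
      (by rw [← hd]; exact hdq)
    obtain ⟨c, hc⟩ := sl_type_conj φ h2 H hB (by rw [hK₀]; exact hd) hu1 hK₀.symm
      (by rw [hK₀]; exact hcard)
    apply dk_of_conj p c H
    rw [hc]
    obtain ⟨e⟩ := psl_range_equiv φ
    exact Or.inr (Or.inr (Or.inr (Or.inr (Or.inr
      ⟨K₀, inferInstance, inferInstance, m, hm, Or.inl ⟨e⟩⟩))))
  · obtain ⟨K₀, _, _, m, φ, hK₀, hm⟩ := exists_subfield_data p _ hA2 hAq
      (by
        have h3 : 2 * (Nat.card {t : F // upSL t ∈ H} - 1) ∣ Fintype.card F - 1 := by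
          rw [← hd]; exact hdq
        exact dvd_of_mul_left_dvd h3)
    obtain ⟨hsq, hH⟩ := pgl_type_eq φ h2 H hB (by rw [hK₀]; exact hd) hu1 hK₀.symm
      (by rw [hK₀]; exact hcard)
    have hmap : H.map (QuotientGroup.mk' (Subgroup.center (SL2 F))) = pglSub φ := by
      rw [hH]
      exact Subgroup.map_comap_eq_self_of_surjective
        (QuotientGroup.mk'_surjective (Subgroup.center (SL2 F))) _
    rw [hmap]
    obtain ⟨e⟩ := pglSub_equiv φ hsq
    exact Or.inr (Or.inr (Or.inr (Or.inr (Or.inr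
      ⟨K₀, inferInstance, inferInstance, m, hm, Or.inr ⟨e⟩⟩))))
  · subst hp3
    have hc : Nat.card (H.map (QuotientGroup.mk' (Subgroup.center (SL2 F)))) = 60 := by omega
    right; right; right; right; left
    apply rec60 hc
    intro x y hx hy hxy
    have h3 := psl_cube_of_comm (x : PSL2 F) (y : PSL2 F)
      (by rw [Subgroup.orderOf_coe]; exact hy)
      (by
        have h4 := congrArg Subtype.val hxy
        simpa only [Subgroup.coe_mul] using h4)
    have h4 : orderOf (x : PSL2 F) ∣ 3 := orderOf_dvd_of_pow_eq_one h3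
    rw [Subgroup.orderOf_coe, hx] at h4
    norm_num at h4

/-- **Wild subgroups, odd characteristic.** -/
theorem dk_wild_odd (p : ℕ) [Fact p.Prime] [CharP F p] (h2 : (2 : F) ≠ 0)
    (K : Subgroup (SL2 F)) (hZK : Subgroup.center (SL2 F) ≤ K)
    (hw : ∃ g ∈ K, g ≠ 1 ∧ g 0 0 + g 1 1 = 2) :
    DkConcl F p (K.map (QuotientGroup.mk' (Subgroup.center (SL2 F)))) := by
  obtain ⟨g, hg, hg1, htr⟩ := hw
  have hneg : negOne ∈ K := hZK negOne_mem_center
  obtain ⟨c₁, t₀, ht₀, hu⟩ := exists_conj_unip K g hg hg1 htr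
  apply dk_of_conj p c₁ K
  have hneg₁ := negOne_mem_conjSub c₁ K hneg
  apply dk_of_aut p (dkDiag t₀ ht₀) (conjSub c₁ K)
  obtain ⟨K₂, hK₂⟩ : ∃ K₂ : Subgroup (SL2 F),
      K₂ = (conjSub c₁ K).map (dkDiag t₀ ht₀).toMonoidHom := ⟨_, rfl⟩
  rw [← hK₂]
  have hent : ∀ g' : SL2 F, (dkDiag t₀ ht₀ g') 0 0 = g' 0 0 ∧
      (dkDiag t₀ ht₀ g') 0 1 = g' 0 1 / t₀ ∧ (dkDiag t₀ ht₀ g') 1 0 = g' 1 0 * t₀ ∧
      (dkDiag t₀ ht₀ g') 1 1 = g' 1 1 := fun g' => ⟨rfl, rfl, rfl, rfl⟩
  have hu₂ : upSL 1 ∈ K₂ := by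
    rw [hK₂]
    refine Subgroup.mem_map.mpr ⟨upSL t₀, hu, ?_⟩
    show dkDiag t₀ ht₀ (upSL t₀) = upSL 1
    obtain ⟨e00, e01, e10, e11⟩ := hent (upSL t₀)
    apply sl2_ext
    · rw [e00, upSL_00, upSL_00]
    · rw [e01, upSL_01, upSL_01, div_self ht₀]
    · rw [e10, upSL_10, upSL_10, zero_mul]
    · rw [e11, upSL_11, upSL_11]
  have hneg₂ : negOne ∈ K₂ := by
    rw [hK₂]
    refine Subgroup.mem_map.mpr ⟨negOne, hneg₁, ?_⟩
    show dkDiag t₀ ht₀ negOne = negOne
    obtain ⟨e00, e01, e10, e11⟩ := hent negOne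
    apply sl2_ext
    · rw [e00]
    · rw [e01, negOne_01, zero_div]
    · rw [e10, negOne_10, zero_mul]
    · rw [e11]
  obtain ⟨s, hB⟩ := exists_conj_hB K₂ hneg₂
  apply dk_of_conj p (upSL s) K₂
  exact dk_wild_odd_norm p h2 _ (negOne_mem_conjSub _ _ hneg₂) hB
    (upSL_mem_conjSub_upSL s 1 _ hu₂)

/-- **Dickson's theorem, odd characteristic.** -/
theorem dickson_odd (p : ℕ) [Fact p.Prime] [CharP F p] (h2 : (2 : F) ≠ 0)
    (K : Subgroup (SL2 F)) (hZK : Subgroup.center (SL2 F) ≤ K) :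
    DkConcl F p (K.map (QuotientGroup.mk' (Subgroup.center (SL2 F)))) := by
  by_cases hw : ∃ g ∈ K, g ≠ 1 ∧ g 0 0 + g 1 1 = 2
  · exact dk_wild_odd p h2 K hZK hw
  · push Not at hw
    apply dk_tame_odd p h2 K hZK
    intro g hg htr
    by_contra h1
    exact hw g hg h1 htr

end Odd

section Even

variable {F : Type*} [Field F] [Fintype F]

omit [Fintype F] in
theorem center_le_of_char_two (h2 : (2 : F) = 0) (K : Subgroup (SL2 F)) :
    Subgroup.center (SL2 F) ≤ K := by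
  intro z hz
  rw [center_eq_one_of_char_two h2 z hz]; exact K.one_mem

/-- **Tame subgroups, characteristic `2`.** -/
theorem dk_tame_even (p : ℕ) [Fact p.Prime] [CharP F p] (h2 : (2 : F) = 0)
    (K : Subgroup (SL2 F)) (htame : ∀ g ∈ K, g 0 0 + g 1 1 = 2 → g = 1) :
    DkConcl F p (K.map (QuotientGroup.mk' (Subgroup.center (SL2 F)))) := by
  obtain ⟨ν, hν, hν'⟩ := exists_artinSchreier (F := F) h2
  have hZK := center_le_of_char_two h2 K
  by_cases hK1 : K = ⊥
  · apply dk_of_card_one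
    have h3 : Nat.card (K.map (QuotientGroup.mk' (Subgroup.center (SL2 F)))) = 1 := by
      rw [hK1, Subgroup.map_bot, Subgroup.card_bot]
    exact h3
  · rcases tame_even h2 hν hν' K htame with h | ⟨J, hJ⟩
    · exact absurd (Subgroup.card_eq_one.mp h) hK1
    · obtain ⟨a, ha⟩ := (Subgroup.ne_bot_iff_exists_ne_one).mp hK1
      have hx1 : (a : SL2 F) ≠ 1 := fun h => ha (Subtype.ext h)
      have hxc : (a : SL2 F) ∉ Subgroup.center (SL2 F) :=
        fun h => hx1 (center_eq_one_of_char_two h2 _ h)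
      refine Or.inl (torus_type p K hZK (a : SL2 F) hxc (tame_not_dvd p K htame _ a.2) ?_)
      intro k hk
      exact to_stab_comm h2 J _ _
        (MulAction.mem_stabilizer_iff.mp (hJ (K.mul_mem (K.mul_mem hk a.2) (K.inv_mem hk))))
        (MulAction.mem_stabilizer_iff.mp (hJ a.2))

/-- The case of an involution with centralizer of order `2`: an element of odd prime order whose
conjugates commute with it. -/
theorem torus_of_self_centralizing (h2 : (2 : F) = 0) (p : ℕ) [Fact p.Prime] [CharP F p]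
    (K : Subgroup (SL2 F)) (hu1 : upSL 1 ∈ K)
    (hC : ∀ g ∈ K, g 1 0 = 0 → g = 1 ∨ g = upSL 1) (hN : ∃ g ∈ K, g 1 0 ≠ 0) :
    ∃ x : SL2 F, x ∉ Subgroup.center (SL2 F) ∧ ¬ p ∣ orderOf x ∧
      ∀ k ∈ K, (k * x * k⁻¹) * x = x * (k * x * k⁻¹) := by
  obtain ⟨g₀, hg₀, hg₀10⟩ := hN
  have hpp := (Fact.out : p.Prime)
  have hp2 : p = 2 := by
    have h3 : ((2 : ℕ) : F) = 0 := by exact_mod_cast h2
    have h4 := (CharP.cast_eq_zero_iff F p 2).mp h3
    exact (Nat.prime_dvd_prime_iff_eq hpp Nat.prime_two).mp h4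
  have hu_ne : (upSL 1 : SL2 F) ≠ 1 := by
    intro h
    rw [← upSL_zero] at h
    exact one_ne_zero (upSL_injective h)
  have hu_sq : (upSL 1 : SL2 F) * upSL 1 = 1 := by
    rw [upSL_add, ← upSL_zero]
    congr 1
    linear_combination h2
  obtain ⟨u, hu⟩ : ∃ u : K, u = ⟨upSL 1, hu1⟩ := ⟨_, rfl⟩
  have hu' : (u : SL2 F) = upSL 1 := by rw [hu]
  have hu1' : u ≠ 1 := by
    intro h
    apply hu_ne
    rw [← hu', h]; rfl
  have hu2' : u * u = 1 := by
    apply Subtype.ext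
    rw [Subgroup.coe_mul, hu', Subgroup.coe_one]; exact hu_sq
  have hCu : ∀ g : K, g * u = u * g → g = 1 ∨ g = u := by
    intro g hg
    have hg' : (g : SL2 F) * upSL 1 = upSL 1 * (g : SL2 F) := by
      have h3 := congrArg Subtype.val hg
      rwa [Subgroup.coe_mul, Subgroup.coe_mul, hu'] at h3
    have h10 := (borel_of_conj _ 1 1 one_ne_zero hg').1
    rcases hC _ g.2 h10 with h | h
    · left; exact Subtype.ext h
    · right
      apply Subtype.ext
      rw [h, hu']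
  obtain ⟨A, hAn, hAc, hAu, hAinv⟩ :=
    exists_abelian_of_self_centralizing_involution u hu1' hu2' hCu
  obtain ⟨a, haA, ha10⟩ : ∃ a : K, a ∈ A ∧ (a : SL2 F) 1 0 ≠ 0 := by
    rcases hAu ⟨g₀, hg₀⟩ with h | h
    · exact ⟨_, h, hg₀10⟩
    · refine ⟨_, h, ?_⟩
      rw [Subgroup.coe_mul, hu', sl2_mul_apply, upSL_10, upSL_11, zero_mul, zero_add, one_mul]
      exact hg₀10
  have ha1 : a ≠ 1 := by
    rintro rfl
    apply ha10
    rw [Subgroup.coe_one]; exact sl2_one_10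
  have hau : a ≠ u := by
    intro h
    apply ha10
    rw [h, hu']; exact upSL_10 1
  obtain ⟨r, j, hr, hord⟩ := exists_prime_order_pow a ha1
  have hajA : a ^ j ∈ A := A.pow_mem haA j
  have hr2 : r ≠ 2 := by
    intro hr2
    rw [hr2] at hord
    have hsq : a ^ j * a ^ j = 1 := by
      have h3 := pow_orderOf_eq_one (a ^ j)
      rw [hord] at h3
      rw [← pow_two]; exact h3
    have hne1 : a ^ j ≠ 1 := by
      intro h
      rw [h, orderOf_one] at hord
      omega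
    have hinv := hAinv _ hajA
    have hinv' : (a ^ j)⁻¹ = a ^ j := inv_eq_of_mul_eq_one_right hsq
    rw [hinv'] at hinv
    have hcomm : a ^ j * u = u * a ^ j := by
      calc a ^ j * u = (u * a ^ j * u) * u := by rw [hinv]
        _ = u * a ^ j * (u * u) := by group
        _ = u * a ^ j := by rw [hu2', mul_one]
    rcases hCu _ hcomm with h | h
    · exact hne1 h
    · have huA : u ∈ A := h ▸ hajA
      rcases hCu a (hAc a haA u huA) with h' | h'
      · exact ha1 h'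
      · exact hau h'
  have hxr : orderOf ((a ^ j : K) : SL2 F) = r := by
    rw [Subgroup.orderOf_coe]; exact hord
  refine ⟨((a ^ j : K) : SL2 F), ?_, ?_, ?_⟩
  · intro h
    have h3 := center_eq_one_of_char_two h2 _ h
    rw [h3, orderOf_one] at hxr
    exact hr.one_lt.ne hxr
  · rw [hxr, hp2]
    intro h
    exact hr2 ((Nat.prime_dvd_prime_iff_eq Nat.prime_two hr).mp h).symm
  · intro k hk
    have hconjA : (⟨k, hk⟩ : K) * a ^ j * (⟨k, hk⟩ : K)⁻¹ ∈ A := hAn.conj_mem _ hajA _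
    have h3 := hAc _ hconjA _ hajA
    have h4' := congrArg Subtype.val h3
    simpa using h4'

/-- **Wild subgroups, characteristic `2`.** -/
theorem dk_wild_even (p : ℕ) [Fact p.Prime] [CharP F p] (h2 : (2 : F) = 0)
    (K : Subgroup (SL2 F)) (hw : ∃ g ∈ K, g ≠ 1 ∧ g 0 0 + g 1 1 = 2) :
    DkConcl F p (K.map (QuotientGroup.mk' (Subgroup.center (SL2 F)))) := by
  obtain ⟨c, hu1, hB⟩ := exists_conj_normal_even h2 K hw
  apply dk_of_conj p c K
  obtain ⟨H, hH⟩ : ∃ H : Subgroup (SL2 F), H = conjSub c K := ⟨_, rfl⟩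
  rw [← hH] at hu1 hB ⊢
  have hZH := center_le_of_char_two h2 H
  rcases wild_even_normalized' p h2 H hB 1 one_ne_zero hu1 with h | h | ⟨hA4, hAq, hd, hcard⟩
  · exact dk_of_upper p H h
  · by_cases hall : ∀ g ∈ H, g 1 0 = 0
    · exact dk_of_upper p H hall
    · push Not at hall
      obtain ⟨x, hxc, hxp, hcomm⟩ := torus_of_self_centralizing h2 p H hu1 h hall
      exact Or.inl (torus_type p H hZH x hxc hxp hcomm)
  · have hdq := card_TH_dvd H
    obtain ⟨K₀, _, _, m, φ, hK₀, hm⟩ := exists_subfield_data p _ (by omega) hAq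
      (by rw [← hd]; exact hdq)
    have heq := eq_range_of_normalized φ h2 H hB (by rw [hK₀]; exact hd) hu1 hK₀.symm
      (by rw [hK₀]; exact hcard) (by rw [hK₀]; omega)
    rw [heq]
    obtain ⟨e⟩ := psl_range_equiv φ
    exact Or.inr (Or.inr (Or.inr (Or.inr (Or.inr
      ⟨K₀, inferInstance, inferInstance, m, hm, Or.inl ⟨e⟩⟩))))

/-- **Dickson's theorem, characteristic `2`.** -/
theorem dickson_even (p : ℕ) [Fact p.Prime] [CharP F p] (h2 : (2 : F) = 0)
    (K : Subgroup (SL2 F)) :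
    DkConcl F p (K.map (QuotientGroup.mk' (Subgroup.center (SL2 F)))) := by
  by_cases hw : ∃ g ∈ K, g ≠ 1 ∧ g 0 0 + g 1 1 = 2
  · exact dk_wild_even p h2 K hw
  · push Not at hw
    apply dk_tame_even p h2 K
    intro g hg htr
    by_contra h1
    exact hw g hg h1 htr

/-- **Dickson's theorem.** -/
theorem dickson_iso (p : ℕ) [Fact p.Prime] [CharP F p] (K : Subgroup (SL2 F))
    (hZK : Subgroup.center (SL2 F) ≤ K) :
    DkConcl F p (K.map (QuotientGroup.mk' (Subgroup.center (SL2 F)))) := by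
  by_cases h2 : (2 : F) = 0
  · exact dickson_even p h2 K
  · exact dickson_odd p h2 K hZK

end Even

end Cfsg.Agent.Lib.helper98
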