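import Cfsg.Agent.Lib.helper95.APDefs

/-!
# S2276 piece PRIM

A permutation group on `Fin (p ^ e)` containing the rotation and a permutation which does not
respect congruence modulo `p` on two points congruent modulo `p ^ (e - 1)` is primitive.
-/

set_option autoImplicit false

namespace Cfsg.Agent.Lib.helper95.AP

open Equiv
open scoped Pointwise

theorem helper98_rot_pow (n k : ℕ) (i : Fin n) :
    ((((finRotate n) ^ k) i : Fin n) : ℕ) = ((i : ℕ) + k) % n := by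
  induction k with
  | zero => simp [Nat.mod_eq_of_lt i.isLt]
  | succ k ih =>
    rw [pow_succ', Perm.mul_apply]
    cases n with
    | zero => exact i.elim0
    | succ n =>
      rw [finRotate_succ_apply, Fin.val_add, ih, Fin.val_one', Nat.add_mod_mod, Nat.mod_add_mod]
      rfl

theorem helper98_rot_pow_congr (n m m' : ℕ) (h : m % n = m' % n) :
    (finRotate n) ^ m = (finRotate n) ^ m' := by
  ext z
  rw [helper98_rot_pow, helper98_rot_pow, Nat.add_mod, h, ← Nat.add_mod]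

theorem helper98_prim_aux (n p q : ℕ) (hpn : p ∣ n) (hqn : q ∣ n)
    (hF1 : ∀ k : ℕ, ¬ p ∣ k → ∃ m : ℕ, k * m % n = 1 % n)
    (hF2 : ∀ k : ℕ, ¬ n ∣ k → ∃ m : ℕ, k * m % n = q % n)
    (H : Subgroup (Perm (Fin n))) (ha : finRotate n ∈ H) (b : Perm (Fin n)) (hb : b ∈ H)
    (x y : Fin n) (hxy : ((q : ℕ) : ℤ) ∣ ((x : ℕ) : ℤ) - ((y : ℕ) : ℤ))
    (hbxy : ¬ (p : ℤ) ∣ (((b x : Fin n) : ℕ) : ℤ) - (((b y : Fin n) : ℕ) : ℤ)) :
    MulAction.IsPreprimitive ↥H (Fin n) := by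
  classical
  set A : ↥H := ⟨finRotate n, ha⟩ with hA
  have hAk : ∀ (k : ℕ) (z : Fin n), ((A ^ k • z : Fin n) : ℕ) = ((z : ℕ) + k) % n := by
    intro k z
    exact helper98_rot_pow n k z
  have hexp : ∀ m m' : ℕ, m % n = m' % n → A ^ m = A ^ m' := by
    intro m m' h
    apply Subtype.ext
    simpa using helper98_rot_pow_congr n m m' h
  have htrans : ∀ s t : Fin n, A ^ ((t : ℕ) + (n - (s : ℕ))) • s = t := by
    intro s t
    apply Fin.ext
    rw [hAk]
    have hs := s.isLt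
    have ht := t.isLt
    have : (s : ℕ) + ((t : ℕ) + (n - (s : ℕ))) = (t : ℕ) + n := by omega
    rw [this, Nat.add_mod_right, Nat.mod_eq_of_lt ht]
  have hpowfix : ∀ (g : ↥H) (D : Set (Fin n)), g • D = D → ∀ u : ℕ, g ^ u • D = D := by
    intro g D hg u
    induction u with
    | zero => simp
    | succ u ih => rw [pow_succ, mul_smul, hg, ih]
  have hB : ∀ (D : Set (Fin n)), D.Nonempty → D ≠ Set.univ → ∀ k : ℕ, A ^ k • D = D → p ∣ k := by
    intro D hne hD k hk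
    by_contra hpk
    obtain ⟨m, hm⟩ := hF1 k hpk
    have h1 : A • D = D := by
      have := hpowfix (A ^ k) D hk m
      rw [← pow_mul, hexp (k * m) 1 hm, pow_one] at this
      exact this
    apply hD
    obtain ⟨s, hs⟩ := hne
    rw [Set.eq_univ_iff_forall]
    intro t
    have h2 := hpowfix A D h1 ((t : ℕ) + (n - (s : ℕ)))
    have h3 : A ^ ((t : ℕ) + (n - (s : ℕ))) • s ∈ A ^ ((t : ℕ) + (n - (s : ℕ))) • D :=
      Set.smul_mem_smul_set hs
    rw [h2, htrans s t] at h3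
    exact h3
  have hC : ∀ (D : Set (Fin n)) (k : ℕ), ¬ n ∣ k → A ^ k • D = D → A ^ q • D = D := by
    intro D k hnk hk
    obtain ⟨m, hm⟩ := hF2 k hnk
    have := hpowfix (A ^ k) D hk m
    rw [← pow_mul, hexp (k * m) q hm] at this
    exact this
  have : MulAction.IsPretransitive ↥H (Fin n) := ⟨fun s t => ⟨_, htrans s t⟩⟩
  refine ⟨?_⟩
  intro C hCb
  by_contra hcon
  rw [MulAction.IsTrivialBlock, not_or] at hcon
  obtain ⟨hns, hnu⟩ := hcon
  rw [Set.not_subsingleton_iff] at hns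
  obtain ⟨u, hu, v, hv, huv⟩ := hns
  -- step 1
  have h1 : A ^ ((v : ℕ) + (n - (u : ℕ))) • C = C := by
    apply hCb.smul_eq_of_mem hu
    rw [htrans u v]; exact hv
  have h2 : ¬ n ∣ ((v : ℕ) + (n - (u : ℕ))) := by
    intro hdvd
    apply huv
    have h3 := htrans u v
    rw [hexp _ 0 (by rw [Nat.zero_mod]; exact Nat.mod_eq_zero_of_dvd hdvd), pow_zero,
      one_smul] at h3
    exact h3
  have h3 : A ^ q • C = C := hC C _ h2 h1
  -- C₁
  set j := (x : ℕ) + (n - (u : ℕ)) with hj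
  have hx1 : x ∈ A ^ j • C := by
    have h4 : A ^ j • u ∈ A ^ j • C := Set.smul_mem_smul_set hu
    rw [hj, htrans u x] at h4
    exact h4
  have hq1 : A ^ q • (A ^ j • C) = A ^ j • C := by
    rw [smul_smul, ← pow_add, add_comm, pow_add, mul_smul, h3]
  -- y ∈ C₁
  have hqd : q ∣ (y : ℕ) + (n - (x : ℕ)) := by
    have hx := x.isLt
    rw [← Int.natCast_dvd_natCast]
    rw [Nat.cast_add, Nat.cast_sub hx.le]
    have hqn' : (q : ℤ) ∣ (n : ℤ) := Int.natCast_dvd_natCast.mpr hqn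
    have : ((y : ℕ) : ℤ) + ((n : ℤ) - ((x : ℕ) : ℤ))
        = (n : ℤ) - (((x : ℕ) : ℤ) - ((y : ℕ) : ℤ)) := by ring
    rw [this]
    exact dvd_sub hqn' hxy
  obtain ⟨j', hj'⟩ := hqd
  have hy1 : y ∈ A ^ j • C := by
    have h4 := hpowfix (A ^ q) (A ^ j • C) hq1 j'
    rw [← pow_mul, ← hj'] at h4
    have h5 : A ^ ((y : ℕ) + (n - (x : ℕ))) • x
        ∈ A ^ ((y : ℕ) + (n - (x : ℕ))) • (A ^ j • C) := Set.smul_mem_smul_set hx1
    rw [h4, htrans x y] at h5
    exact h5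
  -- C₂
  set Bb : ↥H := ⟨b, hb⟩ with hBb
  have hblock2 : MulAction.IsBlock ↥H (Bb • (A ^ j • C)) :=
    (hCb.translate (A ^ j)).translate Bb
  have hbx : b x ∈ Bb • (A ^ j • C) := Set.smul_mem_smul_set (a := Bb) hx1
  have hby : b y ∈ Bb • (A ^ j • C) := Set.smul_mem_smul_set (a := Bb) hy1
  have hne2 : (Bb • (A ^ j • C)).Nonempty := ⟨_, hbx⟩
  have hnu2 : Bb • (A ^ j • C) ≠ Set.univ := by
    intro h
    apply hnu
    have : C = (Bb * A ^ j)⁻¹ • (Set.univ : Set (Fin n)) := by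
      rw [← h, smul_smul Bb (A ^ j) C, inv_smul_smul]
    rw [this, Set.smul_set_univ]
  have h5 : A ^ (((b y : Fin n) : ℕ) + (n - ((b x : Fin n) : ℕ))) • (Bb • (A ^ j • C))
      = Bb • (A ^ j • C) := by
    apply hblock2.smul_eq_of_mem hbx
    rw [htrans (b x) (b y)]; exact hby
  have h6 := hB _ hne2 hnu2 _ h5
  apply hbxy
  have hbxlt := (b x).isLt
  have h7 : (p : ℤ) ∣ (((((b y : Fin n) : ℕ) + (n - ((b x : Fin n) : ℕ)) : ℕ)) : ℤ) :=
    Int.natCast_dvd_natCast.mpr h6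
  rw [Nat.cast_add, Nat.cast_sub hbxlt.le] at h7
  have hpn' : (p : ℤ) ∣ (n : ℤ) := Int.natCast_dvd_natCast.mpr hpn
  have : (((b x : Fin n) : ℕ) : ℤ) - (((b y : Fin n) : ℕ) : ℤ)
      = (n : ℤ) - ((((b y : Fin n) : ℕ) : ℤ) + ((n : ℤ) - (((b x : Fin n) : ℕ) : ℤ))) := by
    ring
  rw [this]
  exact dvd_sub hpn' h7

/-- [PRIM] a group containing the rotation of `Fin (p^e)` and a permutation `b` that does not
respect congruence modulo `p` on two points congruent modulo `p^(e-1)` is primitive -/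
theorem prim (p : ℕ) (hp : p.Prime) (e : ℕ) (he : 1 ≤ e) (H : Subgroup (Perm (Fin (p ^ e))))
    (ha : finRotate (p ^ e) ∈ H) (b : Perm (Fin (p ^ e))) (hb : b ∈ H)
    (x y : Fin (p ^ e)) (hxy : ((p ^ (e - 1) : ℕ) : ℤ) ∣ ((x : ℕ) : ℤ) - ((y : ℕ) : ℤ))
    (hbxy : ¬ (p : ℤ) ∣ (((b x : Fin (p ^ e)) : ℕ) : ℤ) - (((b y : Fin (p ^ e)) : ℕ) : ℤ)) :
    MulAction.IsPreprimitive ↥H (Fin (p ^ e)) := by
  have hp1 : 1 < p ^ e := Nat.one_lt_pow (by omega) hp.one_lt
  refine helper98_prim_aux (p ^ e) p (p ^ (e - 1)) (dvd_pow_self p (by omega))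
    (pow_dvd_pow p (by omega)) ?_ ?_ H ha b hb x y hxy hbxy
  · intro k hk
    have hcop : Nat.Coprime k (p ^ e) :=
      (((Nat.Prime.coprime_iff_not_dvd hp).mpr hk).pow_left e).symm
    obtain ⟨m, -, hm⟩ := Nat.exists_mul_mod_eq_one_of_coprime hcop hp1
    exact ⟨m, by rw [hm, Nat.mod_eq_of_lt hp1]⟩
  · intro k hk
    have hg : Nat.gcd k (p ^ e) ∣ p ^ e := Nat.gcd_dvd_right _ _
    obtain ⟨i, hi, hgi⟩ := (Nat.dvd_prime_pow hp).mp hg
    have hie : i ≠ e := by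
      rintro rfl
      apply hk
      rw [← hgi]; exact Nat.gcd_dvd_left _ _
    have hlt : Nat.gcd k (p ^ e) < p ^ e := by
      rw [hgi]; exact Nat.pow_lt_pow_right hp.one_lt (by omega)
    obtain ⟨m, -, hm⟩ := Nat.exists_mul_mod_eq_gcd hlt
    refine ⟨m * p ^ (e - 1 - i), ?_⟩
    have : k * (m * p ^ (e - 1 - i)) = (k * m) * p ^ (e - 1 - i) := by ring
    rw [this, Nat.mul_mod, hm, hgi, Nat.mul_mod_mod, ← pow_add]
    congr 2
    omega

end Cfsg.Agent.Lib.helper95.AP
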