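import Mathlib
import Cfsg.Agent.Lib.helper24.SffDefs
import Cfsg.Agent.Lib.helper63.Elusive1
import Cfsg.Agent.Lib.helper71.SffDG
import Cfsg.Agent.Lib.helper15.SffBC
import Cfsg.Agent.Lib.helper15.SffPAIR

/-!
# S5965 piece B (helper98): `sff_suff_two` (assembly for `k = 2`, `n = r ∈ {3, 5}`)
-/

set_option autoImplicit false

namespace Cfsg.Agent.Lib.helper24

open Module Matrix Polynomial

/-- Parity: a family of `r` residues (`r` an odd prime) which is symmetric about `b` takes the
value `b`. -/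
theorem h98_exists_center {r : ℕ} [Fact r.Prime] (hr2 : r ≠ 2) (a : Fin r → ZMod r) (b : ZMod r)
    (hb : ∀ c : ZMod r, (Finset.univ.filter (fun j => a j = b + c)).card =
      (Finset.univ.filter (fun j => a j = b - c)).card) : ∃ j₀, a j₀ = b := by
  have hr : r.Prime := Fact.out
  by_contra hne
  rw [not_exists] at hne
  have h1 : (Finset.univ : Finset (Fin r)).card =
      ∑ c : ZMod r, (Finset.univ.filter (fun j => a j = b + c)).card := by
    have h := Finset.card_eq_sum_card_fiberwise (s := (Finset.univ : Finset (Fin r)))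
      (t := (Finset.univ : Finset (ZMod r))) (f := fun j => a j - b)
      (fun j _ => Finset.mem_coe.mpr (Finset.mem_univ _))
    rw [h]
    apply Finset.sum_congr rfl
    intro c _
    congr 1
    ext j
    simp only [Finset.mem_filter, Finset.mem_univ, true_and]
    constructor
    · intro h; rw [← h]; ring
    · intro h; rw [h]; ring
  rw [Finset.card_univ, Fintype.card_fin] at h1
  have h2 : ((r : ℕ) : ZMod 2) =
      ∑ c : ZMod r, (((Finset.univ.filter (fun j => a j = b + c)).card : ℕ) : ZMod 2) := by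
    conv_lhs => rw [h1]
    push_cast
    rfl
  have h0 : (Finset.univ.filter (fun j => a j = b + 0)).card = 0 := by
    rw [Finset.card_eq_zero, Finset.filter_eq_empty_iff]
    intro j _
    rw [add_zero]
    exact hne j
  have h3 : ∑ c ∈ (Finset.univ : Finset (ZMod r)).erase 0,
      (((Finset.univ.filter (fun j => a j = b + c)).card : ℕ) : ZMod 2) = 0 := by
    refine Finset.sum_involution (fun c _ => -c) ?_ ?_ ?_ ?_
    · intro c _
      have hcc : (Finset.univ.filter (fun j => a j = b + -c)).card =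
          (Finset.univ.filter (fun j => a j = b + c)).card := by
        rw [hb c, sub_eq_add_neg]
      rw [hcc]
      exact CharTwo.add_self_eq_zero _
    · intro c hc _ hcc
      have hc0 : c ≠ 0 := Finset.ne_of_mem_erase hc
      have h2c : (2 : ZMod r) * c = 0 := by
        have h4 : c + c = 0 := by
          nth_rewrite 1 [← hcc]
          exact neg_add_cancel c
        rw [two_mul]
        exact h4
      rcases mul_eq_zero.mp h2c with h2z | hcz
      · have h5 : ((2 : ℕ) : ZMod r) = 0 := by exact_mod_cast h2z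
        rw [ZMod.natCast_eq_zero_iff] at h5
        exact hr2 ((Nat.prime_dvd_prime_iff_eq hr Nat.prime_two).mp h5)
      · exact hc0 hcz
    · intro c hc
      rw [Finset.mem_erase] at hc ⊢
      exact ⟨neg_ne_zero.mpr hc.1, Finset.mem_univ _⟩
    · intro c _
      exact neg_neg c
  rw [← Finset.add_sum_erase _ _ (Finset.mem_univ (0 : ZMod r)), h3, h0] at h2
  simp only [Nat.cast_zero, add_zero] at h2
  rw [ZMod.natCast_eq_zero_iff] at h2
  exact hr2 ((Nat.prime_dvd_prime_iff_eq Nat.prime_two hr).mp h2).symm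

/-- B -/
theorem sff_suff_two {F : Type*} [Field F] [Fintype F] (F₀ : Subfield F) (r : ℕ) [Fact r.Prime]
    (hr : r = 3 ∨ r = 5) (hcard : Fintype.card F = (Nat.card F₀) ^ 2)
    (hv : padicValNat r (Nat.card F₀ + 1) = 1)
    (x : Matrix (Fin r) (Fin r) F) (hdet : x.det = 1) (z : F)
    (hx : x ^ r = z • (1 : Matrix (Fin r) (Fin r) F)) : SffConj F₀ x := by
  classical
  have hrp : r.Prime := Fact.out
  have hne0 : NeZero r := ⟨hrp.ne_zero⟩
  have hr2 : r ≠ 2 := by rcases hr with h | h <;> omega
  have hrodd : Odd r := hrp.odd_of_ne_two hr2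
  -- arithmetic
  have hr1 : r ∣ Nat.card F₀ + 1 := dvd_of_one_le_padicValNat (by rw [hv])
  have hq₀ : 1 ≤ Nat.card F₀ := Nat.card_pos
  have hfac : Fintype.card F - 1 = (Nat.card F₀ - 1) * (Nat.card F₀ + 1) := by
    rw [hcard]
    obtain ⟨m, hm⟩ : ∃ m, Nat.card F₀ = m + 1 := ⟨Nat.card F₀ - 1, by omega⟩
    rw [hm]
    have h1 : (m + 1) ^ 2 = m * (m + 1 + 1) + 1 := by ring
    rw [h1, Nat.add_sub_cancel, Nat.add_sub_cancel]
  have hd : r ∣ Fintype.card F - 1 := by
    rw [hfac]
    exact Dvd.dvd.mul_left hr1 _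
  have hnd2 : ¬ r ^ 2 ∣ Fintype.card F - 1 := by
    intro h
    rw [hfac] at h
    have hco : Nat.Coprime (r ^ 2) (Nat.card F₀ - 1) := by
      apply Nat.Coprime.pow_left
      rw [Nat.Prime.coprime_iff_not_dvd hrp]
      intro h1
      have h2 : r ∣ (Nat.card F₀ + 1) - (Nat.card F₀ - 1) := Nat.dvd_sub hr1 h1
      have h3 : (Nat.card F₀ + 1) - (Nat.card F₀ - 1) = 2 := by omega
      rw [h3] at h2
      have h4 := Nat.le_of_dvd (by norm_num) h2
      have h5 := hrp.two_le
      omega
    have h2 : r ^ 2 ∣ Nat.card F₀ + 1 := hco.dvd_of_dvd_mul_left h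
    have h3 := (padicValNat_dvd_iff_le (p := r) (a := Nat.card F₀ + 1) (n := 2) (by omega)).mp h2
    omega
  -- `z ^ r = 1`
  have hzr : z ^ r = 1 := by
    have h1 := congrArg Matrix.det hx
    rw [Matrix.det_pow, hdet, one_pow, Matrix.det_smul, Matrix.det_one, Fintype.card_fin,
      mul_one] at h1
    exact h1.symm
  have hz0 : z ≠ 0 := by
    rintro rfl
    rw [zero_pow hrp.ne_zero] at hzr
    exact zero_ne_one hzr
  -- `z = 1`
  have hz1 : z = 1 := by
    by_contra hz1
    have hnp : ∀ d : F, d ^ r ≠ z := by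
      intro d hd'
      have hd0 : d ≠ 0 := by
        rintro rfl
        rw [zero_pow hrp.ne_zero] at hd'
        exact hz0 hd'.symm
      have h1 : d ^ (r ^ 2) = 1 := by rw [pow_two, pow_mul, hd', hzr]
      have h2 : d ^ (Fintype.card F - 1) = 1 := FiniteField.pow_card_sub_one_eq_one d hd0
      have h3 : orderOf d ∣ r ^ 2 := orderOf_dvd_of_pow_eq_one h1
      have h4 : orderOf d ∣ Fintype.card F - 1 := orderOf_dvd_of_pow_eq_one h2
      obtain ⟨i, hi, hio⟩ := (Nat.dvd_prime_pow hrp).mp h3
      have hi1 : i ≤ 1 := by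
        by_contra hi1
        have hi2 : i = 2 := by omega
        rw [hi2] at hio
        rw [hio] at h4
        exact hnd2 h4
      have h5 : d ^ r = 1 := by
        have h6 : orderOf d ∣ r := by
          rw [hio]
          have h7 := pow_dvd_pow r hi1
          rwa [pow_one] at h7
        exact orderOf_dvd_iff_pow_eq_one.mp h6
      exact hz1 (hd'.symm.trans h5)
    have hirr : Irreducible (X ^ r - C z : F[X]) := X_pow_sub_C_irreducible_of_prime hrp hnp
    obtain ⟨k, hk1, hk2⟩ :=
      Cfsg.Agent.Lib.helper63.Elusive.det_of_pow_eq r hrp.ne_zero z hirr x hx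
    rw [Fintype.card_fin] at hk1 hk2
    have hk : k = 1 := by
      have h8 : r * k = r * 1 := by rw [mul_one]; exact hk1.symm
      exact Nat.eq_of_mul_eq_mul_left hrp.pos h8
    rw [hk, pow_one, hrodd.neg_one_pow, hdet] at hk2
    apply hz1
    have h9 : (1 : F) = z := by rw [hk2]; ring
    exact h9.symm
  rw [hz1, one_smul] at hx
  -- diagonalise
  obtain ⟨K, ε, hK, hε, hxK⟩ := sff_diag_of_pow r hd x hx
  -- a primitive `r`-th root of unity
  obtain ⟨ζu, hζu⟩ : ∃ u : Fˣ, orderOf u = r := by
    apply exists_prime_orderOf_dvd_card r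
    rw [Fintype.card_units]
    exact hd
  obtain ⟨ζ, hζdef⟩ : ∃ ζ : F, ζ = (ζu : F) := ⟨_, rfl⟩
  have hord : orderOf ζ = r := by rw [hζdef, orderOf_units]; exact hζu
  have hζ0 : ζ ≠ 0 := by rw [hζdef]; exact Units.ne_zero ζu
  have hprim : IsPrimitiveRoot ζ r := by
    have h1 := IsPrimitiveRoot.orderOf ζ
    rwa [hord] at h1
  have hζr : ζ ^ r = 1 := by
    have h1 := pow_orderOf_eq_one ζ
    rwa [hord] at h1
  have hmod : ∀ m : ℕ, ζ ^ (m % r) = ζ ^ m := by
    intro m
    have h := pow_mod_orderOf ζ m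
    rwa [hord] at h
  have hEadd : ∀ c d : ZMod r, ζ ^ (c + d).val = ζ ^ c.val * ζ ^ d.val := by
    intro c d
    rw [ZMod.val_add, hmod, pow_add]
  have hEinj : ∀ c d : ZMod r, ζ ^ c.val = ζ ^ d.val → c = d := by
    intro c d h
    exact ZMod.val_injective r (hprim.pow_inj (ZMod.val_lt c) (ZMod.val_lt d) h)
  have hEsurj : ∀ e : F, e ^ r = 1 → ∃ c : ZMod r, ζ ^ c.val = e := by
    intro e he
    obtain ⟨i, _, hi⟩ := hprim.eq_pow_of_pow_eq_one he
    exact ⟨(i : ZMod r), by rw [ZMod.val_natCast, hmod, hi]⟩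
  have hEpow : ∀ c : ZMod r, (ζ ^ c.val) ^ r = 1 := by
    intro c
    rw [← pow_mul, mul_comm, pow_mul, hζr, one_pow]
  choose a ha using fun j => hEsurj (ε j) (hε j)
  -- the product of the eigenvalues is `1`
  have hprod : ∏ j, ε j = 1 := by
    have h1 := congrArg Matrix.det hxK
    rw [Matrix.det_mul, Matrix.det_mul, Matrix.det_diagonal, hdet, one_mul] at h1
    have h2 : K.det * 1 = K.det * ∏ j, ε j := by rw [mul_one]; exact h1
    exact (mul_left_cancel₀ hK h2).symm
  have hsum : ∑ j, a j = 0 := by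
    apply hEinj
    rw [ZMod.val_zero, pow_zero]
    have hgen : ∀ s : Finset (Fin r), ζ ^ (∑ j ∈ s, a j).val = ∏ j ∈ s, ε j := by
      intro s
      induction s using Finset.induction_on with
      | empty => simp
      | insert j s hj ih =>
        rw [Finset.sum_insert hj, Finset.prod_insert hj, hEadd, ih, ha]
    rw [hgen, hprod]
  obtain ⟨b, hb⟩ := sff_sym_comb r hr a hsum
  obtain ⟨j₀, hj₀⟩ := h98_exists_center hr2 a b hb
  have hσ0 : ζ ^ b.val ≠ 0 := pow_ne_zero _ hζ0
  refine sff_pair_conj F₀ x K ε hK hxK (ζ ^ b.val) hσ0 ?_ ?_ j₀ (by rw [← ha j₀, hj₀])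
  · intro j
    obtain ⟨t, ht⟩ := hr1
    rw [ht, pow_mul, div_pow, hε j, hEpow b, div_one, one_pow]
  · intro c
    by_cases hc : c ^ r = 1
    · obtain ⟨c', hc'⟩ := hEsurj c hc
      have e1 : ∀ j, ε j = ζ ^ b.val * c ↔ a j = b + c' := by
        intro j
        rw [← ha j, ← hc', ← hEadd]
        exact ⟨fun h => hEinj _ _ h, fun h => by rw [h]⟩
      have e2 : ∀ j, ε j = ζ ^ b.val * c⁻¹ ↔ a j = b - c' := by
        intro j
        rw [← ha j, ← hc']
        constructor
        · intro h
          have h2 : ζ ^ (a j + c').val = ζ ^ b.val := by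
            rw [hEadd, h, mul_assoc, inv_mul_cancel₀ (pow_ne_zero _ hζ0), mul_one]
          have h3 := hEinj _ _ h2
          rw [← h3]
          ring
        · intro h
          have h2 : ζ ^ (a j + c').val = ζ ^ b.val := by
            rw [h, sub_add_cancel]
          rw [hEadd] at h2
          rw [← h2, mul_assoc, mul_inv_cancel₀ (pow_ne_zero _ hζ0), mul_one]
      convert hb c' using 2
      · ext j
        simp only [Finset.mem_filter, Finset.mem_univ, true_and]
        exact e1 j
      · ext j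
        simp only [Finset.mem_filter, Finset.mem_univ, true_and]
        exact e2 j
    · have e1 : (Finset.univ.filter (fun j => ε j = ζ ^ b.val * c)) = ∅ := by
        rw [Finset.filter_eq_empty_iff]
        intro j _ h
        apply hc
        have h2 : c = ε j / ζ ^ b.val := by
          rw [h, mul_div_cancel_left₀ _ hσ0]
        rw [h2, div_pow, hε j, hEpow b, div_one]
      have e2 : (Finset.univ.filter (fun j => ε j = ζ ^ b.val * c⁻¹)) = ∅ := by
        rw [Finset.filter_eq_empty_iff]
        intro j _ h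
        apply hc
        have h2 : c⁻¹ = ε j / ζ ^ b.val := by
          rw [h, mul_div_cancel_left₀ _ hσ0]
        have h3 : (c⁻¹) ^ r = 1 := by rw [h2, div_pow, hε j, hEpow b, div_one]
        rw [inv_pow] at h3
        exact inv_eq_one.mp h3
      rw [e1, e2]

end Cfsg.Agent.Lib.helper24
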