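import Mathlib
import Cfsg.Agent.Lib.helper89.S60Defs

/-!
# S6000 piece NOSQ
-/

set_option autoImplicit false

namespace Cfsg.Agent.Lib.helper89.S60

open Matrix Cfsg Cfsg.Geo

/-- NOSQ (L). If x*x = z•1 with z a nonsquare then det x = z^2. x has no eigenvector (an eigenvalue c has c*c = z). v ≠ 0: v, xv
independent; u ∉ <v, xv>: v, xv, u, xu is a basis (if xu = αu + y, y ∈ <v,xv>, then (z - α²)u = αy + xy ∈ <v,xv>). In this basis x is
block diagonal with blocks [[0,z],[1,0]] of determinant -z. (Or: det(t+x) det(t-x) = (t²-z)^4 in F[t], t²-z irreducible.) -/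
theorem s60_nosq {F : Type*} [Field F] (x : Matrix (Fin 4) (Fin 4) F) (z : F) (hz : ∀ c : F, c * c ≠ z)
    (hx : x * x = z • (1 : Matrix (Fin 4) (Fin 4) F)) : x.det = z ^ 2 := by
  classical
  have hirr : Irreducible (Polynomial.X ^ 2 - Polynomial.C z : Polynomial F) :=
    (X_pow_sub_C_irreducible_iff_of_prime Nat.prime_two).mpr (fun b hb => hz b (by rw [← hb, sq]))
  have hprime : Prime (Polynomial.X ^ 2 - Polynomial.C z : Polynomial F) := hirr.prime
  have hAA : (Polynomial.C : F →+* Polynomial F).mapMatrix x * (Polynomial.C : F →+* Polynomial F).mapMatrix x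
      = Polynomial.C z • (1 : Matrix (Fin 4) (Fin 4) (Polynomial F)) := by
    rw [← map_mul, hx]
    ext i j
    by_cases h : i = j <;> simp [h]
  have hS : Matrix.scalar (Fin 4) (Polynomial.X : Polynomial F)
      = (Polynomial.X : Polynomial F) • (1 : Matrix (Fin 4) (Fin 4) (Polynomial F)) := by
    ext i j
    simp [Matrix.one_apply, Matrix.diagonal_apply]
  have hprod : x.charmatrix * ((Polynomial.X : Polynomial F) • (1 : Matrix (Fin 4) (Fin 4) (Polynomial F))
        + (Polynomial.C : F →+* Polynomial F).mapMatrix x)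
      = (Polynomial.X ^ 2 - Polynomial.C z : Polynomial F) • (1 : Matrix (Fin 4) (Fin 4) (Polynomial F)) := by
    unfold Matrix.charmatrix
    rw [hS, sub_mul, mul_add, mul_add, hAA, Matrix.smul_mul, Matrix.one_mul, Matrix.smul_mul,
      Matrix.one_mul, Matrix.mul_smul, Matrix.mul_one, sub_smul, sq, mul_smul]
    abel
  have hdvd : x.charpoly ∣ (Polynomial.X ^ 2 - Polynomial.C z : Polynomial F) ^ 4 := by
    have h := congrArg Matrix.det hprod
    rw [Matrix.det_mul, Matrix.det_smul, Matrix.det_one, mul_one, Fintype.card_fin] at h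
    exact ⟨_, h.symm⟩
  obtain ⟨i, hi, hassoc⟩ := (dvd_prime_pow hprime 4).mp hdvd
  have hmonic : (Polynomial.X ^ 2 - Polynomial.C z : Polynomial F).Monic :=
    Polynomial.monic_X_pow_sub_C z (by norm_num)
  have heq : x.charpoly = (Polynomial.X ^ 2 - Polynomial.C z : Polynomial F) ^ i :=
    Polynomial.eq_of_monic_of_associated (Matrix.charpoly_monic x) (hmonic.pow i) hassoc
  have hdeg : x.charpoly.natDegree = 4 := by
    rw [Matrix.charpoly_natDegree_eq_dim, Fintype.card_fin]
  have hi2 : i = 2 := by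
    rw [heq, hmonic.natDegree_pow, Polynomial.natDegree_X_pow_sub_C] at hdeg
    omega
  rw [Matrix.det_eq_sign_charpoly_coeff, heq, hi2, Fintype.card_fin,
    Polynomial.coeff_zero_eq_eval_zero]
  simp
  ring

end Cfsg.Agent.Lib.helper89.S60
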