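import Mathlib
import Cfsg.Agent.Lib.helper86.IvDefs
import Cfsg.Agent.Lib.helper70.FlavellC

/-! S3928 piece GEN (helper98): `G` is generated by the odd-order elements inverted by `α`. -/

set_option autoImplicit false

namespace Cfsg.Agent.Lib.helper86.IV

/-- GEN : `G` is generated by the odd-order elements inverted by `α`
(from `helper70.flv_aut_iter` with `k = 1 + Nat.card G`, `flv_iter_pow`, `flv_odd_order_pow`). -/
theorem iv_gen {G : Type*} [Group G] [Finite G] (α : MulAut G) (h : IvHyp α) :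
    Subgroup.closure (ivI α) = ⊤ := by
  have h1 := Cfsg.Agent.Lib.helper70.flv_aut_iter α h.gen (Nat.card G + 1) (by omega)
  rw [eq_top_iff, ← h1]
  apply Subgroup.closure_mono
  rintro _ ⟨c, rfl⟩
  have hinv : α (c * (α c)⁻¹) = (c * (α c)⁻¹)⁻¹ := by
    rw [map_mul, map_inv, h.invol, mul_inv_rev, inv_inv]
  obtain ⟨e1, e2⟩ := Cfsg.Agent.Lib.helper70.flv_iter_pow α _ hinv (Nat.card G)
  have e : (fun c : G => c * (α c)⁻¹)^[Nat.card G + 1] c =
      (c * (α c)⁻¹) ^ (2 ^ Nat.card G) := by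
    rw [Function.iterate_succ_apply]
    exact e1
  show (fun c : G => c * (α c)⁻¹)^[Nat.card G + 1] c ∈ ivI α
  rw [e]
  exact ⟨Cfsg.Agent.Lib.helper70.flv_odd_order_pow _, e2⟩

end Cfsg.Agent.Lib.helper86.IV
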