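import Mathlib
import Cfsg.Agent.Lib.helper24.SroReal

/-! S5988 piece PT (`sre_plus_ty`): a nondegenerate quadratic subspace with a totally singular
subspace of half its dimension has type `+1`, in every characteristic (direct count). -/

set_option autoImplicit false
set_option linter.unusedSectionVars false
set_option linter.unusedVariables false

namespace Cfsg.Agent.Lib.helper98

open Module Cfsg.Agent.Lib.helper24 Cfsg.Agent.Lib.helper45 Cfsg.Agent.Lib.helper49

universe u

section generic

variable {F : Type u} [Field F] [Fintype F]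

open Classical in
/-- The counting core: a nondegenerate quadratic form on a space of dimension `2e` with a
totally singular subspace of dimension `e`. -/
theorem sre_pt_core {W : Type u} [AddCommGroup W] [Module F W] [FiniteDimensional F W]
    (Q : QuadraticForm F W)
    (hnd : ∀ v : W, (∀ w : W, QuadraticMap.polar Q v w = 0) → v = 0)
    (U : Submodule F W) (hU0 : ∀ u ∈ U, Q u = 0) (e : ℕ) (hUdim : finrank F U = e)
    (hWdim : finrank F W = 2 * e) (c : F) :
    (Fintype.card F : ℤ) * (Nat.card {w : W // Q w = c} : ℤ)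
      = ((Fintype.card F : ℤ) ^ e) ^ 2
        + (Fintype.card F : ℤ) ^ e * ((if c = 0 then (Fintype.card F : ℤ) else 0) - 1) := by
  classical
  have : Finite W := Module.finite_of_finite F
  have : Fintype W := Fintype.ofFinite W
  obtain ⟨q, hq⟩ : ∃ q : ℕ, q = Fintype.card F := ⟨_, rfl⟩
  have hq0 : 0 < q := by rw [hq]; exact Fintype.card_pos
  have hqN : Nat.card F = q := by rw [hq, Nat.card_eq_fintype_card]
  -- the orthogonal of `U` is `U`
  obtain ⟨B, hB⟩ : ∃ B : LinearMap.BilinForm F W, B = QuadraticMap.polarBilin Q := ⟨_, rfl⟩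
  have hBa : ∀ v w, B v w = QuadraticMap.polar Q v w := by
    intro v w
    rw [hB, QuadraticMap.polarBilin_apply_apply]
  have hBnd : B.Nondegenerate := by
    refine ⟨fun v hv => hnd v (fun w => by rw [← hBa]; exact hv w), fun v hv => hnd v (fun w => ?_)⟩
    rw [QuadraticMap.polar_comm, ← hBa]
    exact hv w
  have hPdim := LinearMap.BilinForm.finrank_orthogonal hBnd U
  have hpolU : ∀ u ∈ U, ∀ u' ∈ U, QuadraticMap.polar Q u u' = 0 := by
    intro u hu u' hu'
    unfold QuadraticMap.polar
    rw [hU0 u hu, hU0 u' hu', hU0 _ (U.add_mem hu hu'), sub_zero, sub_zero]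
  have hUP : U ≤ B.orthogonal U := by
    intro u hu
    rw [LinearMap.BilinForm.mem_orthogonal_iff]
    intro n hn
    rw [hBa]
    exact hpolU n hn u hu
  have hPU : U = B.orthogonal U := Submodule.eq_of_le_of_finrank_eq hUP (by omega)
  -- cardinalities
  have hcardW : Nat.card W = q ^ (2 * e) := by
    rw [Module.natCard_eq_pow_finrank (K := F), hqN, hWdim]
  have hcardU : Nat.card U = q ^ e := by
    rw [Module.natCard_eq_pow_finrank (K := F), hqN, hUdim]
  -- the inner counts
  have hin : ∀ w : W, w ∈ U →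
      Nat.card {u : U // Q (w + (u : W)) = c} = if c = 0 then q ^ e else 0 := by
    intro w hw
    by_cases hc : c = 0
    · rw [if_pos hc, ← hcardU]
      apply Nat.card_congr
      exact Equiv.subtypeUnivEquiv (fun u => by rw [hU0 _ (U.add_mem hw u.2), hc])
    · rw [if_neg hc]
      have : IsEmpty {u : U // Q (w + (u : W)) = c} :=
        ⟨fun u => hc (by rw [← u.2, hU0 _ (U.add_mem hw u.1.2)])⟩
      exact Nat.card_of_isEmpty
  have hout : ∀ w : W, w ∉ U → q * Nat.card {u : U // Q (w + (u : W)) = c} = q ^ e := by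
    intro w hw
    obtain ⟨ℓ, hℓ⟩ : ∃ ℓ : U →ₗ[F] F, ℓ = (B w).comp U.subtype := ⟨_, rfl⟩
    have hℓa : ∀ u : U, ℓ u = QuadraticMap.polar Q w (u : W) := by
      intro u
      rw [hℓ, LinearMap.comp_apply, Submodule.subtype_apply, hBa]
    have hℓ0 : ℓ ≠ 0 := by
      intro h0
      apply hw
      rw [hPU, LinearMap.BilinForm.mem_orthogonal_iff]
      intro n hn
      rw [hBa, QuadraticMap.polar_comm]
      have h1 := hℓa ⟨n, hn⟩
      rw [h0, LinearMap.zero_apply] at h1
      exact h1.symm
    have h1 := card_fiber_functional ℓ hℓ0 (c - Q w)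
    rw [← hq, hcardU] at h1
    rw [← h1]
    congr 1
    apply Nat.card_congr
    apply Equiv.subtypeEquivRight
    intro u
    rw [hℓa]
    unfold QuadraticMap.polar
    rw [hU0 _ u.2, sub_zero]
    constructor
    · intro h; rw [h]
    · intro h; linear_combination h
  -- the double count
  have hdc : q ^ e * Nat.card {w : W // Q w = c}
      = ∑ w : W, Nat.card {u : U // Q (w + (u : W)) = c} := by
    rw [← hcardU, ← Nat.card_prod, ← Nat.card_sigma]
    apply Nat.card_congr
    exact
      { toFun := fun p => ⟨p.2.1 - (p.1 : W), ⟨p.1, by rw [sub_add_cancel]; exact p.2.2⟩⟩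
        invFun := fun s => (s.2.1, ⟨s.1 + (s.2.1 : W), s.2.2⟩)
        left_inv := fun p => by
          ext
          · rfl
          · simp
        right_inv := fun s => Sigma.subtype_ext (add_sub_cancel_right _ _) rfl }
  -- splitting the sum
  have hf1 : (Finset.univ.filter (fun w : W => w ∈ U)).card = q ^ e := by
    rw [← hcardU, Nat.card_eq_fintype_card, Fintype.card_subtype]
  have hf2 : (Finset.univ.filter (fun w : W => w ∈ U)).card
      + (Finset.univ.filter (fun w : W => ¬ w ∈ U)).card = q ^ (2 * e) := by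
    rw [Finset.card_filter_add_card_filter_not, Finset.card_univ, ← Nat.card_eq_fintype_card,
      hcardW]
  have hsum : q * (q ^ e * Nat.card {w : W // Q w = c})
      = q ^ e * (q * (if c = 0 then q ^ e else 0))
        + (Finset.univ.filter (fun w : W => ¬ w ∈ U)).card * q ^ e := by
    rw [hdc, Finset.mul_sum]
    have h1 : ∀ w ∈ (Finset.univ : Finset W), q * Nat.card {u : U // Q (w + (u : W)) = c}
        = if w ∈ U then q * (if c = 0 then q ^ e else 0) else q ^ e := by
      intro w _
      by_cases hw : w ∈ U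
      · rw [if_pos hw, hin w hw]
      · rw [if_neg hw, hout w hw]
    rw [Finset.sum_congr rfl h1, Finset.sum_ite, Finset.sum_const, Finset.sum_const, smul_eq_mul,
      smul_eq_mul, hf1]
  -- conclusion
  obtain ⟨n2, hn2⟩ : ∃ n2 : ℕ, n2 = (Finset.univ.filter (fun w : W => ¬ w ∈ U)).card := ⟨_, rfl⟩
  rw [← hn2] at hsum hf2
  rw [hf1] at hf2
  obtain ⟨ν, hν⟩ : ∃ ν : ℕ, ν = Nat.card {w : W // Q w = c} := ⟨_, rfl⟩
  rw [← hν] at hsum ⊢
  rw [← hq]
  have hqe : (0 : ℤ) < (q : ℤ) ^ e := by
    apply pow_pos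
    exact_mod_cast hq0
  have hsumZ : (q : ℤ) * ((q : ℤ) ^ e * (ν : ℤ))
      = (q : ℤ) ^ e * ((q : ℤ) * (if c = 0 then (q : ℤ) ^ e else 0)) + (n2 : ℤ) * (q : ℤ) ^ e := by
    have h := congrArg (Nat.cast : ℕ → ℤ) hsum
    push_cast at h
    exact h
  have hf2Z : (q : ℤ) ^ e + (n2 : ℤ) = (q : ℤ) ^ (2 * e) := by
    have h := congrArg (Nat.cast : ℕ → ℤ) hf2
    push_cast at h
    exact h
  apply mul_left_cancel₀ hqe.ne'
  by_cases hc : c = 0
  · rw [if_pos hc] at hsumZ ⊢
    have h3 : (q : ℤ) ^ (2 * e) = ((q : ℤ) ^ e) ^ 2 := by ring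
    rw [h3] at hf2Z
    linear_combination hsumZ + (q : ℤ) ^ e * hf2Z
  · rw [if_neg hc] at hsumZ ⊢
    have h3 : (q : ℤ) ^ (2 * e) = ((q : ℤ) ^ e) ^ 2 := by ring
    rw [h3] at hf2Z
    linear_combination hsumZ + (q : ℤ) ^ e * hf2Z

end generic

section final

variable {F : Type u} [Field F] [Fintype F]

/-- A nondegenerate subspace with a totally singular subspace of half its dimension has type
`+1`, in every characteristic. -/
theorem sre_plus_ty {V : Type u} [AddCommGroup V] [Module F V] [FiniteDimensional F V]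
    (Q : QuadraticForm F V) (W : Submodule F V)
    (hW : SpNd (QuadraticMap.polarBilin Q) W) (hpl : SrPlus Q W) : SrTy Q W 1 := by
  obtain ⟨U, hUW, hU0, hUdim⟩ := hpl
  obtain ⟨e, he⟩ : ∃ e, e = finrank F U := ⟨_, rfl⟩
  have hU'dim : finrank F (U.comap W.subtype) = e := by
    rw [he]
    exact (Submodule.comapSubtypeEquivOfLe hUW).finrank_eq
  have hWdim : finrank F W = 2 * e := by omega
  have h2 : finrank F W / 2 = e := by omega
  unfold SrTy Unif
  intro c
  rw [h2, one_mul]
  unfold srNu
  exact sre_pt_core (Q.comp W.subtype) (sr_restr_nd Q W hW) (U.comap W.subtype)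
    (fun u hu => hU0 _ hu) e hU'dim hWdim c

end final

end Cfsg.Agent.Lib.helper98
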