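import Mathlib
import Cfsg.Agent.Lib.helper26.S4409Defs
import Cfsg.Agent.Lib.helper38.HallHigman
import Cfsg.Agent.Lib.helper29.PSolv

/-! S4409 piece CQ (helper98): in a finite solvable group with `O_{2'} = 1`, the centralizer of
`O_2` lies in `O_2` (Hall–Higman 1.2.3, from helper38). -/

set_option autoImplicit false

namespace Cfsg.Agent.Lib.helper26.S4409

theorem cq {S : Type*} [Group S] [Finite S] [Group.IsSolvable S] (hO : Cfsg.pPrimeCore 2 S = ⊥) :
    Subgroup.centralizer (Cfsg.pCore 2 S : Set S) ≤ Cfsg.pCore 2 S := by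
  have : Fact (Nat.Prime 2) := ⟨Nat.prime_two⟩
  exact Cfsg.Agent.Lib.helper38.centralizer_pCore_le_of_isPSolvable
    (Cfsg.Agent.Lib.helper29.isPSolvable_of_isSolvable 2 inferInstance) hO

end Cfsg.Agent.Lib.helper26.S4409
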