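import Cfsg.Agent.Lib.helper89.GfHDefs

/-! S4395 piece EXB, sub-split leaf XB2 (helper98): the cyclic part of the Heisenberg-type cover. -/

set_option autoImplicit false

namespace Cfsg.Agent.Lib.helper3.Gf

universe u

/-- powers of `h89y D` -/
theorem helper98_h89y_pow {L : Type u} [CommRing L] {n : ℕ} (D : H89Data L n) (m : ℕ) :
    (h89y D ^ m).x = 0 ∧ (h89y D ^ m).z = 0 ∧ (h89y D ^ m).k = (m : ZMod n) := by
  induction m with
  | zero => simp
  | succ m ih =>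
    obtain ⟨h1, h2, h3⟩ := ih
    rw [pow_succ]
    refine ⟨?_, ?_, ?_⟩
    · rw [H89G.mul_x, h1, h89y_x, mul_zero, add_zero]
    · rw [H89G.mul_z, h1, h2, h89y_z, zero_mul, add_zero, add_zero]
    · rw [H89G.mul_k, h3, h89y_k, Nat.cast_succ]

/-- XB2 : the cyclic part.  `h89y D ^ m = (0, 0, m)`. -/
theorem exb_cyc (q r : ℕ) (hq : 0 < q) {L : Type u} [CommRing L] (D : H89Data L (q ^ r))
    (heq : D.e (q : ZMod (q ^ r)) = 1) :
    h89P D ⊔ Subgroup.zpowers (h89y D) = ⊤ ∧ (∀ k : ℕ, h89y D ^ k ∈ h89P D → q ^ r ∣ k) ∧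
    h89y D ^ (q ^ r) ∈ h89P D ∧
    (∀ u ∈ h89P D, h89y D ^ q * u * (h89y D ^ q)⁻¹ * u⁻¹ ∈ h89N D) := by
  have : NeZero (q ^ r) := ⟨pow_ne_zero _ hq.ne'⟩
  refine ⟨?_, ?_, ?_, ?_⟩
  · rw [eq_top_iff]
    intro a _
    obtain ⟨h1, h2, h3⟩ := helper98_h89y_pow D a.k.val
    have hdec : a = (⟨a.x, a.z, 0, a.hz⟩ : H89G D) * h89y D ^ a.k.val := by
      ext
      · rw [H89G.mul_x, h1, mul_zero, add_zero]
      · rw [H89G.mul_z, h1, h2, mul_zero, map_zero, mul_zero, add_zero, add_zero]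
      · rw [H89G.mul_k, h3, ZMod.natCast_zmod_val, zero_add]
    rw [hdec]
    exact Subgroup.mul_mem_sup (show (⟨a.x, a.z, 0, a.hz⟩ : H89G D) ∈ h89P D from rfl)
      (Subgroup.pow_mem _ (Subgroup.mem_zpowers _) _)
  · intro k hk
    obtain ⟨-, -, h3⟩ := helper98_h89y_pow D k
    have hk' : (h89y D ^ k).k = 0 := hk
    rw [h3] at hk'
    exact (ZMod.natCast_eq_zero_iff k _).mp hk'
  · obtain ⟨-, -, h3⟩ := helper98_h89y_pow D (q ^ r)
    show (h89y D ^ (q ^ r)).k = 0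
    rw [h3]
    exact ZMod.natCast_self _
  · intro u hu
    have hu' : u.k = 0 := hu
    obtain ⟨h1, h2, h3⟩ := helper98_h89y_pow D q
    refine ⟨?_, ?_⟩
    · simp only [H89G.mul_x, H89G.mul_k, H89G.inv_x, H89G.inv_k, h1, h3, hu', heq, add_zero,
        mul_zero, neg_zero, zero_add, add_neg_cancel, D.e_zero, one_mul]
    · simp only [H89G.mul_k, H89G.inv_k, h3, hu', add_zero, neg_zero, add_neg_cancel]

end Cfsg.Agent.Lib.helper3.Gf
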