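import Mathlib
import Cfsg.Agent.Lib.helper98.BGT3Aux

/-!
# S1430 (O-c), PIECE K5 (helper98)

`t3_kill5`: in the singular `τ₃` context, if some `P ≤ E` of order `p ∈ τ₁(M)` does not centralize
`R`, then no prime divisor of `|C_{M_σ}(R)|` lies in `α(M)`.
-/

set_option autoImplicit false

namespace Cfsg.Agent.Lib.helper98.BGT3

open Cfsg Cfsg.Agent.Lib.helper8.BGT3

variable {G : Type*} [Group G]

/-- a group with a cyclic Sylow `t`-subgroup has `t`-rank at most one -/
theorem k45_prankLE_one_of_sylow_cyclic {X : Type*} [Group X] [Finite X] {t : ℕ}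
    [Fact t.Prime] (T : Sylow t X) (hT : IsCyclic (T : Subgroup X)) : PRankLE t 1 X := by
  have htp : t.Prime := Fact.out
  intro A _ hA
  have hApg : IsPGroup t A := by
    intro g
    refine ⟨1, ?_⟩
    rw [pow_one]
    apply Subtype.ext
    simpa using hA g g.2
  obtain ⟨P, hAP⟩ := hApg.exists_le_sylow
  obtain ⟨g, hg⟩ := MulAction.exists_smul_eq X T P
  have hPc : IsCyclic (P : Subgroup X) := by
    rw [← hg]
    exact (Sylow.equivSMul T g).isCyclic.mp hT
  have hAc : IsCyclic A :=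
    (Subgroup.subgroupOfEquivOfLe hAP).isCyclic.mp inferInstance
  obtain ⟨a, ha⟩ := hAc.exists_generator
  have h1 : Nat.card A = orderOf a := (orderOf_eq_card_of_forall_mem_zpowers ha).symm
  have h2 : orderOf a ∣ t := by
    apply orderOf_dvd_of_pow_eq_one
    apply Subtype.ext
    simpa using hA a a.2
  rw [h1, pow_one]
  exact Nat.le_of_dvd htp.pos h2

/-- PIECE K5. -/
theorem t3_kill5 [Finite G] (hG : IsMinSimpleOddOrder G) (hAS : ASHyp G) (hN : HNorm G)
    (hH : HH G) (hX : HCross G) (hHf : HHalf G) (hZ : ZHyp G) : HKill5 G := by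
  intro M E R r hs p P hp hPE hPc hPR t ht htd htα
  obtain ⟨hctx, hC⟩ := id hs
  obtain ⟨hM, hE, hr3, hRE, hRc⟩ := id hctx
  have hrp : r.Prime := hr3.1
  have hpp : p.Prime := hp.1
  have : Fact t.Prime := ⟨ht⟩
  obtain ⟨hodd, hsimple, hna, hsolv⟩ := id hG
  have hU := Cfsg.Agent.Lib.helper13.bgx_uniq hG
  have hF := Cfsg.Agent.Lib.helper13.bgx_fus hG
  have hEM : E ≤ M := hE.1
  have hMsM : sigmaCore M ≤ M := hE.2.1
  have hRM : R ≤ M := hRE.trans hEM
  obtain ⟨H, hHco, hNH⟩ := Cfsg.Agent.Lib.helper70.asym_exists_coatom hG hM hrp hRc hRM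
  obtain ⟨hnc, hMsH⟩ := hH M E R r hctx H hHco hNH
  obtain ⟨hα1, hαβ, hfr, hcycR, hcycP⟩ := hHf M E R r hctx H hHco hNH
  obtain ⟨hEN, hRE'⟩ := hN M E R r hctx
  have hCMs : sigmaCore M ⊓ Subgroup.centralizer (R : Set G) ≤ sigmaCore M := inf_le_left
  have hCM : sigmaCore M ⊓ Subgroup.centralizer (R : Set G) ≤ M := hCMs.trans hMsM
  have hCH : sigmaCore M ⊓ Subgroup.centralizer (R : Set G) ≤ H := by
    rw [← hMsH]; exact inf_le_right
  have htβ : t ∈ beta M := hαβ t htα
  have htσ : t ∈ sigma M := Cfsg.Agent.Lib.helper8.bg_alpha_sub_sigma hG hU M hM htα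
  have hpσ : p ∉ sigma M := hp.2.1
  have hPM : P ≤ M := hPE.trans hEM
  have hPH : P ≤ H := (hPE.trans hEN).trans hNH
  have hPNR : P ≤ Subgroup.normalizer (R : Set G) := hPE.trans hEN
  have hPC : P ≤ Subgroup.normalizer
      ((sigmaCore M ⊓ Subgroup.centralizer (R : Set G) : Subgroup G) : Set G) :=
    k45_le_normalizer_C hPM hPNR
  have hcop : (Nat.card P).Coprime
      (Nat.card ↥(sigmaCore M ⊓ Subgroup.centralizer (R : Set G))) := by
    rw [hPc]
    exact Nat.Coprime.coprime_dvd_right (Subgroup.card_dvd_of_le hCMs)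
      (Cfsg.Agent.Lib.helper8.bg_sigmaCore_card_coprime M hpp hpσ).symm
  obtain ⟨S, hS⟩ := Cfsg.Agent.Lib.helper1.exists_invariant_sylow (p := t) P
    (sigmaCore M ⊓ Subgroup.centralizer (R : Set G)) hPC hcop
    (Or.inr (hsolv _ (ne_top_of_le_ne_top hM.1 hCM)))
  have hT0C : (S : Subgroup ↥(sigmaCore M ⊓ Subgroup.centralizer (R : Set G))).map
      (sigmaCore M ⊓ Subgroup.centralizer (R : Set G)).subtype ≤
      sigmaCore M ⊓ Subgroup.centralizer (R : Set G) := Subgroup.map_subtype_le _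
  have hT0p : IsPGroup t ((S : Subgroup ↥(sigmaCore M ⊓ Subgroup.centralizer (R : Set G))).map
      (sigmaCore M ⊓ Subgroup.centralizer (R : Set G)).subtype) := S.isPGroup'.map _
  have hcardT0 : Nat.card ((S : Subgroup ↥(sigmaCore M ⊓ Subgroup.centralizer (R : Set G))).map
      (sigmaCore M ⊓ Subgroup.centralizer (R : Set G)).subtype) =
      Nat.card (S : Subgroup ↥(sigmaCore M ⊓ Subgroup.centralizer (R : Set G))) :=
    Subgroup.card_map_of_injective (Subgroup.subtype_injective _)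
  have hT01 : (S : Subgroup ↥(sigmaCore M ⊓ Subgroup.centralizer (R : Set G))).map
      (sigmaCore M ⊓ Subgroup.centralizer (R : Set G)).subtype ≠ ⊥ := by
    intro h
    have h1 : t ∣ Nat.card (S : Subgroup ↥(sigmaCore M ⊓ Subgroup.centralizer (R : Set G))) :=
      S.dvd_card_of_dvd_card htd
    rw [← hcardT0, h, Subgroup.card_bot] at h1
    exact ht.one_lt.ne' (Nat.dvd_one.mp h1)
  have hle_alpha : ∀ B : Subgroup G, B ≤ M → IsPGroup t B → B ≤ alphaCore M := by
    intro B hBM hBp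
    unfold alphaCore
    exact Cfsg.Agent.Lib.helper71.BGA.le_map_of_isPGroup (piCore (alpha M) ↥M)
      ((Cfsg.Agent.Lib.helper8.bg_alpha_core_main hG hU hF M hM).1 t htα) hBM hBp
  have hT0α : (S : Subgroup ↥(sigmaCore M ⊓ Subgroup.centralizer (R : Set G))).map
      (sigmaCore M ⊓ Subgroup.centralizer (R : Set G)).subtype ≤ alphaCore M :=
    hle_alpha _ (hT0C.trans hCM) hT0p
  have hT0cyc : IsCyclic ↥((S : Subgroup ↥(sigmaCore M ⊓ Subgroup.centralizer (R : Set G))).map
      (sigmaCore M ⊓ Subgroup.centralizer (R : Set G)).subtype) :=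
    hcycR t _ ht hT0p (le_inf hT0α (hT0C.trans inf_le_right))
  by_cases hcase : (S : Subgroup ↥(sigmaCore M ⊓ Subgroup.centralizer (R : Set G))).map
      (sigmaCore M ⊓ Subgroup.centralizer (R : Set G)).subtype ⊓
      Subgroup.centralizer (P : Set G) = ⊥
  · -- `C_{T0}(P) = 1`: the asymmetry lemma
    have hpH : p ∈ tau1 H := by
      by_contra hnot
      have h1 := hX M E R r hctx H hHco hNH P hPE (hPc ▸ hpp) (Or.inl (hPc ▸ hnot))
      apply hT01
      rw [eq_bot_iff, ← hcase]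
      exact le_inf le_rfl (hT0C.trans h1)
    obtain ⟨Q, hQMH, hQp, hQ1, hQmax, hPQ, hQP, hNQ⟩ := k45_rside hG hctx hNH hPE hPR
    obtain ⟨t', ht'p, ht'd, X0, hX0le, hX0c⟩ :=
      Cfsg.Agent.Lib.helper70.asym_exists_prime_sub hT01
    have ht't : t' = t := Cfsg.Agent.Lib.helper70.asym_prime_of_dvd_card hT0p ht'p ht'd
    rw [ht't] at hX0c
    have hNX0 := (Cfsg.Agent.Lib.helper70.asym_beta_cent hG hM htβ
      (hX0le.trans (hT0C.trans hCM)) hX0c).2.2
    have hNT0 : Subgroup.normalizer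
        (((S : Subgroup ↥(sigmaCore M ⊓ Subgroup.centralizer (R : Set G))).map
        (sigmaCore M ⊓ Subgroup.centralizer (R : Set G)).subtype : Subgroup G) : Set G) ≤ M := by
      intro g hg
      apply hNX0
      apply k45_mem_normalizer_of_le_cyclic hX0le
      rintro _ ⟨x, hx, rfl⟩
      exact (Subgroup.mem_normalizer_iff.mp hg x).mp (hX0le hx)
    have hmax : ∀ Q₁ : Subgroup G, Q₁ ≤ M ⊓ H → IsPGroup t Q₁ →
        (S : Subgroup ↥(sigmaCore M ⊓ Subgroup.centralizer (R : Set G))).map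
          (sigmaCore M ⊓ Subgroup.centralizer (R : Set G)).subtype ≤ Q₁ →
        Q₁ = (S : Subgroup ↥(sigmaCore M ⊓ Subgroup.centralizer (R : Set G))).map
          (sigmaCore M ⊓ Subgroup.centralizer (R : Set G)).subtype := by
      intro Q₁ hQ₁ hQ₁p hle
      have hQ₁Ms : Q₁ ≤ sigmaCore M :=
        Cfsg.Agent.Lib.helper8.bg_pgroup_le_sigmaCore hG hU hF M hM htσ Q₁
          (hQ₁.trans inf_le_left) hQ₁p
      have hQ₁C : Q₁ ≤ sigmaCore M ⊓ Subgroup.centralizer (R : Set G) := by
        rw [← hMsH]; exact le_inf hQ₁Ms (hQ₁.trans inf_le_right)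
      have h1 : IsPGroup t (Q₁.subgroupOf (sigmaCore M ⊓ Subgroup.centralizer (R : Set G))) :=
        hQ₁p.comap_subtype
      have h2 : (S : Subgroup ↥(sigmaCore M ⊓ Subgroup.centralizer (R : Set G))) ≤
          Q₁.subgroupOf (sigmaCore M ⊓ Subgroup.centralizer (R : Set G)) := by
        intro x hx
        rw [Subgroup.mem_subgroupOf]
        exact hle ⟨x, hx, rfl⟩
      have h3 := S.is_maximal' h1 h2
      rw [← Subgroup.map_subgroupOf_eq_of_le hQ₁C, h3]
    exact hAS M H hM hHco hnc p hp hpH P (le_inf hPM hPH) hPc r Q hrp hQMH hQp hQ1 hQmax hPQ hQP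
      hNQ t _ ht (le_inf (hT0C.trans hCM) (hT0C.trans hCH)) hT0p hT01 hmax hS hcase hNT0
  · -- `C_{T0}(P) ≠ 1`: the `p`-group lemma `Z`
    have hrα : r ∉ alpha M := by
      intro h
      apply h.2
      intro A hc he
      exact (hr3.2.2.2 A hc he).trans (Nat.pow_le_pow_right hrp.pos (by norm_num))
    have hpα : p ∉ alpha M := Cfsg.Agent.Lib.helper70.asym_tau1_not_alpha hp
    have htr : t ≠ r := fun h => hrα (h ▸ htα)
    have htp : t ≠ p := fun h => hpα (h ▸ htα)
    have hαM : alphaCore M ≤ M := Cfsg.Agent.Lib.helper71.BGA.alphaCore_le M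
    have hMα := Cfsg.Agent.Lib.helper71.BGA.le_normalizer_alphaCore M
    have hRPα : R ⊔ P ≤ Subgroup.normalizer (alphaCore M : Set G) :=
      (sup_le hRM hPM).trans hMα
    have hcardRP : Nat.card ↥(R ⊔ P) ∣ Nat.card R * Nat.card P := by
      have h := Cfsg.Agent.Lib.helper27.card_sup_dvd_mul_of_le_normalizer P R hPNR
      rw [sup_comm, mul_comm] at h
      exact h
    have hcopA : (Nat.card ↥(R ⊔ P)).Coprime (Nat.card (alphaCore M)) := by
      by_contra h
      obtain ⟨k, hk, hkd⟩ := Nat.exists_prime_and_dvd h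
      have hkα : k ∈ alpha M :=
        Cfsg.Agent.Lib.helper71.BG12.mem_alpha_of_dvd_card_alphaCore M hk
          (hkd.trans (Nat.gcd_dvd_right _ _))
      have h1 := (hkd.trans (Nat.gcd_dvd_left _ _)).trans hcardRP
      rw [hRc, hPc] at h1
      rcases (Nat.Prime.dvd_mul hk).mp h1 with h2 | h2
      · exact hrα ((Nat.prime_dvd_prime_iff_eq hk hrp).mp h2 ▸ hkα)
      · exact hpα ((Nat.prime_dvd_prime_iff_eq hk hpp).mp h2 ▸ hkα)
    have hUα : (S : Subgroup ↥(sigmaCore M ⊓ Subgroup.centralizer (R : Set G))).map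
        (sigmaCore M ⊓ Subgroup.centralizer (R : Set G)).subtype ⊓
        Subgroup.centralizer (P : Set G) ≤ alphaCore M := inf_le_left.trans hT0α
    have hUp : IsPGroup t ↥((S : Subgroup ↥(sigmaCore M ⊓ Subgroup.centralizer (R : Set G))).map
        (sigmaCore M ⊓ Subgroup.centralizer (R : Set G)).subtype ⊓
        Subgroup.centralizer (P : Set G)) := hT0p.to_le inf_le_left
    have hUA : R ⊔ P ≤ Subgroup.normalizer
        ((((S : Subgroup ↥(sigmaCore M ⊓ Subgroup.centralizer (R : Set G))).map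
        (sigmaCore M ⊓ Subgroup.centralizer (R : Set G)).subtype ⊓
        Subgroup.centralizer (P : Set G) : Subgroup G)) : Set G) := by
      refine le_trans (sup_le ?_ ?_) (Subgroup.centralizer_le_normalizer _)
      · rw [Subgroup.le_centralizer_iff]
        exact inf_le_left.trans (hT0C.trans inf_le_right)
      · rw [Subgroup.le_centralizer_iff]
        exact inf_le_right
    obtain ⟨T, hUT, hTA⟩ := Cfsg.Agent.Lib.helper1.exists_invariant_sylow_ge (p := t) (R ⊔ P)
      (alphaCore M) hRPα hcopA (Or.inr (hsolv _ (ne_top_of_le_ne_top hM.1 hαM))) _ hUα hUp hUA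
    have hT'α : (T : Subgroup ↥(alphaCore M)).map (alphaCore M).subtype ≤ alphaCore M :=
      Subgroup.map_subtype_le _
    have hT'p : IsPGroup t ((T : Subgroup ↥(alphaCore M)).map (alphaCore M).subtype) :=
      T.isPGroup'.map _
    have ht2 : t ≠ 2 := by
      intro h
      have h1 : t ∣ Nat.card G := htd.trans (Subgroup.card_subgroup_dvd_card _)
      rw [h] at h1
      exact (Nat.not_even_iff_odd.mpr hodd) (even_iff_two_dvd.mpr h1)
    have hcop3 : (Nat.card ((T : Subgroup ↥(alphaCore M)).map (alphaCore M).subtype)).Coprime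
        (Nat.card R * Nat.card P) := by
      obtain ⟨k, hk⟩ := IsPGroup.iff_card.mp hT'p
      rw [hk, hRc, hPc]
      apply Nat.Coprime.pow_left
      exact Nat.Coprime.mul_right ((Nat.coprime_primes ht hrp).mpr htr)
        ((Nat.coprime_primes ht hpp).mpr htp)
    have hne3 : (T : Subgroup ↥(alphaCore M)).map (alphaCore M).subtype ⊓
        Subgroup.centralizer (R : Set G) ⊓ Subgroup.centralizer (P : Set G) ≠ ⊥ := by
      intro h
      apply hcase
      rw [eq_bot_iff, ← h]
      exact le_inf (le_inf hUT (inf_le_left.trans (hT0C.trans inf_le_right))) inf_le_right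
    have hcyc : IsCyclic ↥((T : Subgroup ↥(alphaCore M)).map (alphaCore M).subtype) :=
      hZ t _ R P ht ht2 hT'p (hRc ▸ hrp) (hPc ▸ hpp) (le_sup_left.trans hTA)
        (le_sup_right.trans hTA) hPNR hPR hcop3
        (hcycP p P hp hPM hPc t _ ht (hT'p.to_le inf_le_left) (inf_le_inf_right _ hT'α))
        (hcycR t _ ht (hT'p.to_le inf_le_left) (inf_le_inf_right _ hT'α)) hne3
    have hTcyc : IsCyclic (T : Subgroup ↥(alphaCore M)) :=
      (Subgroup.equivMapOfInjective (T : Subgroup ↥(alphaCore M)) (alphaCore M).subtype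
        (Subgroup.subtype_injective _)).isCyclic.mpr hcyc
    have hrank := k45_prankLE_one_of_sylow_cyclic T hTcyc
    obtain ⟨B, hBM, hBe, hBcard⟩ :=
      (Cfsg.Agent.Lib.helper28.not_pRankLE_subgroup_iff t 2 M).mp htα.2
    have hBα : B ≤ alphaCore M :=
      hle_alpha B hBM (Cfsg.Agent.Lib.helper71.BG12.isPGroup_of_elemAb hBe)
    exact (Cfsg.Agent.Lib.helper28.not_pRankLE_subgroup_iff t 1 (alphaCore M)).mpr
      ⟨B, hBα, hBe, lt_of_le_of_lt (Nat.pow_le_pow_right ht.pos (by norm_num)) hBcard⟩ hrank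

end Cfsg.Agent.Lib.helper98.BGT3
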