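import Mathlib
import Cfsg.Prelude.Def_LieTypeChar
import Cfsg.Agent.Lib.helper44.LODefs

/-!
# S2363 piece ARITH (racer copy): the arithmetic core
-/

set_option autoImplicit false

namespace Cfsg.Agent.Lib.helper44.LO

open Cfsg

/-- ARITH2 (racer copy). -/
theorem h98_lo_arith {p : ℕ} (hp : p.Prime) (f : ℕ) (hf : 1 ≤ f) (c n N M e : ℕ)
    (hc : c * n = (p ^ f) ^ N * M) (hcp : ¬ p ∣ c) (hMp : ¬ p ∣ M) (hM : M < c * (p ^ f) ^ e) :
    n.factorization p = f * N ∧ n < (p ^ f) ^ (N + e) := by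
  have hc0 : c ≠ 0 := by rintro rfl; exact hcp (dvd_zero p)
  have hM0 : M ≠ 0 := by rintro rfl; exact hMp (dvd_zero p)
  have hq0 : (p ^ f) ^ N ≠ 0 := pow_ne_zero _ (pow_ne_zero _ hp.pos.ne')
  have hn0 : n ≠ 0 := by
    rintro rfl
    rw [mul_zero] at hc
    exact (mul_ne_zero hq0 hM0) hc.symm
  constructor
  · have h1 : (c * n).factorization p = n.factorization p := by
      rw [Nat.factorization_mul hc0 hn0, Finsupp.add_apply,
        Nat.factorization_eq_zero_of_not_dvd hcp, zero_add]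
    have h2 : ((p ^ f) ^ N * M).factorization p = f * N := by
      rw [Nat.factorization_mul hq0 hM0, Finsupp.add_apply,
        Nat.factorization_eq_zero_of_not_dvd hMp, add_zero, ← pow_mul,
        hp.factorization_pow, Finsupp.single_eq_same]
    rw [← h1, hc, h2]
  · have h3 : c * n < c * (p ^ f) ^ (N + e) := by
      rw [hc, pow_add]
      calc (p ^ f) ^ N * M < (p ^ f) ^ N * (c * (p ^ f) ^ e) :=
            Nat.mul_lt_mul_of_pos_left hM (Nat.pos_of_ne_zero hq0)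
        _ = c * ((p ^ f) ^ N * (p ^ f) ^ e) := by ring
    exact Nat.lt_of_mul_lt_mul_left h3

/-- ARITH (racer copy). -/
theorem h98_lo_good {p : ℕ} (hp : p.Prime) (f : ℕ) (hf : 1 ≤ f) (c n N M e : ℕ)
    (hc : c * n = (p ^ f) ^ N * M) (hcp : ¬ p ∣ c) (hMp : ¬ p ∣ M) (hM : M < c * (p ^ f) ^ e)
    (h1 : e ≤ 2 * N) (h2 : 3 * e ≤ 5 * N) : LOGood p n := by
  obtain ⟨hk, hlt⟩ := h98_lo_arith hp f hf c n N M e hc hcp hMp hM
  have hq1 : 1 ≤ p ^ f := Nat.one_le_pow _ _ hp.pos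
  constructor
  · rw [hk]
    calc n < (p ^ f) ^ (N + e) := hlt
      _ ≤ (p ^ f) ^ (3 * N) := Nat.pow_le_pow_right hq1 (by omega)
      _ = p ^ (3 * (f * N)) := by rw [← pow_mul]; congr 1; ring
  · rw [hk]
    calc n ^ 3 < ((p ^ f) ^ (N + e)) ^ 3 := Nat.pow_lt_pow_left hlt (by norm_num)
      _ = (p ^ f) ^ (3 * N + 3 * e) := by rw [← pow_mul]; congr 1; ring
      _ ≤ (p ^ f) ^ (8 * N) := Nat.pow_le_pow_right hq1 (by omega)
      _ = p ^ (8 * (f * N)) := by rw [← pow_mul]; congr 1; ring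

end Cfsg.Agent.Lib.helper44.LO
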