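import Mathlib
import Cfsg.Prelude.Def_LieTypeChar
import Cfsg.Agent.Lib.helper44.LODefs
import Cfsg.Agent.S0243

/-!
# S2363 piece PSL3: core (the ARITH statement `lo_good` as a hypothesis)
-/

set_option autoImplicit false

namespace Cfsg.Agent.Lib.helper44.LO

open Cfsg

/-- PSL3 core: `lo_psl_ge3` from the statement of `lo_good`. -/
theorem h98_lo_psl_ge3_core {F : Type} [Field F] [Fintype F] (p : ℕ) (hp : p.Prime) [CharP F p]
    (n : ℕ) (hn : 3 ≤ n)
    (hgood : ∀ (f : ℕ), 1 ≤ f → ∀ (c n N M e : ℕ), c * n = (p ^ f) ^ N * M → ¬ p ∣ c →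
      ¬ p ∣ M → M < c * (p ^ f) ^ e → e ≤ 2 * N → 3 * e ≤ 5 * N → LOGood p n) :
    LOGood p (Nat.card (Matrix.ProjectiveSpecialLinearGroup (Fin n) F)) := by
  obtain ⟨f, -, hf⟩ := FiniteField.card F p
  have hf1 : 1 ≤ (f : ℕ) := f.pos
  obtain ⟨m, rfl⟩ : ∃ m, n = m + 1 := ⟨n - 1, by omega⟩
  have hm : 2 ≤ m := by omega
  obtain ⟨q, hq⟩ : ∃ q : ℕ, q = p ^ (f : ℕ) := ⟨_, rfl⟩
  have hFq : Fintype.card F = q := by rw [hq]; exact hf
  have hpq : p ∣ q := by rw [hq]; exact dvd_pow_self p (by omega)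
  have hq2 : 2 ≤ q := by
    rw [hq]
    calc 2 ≤ p := hp.two_le
      _ = p ^ 1 := (pow_one p).symm
      _ ≤ p ^ (f : ℕ) := Nat.pow_le_pow_right hp.pos hf1
  have hqpow : ∀ j : ℕ, 1 ≤ q ^ j := fun j => Nat.one_le_pow _ _ (by omega)
  have hqpow2 : ∀ j : ℕ, 1 ≤ j → 2 ≤ q ^ j := fun j hj =>
    calc 2 ≤ q := hq2
      _ = q ^ 1 := (pow_one q).symm
      _ ≤ q ^ j := Nat.pow_le_pow_right (by omega) hj
  have hnotdvd : ∀ j : ℕ, 1 ≤ j → ¬ p ∣ q ^ j - 1 := by
    intro j hj hdvd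
    have h1 : p ∣ q ^ j := dvd_pow hpq (by omega)
    have h2 : p ∣ q ^ j - (q ^ j - 1) := Nat.dvd_sub h1 hdvd
    have h3 : q ^ j - (q ^ j - 1) = 1 := by have := hqpow j; omega
    rw [h3] at h2
    exact hp.one_lt.ne' (Nat.dvd_one.mp h2)
  have hS := Cfsg.Agent.S0243.result (F := F) hFq (m + 1) (by omega)
  -- rewrite the product
  have hprod : ∏ i : Fin (m + 1), (q ^ (m + 1) - q ^ (i : ℕ))
      = q ^ (∑ i ∈ Finset.range (m + 1), i)
        * ((∏ i ∈ Finset.range m, (q ^ (m + 1 - i) - 1)) * (q - 1)) := by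
    rw [Fin.prod_univ_eq_prod_range (fun i => q ^ (m + 1) - q ^ i) (m + 1)]
    have h1 : ∀ i ∈ Finset.range (m + 1), q ^ (m + 1) - q ^ i = q ^ i * (q ^ (m + 1 - i) - 1) := by
      intro i hi
      rw [Finset.mem_range] at hi
      rw [Nat.mul_sub, mul_one, ← pow_add]
      congr 2
      omega
    rw [Finset.prod_congr rfl h1, Finset.prod_mul_distrib, Finset.prod_pow_eq_pow_sum]
    congr 1
    rw [Finset.prod_range_succ]
    congr 2
    have : m + 1 - m = 1 := by omega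
    rw [this, pow_one]
  rw [hprod] at hS
  -- the sums
  have hS1 := Finset.sum_range_id_mul_two m
  have hS2 : ∑ i ∈ Finset.range (m + 1), i = (∑ i ∈ Finset.range m, i) + m :=
    Finset.sum_range_succ _ _
  have hS3 : (∑ i ∈ Finset.range m, (m + 1 - i)) + ∑ i ∈ Finset.range m, i = m * (m + 1) := by
    rw [← Finset.sum_add_distrib]
    rw [Finset.sum_congr rfl (g := fun _ => m + 1) (fun i hi => by
      rw [Finset.mem_range] at hi; omega)]
    rw [Finset.sum_const, Finset.card_range, smul_eq_mul]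
  obtain ⟨k, rfl⟩ : ∃ k, m = k + 2 := ⟨m - 2, by omega⟩
  have hS1' : (∑ i ∈ Finset.range (k + 2), i) * 2 = (k + 2) * (k + 1) := by
    rw [hS1]; rfl
  -- apply the arithmetic core
  have hc1 : 0 < Nat.gcd (k + 2 + 1) (q - 1) := Nat.gcd_pos_of_pos_right _ (by omega)
  refine hgood f hf1 (Nat.gcd (k + 2 + 1) (q - 1) * (q - 1)) _
    (∑ i ∈ Finset.range (k + 2 + 1), i)
    ((∏ i ∈ Finset.range (k + 2), (q ^ (k + 2 + 1 - i) - 1)) * (q - 1))
    (∑ i ∈ Finset.range (k + 2), (k + 2 + 1 - i)) ?_ ?_ ?_ ?_ ?_ ?_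
  · rw [← hq, mul_assoc]; exact hS
  · intro hdvd
    rcases (Nat.Prime.dvd_mul hp).mp hdvd with h | h
    · exact hnotdvd 1 le_rfl (by rw [pow_one]; exact h.trans (Nat.gcd_dvd_right _ _))
    · exact hnotdvd 1 le_rfl (by rw [pow_one]; exact h)
  · intro hdvd
    rcases (Nat.Prime.dvd_mul hp).mp hdvd with h | h
    · obtain ⟨a, ha, hpa⟩ := (Prime.dvd_finset_prod_iff hp.prime _).mp h
      rw [Finset.mem_range] at ha
      exact hnotdvd _ (by omega) hpa
    · exact hnotdvd 1 le_rfl (by rw [pow_one]; exact h)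
  · rw [← hq]
    have hlt : ∏ i ∈ Finset.range (k + 2), (q ^ (k + 2 + 1 - i) - 1)
        < ∏ i ∈ Finset.range (k + 2), q ^ (k + 2 + 1 - i) := by
      apply Finset.prod_lt_prod_of_nonempty
      · intro i hi
        rw [Finset.mem_range] at hi
        have := hqpow2 (k + 2 + 1 - i) (by omega)
        omega
      · intro i hi
        have := hqpow (k + 2 + 1 - i)
        omega
      · exact ⟨0, by simp⟩
    rw [Finset.prod_pow_eq_pow_sum] at hlt
    calc (∏ i ∈ Finset.range (k + 2), (q ^ (k + 2 + 1 - i) - 1)) * (q - 1)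
        < q ^ (∑ i ∈ Finset.range (k + 2), (k + 2 + 1 - i)) * (q - 1) :=
          Nat.mul_lt_mul_of_pos_right hlt (by omega)
      _ = 1 * (q - 1) * q ^ (∑ i ∈ Finset.range (k + 2), (k + 2 + 1 - i)) := by ring
      _ ≤ Nat.gcd (k + 2 + 1) (q - 1) * (q - 1)
            * q ^ (∑ i ∈ Finset.range (k + 2), (k + 2 + 1 - i)) :=
          Nat.mul_le_mul_right _ (Nat.mul_le_mul_right _ hc1)
  · rw [hS2]
    nlinarith [hS1', hS3, Nat.zero_le (k * k)]
  · rw [hS2]
    nlinarith [hS1', hS3, Nat.zero_le (k * k)]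

end Cfsg.Agent.Lib.helper44.LO
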