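import Mathlib
import Cfsg.Prelude.Def_LieTypeChar
import Cfsg.Agent.Lib.helper44.LODefs
import Cfsg.Agent.Lib.helper98.LOARITH
import Cfsg.Agent.Lib.helper98.LOPSL3core

/-!
# S2363 piece PSL3 (canonical statement)
-/

set_option autoImplicit false

namespace Cfsg.Agent.Lib.helper44.LO

open Cfsg

/-- PSL3. -/
theorem lo_psl_ge3 {F : Type} [Field F] [Fintype F] (p : ℕ) (hp : p.Prime) [CharP F p] (n : ℕ) (hn : 3 ≤ n) :
    LOGood p (Nat.card (Matrix.ProjectiveSpecialLinearGroup (Fin n) F)) :=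
  h98_lo_psl_ge3_core p hp n hn
    (fun f hf c n N M e hc hcp hMp hM h1 h2 => h98_lo_good hp f hf c n N M e hc hcp hMp hM h1 h2)

end Cfsg.Agent.Lib.helper44.LO
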