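import Mathlib
import Cfsg.Agent.Lib.helper44.SUWDefs

/-! S2335 piece UINJ (helper98): `C ↦ uMat σ ε C` is injective. -/

set_option autoImplicit false

namespace Cfsg.Agent.Lib.helper44.SUW

open Matrix

/-- UINJ (S) -/
theorem uMat_inj {K : Type*} [Field K] (σ : K →+* K) (ε : K) {m : ℕ}
    (C C' : Matrix (Fin m) (Fin m) K) (h : uMat σ ε C = uMat σ ε C') : C = C' := by
  ext i j
  have h1 := congrFun (congrFun h (finSumFinEquiv (Sum.inl i))) (finSumFinEquiv (Sum.inl j))
  simp only [uMat, Matrix.submatrix_apply, Equiv.symm_apply_apply, Matrix.fromBlocks_apply₁₁,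
    Matrix.add_apply] at h1
  exact add_left_cancel h1

end Cfsg.Agent.Lib.helper44.SUW
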