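import Mathlib
import Cfsg.Prelude.Def_LinearParabolics
import Cfsg.Agent.Lib.helper45.SVDefs

/-! S2425 piece FIXA (helper98): the standard parabolic subgroup is the stabiliser of the standard
flag. -/

set_option autoImplicit false
open scoped MatrixGroups

namespace Cfsg.Agent.Lib.helper45.SV

/-- FIXA (M). -/
theorem mem_parabolic_iff_flag {F : Type*} [Field F] {n : ℕ} (μ : Fin n → ℕ) (g : GL (Fin n) F) :
    g ∈ Cfsg.parabolicGL n F μ ↔
      ∀ j, (stdFlag F μ j).map (Matrix.toLin' (g : Matrix (Fin n) (Fin n) F)) ≤ stdFlag F μ j := by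
  have hlab : ∀ i : Fin n, Cfsg.compLabel μ i =
      (Finset.univ.filter fun j : Fin n => csum μ j ≤ i.val).card := fun i => rfl
  constructor
  · intro hg j
    have hg' : (g : Matrix (Fin n) (Fin n) F).BlockTriangular (Cfsg.compLabel μ) := hg
    rintro _ ⟨v, hv, rfl⟩
    have hv' : ∀ i : Fin n, csum μ j ≤ i.val → v i = 0 := hv
    show ∀ i : Fin n, csum μ j ≤ i.val →
      (Matrix.toLin' (g : Matrix (Fin n) (Fin n) F)) v i = 0
    intro i hi
    rw [Matrix.toLin'_apply]
    simp only [Matrix.mulVec, dotProduct]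
    apply Finset.sum_eq_zero
    intro k _
    by_cases hk : csum μ j ≤ k.val
    · rw [hv' k hk, mul_zero]
    · have hlt : Cfsg.compLabel μ k < Cfsg.compLabel μ i := by
        rw [hlab, hlab]
        apply Finset.card_lt_card
        rw [Finset.ssubset_iff_of_subset]
        · exact ⟨j, by simp [hi], by simp [hk]⟩
        · intro j' hj'
          rw [Finset.mem_filter] at hj' ⊢
          exact ⟨hj'.1, by omega⟩
      rw [hg' hlt, zero_mul]
  · intro h
    show (g : Matrix (Fin n) (Fin n) F).BlockTriangular (Cfsg.compLabel μ)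
    intro i k hlt
    have hex : ∃ j, csum μ j ≤ i.val ∧ ¬ csum μ j ≤ k.val := by
      by_contra hcon
      push Not at hcon
      have hle : Cfsg.compLabel μ i ≤ Cfsg.compLabel μ k := by
        rw [hlab, hlab]
        apply Finset.card_le_card
        intro j hj
        rw [Finset.mem_filter] at hj ⊢
        exact ⟨hj.1, hcon j hj.2⟩
      omega
    obtain ⟨j, hji, hjk⟩ := hex
    have hmem : (Pi.single k 1 : Fin n → F) ∈ stdFlag F μ j := by
      show ∀ i' : Fin n, csum μ j ≤ i'.val → (Pi.single k 1 : Fin n → F) i' = 0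
      intro i' hi'
      have hne : i' ≠ k := by
        rintro rfl
        exact hjk hi'
      simp [hne]
    have h1 := h j (Submodule.mem_map_of_mem hmem)
    have h2 : (Matrix.toLin' (g : Matrix (Fin n) (Fin n) F)) (Pi.single k 1) i = 0 := h1 i hji
    rw [Matrix.toLin'_apply] at h2
    simpa [Matrix.mulVec_single_one] using h2

end Cfsg.Agent.Lib.helper45.SV
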