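import Mathlib

/-!
# Small facts about `A₄`, `S₄`, `A₅` (by computation)
-/

set_option autoImplicit false

namespace Cfsg.Agent.Lib.helper98

section Models

set_option maxRecDepth 100000 in
/-- In `A₄`, products of involutions are involutions. -/
theorem a4_inv_mul : ∀ a b : alternatingGroup (Fin 4), a * a = 1 → b * b = 1 →
    (a * b) * (a * b) = 1 := by decide

set_option maxRecDepth 100000 in
/-- In `A₄`, involutions commute. -/
theorem a4_inv_comm : ∀ a b : alternatingGroup (Fin 4), a * a = 1 → b * b = 1 →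
    a * b = b * a := by decide

set_option maxRecDepth 100000 in
theorem a4_orders : ∀ a : alternatingGroup (Fin 4), a * a = 1 ∨ a * a * a = 1 := by decide

set_option maxRecDepth 100000 in
theorem a4_card_inv :
    (Finset.univ.filter (fun a : alternatingGroup (Fin 4) => a * a = 1)).card = 4 := by decide

set_option maxRecDepth 100000 in
theorem a4_exists_inv : ∃ a b : alternatingGroup (Fin 4), a * a = 1 ∧ b * b = 1 ∧ a ≠ 1 ∧
    b ≠ 1 ∧ a ≠ b := by decide

set_option maxRecDepth 100000 in
theorem a5_orders : ∀ a : alternatingGroup (Fin 5),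
    a * a = 1 ∨ a * a * a = 1 ∨ a * a * a * a * a = 1 := by decide

set_option maxRecDepth 100000 in
theorem s4_exists_dihedral : ∃ c t : Equiv.Perm (Fin 4), c * c * c = 1 ∧ c ≠ 1 ∧ t * t = 1 ∧
    t ≠ 1 ∧ t * c * t⁻¹ = c⁻¹ := by decide

set_option maxRecDepth 100000 in
theorem a5_exists_dihedral : ∃ c t : alternatingGroup (Fin 5),
    c * c * c * c * c = 1 ∧ c ≠ 1 ∧ t * t = 1 ∧ t ≠ 1 ∧ t * c * t⁻¹ = c⁻¹ := by decide

/-- The predicate defining a four-group of `A₅`. -/
def a5Four (a : alternatingGroup (Fin 5)) : Prop :=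
  a * a = 1 ∧ (a : Equiv.Perm (Fin 5)) 4 = 4

instance : DecidablePred a5Four := fun a => by unfold a5Four; infer_instance

set_option maxRecDepth 100000 in
theorem a5Four_mul : ∀ a b : alternatingGroup (Fin 5), a5Four a → a5Four b → a5Four (a * b) := by
  decide

set_option maxRecDepth 100000 in
theorem a5Four_card :
    (Finset.univ.filter (fun a : alternatingGroup (Fin 5) => a5Four a)).card = 4 := by decide

set_option maxRecDepth 100000 in
theorem a5Four_normalizer : ∃ c : alternatingGroup (Fin 5), c * c * c = 1 ∧ c ≠ 1 ∧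
    ∀ a, a5Four a ↔ a5Four (c * a * c⁻¹) := by decide

set_option maxRecDepth 100000 in
theorem a4_card : Fintype.card (alternatingGroup (Fin 4)) = 12 := by decide

set_option maxRecDepth 100000 in
theorem a5_card : Fintype.card (alternatingGroup (Fin 5)) = 60 := by decide

set_option maxRecDepth 100000 in
set_option synthInstance.maxHeartbeats 200000 in
set_option synthInstance.maxSize 2048 in
theorem a4_four_elems : ∀ a b c : alternatingGroup (Fin 4), a * a = 1 → b * b = 1 → a ≠ 1 →
    b ≠ 1 → a ≠ b → c * c = 1 → c = 1 ∨ c = a ∨ c = b ∨ c = a * b := by decide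

set_option maxRecDepth 100000 in
theorem s4_alt_orders : ∀ a : Equiv.Perm (Fin 4), Equiv.Perm.sign a = 1 →
    a * a = 1 ∨ a * a * a = 1 := by decide

set_option maxRecDepth 100000 in
theorem s4_alt_noncomm : ∃ a b : Equiv.Perm (Fin 4), Equiv.Perm.sign a = 1 ∧
    Equiv.Perm.sign b = 1 ∧ a * b ≠ b * a := by decide

set_option maxRecDepth 100000 in
theorem a4_noncomm : ∃ a b : alternatingGroup (Fin 4), a * b ≠ b * a := by decide

set_option maxRecDepth 100000 in
theorem a5_noncomm : ∃ a b : alternatingGroup (Fin 5), a * b ≠ b * a := by decide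

end Models

end Cfsg.Agent.Lib.helper98
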