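import Mathlib
import Cfsg.Agent.Lib.helper98.MaxModels

/-!
# Non-maximality criteria via Sylow's theorem

* `coatom_conj_absurd`: a maximal subgroup is not conjugate into a proper subgroup of a different
  order.
* `coatom_sylow_absurd`: a maximal subgroup `M` normalizing a Sylow subgroup `P` of `G` cannot
  coexist with a proper subgroup `H` of a different order such that `H ∩ N(P')` has order
  divisible by `|M|` for some Sylow subgroup `P'`.
* Applications: `coatom_ppow_absurd`, `coatom_dihedral_absurd`, `coatom_a4_a5_absurd`.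
-/

set_option autoImplicit false
set_option linter.unusedSimpArgs false
set_option linter.unusedVariables false

namespace Cfsg.Agent.Lib.helper98

open scoped Classical

section NM

variable {G : Type*} [Group G] [Finite G]

theorem coatom_conj_absurd (M H : Subgroup G) (hM : IsCoatom M) (hH : H ≠ ⊤)
    (hcard : Nat.card H ≠ Nat.card M) (g : G) (hg : ∀ m ∈ M, g * m * g⁻¹ ∈ H) : False := by
  obtain ⟨H', hH'⟩ : ∃ H' : Subgroup G, H' = H.map (MulAut.conj g⁻¹).toMonoidHom := ⟨_, rfl⟩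
  have hle : M ≤ H' := by
    intro m hm
    rw [hH']
    refine Subgroup.mem_map.mpr ⟨g * m * g⁻¹, hg m hm, ?_⟩
    show MulAut.conj g⁻¹ (g * m * g⁻¹) = m
    rw [MulAut.conj_apply]; group
  have hcard' : Nat.card H' = Nat.card H := by
    rw [hH']; exact Subgroup.card_map_of_injective (MulAut.conj g⁻¹).injective
  rcases hM.le_iff.mp hle with h | h
  · apply hH
    rw [← Subgroup.card_eq_iff_eq_top, ← hcard', h, Subgroup.card_top]
  · apply hcard; rw [← hcard', h]

theorem sylow_conj (ℓ k : ℕ) [Fact ℓ.Prime] (hG : ¬ ℓ ^ (k + 1) ∣ Nat.card G)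
    (P P' : Subgroup G) (hP : Nat.card P = ℓ ^ k) (hP' : Nat.card P' = ℓ ^ k) :
    ∃ g : G, ∀ x, x ∈ P' ↔ g⁻¹ * x * g ∈ P := by
  have hℓ := (Fact.out : ℓ.Prime)
  have hfac : (Nat.card G).factorization ℓ = k := by
    have h1 : ℓ ^ k ∣ Nat.card G := hP ▸ Subgroup.card_subgroup_dvd_card P
    have hpos : Nat.card G ≠ 0 := Nat.card_pos.ne'
    have h2 := (hℓ.pow_dvd_iff_le_factorization hpos).mp h1
    have h3 : ¬ (k + 1 ≤ (Nat.card G).factorization ℓ) :=
      fun h => hG ((hℓ.pow_dvd_iff_le_factorization hpos).mpr h)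
    omega
  have hc1 : Nat.card P = ℓ ^ (Nat.card G).factorization ℓ := by rw [hP, hfac]
  have hc2 : Nat.card P' = ℓ ^ (Nat.card G).factorization ℓ := by rw [hP', hfac]
  obtain ⟨g, hg⟩ := MulAction.exists_smul_eq G (Sylow.ofCard P hc1) (Sylow.ofCard P' hc2)
  refine ⟨g, fun x => ?_⟩
  have h1 : x ∈ ((Sylow.ofCard P' hc2 : Sylow ℓ G) : Subgroup G) ↔ x ∈ P' := by
    rw [Sylow.coe_ofCard]
  rw [← h1, ← hg, Sylow.coe_subgroup_smul, Subgroup.mem_pointwise_smul_iff_inv_smul_mem,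
    Sylow.coe_ofCard]
  simp [MulAut.smul_def, MulAut.conj_inv_apply]

theorem coatom_sylow_absurd [IsSimpleGroup G] (ℓ k : ℕ) [Fact ℓ.Prime] (hk : 1 ≤ k)
    (hG : ¬ ℓ ^ (k + 1) ∣ Nat.card G)
    (M : Subgroup G) (hM : IsCoatom M) (P : Subgroup G) (hPM : P ≤ M)
    (hMN : M ≤ Subgroup.normalizer (P : Set G)) (hP : Nat.card P = ℓ ^ k)
    (H : Subgroup G) (hH : H ≠ ⊤) (hcard : Nat.card H ≠ Nat.card M)
    (P' : Subgroup G) (hP' : Nat.card P' = ℓ ^ k)
    (hD : Nat.card M ∣ Nat.card ↥(H ⊓ Subgroup.normalizer (P' : Set G))) : False := by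
  have hℓ := (Fact.out : ℓ.Prime)
  have hNtop : Subgroup.normalizer (P : Set G) ≠ ⊤ := by
    intro htop
    have hn : P.Normal := Subgroup.normalizer_eq_top_iff.mp htop
    rcases hn.eq_bot_or_eq_top with h | h
    · rw [h, Subgroup.card_bot] at hP
      have : 1 < ℓ ^ k := Nat.one_lt_pow (by omega) hℓ.one_lt
      omega
    · apply hM.1
      rw [eq_top_iff, ← h]; exact hPM
  have hN : Subgroup.normalizer (P : Set G) = M := (hM.le_iff.mp hMN).resolve_left hNtop
  obtain ⟨g, hg⟩ := sylow_conj ℓ k hG P P' hP hP'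
  obtain ⟨D, hD'⟩ : ∃ D : Subgroup G, D = H ⊓ Subgroup.normalizer (P' : Set G) := ⟨_, rfl⟩
  rw [← hD'] at hD
  have hDM : ∀ d ∈ D, g⁻¹ * d * g ∈ M := by
    intro d hd
    rw [hD'] at hd
    have hdN : d ∈ Subgroup.normalizer (P' : Set G) := hd.2
    rw [Subgroup.mem_normalizer_iff] at hdN
    rw [← hN, Subgroup.mem_normalizer_iff]
    intro x
    have h1 : x ∈ P ↔ g * x * g⁻¹ ∈ P' := by
      rw [hg]
      have e : g⁻¹ * (g * x * g⁻¹) * g = x := by group
      rw [e]
    have h2 := hdN (g * x * g⁻¹)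
    have h3 := hg (d * (g * x * g⁻¹) * d⁻¹)
    have e : g⁻¹ * (d * (g * x * g⁻¹) * d⁻¹) * g = g⁻¹ * d * g * x * (g⁻¹ * d * g)⁻¹ := by group
    rw [e] at h3
    rw [h1, h2, h3]
  obtain ⟨D', hD''⟩ : ∃ D' : Subgroup G, D' = D.map (MulAut.conj g⁻¹).toMonoidHom := ⟨_, rfl⟩
  have hD'M : D' ≤ M := by
    rw [hD'']
    rintro _ ⟨d, hd, rfl⟩
    have h1 := hDM d hd
    show MulAut.conj g⁻¹ d ∈ M
    rw [MulAut.conj_apply, inv_inv]; exact h1
  have hcardD' : Nat.card D' = Nat.card D := by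
    rw [hD'']; exact Subgroup.card_map_of_injective (MulAut.conj g⁻¹).injective
  have hge : Nat.card M ≤ Nat.card D' := by
    rw [hcardD']; exact Nat.le_of_dvd Nat.card_pos hD
  have heq : D' = M := Subgroup.eq_of_le_of_card_ge hD'M hge
  apply coatom_conj_absurd M H hM hH hcard g
  intro m hm
  rw [← heq, hD''] at hm
  obtain ⟨d, hd, rfl⟩ := hm
  have e : g * (MulAut.conj g⁻¹).toMonoidHom d * g⁻¹ = d := by
    show g * MulAut.conj g⁻¹ d * g⁻¹ = d
    rw [MulAut.conj_apply]; group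
  rw [e]
  rw [hD'] at hd
  exact hd.1

/-- A maximal subgroup of prime power order, Sylow in `G`, is not properly contained in size by
a proper subgroup whose order it divides. -/
theorem coatom_ppow_absurd (ℓ k : ℕ) [Fact ℓ.Prime] (hG : ¬ ℓ ^ (k + 1) ∣ Nat.card G)
    (M : Subgroup G) (hM : IsCoatom M) (hMc : Nat.card M = ℓ ^ k)
    (H : Subgroup G) (hH : H ≠ ⊤) (hcard : Nat.card H ≠ ℓ ^ k) (hdvd : ℓ ^ k ∣ Nat.card H) :
    False := by
  obtain ⟨K₀, hK₀⟩ := Sylow.exists_subgroup_card_pow_prime (G := H) ℓ hdvd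
  obtain ⟨g, hg⟩ := sylow_conj ℓ k hG (K₀.map H.subtype) M
    (by rw [Subgroup.card_map_of_injective H.subtype_injective, hK₀]) hMc
  apply coatom_conj_absurd M H hM hH (by rw [hMc]; exact hcard) g⁻¹
  intro m hm
  have h1 := (hg m).mp hm
  obtain ⟨y, hy, hyx⟩ := Subgroup.mem_map.mp h1
  rw [inv_inv, ← hyx]; exact y.2

end NM

section Transport

variable {G : Type*} [Group G] {X : Type*} [Group X]

/-- The copy in `G` of a subgroup of `X` under an isomorphism `H ≃* X`. -/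
def pullSub (H : Subgroup G) (e : H ≃* X) (V : Subgroup X) : Subgroup G :=
  (V.comap e.toMonoidHom).map H.subtype

theorem mem_pullSub (H : Subgroup G) (e : H ≃* X) (V : Subgroup X) (x : G) :
    x ∈ pullSub H e V ↔ ∃ hx : x ∈ H, e ⟨x, hx⟩ ∈ V := by
  unfold pullSub
  constructor
  · rintro ⟨y, hy, rfl⟩
    exact ⟨y.2, hy⟩
  · rintro ⟨hx, hxV⟩
    exact ⟨⟨x, hx⟩, hxV, rfl⟩

theorem pullSub_le (H : Subgroup G) (e : H ≃* X) (V : Subgroup X) : pullSub H e V ≤ H := by
  intro x hx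
  obtain ⟨hx', -⟩ := (mem_pullSub H e V x).mp hx
  exact hx'

theorem card_pullSub (H : Subgroup G) (e : H ≃* X) (V : Subgroup X) :
    Nat.card (pullSub H e V) = Nat.card V := by
  unfold pullSub
  rw [Subgroup.card_map_of_injective H.subtype_injective]
  exact Nat.card_congr (e.toEquiv.subtypeEquiv (fun a => Iff.rfl))

theorem pullSub_normalizer (H : Subgroup G) (e : H ≃* X) (V : Subgroup X) (c₀ : X)
    (hc : ∀ a, a ∈ V ↔ c₀ * a * c₀⁻¹ ∈ V) :
    ((e.symm c₀ : H) : G) ∈ Subgroup.normalizer (pullSub H e V : Set G) := by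
  rw [Subgroup.mem_normalizer_iff]
  intro x
  rw [mem_pullSub, mem_pullSub]
  constructor
  · rintro ⟨hx, hxV⟩
    refine ⟨H.mul_mem (H.mul_mem (e.symm c₀).2 hx) (H.inv_mem (e.symm c₀).2), ?_⟩
    have e1 : (⟨((e.symm c₀ : H) : G) * x * ((e.symm c₀ : H) : G)⁻¹,
        H.mul_mem (H.mul_mem (e.symm c₀).2 hx) (H.inv_mem (e.symm c₀).2)⟩ : H) =
        e.symm c₀ * ⟨x, hx⟩ * (e.symm c₀)⁻¹ := Subtype.ext rfl
    rw [e1, map_mul, map_mul, map_inv, MulEquiv.apply_symm_apply]
    exact (hc _).mp hxV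
  · rintro ⟨hx, hxV⟩
    have hx' : x ∈ H := by
      have h1 := H.mul_mem (H.mul_mem (H.inv_mem (e.symm c₀).2) hx) (e.symm c₀).2
      have e2 : ((e.symm c₀ : H) : G)⁻¹ *
          (((e.symm c₀ : H) : G) * x * ((e.symm c₀ : H) : G)⁻¹) * ((e.symm c₀ : H) : G) = x := by
        group
      rwa [e2] at h1
    refine ⟨hx', ?_⟩
    have e1 : (⟨((e.symm c₀ : H) : G) * x * ((e.symm c₀ : H) : G)⁻¹, hx⟩ : H) =
        e.symm c₀ * ⟨x, hx'⟩ * (e.symm c₀)⁻¹ := Subtype.ext rfl
    rw [e1, map_mul, map_mul, map_inv, MulEquiv.apply_symm_apply] at hxV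
    exact (hc _).mpr hxV

theorem le_normalizer_pullSub (H : Subgroup G) (e : H ≃* X) (V : Subgroup X) [hV : V.Normal] :
    H ≤ Subgroup.normalizer (pullSub H e V : Set G) := by
  intro m hm
  have h1 := pullSub_normalizer H e V (e ⟨m, hm⟩) (by
    intro a
    constructor
    · intro ha; exact hV.conj_mem a ha _
    · intro ha
      have h2 := hV.conj_mem _ ha (e ⟨m, hm⟩)⁻¹
      have e2 : (e ⟨m, hm⟩)⁻¹ * (e ⟨m, hm⟩ * a * (e ⟨m, hm⟩)⁻¹) * (e ⟨m, hm⟩)⁻¹⁻¹ = a := by group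
      rwa [e2] at h2)
  rwa [MulEquiv.symm_apply_apply] at h1

theorem orderOf_pull (H : Subgroup G) (e : H ≃* X) (c₀ : X) :
    orderOf ((e.symm c₀ : H) : G) = orderOf c₀ := by
  rw [Subgroup.orderOf_coe, MulEquiv.orderOf_eq]

end Transport

section Apps

variable {G : Type*} [Group G] [Finite G]

/-- A maximal subgroup `≅ D_ℓ` (`ℓ` an odd prime with `ℓ² ∤ |G|`) of a simple group cannot coexist
with a proper subgroup of another order containing a dihedral pair. -/
theorem coatom_dihedral_absurd [IsSimpleGroup G] (ℓ : ℕ) [Fact ℓ.Prime] (hℓ2 : ℓ ≠ 2)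
    (hG : ¬ ℓ ^ 2 ∣ Nat.card G) (M : Subgroup G) (hM : IsCoatom M)
    (e : M ≃* DihedralGroup ℓ) (H : Subgroup G) (hH : H ≠ ⊤) (hcard : Nat.card H ≠ 2 * ℓ)
    (c t : G) (hc : c ∈ H) (ht : t ∈ H) (hco : orderOf c = ℓ) (hto : orderOf t = 2)
    (htc : t * c * t⁻¹ = c⁻¹) : False := by
  have hℓ := (Fact.out : ℓ.Prime)
  have : NeZero ℓ := ⟨hℓ.pos.ne'⟩
  have hMcard : Nat.card M = 2 * ℓ := by
    rw [Nat.card_congr e.toEquiv, DihedralGroup.nat_card]
  have hVcard : Nat.card (Subgroup.zpowers (DihedralGroup.r (1 : ZMod ℓ))) = ℓ := by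
    rw [Nat.card_zpowers, DihedralGroup.orderOf_r_one]
  have hVn : (Subgroup.zpowers (DihedralGroup.r (1 : ZMod ℓ))).Normal := by
    apply Subgroup.normal_of_index_eq_two
    have h1 := Subgroup.card_mul_index (Subgroup.zpowers (DihedralGroup.r (1 : ZMod ℓ)))
    rw [hVcard, DihedralGroup.nat_card] at h1
    have h2 : ℓ * (Subgroup.zpowers (DihedralGroup.r (1 : ZMod ℓ))).index = ℓ * 2 := by
      rw [h1]; ring
    exact Nat.eq_of_mul_eq_mul_left hℓ.pos h2
  have ht2 : t * t = 1 := by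
    have h1 := pow_orderOf_eq_one t
    rwa [hto, pow_two] at h1
  have htN : t ∈ Subgroup.normalizer (Subgroup.zpowers c : Set G) := by
    have hfw : ∀ h, h ∈ Subgroup.zpowers c → t * h * t⁻¹ ∈ Subgroup.zpowers c := by
      intro h hh
      obtain ⟨i, rfl⟩ := Subgroup.mem_zpowers_iff.mp hh
      have e1 : t * c ^ i * t⁻¹ = (t * c * t⁻¹) ^ i := by
        have h1 := map_zpow (MulAut.conj t) c i
        simpa [MulAut.conj_apply] using h1
      rw [e1, htc]
      exact Subgroup.zpow_mem _ (Subgroup.inv_mem _ (Subgroup.mem_zpowers c)) i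
    rw [Subgroup.mem_normalizer_iff]
    intro h
    constructor
    · exact hfw h
    · intro hh
      have h1 := hfw _ hh
      have e1 : t * (t * h * t⁻¹) * t⁻¹ = h := by
        have e2 : t * (t * h * t⁻¹) * t⁻¹ = (t * t) * h * (t * t)⁻¹ := by group
        rw [e2, ht2]; group
      rwa [e1] at h1
  apply coatom_sylow_absurd ℓ 1 (le_refl 1) (by simpa using hG) M hM
    (pullSub M e (Subgroup.zpowers (DihedralGroup.r (1 : ZMod ℓ)))) (pullSub_le M e _)
    (le_normalizer_pullSub M e _) (by rw [card_pullSub, hVcard, pow_one]) H hH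
    (by rw [hMcard]; exact hcard) (Subgroup.zpowers c) (by rw [Nat.card_zpowers, hco, pow_one])
  rw [hMcard]
  have hcD : c ∈ H ⊓ Subgroup.normalizer (Subgroup.zpowers c : Set G) :=
    ⟨hc, Subgroup.le_normalizer (Subgroup.mem_zpowers c)⟩
  have htD : t ∈ H ⊓ Subgroup.normalizer (Subgroup.zpowers c : Set G) := ⟨ht, htN⟩
  have h1 : ℓ ∣ Nat.card ↥(H ⊓ Subgroup.normalizer (Subgroup.zpowers c : Set G)) := by
    have h2 := orderOf_dvd_natCard (⟨c, hcD⟩ : ↥(H ⊓ Subgroup.normalizer (Subgroup.zpowers c : Set G)))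
    rwa [Subgroup.orderOf_mk, hco] at h2
  have h2 : 2 ∣ Nat.card ↥(H ⊓ Subgroup.normalizer (Subgroup.zpowers c : Set G)) := by
    have h3 := orderOf_dvd_natCard (⟨t, htD⟩ : ↥(H ⊓ Subgroup.normalizer (Subgroup.zpowers c : Set G)))
    rwa [Subgroup.orderOf_mk, hto] at h3
  have hcop : Nat.Coprime 2 ℓ := by
    rw [Nat.coprime_primes Nat.prime_two hℓ]; exact fun h => hℓ2 h.symm
  exact hcop.mul_dvd_of_dvd_of_dvd h2 h1

/-- The four-group of `A₄`. -/
def a4Four : Subgroup (alternatingGroup (Fin 4)) where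
  carrier := {a | a * a = 1}
  mul_mem' := fun {a b} ha hb => a4_inv_mul a b ha hb
  one_mem' := by show (1 : alternatingGroup (Fin 4)) * 1 = 1; rw [mul_one]
  inv_mem' := by
    intro a ha
    show a⁻¹ * a⁻¹ = 1
    have h1 : a⁻¹ = a := inv_eq_of_mul_eq_one_right ha
    rw [h1]; exact ha

instance : a4Four.Normal := ⟨by
  intro a ha c
  show (c * a * c⁻¹) * (c * a * c⁻¹) = 1
  have ha' : a * a = 1 := ha
  calc (c * a * c⁻¹) * (c * a * c⁻¹) = c * (a * a) * c⁻¹ := by group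
    _ = 1 := by rw [ha']; group⟩

theorem card_a4Four : Nat.card a4Four = 4 := by
  have h1 : Nat.card a4Four = Nat.card {a : alternatingGroup (Fin 4) // a * a = 1} := rfl
  rw [h1, Nat.card_eq_fintype_card, Fintype.card_subtype]
  convert a4_card_inv

/-- A four-group of `A₅`. -/
def a5FourSub : Subgroup (alternatingGroup (Fin 5)) where
  carrier := {a | a5Four a}
  mul_mem' := fun {a b} ha hb => a5Four_mul a b ha hb
  one_mem' := ⟨by rw [mul_one], rfl⟩
  inv_mem' := by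
    intro a ha
    have h1 : a⁻¹ = a := inv_eq_of_mul_eq_one_right ha.1
    show a5Four a⁻¹
    rw [h1]; exact ha

theorem card_a5FourSub : Nat.card a5FourSub = 4 := by
  have h1 : Nat.card a5FourSub = Nat.card {a : alternatingGroup (Fin 5) // a5Four a} := rfl
  rw [h1, Nat.card_eq_fintype_card, Fintype.card_subtype]
  convert a5Four_card

/-- A maximal subgroup `≅ A₄` of a simple group with Sylow `2`-subgroups of order `4` cannot
coexist with a proper subgroup `≅ A₅`. -/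
theorem coatom_a4_a5_absurd [IsSimpleGroup G] (hG : ¬ 8 ∣ Nat.card G) (M : Subgroup G)
    (hM : IsCoatom M) (e : M ≃* alternatingGroup (Fin 4)) (H : Subgroup G) (hH : H ≠ ⊤)
    (e' : H ≃* alternatingGroup (Fin 5)) : False := by
  have : Fact (Nat.Prime 2) := ⟨Nat.prime_two⟩
  have : Fact (Nat.Prime 3) := ⟨Nat.prime_three⟩
  have hMcard : Nat.card M = 12 := by
    rw [Nat.card_congr e.toEquiv, Nat.card_eq_fintype_card]; convert a4_card
  have hHcard : Nat.card H = 60 := by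
    rw [Nat.card_congr e'.toEquiv, Nat.card_eq_fintype_card]; convert a5_card
  obtain ⟨c₀, hc3, hc1, hcn⟩ := a5Four_normalizer
  have hc₀ord : orderOf c₀ = 3 := by
    apply orderOf_eq_prime
    · rw [pow_succ, pow_two]; exact hc3
    · exact hc1
  apply coatom_sylow_absurd 2 2 (by norm_num) (by simpa using hG) M hM
    (pullSub M e a4Four) (pullSub_le M e _) (le_normalizer_pullSub M e _)
    (by rw [card_pullSub, card_a4Four]; norm_num) H hH (by rw [hMcard, hHcard]; norm_num)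
    (pullSub H e' a5FourSub) (by rw [card_pullSub, card_a5FourSub]; norm_num)
  rw [hMcard]
  have hcN := pullSub_normalizer H e' a5FourSub c₀ hcn
  have h1 : 4 ∣ Nat.card ↥(H ⊓ Subgroup.normalizer (pullSub H e' a5FourSub : Set G)) := by
    have h2 : pullSub H e' a5FourSub ≤ H ⊓ Subgroup.normalizer (pullSub H e' a5FourSub : Set G) :=
      le_inf (pullSub_le H e' _) Subgroup.le_normalizer
    have h3 := Subgroup.card_dvd_of_le h2
    rwa [card_pullSub, card_a5FourSub] at h3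
  have h2 : 3 ∣ Nat.card ↥(H ⊓ Subgroup.normalizer (pullSub H e' a5FourSub : Set G)) := by
    have hmem : ((e'.symm c₀ : H) : G) ∈
        H ⊓ Subgroup.normalizer (pullSub H e' a5FourSub : Set G) := ⟨(e'.symm c₀).2, hcN⟩
    have h3 := orderOf_dvd_natCard (⟨_, hmem⟩ :
      ↥(H ⊓ Subgroup.normalizer (pullSub H e' a5FourSub : Set G)))
    rwa [Subgroup.orderOf_mk, orderOf_pull, hc₀ord] at h3
  have hcop : Nat.Coprime 4 3 := by norm_num
  exact hcop.mul_dvd_of_dvd_of_dvd h1 h2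

end Apps

end Cfsg.Agent.Lib.helper98
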