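import Mathlib
import Cfsg.Agent.Lib.helper98.DicksonIso

/-!
# Spans of subgroups of `SL₂(F)` over a subfield

For a subgroup `K` of `SL₂(F)` and a subfield `L` of `F`, `spanGrp L K` is the group of elements
of `SL₂(F)` lying in the `L`-span of `K` inside the matrix algebra.

* `spanGrp_ne_top`: if the traces of `K` lie in `L ≠ ⊤`, then `spanGrp L K ≠ ⊤`.
* `exists_unip_spanGrp`: if moreover `K` is not abelian, `spanGrp L K` contains a non-trivial
  unipotent element (little Wedderburn).
* `spanGrp_le_of_coatom`: a maximal subgroup `K` with a non-abelian normal subgroup `K'` whose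
  traces lie in a proper subfield contains `spanGrp L K'`.
* `frobFix`: the subfield of fixed points of `x ↦ x ^ p ^ k`.
-/

set_option autoImplicit false
set_option linter.unusedSimpArgs false
set_option linter.unusedVariables false

namespace Cfsg.Agent.Lib.helper98

open Matrix
open scoped Classical

local notation "SL2" => Matrix.SpecialLinearGroup (Fin 2)
local notation "M2" => Matrix (Fin 2) (Fin 2)

section Span

variable {F : Type*} [Field F]

/-- The `L`-span of a subgroup of `SL₂(F)` in the matrix algebra. -/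
def spanAlg (L : Subfield F) (K : Subgroup (SL2 F)) : Submodule L (M2 F) :=
  Submodule.span L {m : M2 F | ∃ k ∈ K, (k : M2 F) = m}

theorem coe_mem_spanAlg (L : Subfield F) (K : Subgroup (SL2 F)) {k : SL2 F} (hk : k ∈ K) :
    (k : M2 F) ∈ spanAlg L K :=
  Submodule.subset_span ⟨k, hk, rfl⟩

theorem one_mem_spanAlg (L : Subfield F) (K : Subgroup (SL2 F)) : (1 : M2 F) ∈ spanAlg L K := by
  have h := coe_mem_spanAlg L K K.one_mem
  rwa [Matrix.SpecialLinearGroup.coe_one] at h

theorem mul_mem_spanAlg (L : Subfield F) (K : Subgroup (SL2 F)) {a b : M2 F}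
    (ha : a ∈ spanAlg L K) (hb : b ∈ spanAlg L K) : a * b ∈ spanAlg L K := by
  refine Submodule.span_induction (p := fun a _ => a * b ∈ spanAlg L K) ?_ ?_ ?_ ?_ ha
  · rintro x ⟨k, hk, rfl⟩
    refine Submodule.span_induction (p := fun b _ => (k : M2 F) * b ∈ spanAlg L K) ?_ ?_ ?_ ?_ hb
    · rintro y ⟨k', hk', rfl⟩
      rw [← Matrix.SpecialLinearGroup.coe_mul]
      exact coe_mem_spanAlg L K (K.mul_mem hk hk')
    · rw [mul_zero]; exact Submodule.zero_mem _
    · intro y z _ _ hy hz
      rw [mul_add]; exact Submodule.add_mem _ hy hz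
    · intro r y _ hy
      rw [mul_smul_comm]; exact Submodule.smul_mem _ r hy
  · rw [zero_mul]; exact Submodule.zero_mem _
  · intro x y _ _ hx hy
    rw [add_mul]; exact Submodule.add_mem _ hx hy
  · intro r x _ hx
    rw [smul_mul_assoc]; exact Submodule.smul_mem _ r hx

theorem trace_mem_of_spanAlg (L : Subfield F) (K : Subgroup (SL2 F))
    (htr : ∀ k ∈ K, k 0 0 + k 1 1 ∈ L) {a : M2 F} (ha : a ∈ spanAlg L K) :
    a 0 0 + a 1 1 ∈ L := by
  refine Submodule.span_induction (p := fun a _ => a 0 0 + a 1 1 ∈ L) ?_ ?_ ?_ ?_ ha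
  · rintro x ⟨k, hk, rfl⟩
    exact htr k hk
  · simp only [Matrix.zero_apply, add_zero]; exact L.zero_mem
  · intro x y _ _ hx hy
    have e : (x + y) 0 0 + (x + y) 1 1 = (x 0 0 + x 1 1) + (y 0 0 + y 1 1) := by
      simp only [Matrix.add_apply]; ring
    rw [e]; exact L.add_mem hx hy
  · intro r x _ hx
    have e : (r • x) 0 0 + (r • x) 1 1 = (r : F) * (x 0 0 + x 1 1) := by
      simp only [Matrix.smul_apply, Subfield.smul_def, smul_eq_mul]; ring
    rw [e]; exact L.mul_mem r.2 hx

theorem conj_mem_spanAlg (L : Subfield F) (K : Subgroup (SL2 F)) (c : SL2 F)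
    (hc : ∀ x ∈ K, c * x * c⁻¹ ∈ K) {a : M2 F} (ha : a ∈ spanAlg L K) :
    (c : M2 F) * a * ((c⁻¹ : SL2 F) : M2 F) ∈ spanAlg L K := by
  refine Submodule.span_induction
    (p := fun a _ => (c : M2 F) * a * ((c⁻¹ : SL2 F) : M2 F) ∈ spanAlg L K) ?_ ?_ ?_ ?_ ha
  · rintro x ⟨k, hk, rfl⟩
    rw [← Matrix.SpecialLinearGroup.coe_mul, ← Matrix.SpecialLinearGroup.coe_mul]
    exact coe_mem_spanAlg L K (hc k hk)
  · rw [mul_zero, zero_mul]; exact Submodule.zero_mem _
  · intro x y _ _ hx hy
    rw [mul_add, add_mul]; exact Submodule.add_mem _ hx hy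
  · intro r x _ hx
    rw [mul_smul_comm, smul_mul_assoc]; exact Submodule.smul_mem _ r hx

variable [Finite F]

/-- The elements of `SL₂(F)` in the `L`-span of `K`. -/
def spanGrp (L : Subfield F) (K : Subgroup (SL2 F)) : Subgroup (SL2 F) where
  carrier := {g | (g : M2 F) ∈ spanAlg L K}
  mul_mem' := by
    intro a b ha hb
    show ((a * b : SL2 F) : M2 F) ∈ spanAlg L K
    rw [Matrix.SpecialLinearGroup.coe_mul]
    exact mul_mem_spanAlg L K ha hb
  one_mem' := by
    show ((1 : SL2 F) : M2 F) ∈ spanAlg L K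
    rw [Matrix.SpecialLinearGroup.coe_one]; exact one_mem_spanAlg L K
  inv_mem' := by
    intro a ha
    show ((a⁻¹ : SL2 F) : M2 F) ∈ spanAlg L K
    have hpow : ∀ n : ℕ, ((a ^ n : SL2 F) : M2 F) ∈ spanAlg L K := by
      intro n
      induction n with
      | zero => rw [pow_zero, Matrix.SpecialLinearGroup.coe_one]; exact one_mem_spanAlg L K
      | succ n ih =>
        rw [pow_succ, Matrix.SpecialLinearGroup.coe_mul]; exact mul_mem_spanAlg L K ih ha
    have h1 : a⁻¹ = a ^ (orderOf a - 1) := by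
      apply inv_eq_of_mul_eq_one_right
      rw [← pow_succ', Nat.sub_add_cancel (orderOf_pos a), pow_orderOf_eq_one]
    rw [h1]; exact hpow _

theorem mem_spanGrp (L : Subfield F) (K : Subgroup (SL2 F)) (g : SL2 F) :
    g ∈ spanGrp L K ↔ (g : M2 F) ∈ spanAlg L K := Iff.rfl

theorem le_spanGrp (L : Subfield F) (K : Subgroup (SL2 F)) : K ≤ spanGrp L K :=
  fun k hk => coe_mem_spanAlg L K hk

theorem trace_mem_of_spanGrp (L : Subfield F) (K : Subgroup (SL2 F))
    (htr : ∀ k ∈ K, k 0 0 + k 1 1 ∈ L) {g : SL2 F} (hg : g ∈ spanGrp L K) :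
    g 0 0 + g 1 1 ∈ L :=
  trace_mem_of_spanAlg L K htr hg

theorem conj_mem_spanGrp (L : Subfield F) (K : Subgroup (SL2 F)) (c : SL2 F)
    (hc : ∀ x ∈ K, c * x * c⁻¹ ∈ K) {g : SL2 F} (hg : g ∈ spanGrp L K) :
    c * g * c⁻¹ ∈ spanGrp L K := by
  rw [mem_spanGrp, Matrix.SpecialLinearGroup.coe_mul, Matrix.SpecialLinearGroup.coe_mul]
  exact conj_mem_spanAlg L K c hc hg

omit [Finite F] in
theorem two_mem_subfield (L : Subfield F) : (2 : F) ∈ L := by
  have := L.add_mem L.one_mem L.one_mem
  rwa [one_add_one_eq_two] at this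

theorem spanGrp_ne_top (L : Subfield F) (K : Subgroup (SL2 F))
    (htr : ∀ k ∈ K, k 0 0 + k 1 1 ∈ L) (hL : L ≠ ⊤) : spanGrp L K ≠ ⊤ := by
  intro htop
  apply hL
  rw [eq_top_iff]
  intro x _
  have h1 : upSL x * lowSL 1 ∈ spanGrp L K := by rw [htop]; trivial
  have h2 := trace_mem_of_spanGrp L K htr h1
  have e : (upSL x * lowSL (1 : F)) 0 0 + (upSL x * lowSL (1 : F)) 1 1 = x + 2 := by
    simp only [sl2_mul_apply, upSL_00, upSL_01, upSL_10, upSL_11, lowSL_00, lowSL_01, lowSL_10,
      lowSL_11]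
    ring
  rw [e] at h2
  have h3 := L.sub_mem h2 (two_mem_subfield L)
  rwa [add_sub_cancel_right] at h3

theorem upSL_mem_spanGrp (L : Subfield F) (K : Subgroup (SL2 F)) (hu : upSL 1 ∈ K) (x : F)
    (hx : x ∈ L) : upSL x ∈ spanGrp L K := by
  rw [mem_spanGrp]
  have e : ((upSL x : SL2 F) : M2 F) =
      (1 : M2 F) + (⟨x, hx⟩ : L) • (((upSL 1 : SL2 F) : M2 F) - 1) := by
    apply mat2_ext <;>
      simp [Matrix.add_apply, Matrix.smul_apply, Matrix.sub_apply, Subfield.smul_def, upSL]
  rw [e]
  exact Submodule.add_mem _ (one_mem_spanAlg L K)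
    (Submodule.smul_mem _ _ (Submodule.sub_mem _ (coe_mem_spanAlg L K hu) (one_mem_spanAlg L K)))

theorem negOne_mem_spanGrp (L : Subfield F) (K : Subgroup (SL2 F)) : negOne ∈ spanGrp L K := by
  rw [mem_spanGrp]
  have e : ((negOne : SL2 F) : M2 F) = (⟨-1, L.neg_mem L.one_mem⟩ : L) • (1 : M2 F) := by
    apply mat2_ext <;> simp [Matrix.smul_apply, Subfield.smul_def, negOne]
  rw [e]
  exact Submodule.smul_mem _ _ (one_mem_spanAlg L K)

/-- A nonzero matrix of trace and determinant zero in the span gives a unipotent element. -/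
theorem unip_of_nilpotent (L : Subfield F) (K : Subgroup (SL2 F)) (n : M2 F)
    (hn : n ∈ spanAlg L K) (hn0 : n ≠ 0) (htr : n.trace = 0) (hdet : n.det = 0) :
    ∃ u ∈ spanGrp L K, u ≠ 1 ∧ u 0 0 + u 1 1 = 2 := by
  rw [Matrix.trace_fin_two] at htr
  rw [Matrix.det_fin_two] at hdet
  refine ⟨mkSL (1 + n 0 0) (n 0 1) (n 1 0) (1 + n 1 1) (by linear_combination htr + hdet),
    ?_, ?_, ?_⟩
  · have e : ((mkSL (1 + n 0 0) (n 0 1) (n 1 0) (1 + n 1 1)
        (by linear_combination htr + hdet) : SL2 F) : M2 F) = 1 + n := by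
      apply mat2_ext
      · show 1 + n 0 0 = _
        simp [Matrix.add_apply]
      · show n 0 1 = _
        simp [Matrix.add_apply]
      · show n 1 0 = _
        simp [Matrix.add_apply]
      · show 1 + n 1 1 = _
        simp [Matrix.add_apply]
    rw [mem_spanGrp, e]
    exact Submodule.add_mem _ (one_mem_spanAlg L K) hn
  · intro h
    apply hn0
    have h00 := congrArg (fun g : SL2 F => g 0 0) h
    have h01 := congrArg (fun g : SL2 F => g 0 1) h
    have h10 := congrArg (fun g : SL2 F => g 1 0) h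
    have h11 := congrArg (fun g : SL2 F => g 1 1) h
    simp only [mkSL_00, mkSL_01, mkSL_10, mkSL_11, sl2_one_00, sl2_one_01, sl2_one_10,
      sl2_one_11] at h00 h01 h10 h11
    apply mat2_ext
    · simpa using h00
    · simpa using h01
    · simpa using h10
    · simpa using h11
  · rw [mkSL_00, mkSL_11]; linear_combination htr

/-- **Unipotent elements in spans.** If the traces of the non-abelian group `K` lie in `L`, the
group `spanGrp L K` contains a non-trivial unipotent element. -/
theorem exists_unip_spanGrp (L : Subfield F) (K : Subgroup (SL2 F))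
    (htr : ∀ k ∈ K, k 0 0 + k 1 1 ∈ L) (g h : SL2 F) (hg : g ∈ K) (hh : h ∈ K)
    (hgh : g * h ≠ h * g) :
    ∃ u ∈ spanGrp L K, u ≠ 1 ∧ u 0 0 + u 1 1 = 2 := by
  obtain ⟨R, hR⟩ : ∃ R : Subring (M2 F), ∀ m : M2 F, m ∈ R ↔ m ∈ spanAlg L K :=
    ⟨{ carrier := {m | m ∈ spanAlg L K}
       mul_mem' := fun ha hb => mul_mem_spanAlg L K ha hb
       one_mem' := one_mem_spanAlg L K
       add_mem' := fun {x y} ha hb => (spanAlg L K).add_mem ha hb
       zero_mem' := (spanAlg L K).zero_mem
       neg_mem' := fun {x} ha => (spanAlg L K).neg_mem ha }, fun m => Iff.rfl⟩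
  have hzd : ∃ a b : M2 F, a ∈ spanAlg L K ∧ b ∈ spanAlg L K ∧ a ≠ 0 ∧ b ≠ 0 ∧ a * b = 0 := by
    by_contra hcon
    push Not at hcon
    have hnzd : NoZeroDivisors R := ⟨by
      intro a b hab
      by_contra hne
      push Not at hne
      have h1 := hcon a.1 b.1 ((hR _).mp a.2) ((hR _).mp b.2)
        (fun h0 => hne.1 (Subtype.ext h0)) (fun h0 => hne.2 (Subtype.ext h0))
      apply h1
      have h3 := congrArg Subtype.val hab
      simpa using h3⟩
    have hdom : IsDomain R := NoZeroDivisors.to_isDomain R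
    have hfield := Finite.isDomain_to_isField R
    have hc := hfield.mul_comm ⟨(g : M2 F), (hR _).mpr (coe_mem_spanAlg L K hg)⟩
      ⟨(h : M2 F), (hR _).mpr (coe_mem_spanAlg L K hh)⟩
    apply hgh
    apply Subtype.ext
    have h3 := congrArg Subtype.val hc
    simpa [Matrix.SpecialLinearGroup.coe_mul] using h3
  obtain ⟨a, b, ha, hb, ha0, hb0, hab⟩ := hzd
  have hdet : a.det = 0 := by
    by_contra hd
    apply hb0
    have h1 : a.adjugate * (a * b) = a.det • b := by
      rw [← mul_assoc, Matrix.adjugate_mul, Matrix.smul_mul, one_mul]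
    rw [hab, mul_zero] at h1
    exact (smul_eq_zero.mp h1.symm).resolve_left hd
  by_cases ht : a.trace = 0
  · exact unip_of_nilpotent L K a ha ha0 ht hdet
  · have htL : a.trace ∈ L := by
      rw [Matrix.trace_fin_two]; exact trace_mem_of_spanAlg L K htr ha
    obtain ⟨e, he⟩ : ∃ e : M2 F, e = (⟨a.trace, htL⟩ : L)⁻¹ • a := ⟨_, rfl⟩
    have heA : e ∈ spanAlg L K := by rw [he]; exact Submodule.smul_mem _ _ ha
    have hee : ∀ i j, e i j = (a.trace)⁻¹ * a i j := by
      intro i j
      rw [he]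
      simp [Matrix.smul_apply, Subfield.smul_def]
    have hdet' := hdet
    rw [Matrix.det_fin_two] at hdet'
    have hetr : e 0 0 + e 1 1 = 1 := by
      rw [hee, hee, ← mul_add, ← Matrix.trace_fin_two, inv_mul_cancel₀ ht]
    have hedet : e 0 0 * e 1 1 - e 0 1 * e 1 0 = 0 := by
      rw [hee, hee, hee, hee]; linear_combination (a.trace)⁻¹ ^ 2 * hdet'
    have hens : e 0 1 ≠ 0 ∨ e 1 0 ≠ 0 ∨ e 0 0 ≠ e 1 1 := by
      by_contra hcon
      push Not at hcon
      obtain ⟨h01, h10, h00⟩ := hcon
      rw [h01, zero_mul, sub_zero, ← h00] at hedet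
      have h0 : e 0 0 = 0 := mul_self_eq_zero.mp hedet
      rw [← h00, h0, add_zero] at hetr
      exact zero_ne_one hetr
    have hidem : e * e = e := by
      apply mat2_ext <;> rw [mul2_apply]
      · linear_combination (e 0 0) * hetr - hedet
      · linear_combination (e 0 1) * hetr
      · linear_combination (e 1 0) * hetr
      · linear_combination (e 1 1) * hetr - hedet
    have hedet0 : e.det = 0 := by rw [Matrix.det_fin_two]; exact hedet
    by_cases hall : ∀ k ∈ K, (k : M2 F) * e = e * (k : M2 F)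
    · exfalso
      exact hgh (comm_of_commutant hens g h (hall g hg) (hall h hh))
    · push Not at hall
      obtain ⟨k, hk, hke⟩ := hall
      have hkA := coe_mem_spanAlg L K hk
      have htr0 : ∀ x : M2 F, (e * x - e * x * e).trace = 0 := by
        intro x
        rw [Matrix.trace_sub, Matrix.trace_mul_comm (e * x) e, ← mul_assoc, hidem, sub_self]
      have htr0' : ∀ x : M2 F, (x * e - e * x * e).trace = 0 := by
        intro x
        rw [Matrix.trace_sub, mul_assoc, Matrix.trace_mul_comm e (x * e), mul_assoc, hidem,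
          sub_self]
      by_cases h1 : e * (k : M2 F) - e * (k : M2 F) * e = 0
      · have h2 : (k : M2 F) * e - e * (k : M2 F) * e ≠ 0 := by
          intro h2
          apply hke
          rw [sub_eq_zero] at h1 h2
          rw [h2, ← h1]
        apply unip_of_nilpotent L K _ _ h2 (htr0' _)
        · have e1 : (k : M2 F) * e - e * (k : M2 F) * e = ((k : M2 F) - e * (k : M2 F)) * e := by
            rw [sub_mul]
          rw [e1, Matrix.det_mul, hedet0, mul_zero]
        · exact Submodule.sub_mem _ (mul_mem_spanAlg L K hkA heA)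
            (mul_mem_spanAlg L K (mul_mem_spanAlg L K heA hkA) heA)
      · apply unip_of_nilpotent L K _ _ h1 (htr0 _)
        · have e1 : e * (k : M2 F) - e * (k : M2 F) * e = e * ((k : M2 F) - (k : M2 F) * e) := by
            rw [mul_sub, mul_assoc]
          rw [e1, Matrix.det_mul, hedet0, zero_mul]
        · exact Submodule.sub_mem _ (mul_mem_spanAlg L K heA hkA)
            (mul_mem_spanAlg L K (mul_mem_spanAlg L K heA hkA) heA)

end Span

section Coatom

variable {F : Type*} [Field F] [Fintype F]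

/-- **Maximal subgroups contain the span groups of their normal subgroups with traces in a
proper subfield.** -/
theorem spanGrp_le_of_coatom (h4 : 4 ≤ Fintype.card F) (L : Subfield F) (hL : L ≠ ⊤)
    (K : Subgroup (SL2 F)) (hK : IsCoatom K) (K' : Subgroup (SL2 F))
    (hnorm : ∀ k ∈ K, ∀ x ∈ K', k * x * k⁻¹ ∈ K')
    (htr : ∀ k ∈ K', k 0 0 + k 1 1 ∈ L)
    (g h : SL2 F) (hg : g ∈ K') (hh : h ∈ K') (hgh : g * h ≠ h * g) :
    spanGrp L K' ≤ K := by
  have hKN : K ≤ Subgroup.normalizer (spanGrp L K' : Set (SL2 F)) := by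
    intro k hk
    rw [Subgroup.mem_normalizer_iff]
    intro x
    constructor
    · intro hx; exact conj_mem_spanGrp L K' k (hnorm k hk) hx
    · intro hx
      have h1 := conj_mem_spanGrp L K' k⁻¹ (hnorm k⁻¹ (K.inv_mem hk)) hx
      have e : k⁻¹ * (k * x * k⁻¹) * k⁻¹⁻¹ = x := by group
      rwa [e] at h1
  have hNtop : Subgroup.normalizer (spanGrp L K' : Set (SL2 F)) ≠ ⊤ := by
    intro htop
    have hnormal : (spanGrp L K').Normal := Subgroup.normalizer_eq_top_iff.mp htop
    have hsimple : IsSimpleGroup (Matrix.ProjectiveSpecialLinearGroup (Fin 2) F) :=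
      Matrix.ProjectiveSpecialLinearGroup.rank_two_simple
        (by rw [Nat.card_eq_fintype_card]; exact h4)
    have hmapn : ((spanGrp L K').map (QuotientGroup.mk' (Subgroup.center (SL2 F)))).Normal :=
      Subgroup.Normal.map hnormal _ (QuotientGroup.mk'_surjective _)
    rcases hmapn.eq_bot_or_eq_top with hb | ht
    · apply hgh
      have hgc : g ∈ Subgroup.center (SL2 F) := by
        have h1 : QuotientGroup.mk' (Subgroup.center (SL2 F)) g ∈
            (spanGrp L K').map (QuotientGroup.mk' (Subgroup.center (SL2 F))) :=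
          Subgroup.mem_map_of_mem _ (le_spanGrp L K' hg)
        rw [hb, Subgroup.mem_bot] at h1
        exact (QuotientGroup.eq_one_iff g).mp h1
      exact (Subgroup.mem_center_iff.mp hgc h).symm
    · apply spanGrp_ne_top L K' htr hL
      have hZ : Subgroup.center (SL2 F) ≤ spanGrp L K' := by
        intro z hz
        rcases center_sl2_eq z hz with h | h
        · rw [h]; exact Subgroup.one_mem _
        · rw [h]; exact negOne_mem_spanGrp L K'
      have h1 := Subgroup.comap_map_eq_self
        (f := QuotientGroup.mk' (Subgroup.center (SL2 F))) (H := spanGrp L K')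
        (by rw [QuotientGroup.ker_mk']; exact hZ)
      rw [← h1, ht, Subgroup.comap_top]
  rcases hK.le_iff.mp hKN with h | h
  · exact absurd h hNtop
  · rw [← h]; exact Subgroup.le_normalizer

end Coatom

section Frob

variable (F : Type*) [Field F] (p : ℕ) [Fact p.Prime] [CharP F p]

/-- The subfield of fixed points of `x ↦ x ^ p ^ k`. -/
def frobFix (k : ℕ) : Subfield F :=
  (iterateFrobenius F p k).eqLocusField (RingHom.id F)

variable {F}

theorem mem_frobFix (k : ℕ) (x : F) : x ∈ frobFix F p k ↔ x ^ p ^ k = x := by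
  show (iterateFrobenius F p k) x = RingHom.id F x ↔ _
  rw [iterateFrobenius_def, RingHom.id_apply]

theorem frobFix_ne_top [Fintype F] (k : ℕ) (hk : 1 ≤ k) (hlt : p ^ k < Fintype.card F) :
    frobFix F p k ≠ ⊤ := by
  intro htop
  have hp := (Fact.out : p.Prime)
  obtain ⟨ζ, hζ⟩ := IsCyclic.exists_generator (α := Fˣ)
  have hord : orderOf ζ = Fintype.card F - 1 := by
    rw [orderOf_eq_card_of_forall_mem_zpowers hζ, Nat.card_eq_fintype_card, Fintype.card_units]
  have hmem : (ζ : F) ∈ frobFix F p k := by rw [htop]; trivial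
  rw [mem_frobFix] at hmem
  have hpk : 2 ≤ p ^ k := by
    calc 2 ≤ p := hp.two_le
      _ = p ^ 1 := (pow_one p).symm
      _ ≤ p ^ k := Nat.pow_le_pow_right hp.pos hk
  have h1 : ζ ^ (p ^ k - 1) = 1 := by
    apply Units.ext
    rw [Units.val_pow_eq_pow_val, Units.val_one]
    have h3 : (ζ : F) ^ (p ^ k - 1) * (ζ : F) = (ζ : F) := by
      rw [← pow_succ, Nat.sub_add_cancel (by omega)]; exact hmem
    have h4 : (ζ : F) ≠ 0 := ζ.ne_zero
    exact mul_right_cancel₀ h4 (by rw [h3, one_mul])
  have h2 := orderOf_dvd_of_pow_eq_one h1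
  rw [hord] at h2
  have h3 := Nat.le_of_dvd (by omega) h2
  omega

end Frob

end Cfsg.Agent.Lib.helper98
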