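import Mathlib
import Cfsg.Agent.Lib.helper98.SpanSub
import Cfsg.Agent.Lib.helper98.MaxNM

/-!
# Maximal subgroups of `PSL₂(q)`, `q` odd: traces and auxiliary lemmas

* `trace_of_sq_center`, `trace_of_cube_center`, `trace_of_pow5_center`: the traces of elements
  of `SL₂(F)` whose square, cube or fifth power is central.
* `golden_mem_frobFix`, `golden_mem_of_sqrt5`, `exists_sqrt5_frobFix`: subfields containing them.
* `imgK`: the map from a subgroup `K` of `SL₂(F)` to a model of its image in `PSL₂(F)`.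
* `tame_span_absurd`: a tame maximal subgroup has no non-abelian normal subgroup with traces in
  a proper subfield.
* `a4_sqrt2_absurd`: no maximal subgroup of type `A₄` when `2` is a square.
-/

set_option autoImplicit false
set_option linter.unusedSimpArgs false
set_option linter.unusedVariables false

namespace Cfsg.Agent.Lib.helper98

open Matrix
open scoped Classical

local notation "SL2" => Matrix.SpecialLinearGroup (Fin 2)
local notation "PSL2" => Matrix.ProjectiveSpecialLinearGroup (Fin 2)
local notation "M2" => Matrix (Fin 2) (Fin 2)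

section Trace

variable {F : Type*} [Field F]

theorem trace_of_sq_center (g : SL2 F) (hg : g * g ∈ Subgroup.center (SL2 F)) :
    g 0 0 + g 1 1 = 2 ∨ g 0 0 + g 1 1 = -2 ∨ g 0 0 + g 1 1 = 0 := by
  obtain ⟨h00, h01, h10, h11⟩ := isLin_mul (isLin_self g)
  rcases center_sl2_eq _ hg with h | h
  · rw [h] at h00 h11
    rw [sl2_one_00] at h00
    rw [sl2_one_11] at h11
    have h4 : (g 0 0 + g 1 1 - 2) * (g 0 0 + g 1 1 + 2) = 0 := by linear_combination -h00 - h11
    rcases mul_eq_zero.mp h4 with h' | h'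
    · left; linear_combination h'
    · right; left; linear_combination h'
  · rw [h] at h00 h11
    rw [negOne_00] at h00
    rw [negOne_11] at h11
    have h4 : (g 0 0 + g 1 1) * (g 0 0 + g 1 1) = 0 := by linear_combination -h00 - h11
    right; right; exact mul_self_eq_zero.mp h4

theorem trace_of_cube_center (g : SL2 F) (hg : g * g * g ∈ Subgroup.center (SL2 F)) :
    g 0 0 + g 1 1 = 2 ∨ g 0 0 + g 1 1 = -2 ∨ g 0 0 + g 1 1 = 1 ∨ g 0 0 + g 1 1 = -1 := by
  obtain ⟨h00, h01, h10, h11⟩ := isLin_mul (isLin_mul (isLin_self g))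
  rcases center_sl2_eq _ hg with h | h
  · rw [h] at h00 h11
    rw [sl2_one_00] at h00
    rw [sl2_one_11] at h11
    have h4 : (g 0 0 + g 1 1 - 2) * ((g 0 0 + g 1 1 + 1) * (g 0 0 + g 1 1 + 1)) = 0 := by
      linear_combination -h00 - h11
    rcases mul_eq_zero.mp h4 with h' | h'
    · left; linear_combination h'
    · right; right; right
      have h5 := mul_self_eq_zero.mp h'
      linear_combination h5
  · rw [h] at h00 h11
    rw [negOne_00] at h00
    rw [negOne_11] at h11
    have h4 : (g 0 0 + g 1 1 + 2) * ((g 0 0 + g 1 1 - 1) * (g 0 0 + g 1 1 - 1)) = 0 := by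
      linear_combination -h00 - h11
    rcases mul_eq_zero.mp h4 with h' | h'
    · right; left; linear_combination h'
    · right; right; left
      have h5 := mul_self_eq_zero.mp h'
      linear_combination h5

theorem trace_of_pow5_center (g : SL2 F) (hg : g * g * g * g * g ∈ Subgroup.center (SL2 F)) :
    g 0 0 + g 1 1 = 2 ∨ g 0 0 + g 1 1 = -2 ∨
      (g 0 0 + g 1 1) * (g 0 0 + g 1 1) = 1 * (g 0 0 + g 1 1) + 1 ∨
      (g 0 0 + g 1 1) * (g 0 0 + g 1 1) = -1 * (g 0 0 + g 1 1) + 1 := by
  obtain ⟨h00, h01, h10, h11⟩ := isLin_mul (isLin_mul (isLin_mul (isLin_mul (isLin_self g))))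
  rcases center_sl2_eq _ hg with h | h
  · rw [h] at h00 h11
    rw [sl2_one_00] at h00
    rw [sl2_one_11] at h11
    have h4 : (g 0 0 + g 1 1 - 2) *
        (((g 0 0 + g 1 1) * (g 0 0 + g 1 1) + (g 0 0 + g 1 1) - 1) *
          ((g 0 0 + g 1 1) * (g 0 0 + g 1 1) + (g 0 0 + g 1 1) - 1)) = 0 := by
      linear_combination -h00 - h11
    rcases mul_eq_zero.mp h4 with h' | h'
    · left; linear_combination h'
    · right; right; right
      have h5 := mul_self_eq_zero.mp h'
      linear_combination h5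
  · rw [h] at h00 h11
    rw [negOne_00] at h00
    rw [negOne_11] at h11
    have h4 : (g 0 0 + g 1 1 + 2) *
        (((g 0 0 + g 1 1) * (g 0 0 + g 1 1) - (g 0 0 + g 1 1) - 1) *
          ((g 0 0 + g 1 1) * (g 0 0 + g 1 1) - (g 0 0 + g 1 1) - 1)) = 0 := by
      linear_combination -h00 - h11
    rcases mul_eq_zero.mp h4 with h' | h'
    · right; left; linear_combination h'
    · right; right; left
      have h5 := mul_self_eq_zero.mp h'
      linear_combination h5

/-- An element of `SL₂(F)` (`char F ≠ 2`) with square `1` is central. -/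
theorem mem_center_of_sq_eq_one (h2 : (2 : F) ≠ 0) (g : SL2 F) (hg : g * g = 1) :
    g ∈ Subgroup.center (SL2 F) := by
  by_cases h1 : g = 1
  · rw [h1]; exact Subgroup.one_mem _
  by_cases hn : g = negOne
  · rw [hn]; exact negOne_mem_center
  exfalso
  obtain ⟨h00, h01, h10, h11⟩ := isLin_mul (isLin_self g)
  rw [hg] at h00 h01 h10 h11
  rw [sl2_one_00] at h00
  rw [sl2_one_01] at h01
  rw [sl2_one_10] at h10
  rw [sl2_one_11] at h11
  have ht : g 0 0 + g 1 1 ≠ 0 := by
    intro h
    rw [h] at h00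
    apply h2
    linear_combination h00
  rcases nonscalar_of_ne g h1 hn with h | h | h
  · apply h
    have h3 : (g 0 0 + g 1 1) * g 0 1 = 0 := by linear_combination -h01
    exact (mul_eq_zero.mp h3).resolve_left ht
  · apply h
    have h3 : (g 0 0 + g 1 1) * g 1 0 = 0 := by linear_combination -h10
    exact (mul_eq_zero.mp h3).resolve_left ht
  · apply h
    have h3 : (g 0 0 + g 1 1) * (g 0 0 - g 1 1) = 0 := by linear_combination -h00 + h11
    exact sub_eq_zero.mp ((mul_eq_zero.mp h3).resolve_left ht)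

/-- A non-central element with central square has square `-1`. -/
theorem sq_eq_negOne_of_center (h2 : (2 : F) ≠ 0) (g : SL2 F)
    (hg : g * g ∈ Subgroup.center (SL2 F)) (hgc : g ∉ Subgroup.center (SL2 F)) :
    g * g = negOne := by
  rcases center_sl2_eq _ hg with h | h
  · exact absurd (mem_center_of_sq_eq_one h2 g h) hgc
  · exact h

theorem golden_mem_frobFix (p : ℕ) [Fact p.Prime] [CharP F p] (t ε : F) (hε : ε = 1 ∨ ε = -1)
    (ht : t * t = ε * t + 1) : t ∈ frobFix F p 2 := by
  rw [mem_frobFix]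
  have hεp : ε ^ p = ε := by
    rcases hε with rfl | rfl
    · exact one_pow p
    · have h1 := map_neg (frobenius F p) 1
      rw [map_one, frobenius_def] at h1
      exact h1
  obtain ⟨s, hs⟩ : ∃ s, s = t ^ p := ⟨_, rfl⟩
  have hss : s * s = ε * s + 1 := by
    have h1 := congrArg (frobenius F p) ht
    rw [map_mul, map_add, map_mul, map_one, frobenius_def, frobenius_def, hεp, ← hs] at h1
    exact h1
  have h2 : (s - t) * (s + t - ε) = 0 := by linear_combination hss - ht
  have e : t ^ p ^ 2 = s ^ p := by rw [hs, ← pow_mul, pow_two]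
  rw [e]
  rcases mul_eq_zero.mp h2 with h | h
  · have hst : s = t := sub_eq_zero.mp h
    rw [hst, ← hs, hst]
  · have hst : s = ε - t := by linear_combination h
    have h3 : s ^ p = ε ^ p - t ^ p := by
      rw [hst]
      have h4 := map_sub (frobenius F p) ε t
      rw [frobenius_def, frobenius_def, frobenius_def] at h4
      exact h4
    rw [h3, hεp, ← hs, hst]; ring

theorem golden_mem_of_sqrt5 (L : Subfield F) (h2 : (2 : F) ≠ 0) (r : F) (hr : r ∈ L)
    (hr5 : r * r = 5) (t ε : F) (hε : ε = 1 ∨ ε = -1) (ht : t * t = ε * t + 1) : t ∈ L := by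
  have hεL : ε ∈ L := by
    rcases hε with rfl | rfl
    · exact L.one_mem
    · exact L.neg_mem L.one_mem
  have hε2 : ε * ε = 1 := by
    rcases hε with rfl | rfl <;> ring
  have h1 : (2 * t - ε - r) * (2 * t - ε + r) = 0 := by
    linear_combination 4 * ht + hε2 - hr5
  have h2L : (2 : F) ∈ L := two_mem_subfield L
  rcases mul_eq_zero.mp h1 with h | h
  · have e : t = (ε + r) * 2⁻¹ := by
      field_simp
      linear_combination h
    rw [e]; exact L.mul_mem (L.add_mem hεL hr) (L.inv_mem h2L)
  · have e : t = (ε - r) * 2⁻¹ := by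
      field_simp
      linear_combination h
    rw [e]; exact L.mul_mem (L.sub_mem hεL hr) (L.inv_mem h2L)

theorem exists_sqrt5_frobFix (p : ℕ) [Fact p.Prime] [CharP F p] (hp2 : p ≠ 2)
    (hp5 : p % 5 = 1 ∨ p % 5 = 4) : ∃ r : F, r ∈ frobFix F p 1 ∧ r * r = 5 := by
  have hchar : ringChar (ZMod p) ≠ 2 := by rw [ZMod.ringChar_zmod_n]; exact hp2
  obtain ⟨r₀, hr₀⟩ := five_isSquare (F := ZMod p) hchar (by rw [ZMod.card]; exact hp5)
  refine ⟨ZMod.castHom (dvd_refl p) F r₀, ?_, ?_⟩
  · rw [mem_frobFix, pow_one, ← map_pow, ZMod.pow_card]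
  · rw [← map_mul, ← hr₀, map_natCast]
    norm_num

/-- Integers `0, ±1, ±2` in subfields. -/
theorem small_mem_subfield (L : Subfield F) (x : F)
    (hx : x = 2 ∨ x = -2 ∨ x = 0 ∨ x = 1 ∨ x = -1) : x ∈ L := by
  rcases hx with rfl | rfl | rfl | rfl | rfl
  · exact two_mem_subfield L
  · exact L.neg_mem (two_mem_subfield L)
  · exact L.zero_mem
  · exact L.one_mem
  · exact L.neg_mem L.one_mem

end Trace

section Img

variable {F : Type*} [Field F] {X : Type*} [Group X]

/-- The map from `K` to a model `X` of its image in `PSL₂(F)`. -/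
def imgK (K : Subgroup (SL2 F))
    (e : K.map (QuotientGroup.mk' (Subgroup.center (SL2 F))) ≃* X) : K →* X :=
  e.toMonoidHom.comp ((QuotientGroup.mk' (Subgroup.center (SL2 F))).subgroupMap K)

theorem imgK_eq_one_iff (K : Subgroup (SL2 F))
    (e : K.map (QuotientGroup.mk' (Subgroup.center (SL2 F))) ≃* X) (x : K) :
    imgK K e x = 1 ↔ (x : SL2 F) ∈ Subgroup.center (SL2 F) := by
  unfold imgK
  rw [MonoidHom.comp_apply]
  show e _ = 1 ↔ _
  rw [MulEquiv.map_eq_one_iff, ← QuotientGroup.eq_one_iff (N := Subgroup.center (SL2 F))]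
  constructor
  · intro h
    have h1 := congrArg Subtype.val h
    exact h1
  · intro h
    exact Subtype.ext h

theorem imgK_surjective (K : Subgroup (SL2 F))
    (e : K.map (QuotientGroup.mk' (Subgroup.center (SL2 F))) ≃* X) :
    Function.Surjective (imgK K e) := by
  unfold imgK
  exact e.surjective.comp (MonoidHom.subgroupMap_surjective _ K)

/-- Elements with the same image differ by a central element. -/
theorem imgK_eq_iff (K : Subgroup (SL2 F))
    (e : K.map (QuotientGroup.mk' (Subgroup.center (SL2 F))) ≃* X) (x y : K) :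
    imgK K e x = imgK K e y ↔ (x : SL2 F) * (y : SL2 F)⁻¹ ∈ Subgroup.center (SL2 F) := by
  have h1 := imgK_eq_one_iff K e (x * y⁻¹)
  rw [map_mul, map_inv, mul_inv_eq_one] at h1
  exact h1

end Img

section Absurd

variable {F : Type*} [Field F] [Fintype F]

/-- A tame maximal subgroup has no non-abelian normal subgroup with traces in a proper
subfield. -/
theorem tame_span_absurd (h4 : 4 ≤ Fintype.card F) (L : Subfield F) (hL : L ≠ ⊤)
    (K : Subgroup (SL2 F)) (hK : IsCoatom K)
    (htame : ∀ g ∈ K, g 0 0 + g 1 1 = 2 → g = 1) (K' : Subgroup (SL2 F))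
    (hnorm : ∀ k ∈ K, ∀ x ∈ K', k * x * k⁻¹ ∈ K') (htr : ∀ k ∈ K', k 0 0 + k 1 1 ∈ L)
    (g h : SL2 F) (hg : g ∈ K') (hh : h ∈ K') (hgh : g * h ≠ h * g) : False := by
  have hle := spanGrp_le_of_coatom h4 L hL K hK K' hnorm htr g h hg hh hgh
  obtain ⟨u, hu, hu1, hutr⟩ := exists_unip_spanGrp L K' htr g h hg hh hgh
  exact hu1 (htame u (hle hu) hutr)

end Absurd

end Cfsg.Agent.Lib.helper98
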