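import Mathlib
import Cfsg.Agent.Lib.helper98.MaxOddA

/-!
# Maximal subgroups of `PSL₂(q)`, `q` odd: the exceptional types

* `trace_mem_a4`, `trace_mem_s4_alt`, `trace_mem_a5`: traces of subgroups of types `A₄`, `S₄`,
  `A₅`.
* `noncomm_lift`: lifting non-commuting elements.
* `a4_sqrt2_absurd`: no maximal subgroup of type `A₄` when `2` is a square.
* `a4_prime_field`, `s4_prime_field`, `a5_field`: field restrictions for tame maximal subgroups
  of exceptional type.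
-/

set_option autoImplicit false
set_option linter.unusedSimpArgs false
set_option linter.unusedVariables false

namespace Cfsg.Agent.Lib.helper98

open Matrix
open scoped Classical

local notation "SL2" => Matrix.SpecialLinearGroup (Fin 2)
local notation "PSL2" => Matrix.ProjectiveSpecialLinearGroup (Fin 2)
local notation "M2" => Matrix (Fin 2) (Fin 2)

section Types

variable {F : Type*} [Field F]

theorem sq_mem_center_of_img {X : Type*} [Group X] (K : Subgroup (SL2 F))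
    (e : K.map (QuotientGroup.mk' (Subgroup.center (SL2 F))) ≃* X) (g : SL2 F) (hg : g ∈ K)
    (h : imgK K e ⟨g, hg⟩ * imgK K e ⟨g, hg⟩ = 1) : g * g ∈ Subgroup.center (SL2 F) := by
  have h2 : imgK K e (⟨g, hg⟩ * ⟨g, hg⟩) = 1 := by rw [map_mul]; exact h
  exact (imgK_eq_one_iff K e _).mp h2

theorem cube_mem_center_of_img {X : Type*} [Group X] (K : Subgroup (SL2 F))
    (e : K.map (QuotientGroup.mk' (Subgroup.center (SL2 F))) ≃* X) (g : SL2 F) (hg : g ∈ K)
    (h : imgK K e ⟨g, hg⟩ * imgK K e ⟨g, hg⟩ * imgK K e ⟨g, hg⟩ = 1) :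
    g * g * g ∈ Subgroup.center (SL2 F) := by
  have h2 : imgK K e (⟨g, hg⟩ * ⟨g, hg⟩ * ⟨g, hg⟩) = 1 := by rw [map_mul, map_mul]; exact h
  exact (imgK_eq_one_iff K e _).mp h2

theorem pow5_mem_center_of_img {X : Type*} [Group X] (K : Subgroup (SL2 F))
    (e : K.map (QuotientGroup.mk' (Subgroup.center (SL2 F))) ≃* X) (g : SL2 F) (hg : g ∈ K)
    (h : imgK K e ⟨g, hg⟩ * imgK K e ⟨g, hg⟩ * imgK K e ⟨g, hg⟩ * imgK K e ⟨g, hg⟩ *
      imgK K e ⟨g, hg⟩ = 1) :
    g * g * g * g * g ∈ Subgroup.center (SL2 F) := by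
  have h2 : imgK K e (⟨g, hg⟩ * ⟨g, hg⟩ * ⟨g, hg⟩ * ⟨g, hg⟩ * ⟨g, hg⟩) = 1 := by
    rw [map_mul, map_mul, map_mul, map_mul]; exact h
  exact (imgK_eq_one_iff K e _).mp h2

theorem trace_mem_of_sq (L : Subfield F) (g : SL2 F) (h : g * g ∈ Subgroup.center (SL2 F)) :
    g 0 0 + g 1 1 ∈ L := by
  rcases trace_of_sq_center g h with h' | h' | h'
  · exact small_mem_subfield L _ (Or.inl h')
  · exact small_mem_subfield L _ (Or.inr (Or.inl h'))
  · exact small_mem_subfield L _ (Or.inr (Or.inr (Or.inl h')))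

theorem trace_mem_of_cube (L : Subfield F) (g : SL2 F)
    (h : g * g * g ∈ Subgroup.center (SL2 F)) : g 0 0 + g 1 1 ∈ L := by
  rcases trace_of_cube_center g h with h' | h' | h' | h'
  · exact small_mem_subfield L _ (Or.inl h')
  · exact small_mem_subfield L _ (Or.inr (Or.inl h'))
  · exact small_mem_subfield L _ (Or.inr (Or.inr (Or.inr (Or.inl h'))))
  · exact small_mem_subfield L _ (Or.inr (Or.inr (Or.inr (Or.inr h'))))

theorem trace_mem_of_pow5 (L : Subfield F)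
    (hgold : ∀ t ε : F, (ε = 1 ∨ ε = -1) → t * t = ε * t + 1 → t ∈ L) (g : SL2 F)
    (h : g * g * g * g * g ∈ Subgroup.center (SL2 F)) : g 0 0 + g 1 1 ∈ L := by
  rcases trace_of_pow5_center g h with h' | h' | h' | h'
  · exact small_mem_subfield L _ (Or.inl h')
  · exact small_mem_subfield L _ (Or.inr (Or.inl h'))
  · exact hgold _ 1 (Or.inl rfl) h'
  · exact hgold _ (-1) (Or.inr rfl) h'

theorem trace_mem_a4 (L : Subfield F) (K : Subgroup (SL2 F))
    (e : K.map (QuotientGroup.mk' (Subgroup.center (SL2 F))) ≃* alternatingGroup (Fin 4))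
    (g : SL2 F) (hg : g ∈ K) : g 0 0 + g 1 1 ∈ L := by
  rcases a4_orders (imgK K e ⟨g, hg⟩) with h | h
  · exact trace_mem_of_sq L g (sq_mem_center_of_img K e g hg h)
  · exact trace_mem_of_cube L g (cube_mem_center_of_img K e g hg h)

theorem trace_mem_s4_alt (L : Subfield F) (K : Subgroup (SL2 F))
    (e : K.map (QuotientGroup.mk' (Subgroup.center (SL2 F))) ≃* Equiv.Perm (Fin 4))
    (g : SL2 F) (hg : g ∈ K) (hs : Equiv.Perm.sign (imgK K e ⟨g, hg⟩) = 1) :
    g 0 0 + g 1 1 ∈ L := by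
  rcases s4_alt_orders (imgK K e ⟨g, hg⟩) hs with h | h
  · exact trace_mem_of_sq L g (sq_mem_center_of_img K e g hg h)
  · exact trace_mem_of_cube L g (cube_mem_center_of_img K e g hg h)

theorem trace_mem_a5 (L : Subfield F)
    (hgold : ∀ t ε : F, (ε = 1 ∨ ε = -1) → t * t = ε * t + 1 → t ∈ L) (K : Subgroup (SL2 F))
    (e : K.map (QuotientGroup.mk' (Subgroup.center (SL2 F))) ≃* alternatingGroup (Fin 5))
    (g : SL2 F) (hg : g ∈ K) : g 0 0 + g 1 1 ∈ L := by
  rcases a5_orders (imgK K e ⟨g, hg⟩) with h | h | h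
  · exact trace_mem_of_sq L g (sq_mem_center_of_img K e g hg h)
  · exact trace_mem_of_cube L g (cube_mem_center_of_img K e g hg h)
  · exact trace_mem_of_pow5 L hgold g (pow5_mem_center_of_img K e g hg h)

/-- Lifts of non-commuting elements do not commute. -/
theorem noncomm_lift {X : Type*} [Group X] (K : Subgroup (SL2 F))
    (e : K.map (QuotientGroup.mk' (Subgroup.center (SL2 F))) ≃* X) (a b : X)
    (hab : a * b ≠ b * a) :
    ∃ g h : K, imgK K e g = a ∧ imgK K e h = b ∧ (g : SL2 F) * (h : SL2 F) ≠ h * g := by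
  obtain ⟨g, hg⟩ := imgK_surjective K e a
  obtain ⟨h, hh⟩ := imgK_surjective K e b
  refine ⟨g, h, hg, hh, ?_⟩
  intro hc
  apply hab
  have h1 : g * h = h * g := Subtype.ext hc
  rw [← hg, ← hh, ← map_mul, ← map_mul, h1]

theorem coe_negOne : ((negOne : SL2 F) : M2 F) = -1 := by
  apply mat2_ext <;> simp [negOne]

end Types

section A4

variable {F : Type*} [Field F] [Fintype F]

set_option maxHeartbeats 1000000 in
/-- **No maximal subgroup of type `A₄` when `2` is a square**: the element `(I + J)/√2`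
normalizes the quaternion subgroup. -/
theorem a4_sqrt2_absurd (h2 : (2 : F) ≠ 0) (h4 : 4 ≤ Fintype.card F) (s : F) (hs : s * s = 2)
    (K : Subgroup (SL2 F)) (hK : IsCoatom K) (hZK : Subgroup.center (SL2 F) ≤ K)
    (e : K.map (QuotientGroup.mk' (Subgroup.center (SL2 F))) ≃* alternatingGroup (Fin 4)) :
    False := by
  obtain ⟨a, b, ha, hb, ha1, hb1, hab⟩ := a4_exists_inv
  obtain ⟨I', hI'⟩ := imgK_surjective K e a
  obtain ⟨J', hJ'⟩ := imgK_surjective K e b
  obtain ⟨I, hI⟩ : ∃ I : SL2 F, I = (I' : SL2 F) := ⟨_, rfl⟩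
  obtain ⟨J, hJ⟩ : ∃ J : SL2 F, J = (J' : SL2 F) := ⟨_, rfl⟩
  have hIK : I ∈ K := hI ▸ I'.2
  have hJK : J ∈ K := hJ ▸ J'.2
  have hIc : I ∉ Subgroup.center (SL2 F) := by
    intro h
    apply ha1
    rw [← hI', imgK_eq_one_iff, ← hI]; exact h
  have hJc : J ∉ Subgroup.center (SL2 F) := by
    intro h
    apply hb1
    rw [← hJ', imgK_eq_one_iff, ← hJ]; exact h
  have hI2c : I * I ∈ Subgroup.center (SL2 F) := by
    have h1 : imgK K e (I' * I') = 1 := by rw [map_mul, hI', ha]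
    rw [imgK_eq_one_iff] at h1
    rw [hI]; exact h1
  have hJ2c : J * J ∈ Subgroup.center (SL2 F) := by
    have h1 : imgK K e (J' * J') = 1 := by rw [map_mul, hJ', hb]
    rw [imgK_eq_one_iff] at h1
    rw [hJ]; exact h1
  have hI2 : I * I = negOne := sq_eq_negOne_of_center h2 I hI2c hIc
  have hJ2 : J * J = negOne := sq_eq_negOne_of_center h2 J hJ2c hJc
  have hbinv : b⁻¹ = b := inv_eq_of_mul_eq_one_right hb
  have hIJc : I * J ∉ Subgroup.center (SL2 F) := by
    intro h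
    have h1 : imgK K e (I' * J') = 1 := by
      rw [imgK_eq_one_iff, Subgroup.coe_mul, ← hI, ← hJ]; exact h
    rw [map_mul, hI', hJ'] at h1
    apply hab
    rw [eq_inv_of_mul_eq_one_left h1, hbinv]
  have hIJ2c : (I * J) * (I * J) ∈ Subgroup.center (SL2 F) := by
    have h1 : imgK K e ((I' * J') * (I' * J')) = 1 := by
      rw [map_mul, map_mul, hI', hJ']; exact a4_inv_mul a b ha hb
    rw [imgK_eq_one_iff] at h1
    rw [hI, hJ]; exact h1
  have hIJ2 : (I * J) * (I * J) = negOne := sq_eq_negOne_of_center h2 _ hIJ2c hIJc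
  -- entry relations
  have htrI := trace_zero_of_sq_negOne I hI2
  have htrJ := trace_zero_of_sq_negOne J hJ2
  have htrIJ := trace_zero_of_sq_negOne (I * J) hIJ2
  rw [sl2_mul_apply, sl2_mul_apply] at htrIJ
  have hI00 : I 0 0 * I 0 0 + I 0 1 * I 1 0 = -1 := by
    have h1 := congrArg (fun g : SL2 F => g 0 0) hI2
    simpa only [sl2_mul_apply, negOne_00] using h1
  have hI01 : I 0 0 * I 0 1 + I 0 1 * I 1 1 = 0 := by
    have h1 := congrArg (fun g : SL2 F => g 0 1) hI2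
    simpa only [sl2_mul_apply, negOne_01] using h1
  have hI10 : I 1 0 * I 0 0 + I 1 1 * I 1 0 = 0 := by
    have h1 := congrArg (fun g : SL2 F => g 1 0) hI2
    simpa only [sl2_mul_apply, negOne_10] using h1
  have hI11 : I 1 0 * I 0 1 + I 1 1 * I 1 1 = -1 := by
    have h1 := congrArg (fun g : SL2 F => g 1 1) hI2
    simpa only [sl2_mul_apply, negOne_11] using h1
  have hJ00 : J 0 0 * J 0 0 + J 0 1 * J 1 0 = -1 := by
    have h1 := congrArg (fun g : SL2 F => g 0 0) hJ2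
    simpa only [sl2_mul_apply, negOne_00] using h1
  have hJ01 : J 0 0 * J 0 1 + J 0 1 * J 1 1 = 0 := by
    have h1 := congrArg (fun g : SL2 F => g 0 1) hJ2
    simpa only [sl2_mul_apply, negOne_01] using h1
  have hJ10 : J 1 0 * J 0 0 + J 1 1 * J 1 0 = 0 := by
    have h1 := congrArg (fun g : SL2 F => g 1 0) hJ2
    simpa only [sl2_mul_apply, negOne_10] using h1
  have hJ11 : J 1 0 * J 0 1 + J 1 1 * J 1 1 = -1 := by
    have h1 := congrArg (fun g : SL2 F => g 1 1) hJ2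
    simpa only [sl2_mul_apply, negOne_11] using h1
  have hD : (I 0 0 + J 0 0) * (I 1 1 + J 1 1) - (I 0 1 + J 0 1) * (I 1 0 + J 1 0) = 2 := by
    linear_combination (sl2_det' I) + (sl2_det' J) + (J 0 0 + J 1 1) * htrI - htrIJ
  have hs0 : s ≠ 0 := by
    rintro rfl
    rw [mul_zero] at hs
    exact h2 hs.symm
  have hsi : s⁻¹ * s⁻¹ * 2 = 1 := by
    rw [← hs]; field_simp
  obtain ⟨x, hx⟩ : ∃ x : SL2 F, x = mkSL (s⁻¹ * (I 0 0 + J 0 0)) (s⁻¹ * (I 0 1 + J 0 1))
      (s⁻¹ * (I 1 0 + J 1 0)) (s⁻¹ * (I 1 1 + J 1 1))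
      (by linear_combination s⁻¹ * s⁻¹ * hD + hsi) := ⟨_, rfl⟩
  have hx00 : x 0 0 = s⁻¹ * (I 0 0 + J 0 0) := by rw [hx]; rfl
  have hx01 : x 0 1 = s⁻¹ * (I 0 1 + J 0 1) := by rw [hx]; rfl
  have hx10 : x 1 0 = s⁻¹ * (I 1 0 + J 1 0) := by rw [hx]; rfl
  have hx11 : x 1 1 = s⁻¹ * (I 1 1 + J 1 1) := by rw [hx]; rfl
  have hxI : x * I = J * x := by
    apply sl2_ext <;> simp only [sl2_mul_apply, hx00, hx01, hx10, hx11]
    · linear_combination s⁻¹ * hI00 - s⁻¹ * hJ00
    · linear_combination s⁻¹ * hI01 - s⁻¹ * hJ01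
    · linear_combination s⁻¹ * hI10 - s⁻¹ * hJ10
    · linear_combination s⁻¹ * hI11 - s⁻¹ * hJ11
  have hxJ : x * J = I * x := by
    apply sl2_ext <;> simp only [sl2_mul_apply, hx00, hx01, hx10, hx11]
    · linear_combination s⁻¹ * hJ00 - s⁻¹ * hI00
    · linear_combination s⁻¹ * hJ01 - s⁻¹ * hI01
    · linear_combination s⁻¹ * hJ10 - s⁻¹ * hI10
    · linear_combination s⁻¹ * hJ11 - s⁻¹ * hI11
  have hxx : x * x = negOne :=
    sq_of_trace_zero x (by rw [hx00, hx11]; linear_combination s⁻¹ * htrI + s⁻¹ * htrJ)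
  have hxIc : x * I * x⁻¹ = J := by rw [hxI]; group
  have hxJc : x * J * x⁻¹ = I := by rw [hxJ]; group
  -- the quaternion subgroup
  obtain ⟨Q, hQ⟩ : ∃ Q : Subgroup (SL2 F), Q = (a4Four.comap (imgK K e)).map K.subtype :=
    ⟨_, rfl⟩
  have hQmem : ∀ g : SL2 F, g ∈ Q ↔ ∃ g' : K, imgK K e g' * imgK K e g' = 1 ∧ (g' : SL2 F) = g := by
    intro g
    rw [hQ]
    constructor
    · rintro ⟨g', hg', rfl⟩
      exact ⟨g', hg', rfl⟩
    · rintro ⟨g', hg', rfl⟩
      exact ⟨g', hg', rfl⟩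
  have hQK : Q ≤ K := by
    intro g hg
    obtain ⟨g', -, rfl⟩ := (hQmem g).mp hg
    exact g'.2
  have hZQ : ∀ z : SL2 F, z ∈ Subgroup.center (SL2 F) → z ∈ Q := by
    intro z hz
    rw [hQmem]
    refine ⟨⟨z, hZK hz⟩, ?_, rfl⟩
    have h1 : imgK K e ⟨z, hZK hz⟩ = 1 := (imgK_eq_one_iff K e _).mpr hz
    rw [h1, mul_one]
  have hIQ : I ∈ Q := (hQmem I).mpr ⟨I', by rw [hI']; exact ha, hI.symm⟩
  have hJQ : J ∈ Q := (hQmem J).mpr ⟨J', by rw [hJ']; exact hb, hJ.symm⟩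
  have hKconj : ∀ k ∈ K, ∀ g ∈ Q, k * g * k⁻¹ ∈ Q := by
    intro k hk g hg
    obtain ⟨g', hg', rfl⟩ := (hQmem g).mp hg
    rw [hQmem]
    refine ⟨⟨k, hk⟩ * g' * ⟨k, hk⟩⁻¹, ?_, by
      rw [Subgroup.coe_mul, Subgroup.coe_mul, Subgroup.coe_inv]⟩
    rw [map_mul, map_mul, map_inv]
    calc imgK K e ⟨k, hk⟩ * imgK K e g' * (imgK K e ⟨k, hk⟩)⁻¹ *
          (imgK K e ⟨k, hk⟩ * imgK K e g' * (imgK K e ⟨k, hk⟩)⁻¹)
        = imgK K e ⟨k, hk⟩ * (imgK K e g' * imgK K e g') * (imgK K e ⟨k, hk⟩)⁻¹ := by group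
      _ = 1 := by rw [hg']; group
  have hKN : K ≤ Subgroup.normalizer (Q : Set (SL2 F)) := by
    intro k hk
    rw [Subgroup.mem_normalizer_iff]
    intro g
    constructor
    · exact hKconj k hk g
    · intro hg
      have h1 := hKconj k⁻¹ (K.inv_mem hk) _ hg
      have e1 : k⁻¹ * (k * g * k⁻¹) * k⁻¹⁻¹ = g := by group
      rwa [e1] at h1
  -- `x` normalizes `Q`
  have key : ∀ (y' : K) (w : SL2 F), w ∈ Q → x * (y' : SL2 F) * x⁻¹ = w →
      ∀ h' : K, imgK K e h' = imgK K e y' → x * (h' : SL2 F) * x⁻¹ ∈ Q := by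
    intro y' w hw hxy h' hh'
    have hz : (h' : SL2 F) * (y' : SL2 F)⁻¹ ∈ Subgroup.center (SL2 F) :=
      (imgK_eq_iff K e h' y').mp hh'
    have hzc := Subgroup.mem_center_iff.mp hz
    have e1 : x * (h' : SL2 F) * x⁻¹ = ((h' : SL2 F) * (y' : SL2 F)⁻¹) * w := by
      rw [← hxy]
      calc x * (h' : SL2 F) * x⁻¹
          = x * ((h' : SL2 F) * (y' : SL2 F)⁻¹) * (y' : SL2 F) * x⁻¹ := by group
        _ = ((h' : SL2 F) * (y' : SL2 F)⁻¹) * x * (y' : SL2 F) * x⁻¹ := by rw [hzc x]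
        _ = ((h' : SL2 F) * (y' : SL2 F)⁻¹) * (x * (y' : SL2 F) * x⁻¹) := by group
    rw [e1]
    exact Q.mul_mem (hZQ _ hz) hw
  have hfw : ∀ g ∈ Q, x * g * x⁻¹ ∈ Q := by
    intro g hg
    obtain ⟨g', hg', rfl⟩ := (hQmem g).mp hg
    rcases a4_four_elems a b (imgK K e g') ha hb ha1 hb1 hab hg' with h | h | h | h
    · exact key 1 1 Q.one_mem (by rw [Subgroup.coe_one]; group) g' (by rw [h, map_one])
    · exact key I' J hJQ (by rw [← hI]; exact hxIc) g' (by rw [h, hI'])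
    · exact key J' I hIQ (by rw [← hJ]; exact hxJc) g' (by rw [h, hJ'])
    · refine key (I' * J') (J * I) (Q.mul_mem hJQ hIQ) ?_ g' (by rw [h, map_mul, hI', hJ'])
      rw [Subgroup.coe_mul, ← hI, ← hJ]
      have e3 : x * (I * J) * x⁻¹ = (x * I * x⁻¹) * (x * J * x⁻¹) := by group
      rw [e3, hxIc, hxJc]
  have hxinv : x * x * (x * x)⁻¹ = 1 := by group
  have hxN : x ∈ Subgroup.normalizer (Q : Set (SL2 F)) := by
    rw [Subgroup.mem_normalizer_iff]
    intro g
    constructor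
    · exact hfw g
    · intro hg
      have h1 := hfw _ hg
      have e1 : x * (x * g * x⁻¹) * x⁻¹ = (x * x) * g * (x * x)⁻¹ := by group
      rw [e1, hxx] at h1
      have e2 : negOne * g * (negOne : SL2 F)⁻¹ = g := by
        rw [negOne_comm g]; group
      rwa [e2] at h1
  have hNtop : Subgroup.normalizer (Q : Set (SL2 F)) ≠ ⊤ := by
    intro htop
    have hnormal : Q.Normal := Subgroup.normalizer_eq_top_iff.mp htop
    have hsimple : IsSimpleGroup (Matrix.ProjectiveSpecialLinearGroup (Fin 2) F) :=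
      Matrix.ProjectiveSpecialLinearGroup.rank_two_simple
        (by rw [Nat.card_eq_fintype_card]; exact h4)
    have hmapn : (Q.map (QuotientGroup.mk' (Subgroup.center (SL2 F)))).Normal :=
      Subgroup.Normal.map hnormal _ (QuotientGroup.mk'_surjective _)
    rcases hmapn.eq_bot_or_eq_top with hb' | ht
    · apply hIc
      have h1 : QuotientGroup.mk' (Subgroup.center (SL2 F)) I ∈
          Q.map (QuotientGroup.mk' (Subgroup.center (SL2 F))) := Subgroup.mem_map_of_mem _ hIQ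
      rw [hb', Subgroup.mem_bot] at h1
      exact (QuotientGroup.eq_one_iff I).mp h1
    · apply hK.1
      have h1 : K.map (QuotientGroup.mk' (Subgroup.center (SL2 F))) = ⊤ := by
        rw [eq_top_iff, ← ht]; exact Subgroup.map_mono hQK
      have h3 := Subgroup.comap_map_eq_self
        (f := QuotientGroup.mk' (Subgroup.center (SL2 F))) (H := K)
        (by rw [QuotientGroup.ker_mk']; exact hZK)
      rw [← h3, h1, Subgroup.comap_top]
  have hNK : Subgroup.normalizer (Q : Set (SL2 F)) = K := (hK.le_iff.mp hKN).resolve_left hNtop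
  have hxK : x ∈ K := by rw [← hNK]; exact hxN
  -- contradiction
  have hc2 : imgK K e ⟨x, hxK⟩ * imgK K e ⟨x, hxK⟩ = 1 := by
    rw [← map_mul, imgK_eq_one_iff]
    show x * x ∈ Subgroup.center (SL2 F)
    rw [hxx]; exact negOne_mem_center
  have hcomm := a4_inv_comm (imgK K e ⟨x, hxK⟩) a hc2 ha
  rw [← hI', ← map_mul, ← map_mul, imgK_eq_iff] at hcomm
  have hcomm' : x * I * (I * x)⁻¹ ∈ Subgroup.center (SL2 F) := by
    rw [hI]; exact hcomm
  apply hab
  rw [← hI', ← hJ']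
  symm
  rw [imgK_eq_iff, ← hI, ← hJ]
  have e1 : J * I⁻¹ = x * I * (I * x)⁻¹ := by rw [hxI]; group
  rw [e1]; exact hcomm'

end A4

end Cfsg.Agent.Lib.helper98
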