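import Cfsg.Agent.Lib.helper98.DicksonMax

/-!
# Quaternion units in `SL₂(F)`

For `a² + b² = -1` the matrices `i = [[a, b], [b, -a]]`, `j = [[0, 1], [-1, 0]]` span a copy of the
quaternion algebra in `M₂(F)`; `qs a b h x₀ x₁ x₂ x₃ _` is the element `x₀ + x₁ i + x₂ j + x₃ k` of
norm `1`, as an element of `SL₂(F)`.  The binary tetrahedral and octahedral groups live there.

Also: `no_borel_anticomm`, `noncomm_sq_of_cube`, `injective_of_center_bot`, `charP_of_card_prime`,
`exists_sq_add_sq`.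
-/

set_option autoImplicit false
set_option linter.unusedSimpArgs false

namespace Cfsg.Agent.Lib.helper98

open Matrix
open scoped Classical

local notation "SL2" => Matrix.SpecialLinearGroup (Fin 2)

section Quat

variable {F : Type*} [Field F]

/-- The unit quaternion `x₀ + x₁ i + x₂ j + x₃ k` as an element of `SL₂(F)`. -/
def qs (a b : F) (h : a * a + b * b = -1) (x0 x1 x2 x3 : F)
    (hN : x0 * x0 + x1 * x1 + x2 * x2 + x3 * x3 = 1) : SL2 F :=
  mkSL (x0 + x1 * a - x3 * b) (x1 * b + x2 + x3 * a) (x1 * b - x2 + x3 * a) (x0 - x1 * a + x3 * b)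
    (by linear_combination hN - (x1 * x1 + x3 * x3) * h)

variable {a b : F} {h : a * a + b * b = -1}

theorem qs_00 (x0 x1 x2 x3 : F) (hN : x0 * x0 + x1 * x1 + x2 * x2 + x3 * x3 = 1) :
    qs a b h x0 x1 x2 x3 hN 0 0 = x0 + x1 * a - x3 * b := rfl
theorem qs_01 (x0 x1 x2 x3 : F) (hN : x0 * x0 + x1 * x1 + x2 * x2 + x3 * x3 = 1) :
    qs a b h x0 x1 x2 x3 hN 0 1 = x1 * b + x2 + x3 * a := rfl
theorem qs_10 (x0 x1 x2 x3 : F) (hN : x0 * x0 + x1 * x1 + x2 * x2 + x3 * x3 = 1) :
    qs a b h x0 x1 x2 x3 hN 1 0 = x1 * b - x2 + x3 * a := rfl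
theorem qs_11 (x0 x1 x2 x3 : F) (hN : x0 * x0 + x1 * x1 + x2 * x2 + x3 * x3 = 1) :
    qs a b h x0 x1 x2 x3 hN 1 1 = x0 - x1 * a + x3 * b := rfl

theorem qs_congr {x0 x1 x2 x3 y0 y1 y2 y3 : F}
    (hx : x0 * x0 + x1 * x1 + x2 * x2 + x3 * x3 = 1)
    (hy : y0 * y0 + y1 * y1 + y2 * y2 + y3 * y3 = 1)
    (h0 : x0 = y0) (h1 : x1 = y1) (h2 : x2 = y2) (h3 : x3 = y3) :
    qs a b h x0 x1 x2 x3 hx = qs a b h y0 y1 y2 y3 hy := by
  subst h0 h1 h2 h3; rfl

/-- Multiplication of unit quaternions. -/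
theorem qs_mul_eq {x0 x1 x2 x3 y0 y1 y2 y3 z0 z1 z2 z3 : F}
    (hx : x0 * x0 + x1 * x1 + x2 * x2 + x3 * x3 = 1)
    (hy : y0 * y0 + y1 * y1 + y2 * y2 + y3 * y3 = 1)
    (hz : z0 * z0 + z1 * z1 + z2 * z2 + z3 * z3 = 1)
    (h0 : x0 * y0 - x1 * y1 - x2 * y2 - x3 * y3 = z0)
    (h1 : x0 * y1 + x1 * y0 + x2 * y3 - x3 * y2 = z1)
    (h2 : x0 * y2 - x1 * y3 + x2 * y0 + x3 * y1 = z2)
    (h3 : x0 * y3 + x1 * y2 - x2 * y1 + x3 * y0 = z3) :
    qs a b h x0 x1 x2 x3 hx * qs a b h y0 y1 y2 y3 hy = qs a b h z0 z1 z2 z3 hz := by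
  subst h0 h1 h2 h3
  apply sl2_ext <;> simp only [sl2_mul_apply, qs_00, qs_01, qs_10, qs_11]
  · linear_combination (x1 * y1 + x3 * y3) * h
  · linear_combination (x1 * y3 - x3 * y1) * h
  · linear_combination (x3 * y1 - x1 * y3) * h
  · linear_combination (x1 * y1 + x3 * y3) * h

/-- The trace of a unit quaternion. -/
theorem qs_trace (x0 x1 x2 x3 : F) (hN : x0 * x0 + x1 * x1 + x2 * x2 + x3 * x3 = 1) :
    qs a b h x0 x1 x2 x3 hN 0 0 + qs a b h x0 x1 x2 x3 hN 1 1 = 2 * x0 := by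
  rw [qs_00, qs_11]; ring

/-- The `j`-coordinate of a unit quaternion. -/
theorem qs_coord_j (x0 x1 x2 x3 : F) (hN : x0 * x0 + x1 * x1 + x2 * x2 + x3 * x3 = 1) :
    qs a b h x0 x1 x2 x3 hN 0 1 - qs a b h x0 x1 x2 x3 hN 1 0 = 2 * x2 := by
  rw [qs_01, qs_10]; ring

/-- The trace of a product of unit quaternions. -/
theorem qs_mul_trace {x0 x1 x2 x3 y0 y1 y2 y3 : F}
    (hx : x0 * x0 + x1 * x1 + x2 * x2 + x3 * x3 = 1)
    (hy : y0 * y0 + y1 * y1 + y2 * y2 + y3 * y3 = 1) :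
    (qs a b h x0 x1 x2 x3 hx * qs a b h y0 y1 y2 y3 hy) 0 0 +
      (qs a b h x0 x1 x2 x3 hx * qs a b h y0 y1 y2 y3 hy) 1 1 =
      2 * (x0 * y0 - x1 * y1 - x2 * y2 - x3 * y3) := by
  simp only [sl2_mul_apply, qs_00, qs_01, qs_10, qs_11]
  linear_combination (2 * (x1 * y1) + 2 * (x3 * y3)) * h

/-- The `j`-coordinate of a product of unit quaternions. -/
theorem qs_mul_coord_j {x0 x1 x2 x3 y0 y1 y2 y3 : F}
    (hx : x0 * x0 + x1 * x1 + x2 * x2 + x3 * x3 = 1)
    (hy : y0 * y0 + y1 * y1 + y2 * y2 + y3 * y3 = 1) :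
    (qs a b h x0 x1 x2 x3 hx * qs a b h y0 y1 y2 y3 hy) 0 1 -
      (qs a b h x0 x1 x2 x3 hx * qs a b h y0 y1 y2 y3 hy) 1 0 =
      2 * (x0 * y2 - x1 * y3 + x2 * y0 + x3 * y1) := by
  simp only [sl2_mul_apply, qs_00, qs_01, qs_10, qs_11]
  linear_combination (2 * (x1 * y3) - 2 * (x3 * y1)) * h

/-- Commuting unit quaternions. -/
theorem qs_comm_j (h2 : (2 : F) ≠ 0) {x0 x1 x2 x3 y0 y1 y2 y3 : F}
    (hx : x0 * x0 + x1 * x1 + x2 * x2 + x3 * x3 = 1)
    (hy : y0 * y0 + y1 * y1 + y2 * y2 + y3 * y3 = 1)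
    (hc : qs a b h x0 x1 x2 x3 hx * qs a b h y0 y1 y2 y3 hy =
      qs a b h y0 y1 y2 y3 hy * qs a b h x0 x1 x2 x3 hx) : x3 * y1 = x1 * y3 := by
  have e1 := qs_mul_coord_j (h := h) hx hy
  have e2 := qs_mul_coord_j (h := h) hy hx
  rw [hc, e2] at e1
  have h4 : (2 : F) * (2 * (x3 * y1 - x1 * y3)) = 0 := by linear_combination -e1
  have h5 := (mul_eq_zero.mp h4).resolve_left h2
  have h6 := (mul_eq_zero.mp h5).resolve_left h2
  linear_combination h6

/-- A central unit quaternion has no `j`-coordinate. -/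
theorem qs_center_j (h2 : (2 : F) ≠ 0) {x0 x1 x2 x3 : F}
    (hx : x0 * x0 + x1 * x1 + x2 * x2 + x3 * x3 = 1)
    (hc : qs a b h x0 x1 x2 x3 hx ∈ Subgroup.center (SL2 F)) : x2 = 0 := by
  rw [mem_center_sl2_iff] at hc
  have e := qs_coord_j (h := h) x0 x1 x2 x3 hx
  rw [hc.1, hc.2.1, sub_zero] at e
  exact (mul_eq_zero.mp e.symm).resolve_left h2

/-- A central unit quaternion has no `i`-coordinate. -/
theorem qs_center_i (h2 : (2 : F) ≠ 0) {x0 x1 x2 x3 : F}
    (hx : x0 * x0 + x1 * x1 + x2 * x2 + x3 * x3 = 1)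
    (hc : qs a b h x0 x1 x2 x3 hx ∈ Subgroup.center (SL2 F)) : x1 = 0 := by
  have hj := qs_center_j h2 hx hc
  rw [mem_center_sl2_iff] at hc
  obtain ⟨h01, -, h00⟩ := hc
  rw [qs_01] at h01
  rw [qs_00, qs_11] at h00
  have e1 : x1 * b + x3 * a = 0 := by rw [hj] at h01; linear_combination h01
  have e2 : (2 : F) * (x1 * a - x3 * b) = 0 := by linear_combination h00
  have e3 := (mul_eq_zero.mp e2).resolve_left h2
  linear_combination x1 * h - b * e1 - a * e3

theorem negOne_eq_qs : (negOne : SL2 F) = qs a b h (-1) 0 0 0 (by ring) := by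
  apply sl2_ext <;> simp only [negOne_00, negOne_01, negOne_10, negOne_11, qs_00, qs_01, qs_10,
    qs_11] <;> ring

end Quat

section Misc

variable {F : Type*} [Field F]

/-- Two anticommuting elements of `SL₂(F)` are not both upper triangular. -/
theorem no_borel_anticomm' (h2 : (2 : F) ≠ 0) (X W : SL2 F) (hXW : X * W = negOne * (W * X))
    (hX : X 1 0 = 0) (hW : W 1 0 = 0) : False := by
  have e := congrArg (fun g : SL2 F => g 0 0) hXW
  simp only [sl2_mul_apply, hX, hW, negOne_00, negOne_01] at e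
  have dX := sl2_det' X
  have dW := sl2_det' W
  rw [hX] at dX
  rw [hW] at dW
  have h0 : (2 : F) * (X 0 0 * W 0 0) = 0 := by linear_combination e
  have h1 := (mul_eq_zero.mp h0).resolve_left h2
  rcases mul_eq_zero.mp h1 with h3 | h3
  · rw [h3] at dX; simp at dX
  · rw [h3] at dW; simp at dW

/-- Two anticommuting elements of `SL₂(F)` are not simultaneously triangularizable. -/
theorem no_borel_anticomm (h2 : (2 : F) ≠ 0) (X W c : SL2 F) (hXW : X * W = negOne * (W * X))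
    (hX : (c * X * c⁻¹) 1 0 = 0) (hW : (c * W * c⁻¹) 1 0 = 0) : False := by
  have hXW' : (c * X * c⁻¹) * (c * W * c⁻¹) = negOne * ((c * W * c⁻¹) * (c * X * c⁻¹)) := by
    have e1 : (c * X * c⁻¹) * (c * W * c⁻¹) = c * (X * W) * c⁻¹ := by group
    have e2 : (c * W * c⁻¹) * (c * X * c⁻¹) = c * (W * X) * c⁻¹ := by group
    have e3 : negOne * (c * (W * X) * c⁻¹) = c * (negOne * (W * X)) * c⁻¹ := by
      rw [← mul_assoc negOne, ← mul_assoc negOne, negOne_comm c, mul_assoc c negOne]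
    rw [e1, e2, hXW, e3]
  exact no_borel_anticomm' h2 _ _ hXW' hX hW

/-- If `u³ = v³ = -1` and `u`, `v` do not commute, then `u²`, `v²` do not commute. -/
theorem noncomm_sq_of_cube (u v : SL2 F) (hu : u * u * u = negOne) (hv : v * v * v = negOne)
    (huv : u * v ≠ v * u) : u * u * (v * v) ≠ v * v * (u * u) := by
  intro hc
  have hnc : ∀ g : SL2 F, Commute negOne g := fun g => negOne_comm g
  have huinv : u⁻¹ = negOne * (u * u) := by
    apply inv_eq_of_mul_eq_one_right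
    rw [← mul_assoc, ← (hnc u).eq, mul_assoc, ← mul_assoc u u u, hu, negOne_mul_self]
  have hvinv : v⁻¹ = negOne * (v * v) := by
    apply inv_eq_of_mul_eq_one_right
    rw [← mul_assoc, ← (hnc v).eq, mul_assoc, ← mul_assoc v v v, hv, negOne_mul_self]
  have h1 : Commute (u * u) (v * v) := hc
  have h3 : Commute u⁻¹ (v * v) := by
    rw [huinv]; exact (hnc (v * v)).mul_left h1
  have h4 : Commute u (v * v) := Commute.inv_left_iff.mp h3
  have h5 : Commute u v⁻¹ := by
    rw [hvinv]; exact (hnc u).symm.mul_right h4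
  exact huv (Commute.inv_right_iff.mp h5).eq

end Misc

section Fin

variable {F : Type*} [Field F] [Fintype F]

/-- A field with `p` elements has characteristic `p`. -/
theorem charP_of_card_prime {p : ℕ} (hp : p.Prime) (hF : Fintype.card F = p) : CharP F p := by
  obtain ⟨r, hr, n, hrp, hn⟩ := FiniteField.card' F
  rw [hF] at hn
  have hdvd : r ∣ p := by
    rw [hn]; exact dvd_pow_self r n.ne_zero
  have : r = p := (Nat.prime_dvd_prime_iff_eq hrp hp).mp hdvd
  rw [← this]; exact hr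

/-- `-1` is a sum of two squares in a finite field of odd characteristic. -/
theorem exists_sq_add_sq (hchar : ringChar F ≠ 2) : ∃ a b : F, a * a + b * b = -1 := by
  have hodd := FiniteField.odd_card_of_char_ne_two hchar
  obtain ⟨a, b, hab⟩ := FiniteField.exists_root_sum_quadratic
    (f := (Polynomial.X : Polynomial F) ^ 2)
    (g := (Polynomial.X : Polynomial F) ^ 2 - Polynomial.C (-1))
    (Polynomial.degree_X_pow 2) (Polynomial.degree_X_pow_sub_C (by decide) _) hodd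
  simp only [Polynomial.eval_pow, Polynomial.eval_X, Polynomial.eval_sub, Polynomial.eval_C] at hab
  exact ⟨a, b, by linear_combination hab⟩

end Fin

section Grp

/-- A homomorphism from a finite centerless group whose image has order at least half of the
group order is injective. -/
theorem injective_of_center_bot {G G' : Type*} [Group G] [Group G'] [Finite G] (φ : G →* G')
    (hc : Subgroup.center G = ⊥) (m : ℕ) (hm : m ∣ Nat.card φ.range)
    (hG : Nat.card G ≤ 2 * m) : Function.Injective φ := by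
  rw [← MonoidHom.ker_eq_bot_iff]
  have : Finite φ.range := Finite.of_surjective φ.rangeRestrict φ.rangeRestrict_surjective
  have h1 : Nat.card φ.ker * Nat.card φ.range = Nat.card G := by
    rw [← Subgroup.index_ker, Subgroup.card_mul_index]
  have hrpos : 0 < Nat.card φ.range := Nat.card_pos
  have hmle : m ≤ Nat.card φ.range := Nat.le_of_dvd hrpos hm
  have hmpos : 0 < m := Nat.pos_of_dvd_of_pos hm hrpos
  have hkpos : 0 < Nat.card φ.ker := Nat.card_pos
  have hk2 : Nat.card φ.ker ≤ 2 := by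
    by_contra hcon
    have h3 : 3 ≤ Nat.card φ.ker := by omega
    have : 3 * m ≤ Nat.card φ.ker * Nat.card φ.range := Nat.mul_le_mul h3 hmle
    omega
  rcases (show Nat.card φ.ker = 1 ∨ Nat.card φ.ker = 2 by omega) with h | h
  · exact Subgroup.eq_bot_of_card_eq _ h
  · exfalso
    obtain ⟨z, hz1, hzu⟩ := (Nat.card_eq_two_iff' (1 : φ.ker)).mp h
    have hzc : (z : G) ∈ Subgroup.center G := by
      rw [Subgroup.mem_center_iff]
      intro g
      have hmem : g * (z : G) * g⁻¹ ∈ φ.ker := (MonoidHom.normal_ker φ).conj_mem _ z.2 g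
      have hne : (⟨g * (z : G) * g⁻¹, hmem⟩ : φ.ker) ≠ 1 := by
        intro h0
        have h0' : g * (z : G) * g⁻¹ = 1 := congrArg Subtype.val h0
        apply hz1
        apply Subtype.ext
        have : (z : G) = g⁻¹ * (g * (z : G) * g⁻¹) * g := by group
        rw [this, h0']; simp
      have := hzu _ hne
      have h0' : g * (z : G) * g⁻¹ = z := congrArg Subtype.val this
      calc g * (z : G) = g * (z : G) * g⁻¹ * g := by group
        _ = z * g := by rw [h0']
    rw [hc, Subgroup.mem_bot] at hzc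
    exact hz1 (Subtype.ext hzc)

end Grp

end Cfsg.Agent.Lib.helper98
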