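import Mathlib
import Cfsg.Agent.Lib.helper98.MaxOddB
import Cfsg.Agent.S5938
import Cfsg.Agent.S5939
import Cfsg.Agent.S5940
import Cfsg.Agent.S5941

/-!
# Maximal subgroups of `PSL₂(q)`, `q` odd: torus normalizers and exceptional types

* `MaxConcl`: the conclusion of the classification of maximal subgroups.
* `max_torus`: maximal subgroups normalizing a torus.
* `max_a4`, `max_s4`, `max_a5`: tame maximal subgroups of types `A₄`, `S₄`, `A₅`.
-/

set_option autoImplicit false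
set_option linter.unusedSimpArgs false
set_option linter.unusedVariables false

namespace Cfsg.Agent.Lib.helper98

open Matrix
open scoped Classical

local notation "SL2" => Matrix.SpecialLinearGroup (Fin 2)
local notation "PSL2" => Matrix.ProjectiveSpecialLinearGroup (Fin 2)
local notation "M2" => Matrix (Fin 2) (Fin 2)

section Cards

theorem natCard_a4 : Nat.card (alternatingGroup (Fin 4)) = 12 := by
  rw [Nat.card_eq_fintype_card]; convert a4_card

theorem natCard_a5 : Nat.card (alternatingGroup (Fin 5)) = 60 := by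
  rw [Nat.card_eq_fintype_card]; convert a5_card

theorem natCard_s4 : Nat.card (Equiv.Perm (Fin 4)) = 24 := by
  rw [Nat.card_perm, Nat.card_eq_fintype_card, Fintype.card_fin]; rfl

theorem not_sixteen_dvd (p : ℕ) (h : p % 8 = 3 ∨ p % 8 = 5) : ¬ 16 ∣ p * (p ^ 2 - 1) := by
  intro hdvd
  have hp16 : p % 16 = 3 ∨ p % 16 = 5 ∨ p % 16 = 11 ∨ p % 16 = 13 := by omega
  have hX : p ^ 2 % 16 = 9 := by
    rw [Nat.pow_mod]
    rcases hp16 with h' | h' | h' | h' <;> rw [h']
  have hpos : 1 ≤ p ^ 2 := Nat.one_le_pow _ _ (by omega)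
  have hY : (p ^ 2 - 1) % 16 = 8 := by omega
  have hZ : (p * (p ^ 2 - 1)) % 16 = 8 := by
    rw [Nat.mul_mod, hY]
    rcases hp16 with h' | h' | h' | h' <;> rw [h']
  omega

theorem pgl_card_ne (A : ℕ) (hA : 2 ≤ A) :
    2 * (A * (A ^ 2 - 1)) ≠ A ^ 2 * ((A ^ 2) ^ 2 - 1) := by
  intro h
  obtain ⟨m, hm⟩ : ∃ m, A ^ 2 = m + 1 := ⟨A ^ 2 - 1, by
    have : 0 < A ^ 2 := by positivity
    omega⟩
  have h3 : (A ^ 2) ^ 2 - 1 = m * (m + 2) := by
    rw [hm]
    apply Nat.sub_eq_of_eq_add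
    ring
  have h4 : A ^ 2 - 1 = m := by omega
  rw [h3, h4, hm] at h
  have hAm : A ≤ m + 1 := by
    rw [← hm]
    nlinarith
  have hm3 : 3 ≤ m := by nlinarith
  have h5 : 2 * (A * m) ≤ 2 * ((m + 1) * m) := by
    have := Nat.mul_le_mul_right m hAm
    omega
  have h6 : 2 * ((m + 1) * m) < (m + 1) * (m * (m + 2)) := by nlinarith
  omega

end Cards

section Concl

variable (F : Type*) [Field F] [Fintype F]

/-- The conclusion of the classification of the maximal subgroups of `PSL₂(q)`, `q` odd. -/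
def MaxConcl (p : ℕ) (H : Subgroup (PSL2 F)) : Prop :=
  2 * Nat.card H = Fintype.card F * (Fintype.card F - 1) ∨
  (13 ≤ Fintype.card F ∧ (∃ k : ℕ, 2 * k = Fintype.card F - 1 ∧ Nonempty (H ≃* DihedralGroup k))) ∨
  (Fintype.card F ≠ 7 ∧ Fintype.card F ≠ 9 ∧
    (∃ k : ℕ, 2 * k = Fintype.card F + 1 ∧ Nonempty (H ≃* DihedralGroup k))) ∨
  (∃ (F₀ : Type) (_ : Field F₀) (_ : Fintype F₀), Fintype.card F = Fintype.card F₀ ^ 2 ∧
      Nonempty (H ≃* Matrix.ProjGenLinGroup (Fin 2) F₀)) ∨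
  (∃ (F₀ : Type) (_ : Field F₀) (_ : Fintype F₀) (r : ℕ), r.Prime ∧ Odd r ∧
      Fintype.card F = Fintype.card F₀ ^ r ∧
      Nonempty (H ≃* Matrix.ProjectiveSpecialLinearGroup (Fin 2) F₀)) ∨
  ((Fintype.card F % 10 = 1 ∨ Fintype.card F % 10 = 9) ∧
      (Fintype.card F = p ∨ (Fintype.card F = p ^ 2 ∧ (p % 10 = 3 ∨ p % 10 = 7))) ∧
      Nonempty (H ≃* alternatingGroup (Fin 5))) ∨
  (Fintype.card F = p ∧ (p % 8 = 3 ∨ p % 8 = 5) ∧ ¬ (p % 10 = 1 ∨ p % 10 = 9) ∧
      Nonempty (H ≃* alternatingGroup (Fin 4))) ∨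
  (Fintype.card F = p ∧ (p % 8 = 1 ∨ p % 8 = 7) ∧ Nonempty (H ≃* Equiv.Perm (Fin 4)))

variable {F}

theorem maxConcl_congr (p : ℕ) {H H' : Subgroup (PSL2 F)} (e : H ≃* H')
    (h : MaxConcl F p H) : MaxConcl F p H' := by
  rcases h with h | ⟨h13, k, hk, ⟨e'⟩⟩ | ⟨h7, h9, k, hk, ⟨e'⟩⟩ | ⟨F₀, i1, i2, hc, ⟨e'⟩⟩ |
    ⟨F₀, i1, i2, r, hr, hodd, hc, ⟨e'⟩⟩ | ⟨h10, hf, ⟨e'⟩⟩ | ⟨hf, h8, h10, ⟨e'⟩⟩ | ⟨hf, h8, ⟨e'⟩⟩
  · left
    rw [← Nat.card_congr e.toEquiv]; exact h
  · exact Or.inr (Or.inl ⟨h13, k, hk, ⟨e.symm.trans e'⟩⟩)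
  · exact Or.inr (Or.inr (Or.inl ⟨h7, h9, k, hk, ⟨e.symm.trans e'⟩⟩))
  · exact Or.inr (Or.inr (Or.inr (Or.inl ⟨F₀, i1, i2, hc, ⟨e.symm.trans e'⟩⟩)))
  · exact Or.inr (Or.inr (Or.inr (Or.inr (Or.inl ⟨F₀, i1, i2, r, hr, hodd, hc,
      ⟨e.symm.trans e'⟩⟩))))
  · exact Or.inr (Or.inr (Or.inr (Or.inr (Or.inr (Or.inl ⟨h10, hf, ⟨e.symm.trans e'⟩⟩)))))
  · exact Or.inr (Or.inr (Or.inr (Or.inr (Or.inr (Or.inr (Or.inl
      ⟨hf, h8, h10, ⟨e.symm.trans e'⟩⟩))))))
  · exact Or.inr (Or.inr (Or.inr (Or.inr (Or.inr (Or.inr (Or.inr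
      ⟨hf, h8, ⟨e.symm.trans e'⟩⟩))))))

/-- Transfer along an automorphism of `SL₂(F)`. -/
theorem maxConcl_of_aut (p : ℕ) (σ : SL2 F ≃* SL2 F) (K : Subgroup (SL2 F))
    (h : MaxConcl F p ((K.map σ.toMonoidHom).map (QuotientGroup.mk' (Subgroup.center (SL2 F))))) :
    MaxConcl F p (K.map (QuotientGroup.mk' (Subgroup.center (SL2 F)))) := by
  obtain ⟨e⟩ := map_aut_equiv σ K
  exact maxConcl_congr p e.symm h

omit [Fintype F] in
theorem isCoatom_map_psl (K : Subgroup (SL2 F)) (hK : IsCoatom K)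
    (hZK : Subgroup.center (SL2 F) ≤ K) :
    IsCoatom (K.map (QuotientGroup.mk' (Subgroup.center (SL2 F)))) :=
  isCoatom_map_mk _ K hZK hK.1 (fun H hH => (hK.le_iff.mp hH).symm)

end Concl

section PSLCard

variable {F : Type*} [Field F] [Fintype F]

theorem psl_card_of (q c : ℕ) (hq : Fintype.card F = q) (h2 : (2 : F) ≠ 0)
    (hc : q * (q ^ 2 - 1) = 2 * c) : Nat.card (PSL2 F) = c := by
  have hPSL := Cfsg.Agent.Lib.helper7.two_mul_card_PSL2 (F := F) hq h2
  exact Nat.eq_of_mul_eq_mul_left (by norm_num : 0 < 2) (hPSL.trans hc)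

end PSLCard

section Pull

variable {G X : Type*} [Group G] [Group X]

theorem dihedral_pair_pull (H : Subgroup G) (e : H ≃* X) (ℓ : ℕ) [Fact ℓ.Prime] (c₀ t₀ : X)
    (hc : c₀ ^ ℓ = 1) (hc1 : c₀ ≠ 1) (ht : t₀ * t₀ = 1) (ht1 : t₀ ≠ 1)
    (htc : t₀ * c₀ * t₀⁻¹ = c₀⁻¹) :
    ∃ c t : G, c ∈ H ∧ t ∈ H ∧ orderOf c = ℓ ∧ orderOf t = 2 ∧ t * c * t⁻¹ = c⁻¹ := by
  have : Fact (Nat.Prime 2) := ⟨Nat.prime_two⟩
  refine ⟨((e.symm c₀ : H) : G), ((e.symm t₀ : H) : G), (e.symm c₀).2, (e.symm t₀).2, ?_, ?_, ?_⟩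
  · rw [orderOf_pull]; exact orderOf_eq_prime hc hc1
  · rw [orderOf_pull]; exact orderOf_eq_prime (by rw [pow_two]; exact ht) ht1
  · have h1 : e.symm t₀ * e.symm c₀ * (e.symm t₀)⁻¹ = (e.symm c₀)⁻¹ := by
      rw [← map_inv, ← map_mul, ← map_mul, htc, map_inv]
    have h2 := congrArg Subtype.val h1
    rw [Subgroup.coe_mul, Subgroup.coe_mul, Subgroup.coe_inv, Subgroup.coe_inv] at h2
    exact h2

end Pull

section Torus

variable {F : Type*} [Field F] [Fintype F]

open Cfsg.Agent.Lib.helper46 in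
/-- A maximal subgroup in which the conjugates of a non-central semisimple element commute with
it is a full torus normalizer. -/
theorem dihedral_of_coatom_torus (p : ℕ) [Fact p.Prime] [CharP F p] (h2 : (2 : F) ≠ 0)
    (h5 : 5 ≤ Fintype.card F) (K : Subgroup (SL2 F)) (hK : IsCoatom K)
    (hZK : Subgroup.center (SL2 F) ≤ K) (x : SL2 F) (hxc : x ∉ Subgroup.center (SL2 F))
    (hp : ¬ p ∣ orderOf x)
    (hcomm : ∀ k ∈ K, (k * x * k⁻¹) * x = x * (k * x * k⁻¹)) :
    ∃ k : ℕ, (2 * k = Fintype.card F - 1 ∨ 2 * k = Fintype.card F + 1) ∧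
      Nonempty (K.map (QuotientGroup.mk' (Subgroup.center (SL2 F))) ≃* DihedralGroup k) := by
  obtain ⟨n, t, w, g, hn, hpkg, hg⟩ := exists_conj_mem_torus p x hxc hp
  have hpkg' := hpkg
  obtain ⟨ht, hC, hcent, hconj, hw, hwT, hw2Z, hZ⟩ := hpkg'
  have hZ2 := card_center_odd h2
  have hdvd : 2 ∣ n := by
    rw [← hZ2, ← ht, ← Nat.card_zpowers]; exact Subgroup.card_dvd_of_le hZ
  have hK' : conjSub g⁻¹ K ≤ dicSub t w hw (hZ hw2Z) := by
    intro k' hk'
    rw [mem_conjSub, inv_inv] at hk'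
    have h1 := le_conj_dicSub n t w hpkg hw (hZ hw2Z) K x hxc hcomm g hg _ hk'
    have e : g⁻¹ * (g * k' * g⁻¹) * g = k' := by group
    rwa [e] at h1
  have hco : IsCoatom (conjSub g⁻¹ K) := isCoatom_conjSub g⁻¹ K hK
  have hne : dicSub t w hw (hZ hw2Z) ≠ ⊤ := by
    intro htop
    have h1 := card_dicSub t w hw (hZ hw2Z) hwT
    rw [htop, Subgroup.card_top, Cfsg.Agent.Lib.helper7.card_SL2 (F := F) rfl, ht] at h1
    have hq : n ≤ Fintype.card F + 1 := by
      rcases hn with rfl | rfl <;> omega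
    have h3 : Fintype.card F ^ 2 - 1 = (Fintype.card F - 1) * (Fintype.card F + 1) := by
      obtain ⟨m, hm⟩ : ∃ m, Fintype.card F = m + 1 := ⟨Fintype.card F - 1, by omega⟩
      rw [hm]
      apply Nat.sub_eq_of_eq_add
      simp only [Nat.add_sub_cancel]; ring
    rw [h3] at h1
    have h4 : 5 * (4 * (Fintype.card F + 1)) ≤
        Fintype.card F * ((Fintype.card F - 1) * (Fintype.card F + 1)) :=
      Nat.mul_le_mul h5 (Nat.mul_le_mul_right _ (by omega))
    omega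
  have heq : conjSub g⁻¹ K = dicSub t w hw (hZ hw2Z) := by
    rcases hco.le_iff.mp hK' with h | h
    · exact absurd h hne
    · exact h.symm
  obtain ⟨e⟩ := torus_quotient_dihedral t w (Subgroup.center (SL2 F)) hZ hw hw2Z hwT (n / 2)
    (by rw [ht, hZ2, Nat.div_mul_cancel hdvd])
  obtain ⟨e'⟩ : Nonempty (↥(K.map (QuotientGroup.mk' (Subgroup.center (SL2 F)))) ≃*
      ↥((conjSub g⁻¹ K).map (QuotientGroup.mk' (Subgroup.center (SL2 F))))) :=
    map_aut_equiv (MulAut.conj g⁻¹) K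
  refine ⟨n / 2, ?_, ⟨e'.trans ((MulEquiv.subgroupCongr
    (congrArg (Subgroup.map (QuotientGroup.mk' (Subgroup.center (SL2 F)))) heq)).trans e)⟩⟩
  rcases hn with rfl | rfl
  · left; omega
  · right; omega

set_option maxHeartbeats 1000000 in
/-- **Torus normalizers**, including the exclusion of the small cases. -/
theorem max_torus (p : ℕ) [Fact p.Prime] [CharP F p] (h2 : (2 : F) ≠ 0)
    (h5 : 5 ≤ Fintype.card F) (K : Subgroup (SL2 F)) (hK : IsCoatom K)
    (hZK : Subgroup.center (SL2 F) ≤ K) (x : SL2 F) (hxc : x ∉ Subgroup.center (SL2 F))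
    (hp : ¬ p ∣ orderOf x)
    (hcomm : ∀ k ∈ K, (k * x * k⁻¹) * x = x * (k * x * k⁻¹)) :
    MaxConcl F p (K.map (QuotientGroup.mk' (Subgroup.center (SL2 F)))) := by
  obtain ⟨k, hk, ⟨e⟩⟩ := dihedral_of_coatom_torus p h2 h5 K hK hZK x hxc hp hcomm
  have hpp := (Fact.out : p.Prime)
  obtain ⟨n, -, hqn⟩ := FiniteField.card F p
  have hqodd := card_odd h2
  have hM := isCoatom_map_psl K hK hZK
  have hsimple : IsSimpleGroup (PSL2 F) :=
    Matrix.ProjectiveSpecialLinearGroup.rank_two_simple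
      (by rw [Nat.card_eq_fintype_card]; omega)
  have hPSL := Cfsg.Agent.Lib.helper7.two_mul_card_PSL2 (F := F) rfl h2
  have hMcard : Nat.card (K.map (QuotientGroup.mk' (Subgroup.center (SL2 F)))) = 2 * k := by
    rw [Nat.card_congr e.toEquiv, DihedralGroup.nat_card]
  have : Fact (Nat.Prime 2) := ⟨Nat.prime_two⟩
  have : Fact (Nat.Prime 3) := ⟨Nat.prime_three⟩
  have : Fact (Nat.Prime 5) := ⟨by norm_num⟩
  have : Fact (Nat.Prime 7) := ⟨by norm_num⟩
  rcases hk with hk | hk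
  · by_cases h13 : 13 ≤ Fintype.card F
    · exact Or.inr (Or.inl ⟨h13, k, hk, ⟨e⟩⟩)
    · exfalso
      have hq : Fintype.card F = 5 ∨ Fintype.card F = 7 ∨ Fintype.card F = 9 ∨
          Fintype.card F = 11 := by omega
      rcases hq with hq | hq | hq | hq
      · have hk2 : k = 2 := by omega
        subst hk2
        obtain ⟨H, hH, ⟨eH⟩⟩ := Cfsg.Agent.S5940.result (F := F) 5 hq (le_refl 5) (Or.inr rfl)
          ⟨by norm_num, by norm_num⟩
        have hG : Nat.card (PSL2 F) = 60 := psl_card_of 5 60 hq h2 (by norm_num)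
        have hHc : Nat.card H = 12 := by rw [Nat.card_congr eH.toEquiv]; exact natCard_a4
        exact coatom_ppow_absurd 2 2 (by rw [hG]; norm_num) _ hM (by rw [hMcard]; norm_num) H hH.1
          (by rw [hHc]; norm_num) (by rw [hHc]; norm_num)
      · have hk3 : k = 3 := by omega
        subst hk3
        obtain ⟨H, hH, ⟨eH⟩⟩ := Cfsg.Agent.S5938.result (F := F) 7 hq (Or.inr rfl)
        have hG : Nat.card (PSL2 F) = 168 := psl_card_of 7 168 hq h2 (by norm_num)
        have hHc : Nat.card H = 24 := by rw [Nat.card_congr eH.toEquiv]; exact natCard_s4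
        obtain ⟨c₀, t₀, hc3, hc1, ht2, ht1, htc⟩ := s4_exists_dihedral
        obtain ⟨c, t, hcH, htH, hco, hto, hct⟩ := dihedral_pair_pull H eH 3 c₀ t₀
          (by rw [pow_succ, pow_two]; exact hc3) hc1 ht2 ht1 htc
        exact coatom_dihedral_absurd 3 (by norm_num) (by rw [hG]; norm_num) _ hM e H hH.1
          (by rw [hHc]; norm_num) c t hcH htH hco hto hct
      · have hk4 : k = 4 := by omega
        subst hk4
        obtain ⟨H, hH, ⟨eH⟩⟩ := Cfsg.Agent.S5941.result (F := F) (K := ZMod 3) 3 (ZMod.card 3)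
          (by rw [hq]; norm_num) (by decide)
        have hG : Nat.card (PSL2 F) = 360 := psl_card_of 9 360 hq h2 (by norm_num)
        have hHc : Nat.card H = 24 := by
          rw [Nat.card_congr eH.toEquiv]
          have h3 := Cfsg.Agent.S0805.card_PGL2 (K := ZMod 3)
          rw [ZMod.card] at h3
          norm_num at h3
          omega
        exact coatom_ppow_absurd 2 3 (by rw [hG]; norm_num) _ hM (by rw [hMcard]; norm_num) H hH.1
          (by rw [hHc]; norm_num) (by rw [hHc]; norm_num)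
      · have hk5 : k = 5 := by omega
        subst hk5
        have hp11 : p = 11 := by
          have h1 : p ∣ 11 := by
            rw [← hq, hqn]; exact dvd_pow_self p n.ne_zero
          exact (Nat.prime_dvd_prime_iff_eq hpp (by norm_num)).mp h1
        obtain ⟨H, hH, ⟨eH⟩⟩ := Cfsg.Agent.S5939.result (F := F) p
          (Or.inl ⟨by rw [hq, hp11], Or.inl (by rw [hp11])⟩)
        have hG : Nat.card (PSL2 F) = 660 := psl_card_of 11 660 hq h2 (by norm_num)
        have hHc : Nat.card H = 60 := by rw [Nat.card_congr eH.toEquiv]; exact natCard_a5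
        obtain ⟨c₀, t₀, hc5, hc1, ht2, ht1, htc⟩ := a5_exists_dihedral
        obtain ⟨c, t, hcH, htH, hco, hto, hct⟩ := dihedral_pair_pull H eH 5 c₀ t₀
          (by rw [pow_succ, pow_succ, pow_succ, pow_two]; exact hc5) hc1 ht2 ht1 htc
        exact coatom_dihedral_absurd 5 (by norm_num) (by rw [hG]; norm_num) _ hM e H hH.1
          (by rw [hHc]; norm_num) c t hcH htH hco hto hct
  · by_cases h79 : Fintype.card F ≠ 7 ∧ Fintype.card F ≠ 9
    · exact Or.inr (Or.inr (Or.inl ⟨h79.1, h79.2, k, hk, ⟨e⟩⟩))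
    · exfalso
      have hq : Fintype.card F = 7 ∨ Fintype.card F = 9 := by omega
      rcases hq with hq | hq
      · have hk4 : k = 4 := by omega
        subst hk4
        obtain ⟨H, hH, ⟨eH⟩⟩ := Cfsg.Agent.S5938.result (F := F) 7 hq (Or.inr rfl)
        have hG : Nat.card (PSL2 F) = 168 := psl_card_of 7 168 hq h2 (by norm_num)
        have hHc : Nat.card H = 24 := by rw [Nat.card_congr eH.toEquiv]; exact natCard_s4
        exact coatom_ppow_absurd 2 3 (by rw [hG]; norm_num) _ hM (by rw [hMcard]; norm_num) H hH.1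
          (by rw [hHc]; norm_num) (by rw [hHc]; norm_num)
      · have hk5 : k = 5 := by omega
        subst hk5
        have hp3 : p = 3 := by
          have h1 : p ∣ 3 ^ 2 := by
            have h3 : p ∣ 9 := by rw [← hq, hqn]; exact dvd_pow_self p n.ne_zero
            exact h3
          exact (Nat.prime_dvd_prime_iff_eq hpp Nat.prime_three).mp (hpp.dvd_of_dvd_pow h1)
        obtain ⟨H, hH, ⟨eH⟩⟩ := Cfsg.Agent.S5939.result (F := F) p
          (Or.inr ⟨by rw [hq, hp3]; norm_num, Or.inl (by rw [hp3])⟩)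
        have hG : Nat.card (PSL2 F) = 360 := psl_card_of 9 360 hq h2 (by norm_num)
        have hHc : Nat.card H = 60 := by rw [Nat.card_congr eH.toEquiv]; exact natCard_a5
        obtain ⟨c₀, t₀, hc5, hc1, ht2, ht1, htc⟩ := a5_exists_dihedral
        obtain ⟨c, t, hcH, htH, hco, hto, hct⟩ := dihedral_pair_pull H eH 5 c₀ t₀
          (by rw [pow_succ, pow_succ, pow_succ, pow_two]; exact hc5) hc1 ht2 ht1 htc
        exact coatom_dihedral_absurd 5 (by norm_num) (by rw [hG]; norm_num) _ hM e H hH.1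
          (by rw [hHc]; norm_num) c t hcH htH hco hto hct

end Torus

section Exceptional

variable {F : Type*} [Field F] [Fintype F]

omit [Fintype F] in
theorem conj_mem_self (K : Subgroup (SL2 F)) : ∀ k ∈ K, ∀ x ∈ K, k * x * k⁻¹ ∈ K :=
  fun k hk x hx => K.mul_mem (K.mul_mem hk hx) (K.inv_mem hk)

theorem prime_lt_card (p : ℕ) [Fact p.Prime] [CharP F p] (hne : Fintype.card F ≠ p) :
    p ^ 1 < Fintype.card F := by
  have hpp := (Fact.out : p.Prime)
  obtain ⟨n, -, hqn⟩ := FiniteField.card F p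
  rw [hqn]
  apply Nat.pow_lt_pow_right hpp.one_lt
  by_contra hle
  have h1 : (n : ℕ) = 1 := by
    have := n.pos
    omega
  apply hne
  rw [hqn, h1, pow_one]

/-- **Type `A₄`.** -/
theorem max_a4 (p : ℕ) [Fact p.Prime] [CharP F p] (h2 : (2 : F) ≠ 0)
    (h5 : 5 ≤ Fintype.card F) (K : Subgroup (SL2 F)) (hK : IsCoatom K)
    (hZK : Subgroup.center (SL2 F) ≤ K) (htame : ∀ g ∈ K, g 0 0 + g 1 1 = 2 → g = 1)
    (e : K.map (QuotientGroup.mk' (Subgroup.center (SL2 F))) ≃* alternatingGroup (Fin 4)) :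
    MaxConcl F p (K.map (QuotientGroup.mk' (Subgroup.center (SL2 F)))) := by
  have hpp := (Fact.out : p.Prime)
  have hqp : Fintype.card F = p := by
    by_contra hne
    obtain ⟨a, b, hab⟩ := a4_noncomm
    obtain ⟨g, h, -, -, hgh⟩ := noncomm_lift K e a b hab
    exact tame_span_absurd (by omega) (frobFix F p 1)
      (frobFix_ne_top p 1 (le_refl 1) (prime_lt_card p hne)) K hK htame K (conj_mem_self K)
      (fun k hk => trace_mem_a4 _ K e k hk) g h g.2 h.2 hgh
  have h8 : p % 8 = 3 ∨ p % 8 = 5 := by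
    by_contra hcon
    have hsq : IsSquare (2 : F) := by
      rw [FiniteField.isSquare_two_iff, hqp]; omega
    obtain ⟨s, hs⟩ := hsq
    exact a4_sqrt2_absurd h2 (by omega) s hs.symm K hK hZK e
  have h10 : ¬ (p % 10 = 1 ∨ p % 10 = 9) := by
    intro h10
    obtain ⟨H, hH, ⟨eH⟩⟩ := Cfsg.Agent.S5939.result (F := F) p (Or.inl ⟨hqp, h10⟩)
    have hM := isCoatom_map_psl K hK hZK
    have hsimple : IsSimpleGroup (PSL2 F) :=
      Matrix.ProjectiveSpecialLinearGroup.rank_two_simple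
        (by rw [Nat.card_eq_fintype_card]; omega)
    have hPSL := Cfsg.Agent.Lib.helper7.two_mul_card_PSL2 (F := F) rfl h2
    have hG : ¬ 8 ∣ Nat.card (PSL2 F) := by
      intro h8'
      have h16 : 16 ∣ Fintype.card F * (Fintype.card F ^ 2 - 1) := by
        rw [← hPSL]; exact Nat.mul_dvd_mul_left 2 h8'
      rw [hqp] at h16
      exact not_sixteen_dvd p h8 h16
    exact coatom_a4_a5_absurd hG _ hM e H hH.1 eH
  exact Or.inr (Or.inr (Or.inr (Or.inr (Or.inr (Or.inr (Or.inl ⟨hqp, h8, h10, ⟨e⟩⟩))))))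

/-- **Type `S₄`.** -/
theorem max_s4 (p : ℕ) [Fact p.Prime] [CharP F p] (h2 : (2 : F) ≠ 0)
    (h5 : 5 ≤ Fintype.card F) (K : Subgroup (SL2 F)) (hK : IsCoatom K)
    (hZK : Subgroup.center (SL2 F) ≤ K) (htame : ∀ g ∈ K, g 0 0 + g 1 1 = 2 → g = 1)
    (e : K.map (QuotientGroup.mk' (Subgroup.center (SL2 F))) ≃* Equiv.Perm (Fin 4)) :
    MaxConcl F p (K.map (QuotientGroup.mk' (Subgroup.center (SL2 F)))) := by
  have hpp := (Fact.out : p.Prime)
  have hqp : Fintype.card F = p := by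
    by_contra hne
    obtain ⟨a, b, ha, hb, hab⟩ := s4_alt_noncomm
    obtain ⟨g, h, hga, hhb, hgh⟩ := noncomm_lift K e a b hab
    obtain ⟨K', hK'⟩ : ∃ K' : Subgroup (SL2 F),
        K' = ((alternatingGroup (Fin 4)).comap (imgK K e)).map K.subtype := ⟨_, rfl⟩
    have hmem : ∀ y : SL2 F, y ∈ K' ↔
        ∃ y' : K, Equiv.Perm.sign (imgK K e y') = 1 ∧ (y' : SL2 F) = y := by
      intro y
      rw [hK']
      constructor
      · rintro ⟨y', hy', rfl⟩
        exact ⟨y', Equiv.Perm.mem_alternatingGroup.mp hy', rfl⟩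
      · rintro ⟨y', hy', rfl⟩
        exact ⟨y', Equiv.Perm.mem_alternatingGroup.mpr hy', rfl⟩
    apply tame_span_absurd (by omega) (frobFix F p 1)
      (frobFix_ne_top p 1 (le_refl 1) (prime_lt_card p hne)) K hK htame K' ?_ ?_ g h
      ((hmem g).mpr ⟨g, by rw [hga]; exact ha, rfl⟩)
      ((hmem h).mpr ⟨h, by rw [hhb]; exact hb, rfl⟩) hgh
    · intro k hk y hy
      obtain ⟨y', hy', rfl⟩ := (hmem y).mp hy
      rw [hmem]
      refine ⟨⟨k, hk⟩ * y' * ⟨k, hk⟩⁻¹, ?_, by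
        rw [Subgroup.coe_mul, Subgroup.coe_mul, Subgroup.coe_inv]⟩
      rw [map_mul, map_mul, map_inv, map_mul, map_mul, map_inv, hy', mul_one, mul_inv_cancel]
    · intro y hy
      obtain ⟨y', hy', rfl⟩ := (hmem y).mp hy
      exact trace_mem_s4_alt _ K e y' y'.2 hy'
  have h8 : p % 8 = 1 ∨ p % 8 = 7 := by
    have hc : Nat.card (K.map (QuotientGroup.mk' (Subgroup.center (SL2 F)))) = 24 := by
      rw [Nat.card_congr e.toEquiv]; exact natCard_s4
    have hdvd : 24 ∣ Nat.card (PSL2 F) := by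
      rw [← hc]; exact Subgroup.card_subgroup_dvd_card _
    have hPSL := Cfsg.Agent.Lib.helper7.two_mul_card_PSL2 (F := F) rfl h2
    have h48 : 2 * 24 ∣ Fintype.card F * (Fintype.card F ^ 2 - 1) := by
      rw [← hPSL]; exact Nat.mul_dvd_mul_left 2 hdvd
    rw [hqp] at h48
    have h16 : 16 ∣ p * (p ^ 2 - 1) := Dvd.dvd.trans (by norm_num) h48
    by_contra hcon
    have hodd : p % 2 = 1 := by
      have h3 := card_odd h2
      rw [hqp] at h3
      exact h3
    exact not_sixteen_dvd p (by omega) h16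
  exact Or.inr (Or.inr (Or.inr (Or.inr (Or.inr (Or.inr (Or.inr ⟨hqp, h8, ⟨e⟩⟩))))))

/-- **Type `A₅`, tame case.** -/
theorem max_a5 (p : ℕ) [Fact p.Prime] [CharP F p] (h2 : (2 : F) ≠ 0)
    (h5 : 5 ≤ Fintype.card F) (K : Subgroup (SL2 F)) (hK : IsCoatom K)
    (hZK : Subgroup.center (SL2 F) ≤ K) (htame : ∀ g ∈ K, g 0 0 + g 1 1 = 2 → g = 1)
    (e : K.map (QuotientGroup.mk' (Subgroup.center (SL2 F))) ≃* alternatingGroup (Fin 5)) :
    MaxConcl F p (K.map (QuotientGroup.mk' (Subgroup.center (SL2 F)))) := by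
  have hpp := (Fact.out : p.Prime)
  obtain ⟨n, -, hqn⟩ := FiniteField.card F p
  have hqodd := card_odd h2
  have hc : Nat.card (K.map (QuotientGroup.mk' (Subgroup.center (SL2 F)))) = 60 := by
    rw [Nat.card_congr e.toEquiv]; exact natCard_a5
  have hZ2 := card_center_odd h2
  have hcardmap := Cfsg.Agent.Lib.helper46.card_map_mk_mul (Subgroup.center (SL2 F)) K hZK
  rw [hZ2, hc] at hcardmap
  have hp2 : p ≠ 2 := by
    intro hp2'
    apply h2
    have h3 := CharP.cast_eq_zero F p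
    rw [hp2'] at h3
    exact_mod_cast h3
  have hp5 : p ≠ 5 := by
    intro hp5
    have : Fact (Nat.Prime 5) := ⟨by norm_num⟩
    obtain ⟨y, hy⟩ := exists_prime_orderOf_dvd_card' (G := K) 5 (by rw [← hcardmap]; norm_num)
    exact tame_not_dvd p K htame (y : SL2 F) y.2 (by rw [Subgroup.orderOf_coe, hy, hp5])
  have hPSL := Cfsg.Agent.Lib.helper7.two_mul_card_PSL2 (F := F) rfl h2
  have hq10 : Fintype.card F % 10 = 1 ∨ Fintype.card F % 10 = 9 := by
    have hdvd : 60 ∣ Nat.card (PSL2 F) := by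
      rw [← hc]; exact Subgroup.card_subgroup_dvd_card _
    have h5dvd : 5 ∣ Fintype.card F * (Fintype.card F ^ 2 - 1) := by
      rw [← hPSL]; exact Dvd.dvd.mul_left (Dvd.dvd.trans (by norm_num) hdvd) 2
    have h5q : ¬ 5 ∣ Fintype.card F := by
      intro h
      rw [hqn] at h
      have h3 := (Nat.prime_dvd_prime_iff_eq (by norm_num) hpp).mp
        (Nat.Prime.dvd_of_dvd_pow (by norm_num) h)
      exact hp5 h3.symm
    have h5' : 5 ∣ Fintype.card F ^ 2 - 1 :=
      ((Nat.Prime.dvd_mul (by norm_num)).mp h5dvd).resolve_left h5q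
    have hpos : 1 ≤ Fintype.card F ^ 2 := Nat.one_le_pow _ _ (by omega)
    have h6 : Fintype.card F ^ 2 % 5 = 1 := by omega
    rw [Nat.pow_mod] at h6
    have h7 : Fintype.card F % 5 < 5 := Nat.mod_lt _ (by norm_num)
    have h8 : Fintype.card F % 5 = 1 ∨ Fintype.card F % 5 = 4 := by
      generalize Fintype.card F % 5 = r at h6 h7
      interval_cases r <;> simp_all
    omega
  have hnc : ∃ g h : K, (g : SL2 F) * (h : SL2 F) ≠ h * g := by
    obtain ⟨a, b, hab⟩ := a5_noncomm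
    obtain ⟨g, h, -, -, hgh⟩ := noncomm_lift K e a b hab
    exact ⟨g, h, hgh⟩
  obtain ⟨g, h, hgh⟩ := hnc
  have hfield : Fintype.card F = p ∨ Fintype.card F = p ^ 2 := by
    by_contra hne
    push Not at hne
    have hlt : p ^ 2 < Fintype.card F := by
      rw [hqn] at hne ⊢
      apply Nat.pow_lt_pow_right hpp.one_lt
      by_contra hle
      have hn : (n : ℕ) = 1 ∨ (n : ℕ) = 2 := by
        have := n.pos
        omega
      rcases hn with h' | h'
      · exact hne.1 (by rw [h', pow_one])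
      · exact hne.2 (by rw [h'])
    exact tame_span_absurd (by omega) (frobFix F p 2)
      (frobFix_ne_top p 2 (by norm_num) hlt) K hK htame K (conj_mem_self K)
      (fun k hk => trace_mem_a5 _ (fun t ε hε ht => golden_mem_frobFix p t ε hε ht) K e k hk)
      g h g.2 h.2 hgh
  have hfield' : Fintype.card F = p ∨
      (Fintype.card F = p ^ 2 ∧ (p % 10 = 3 ∨ p % 10 = 7)) := by
    rcases hfield with h' | h'
    · left; exact h'
    · right
      refine ⟨h', ?_⟩
      by_contra hcon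
      have h1 : p % 2 = 1 := (hpp.eq_two_or_odd).resolve_left hp2
      have h2' : p % 5 ≠ 0 := fun h0 =>
        hp5 ((Nat.prime_dvd_prime_iff_eq (by norm_num) hpp).mp (Nat.dvd_of_mod_eq_zero h0)).symm
      obtain ⟨r, hrL, hr5⟩ := exists_sqrt5_frobFix (F := F) p hp2 (by omega)
      have hlt : p ^ 1 < Fintype.card F := by
        rw [h', pow_one]
        nlinarith [hpp.two_le]
      exact tame_span_absurd (by omega) (frobFix F p 1)
        (frobFix_ne_top p 1 (le_refl 1) hlt) K hK htame K (conj_mem_self K)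
        (fun k hk => trace_mem_a5 _
          (fun t ε hε ht => golden_mem_of_sqrt5 _ h2 r hrL hr5 t ε hε ht) K e k hk)
        g h g.2 h.2 hgh
  exact Or.inr (Or.inr (Or.inr (Or.inr (Or.inr (Or.inl ⟨hq10, hfield', ⟨e⟩⟩)))))

end Exceptional

end Cfsg.Agent.Lib.helper98
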