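import Mathlib
import Cfsg.Agent.Lib.helper98.MaxOddC

/-!
# Maximal subgroups of `PSL₂(q)`, `q` odd

`maximal_odd`: the image in `PSL₂(F)` of a maximal subgroup `K ⊇ Z` of `SL₂(F)`, `|F| ≥ 5` odd,
satisfies `MaxConcl`.
-/

set_option autoImplicit false
set_option linter.unusedSimpArgs false
set_option linter.unusedVariables false

namespace Cfsg.Agent.Lib.helper98

open Matrix
open scoped Classical
open Cfsg.Agent.Lib.helper46

local notation "SL2" => Matrix.SpecialLinearGroup (Fin 2)
local notation "PSL2" => Matrix.ProjectiveSpecialLinearGroup (Fin 2)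
local notation "M2" => Matrix (Fin 2) (Fin 2)

section Aux

variable {F : Type*} [Field F]

/-- A maximal subfield subgroup has prime degree (any characteristic). -/
theorem prime_degree_of_coatom' [Fintype F] (p : ℕ) [Fact p.Prime] {K₀ : Type*} [Field K₀]
    [Fintype K₀] (φ : K₀ →+* F) (k m : ℕ) (hk : 1 ≤ k)
    (hK₀ : Fintype.card K₀ = p ^ k) (hF : Fintype.card F = p ^ (k * m))
    (hco : IsCoatom (Matrix.SpecialLinearGroup.map φ : SL2 K₀ →* SL2 F).range) : m.Prime := by
  have hpp := (Fact.out : p.Prime)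
  have hm0 : m ≠ 0 := by
    rintro rfl
    rw [mul_zero, pow_zero] at hF
    have := Fintype.one_lt_card (α := F)
    omega
  have hm1 : m ≠ 1 := by
    rintro rfl
    rw [mul_one] at hF
    apply hco.1
    rw [← Subgroup.card_eq_iff_eq_top, card_range_map,
      Cfsg.Agent.Lib.helper7.card_SL2 (F := F) rfl, hK₀, hF]
  by_contra hnp
  obtain ⟨a, b, ha, hb, hab⟩ := (Nat.not_prime_iff_exists_mul_eq (by omega : 2 ≤ m)).mp hnp
  have ha2 : 2 ≤ a := by
    by_contra h
    have h' : a = 0 ∨ a = 1 := by omega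
    rcases h' with rfl | rfl
    · rw [zero_mul] at hab; omega
    · rw [one_mul] at hab; omega
  let _ : Fintype (GaloisField p (k * a)) := Fintype.ofFinite _
  have hK₁ : Fintype.card (GaloisField p (k * a)) = p ^ (k * a) := by
    rw [← Nat.card_eq_fintype_card]
    exact GaloisField.card p (k * a) (Nat.mul_ne_zero (by omega) (by omega))
  obtain ⟨ψ⟩ := Cfsg.Agent.S0805.exists_ringHom (F := F) (K := GaloisField p (k * a)) b
    (by rw [hK₁, hF, ← pow_mul, mul_assoc, hab])
  have hle : (Matrix.SpecialLinearGroup.map φ : SL2 K₀ →* SL2 F).range ≤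
      (Matrix.SpecialLinearGroup.map ψ : SL2 (GaloisField p (k * a)) →* SL2 F).range := by
    rintro _ ⟨g₀, rfl⟩
    apply mem_range_map_of_entries
    intro i j
    rw [sl2_map_apply]
    apply mem_range_of_pow_card_eq ψ
    rw [hK₁, pow_mul, ← hK₀, ← map_pow, FiniteField.pow_card_pow]
  have hka : k < k * a := by nlinarith
  have hkam : k * a < k * m := by nlinarith
  have hlt : p ^ k < p ^ (k * a) := Nat.pow_lt_pow_right hpp.one_lt hka
  have hne : (Matrix.SpecialLinearGroup.map ψ : SL2 (GaloisField p (k * a)) →* SL2 F).range ≠ ⊤ :=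
    range_ne_top ψ (by rw [hK₁, hF]; exact Nat.pow_lt_pow_right hpp.one_lt hkam)
  rcases hco.le_iff.mp hle with h | h
  · exact hne h
  · have h1 : Nat.card (Matrix.SpecialLinearGroup.map ψ : SL2 (GaloisField p (k * a)) →* SL2 F).range
        = Nat.card (Matrix.SpecialLinearGroup.map φ : SL2 K₀ →* SL2 F).range := by rw [h]
    rw [card_range_map, card_range_map, hK₁, hK₀] at h1
    have hpos : 0 < (p ^ (k * a)) ^ 2 - 1 := by
      have h3 : 1 < (p ^ (k * a)) ^ 2 :=
        Nat.one_lt_pow (by norm_num) (Nat.one_lt_pow (by omega) hpp.one_lt)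
      omega
    have h3 : p ^ k * ((p ^ k) ^ 2 - 1) < p ^ (k * a) * ((p ^ (k * a)) ^ 2 - 1) :=
      calc p ^ k * ((p ^ k) ^ 2 - 1) ≤ p ^ k * ((p ^ (k * a)) ^ 2 - 1) :=
            Nat.mul_le_mul_left _ (Nat.sub_le_sub_right (Nat.pow_le_pow_left hlt.le 2) 1)
        _ < p ^ (k * a) * ((p ^ (k * a)) ^ 2 - 1) := Nat.mul_lt_mul_of_pos_right hlt hpos
    exact absurd h1 (Nat.ne_of_gt h3)

/-- Square roots of elements of the subfield of order `p ^ k` lie in the subfield of order
`p ^ (2 k)`. -/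
theorem pow_of_sq_mem_range {K₀ : Type*} [Field K₀] [Fintype K₀] (φ : K₀ →+* F) (p k : ℕ)
    (hK₀ : Fintype.card K₀ = p ^ k) (hodd : p % 2 = 1) (y : F) (hy : y ^ 2 ∈ Set.range φ) :
    y ^ p ^ (2 * k) = y := by
  obtain ⟨z, hz⟩ := hy
  have hA : p ^ (2 * k) = (p ^ k) ^ 2 := by rw [mul_comm, pow_mul]
  rw [hA, ← hK₀]
  by_cases hy0 : y = 0
  · rw [hy0, zero_pow (pow_ne_zero 2 Fintype.card_ne_zero)]
  have hz0 : z ≠ 0 := by
    rintro rfl
    rw [map_zero] at hz
    exact (pow_ne_zero 2 hy0) hz.symm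
  have h1 : z ^ (Fintype.card K₀ - 1) = 1 := FiniteField.pow_card_sub_one_eq_one z hz0
  have h2 : y ^ (2 * (Fintype.card K₀ - 1)) = 1 := by
    rw [pow_mul, ← hz, ← map_pow, h1, map_one]
  have hAodd : Fintype.card K₀ % 2 = 1 := by rw [hK₀, Nat.pow_mod, hodd, Nat.one_pow]
  obtain ⟨j, hj⟩ : ∃ j, Fintype.card K₀ = 2 * j + 1 := ⟨Fintype.card K₀ / 2, by omega⟩
  have h3 : Fintype.card K₀ ^ 2 = 2 * (Fintype.card K₀ - 1) * (j + 1) + 1 := by
    rw [hj]
    simp only [Nat.add_sub_cancel]
    ring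
  rw [h3, pow_succ, pow_mul, h2, one_pow, one_mul]

theorem pglSL_entries {K₀ : Type*} [Field K₀] (φ : K₀ →+* F) (g : SL2 F) (hg : g ∈ pglSL φ) :
    ∃ (a b c d : K₀) (u : F), φ a * u = g 0 0 ∧ φ b * u = g 0 1 ∧ φ c * u = g 1 0 ∧
      φ d * u = g 1 1 := by
  rw [mem_pglSL_iff] at hg
  obtain ⟨A, u, hAu⟩ := hg
  have hent : ∀ i j, φ ((A : Matrix (Fin 2) (Fin 2) K₀) i j) * (u : F) = g i j := by
    intro i j
    have h1 : (Matrix.GeneralLinearGroup.map φ A * Matrix.GeneralLinearGroup.scalar (Fin 2) u) i j =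
        (Matrix.SpecialLinearGroup.toGL g) i j := by rw [hAu]
    rw [gl_mul_scalar_apply, Matrix.GeneralLinearGroup.map_apply] at h1
    exact h1
  exact ⟨(A : Matrix (Fin 2) (Fin 2) K₀) 0 0, (A : Matrix (Fin 2) (Fin 2) K₀) 0 1,
    (A : Matrix (Fin 2) (Fin 2) K₀) 1 0, (A : Matrix (Fin 2) (Fin 2) K₀) 1 1, u,
    hent 0 0, hent 0 1, hent 1 0, hent 1 1⟩

theorem trace_sq_mem_range_pglSL {K₀ : Type*} [Field K₀] (φ : K₀ →+* F) (g : SL2 F)
    (hg : g ∈ pglSL φ) : (g 0 0 + g 1 1) ^ 2 ∈ Set.range φ := by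
  obtain ⟨a, b, c, d, u, h00, h01, h10, h11⟩ := pglSL_entries φ g hg
  have hdet := sl2_det' g
  have hdet' : φ a * u * (φ d * u) - φ b * u * (φ c * u) = 1 := by
    rw [h00, h01, h10, h11]; exact hdet
  have hD : φ (a * d - b * c) * (u * u) = 1 := by
    rw [map_sub, map_mul, map_mul]; linear_combination hdet'
  have hu2 : u * u = (φ (a * d - b * c))⁻¹ := eq_inv_of_mul_eq_one_right hD
  have e : g 0 0 + g 1 1 = φ a * u + φ d * u := by rw [h00, h11]
  rw [e]
  refine ⟨(a + d) ^ 2 * (a * d - b * c)⁻¹, ?_⟩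
  rw [map_mul, map_pow, map_add, map_inv₀, ← hu2]
  ring

theorem upSL_mem_pglSL {K₀ : Type*} [Field K₀] (φ : K₀ →+* F) (lam : F)
    (h : upSL lam ∈ pglSL φ) : ∃ y, φ y = lam := by
  obtain ⟨a, b, c, d, u, h00, h01, h10, h11⟩ := pglSL_entries φ _ h
  rw [upSL_00] at h00
  rw [upSL_01] at h01
  have hu : u = (φ a)⁻¹ := eq_inv_of_mul_eq_one_right h00
  refine ⟨b * a⁻¹, ?_⟩
  rw [map_mul, map_inv₀, ← h01, hu]

/-- An element of trace `±2` whose fifth power is central is central (`p ≠ 2, 5`). -/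
theorem center_of_pm_unip_pow5 (p : ℕ) [Fact p.Prime] [CharP F p] (hp2 : p ≠ 2) (hp5 : p ≠ 5)
    (g : SL2 F) (htr : g 0 0 + g 1 1 = 2 ∨ g 0 0 + g 1 1 = -2)
    (h5 : g * g * g * g * g ∈ Subgroup.center (SL2 F)) : g ∈ Subgroup.center (SL2 F) := by
  have hpp := (Fact.out : p.Prime)
  have key : ∀ y : SL2 F, y 0 0 + y 1 1 = 2 → y ^ 5 ∈ Subgroup.center (SL2 F) → y = 1 := by
    intro y hy h5y
    have h1 : y ^ p = 1 := unip_pow_char p y hy
    have h2 : y ^ 10 = 1 := by
      have h3 := sq_eq_one_of_mem_center _ h5y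
      rw [← pow_add] at h3
      exact h3
    have h3 : orderOf y ∣ Nat.gcd p 10 :=
      Nat.dvd_gcd (orderOf_dvd_of_pow_eq_one h1) (orderOf_dvd_of_pow_eq_one h2)
    have h4 : Nat.gcd p 10 = 1 := by
      have hcop : Nat.Coprime p 10 := by
        rw [Nat.Prime.coprime_iff_not_dvd hpp]
        intro hd
        have h10 : (10 : ℕ) = 2 * 5 := by norm_num
        rw [h10] at hd
        rcases (Nat.Prime.dvd_mul hpp).mp hd with h | h
        · exact hp2 ((Nat.prime_dvd_prime_iff_eq hpp Nat.prime_two).mp h)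
        · exact hp5 ((Nat.prime_dvd_prime_iff_eq hpp (by norm_num)).mp h)
      exact hcop
    rw [h4, Nat.dvd_one] at h3
    exact orderOf_eq_one_iff.mp h3
  have e5 : ∀ y : SL2 F, y * y * y * y * y = y ^ 5 := fun y => by
    rw [pow_succ, pow_succ, pow_succ, pow_two]
  rcases htr with h | h
  · rw [key g h (by rw [← e5]; exact h5)]; exact Subgroup.one_mem _
  · have h1 : ((negOne : SL2 F) * g) 0 0 + ((negOne : SL2 F) * g) 1 1 = 2 := by
      simp only [sl2_mul_apply, negOne_00, negOne_01, negOne_10, negOne_11]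
      linear_combination -h
    have h2 : ((negOne : SL2 F) * g) ^ 5 ∈ Subgroup.center (SL2 F) := by
      have hc : Commute (negOne : SL2 F) g := negOne_comm g
      rw [hc.mul_pow]
      exact Subgroup.mul_mem _ (Subgroup.pow_mem _ negOne_mem_center 5) (by rw [← e5]; exact h5)
    have h3 := key _ h1 h2
    have h4 : g = negOne := by
      have h6 : (negOne : SL2 F) * (negOne * g) = negOne * 1 := by rw [h3]
      rw [negOne_mul_cancel, mul_one] at h6
      exact h6
    rw [h4]; exact negOne_mem_center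

end Aux

section Wild

variable {F : Type*} [Field F] [Fintype F]

set_option maxHeartbeats 1000000 in
/-- **Normalized wild maximal subgroups.** -/
theorem max_wild_norm (p : ℕ) [Fact p.Prime] [CharP F p] (h2 : (2 : F) ≠ 0)
    (h5 : 5 ≤ Fintype.card F) (H : Subgroup (SL2 F)) (hco : IsCoatom H) (hneg : negOne ∈ H)
    (hB : ∀ g ∈ H, g 1 0 = 0 → ∃ h ∈ H, h 0 0 = g 0 0 ∧ h 0 1 = 0 ∧ h 1 0 = 0)
    (hu1 : upSL 1 ∈ H) :
    MaxConcl F p (H.map (QuotientGroup.mk' (Subgroup.center (SL2 F)))) := by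
  have hpp := (Fact.out : p.Prime)
  have hZH := center_le_of_negOne H hneg
  have hZ2 := card_center_odd h2
  have hcardmap := card_map_mk_mul (Subgroup.center (SL2 F)) H hZH
  rw [hZ2] at hcardmap
  have hAq := card_UH_dvd H
  have hdq := card_TH_dvd H
  have hA2 : 2 ≤ Nat.card {t : F // upSL t ∈ H} := by
    have : Nontrivial {t : F // upSL t ∈ H} :=
      ⟨⟨⟨0, by rw [upSL_zero]; exact H.one_mem⟩, ⟨1, hu1⟩,
        fun h => one_ne_zero (congrArg Subtype.val h).symm⟩⟩
    exact Finite.one_lt_card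
  obtain ⟨n, -, hqn⟩ := FiniteField.card F p
  have hqodd := card_odd h2
  have hp2 : p ≠ 2 := by
    intro hp2'
    apply h2
    have h3 := CharP.cast_eq_zero F p
    rw [hp2'] at h3
    exact_mod_cast h3
  have hpodd : p % 2 = 1 := (hpp.eq_two_or_odd).resolve_left hp2
  have hself : ∀ k ∈ H, ∀ x ∈ H, k * x * k⁻¹ ∈ H := conj_mem_self H
  rcases wild_odd_normalized' p h2 H hneg hB 1 one_ne_zero hu1 with h | ⟨hd, hcard⟩ |
    ⟨hd, hcard⟩ | ⟨hp3, hcard⟩
  · -- Borel
    left
    have hle : H ≤ borelSL F := fun g hg => (mem_borelSL g).mpr (h g hg)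
    have heq : borelSL F = H := (hco.le_iff.mp hle).resolve_left borelSL_ne_top
    have hc : Nat.card H = Fintype.card F * (Fintype.card F - 1) := by
      rw [← heq, card_borelSL]
    rw [← hc, ← hcardmap]; ring
  · -- `SL`-type
    obtain ⟨K₀, _, _, m, φ, hK₀, hm⟩ := exists_subfield_data p _ hA2 hAq
      (by rw [← hd]; exact hdq)
    obtain ⟨c, hc⟩ := sl_type_conj φ h2 H hB (by rw [hK₀]; exact hd) hu1 hK₀.symm
      (by rw [hK₀]; exact hcard)
    have hcoR : IsCoatom (Matrix.SpecialLinearGroup.map φ : SL2 K₀ →* SL2 F).range := by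
      rw [← hc]; exact isCoatom_conjSub c H hco
    obtain ⟨k, hkn, hAk⟩ := (Nat.dvd_prime_pow hpp).mp (hqn ▸ hAq)
    have hk1 : 1 ≤ k := by
      by_contra hlt
      have hk0 : k = 0 := by omega
      rw [hk0, pow_zero] at hAk
      omega
    have hK₀' : Fintype.card K₀ = p ^ k := by rw [hK₀, hAk]
    have hkm : k * m = n := by
      have h3 : p ^ (k * m) = p ^ (n : ℕ) := by rw [pow_mul, ← hK₀', hm, hqn]
      exact Nat.pow_right_injective hpp.two_le h3
    have hprime := prime_degree_of_coatom' p φ k m hk1 hK₀' (by rw [hqn, hkm]) hcoR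
    have hm2 : m ≠ 2 := by
      rintro rfl
      have hFodd : Odd (Fintype.card F) := Nat.odd_iff.mpr hqodd
      have hsq : ∀ x : K₀, x ≠ 0 → IsSquare (φ x) :=
        Cfsg.Agent.S0805.isSquare_map φ hFodd 2 even_two hm
      have hle := range_le_pglSL φ
      have hc1 := card_pglSL φ _ rfl h2 hsq
      have hc2 := card_range_map φ
      have hK2 : 2 ≤ Fintype.card K₀ := by rw [hK₀]; exact hA2
      rcases hcoR.le_iff.mp hle with h | h
      · rw [h, Subgroup.card_top, Cfsg.Agent.Lib.helper7.card_SL2 (F := F) rfl, ← hm] at hc1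
        exact pgl_card_ne _ hK2 hc1.symm
      · rw [h, hc2] at hc1
        have hpos : 0 < Fintype.card K₀ * (Fintype.card K₀ ^ 2 - 1) := by
          apply Nat.mul_pos (by omega)
          have : 2 ^ 2 ≤ Fintype.card K₀ ^ 2 := Nat.pow_le_pow_left hK2 2
          omega
        omega
    have hodd : Odd m := (hprime.eq_two_or_odd').resolve_left hm2
    right; right; right; right; left
    refine ⟨K₀, inferInstance, inferInstance, m, hprime, hodd, hm.symm, ?_⟩
    obtain ⟨e1⟩ : Nonempty (↥(H.map (QuotientGroup.mk' (Subgroup.center (SL2 F)))) ≃*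
        ↥((conjSub c H).map (QuotientGroup.mk' (Subgroup.center (SL2 F))))) :=
      map_aut_equiv (MulAut.conj c) H
    obtain ⟨e2⟩ := psl_range_equiv φ
    exact ⟨e1.trans ((MulEquiv.subgroupCongr
      (congrArg (Subgroup.map (QuotientGroup.mk' (Subgroup.center (SL2 F)))) hc)).trans e2)⟩
  · -- `PGL`-type
    obtain ⟨K₀, _, _, m, φ, hK₀, hm⟩ := exists_subfield_data p _ hA2 hAq
      (by
        have h3 : 2 * (Nat.card {t : F // upSL t ∈ H} - 1) ∣ Fintype.card F - 1 := by
          rw [← hd]; exact hdq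
        exact dvd_of_mul_left_dvd h3)
    obtain ⟨hsq, hH⟩ := pgl_type_eq φ h2 H hB (by rw [hK₀]; exact hd) hu1 hK₀.symm
      (by rw [hK₀]; exact hcard)
    have hmap : H.map (QuotientGroup.mk' (Subgroup.center (SL2 F))) = pglSub φ := by
      rw [hH]
      exact Subgroup.map_comap_eq_self_of_surjective
        (QuotientGroup.mk'_surjective (Subgroup.center (SL2 F))) _
    obtain ⟨k, hkn, hAk⟩ := (Nat.dvd_prime_pow hpp).mp (hqn ▸ hAq)
    have hk1 : 1 ≤ k := by
      by_contra hlt
      have hk0 : k = 0 := by omega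
      rw [hk0, pow_zero] at hAk
      omega
    have hK₀' : Fintype.card K₀ = p ^ k := by rw [hK₀, hAk]
    have hkm : k * m = n := by
      have h3 : p ^ (k * m) = p ^ (n : ℕ) := by rw [pow_mul, ← hK₀', hm, hqn]
      exact Nat.pow_right_injective hpp.two_le h3
    have hm2 : m = 2 := by
      by_contra hne
      have hm0 : m ≠ 0 := by
        rintro rfl
        rw [pow_zero] at hm
        omega
      have hm1 : m ≠ 1 := by
        rintro rfl
        rw [pow_one] at hm
        obtain ⟨δ, hδ⟩ := FiniteField.exists_nonsquare (ringChar_ne_two h2)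
        have hsurj : Function.Surjective φ :=
          ((Fintype.bijective_iff_injective_and_card φ).mpr ⟨φ.injective, hm⟩).2
        obtain ⟨d, rfl⟩ := hsurj δ
        by_cases hd0 : d = 0
        · apply hδ
          rw [hd0, map_zero]
          exact ⟨0, by rw [mul_zero]⟩
        · exact hδ (hsq d hd0)
      have hm3 : 3 ≤ m := by omega
      have hlt : p ^ (2 * k) < Fintype.card F := by
        rw [hqn, ← hkm]
        exact Nat.pow_lt_pow_right hpp.one_lt (by nlinarith)
      have hL := frobFix_ne_top (F := F) p (2 * k) (by omega) hlt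
      have htr : ∀ g ∈ H, g 0 0 + g 1 1 ∈ frobFix F p (2 * k) := by
        intro g hg
        rw [hH] at hg
        rw [mem_frobFix]
        exact pow_of_sq_mem_range φ p k hK₀' hpodd _ (trace_sq_mem_range_pglSL φ g hg)
      have hwH : wSL ∈ H := by
        rw [hH]
        exact range_le_pglSL φ ⟨wSL, map_wSL φ⟩
      have hnc : upSL (1 : F) * wSL ≠ wSL * upSL 1 := by
        intro hc
        have h3 := congrArg (fun g : SL2 F => g 0 0) hc
        simp only [sl2_mul_apply, upSL_00, upSL_01, upSL_10, upSL_11, wSL_00, wSL_01, wSL_10,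
          wSL_11] at h3
        apply one_ne_zero (α := F)
        linear_combination -h3
      have hle := spanGrp_le_of_coatom (by omega) _ hL H hco H hself htr (upSL 1) wSL hu1 hwH hnc
      obtain ⟨d, hd'⟩ := FiniteField.exists_nonsquare (F := K₀)
        (ringChar_ne_two (two_ne_zero_of_hom φ h2))
      have hd0 : d ≠ 0 := by
        rintro rfl
        exact hd' ⟨0, by rw [mul_zero]⟩
      obtain ⟨lam, hlam⟩ := hsq d hd0
      have hlamL : lam ∈ frobFix F p (2 * k) := by
        rw [mem_frobFix]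
        exact pow_of_sq_mem_range φ p k hK₀' hpodd lam ⟨d, by rw [hlam, pow_two]⟩
      have hmem : upSL lam ∈ H := hle (upSL_mem_spanGrp _ H hu1 lam hlamL)
      rw [hH] at hmem
      obtain ⟨y, hy⟩ := upSL_mem_pglSL φ lam hmem
      apply hd'
      refine ⟨y, φ.injective ?_⟩
      rw [map_mul, hy, hlam]
    subst hm2
    right; right; right; left
    rw [hmap]
    obtain ⟨e⟩ := pglSub_equiv φ hsq
    exact ⟨K₀, inferInstance, inferInstance, hm.symm, ⟨e⟩⟩
  · -- `A₅` in characteristic `3`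
    subst hp3
    have hc : Nat.card (H.map (QuotientGroup.mk' (Subgroup.center (SL2 F)))) = 60 := by omega
    obtain ⟨e⟩ : Nonempty (↥(H.map (QuotientGroup.mk' (Subgroup.center (SL2 F)))) ≃*
        alternatingGroup (Fin 5)) := by
      apply rec60 hc
      intro x y hx hy hxy
      have h3 := psl_cube_of_comm (x : PSL2 F) (y : PSL2 F)
        (by rw [Subgroup.orderOf_coe]; exact hy)
        (by
          have h4 := congrArg Subtype.val hxy
          simpa only [Subgroup.coe_mul] using h4)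
      have h4 : orderOf (x : PSL2 F) ∣ 3 := orderOf_dvd_of_pow_eq_one h3
      rw [Subgroup.orderOf_coe, hx] at h4
      norm_num at h4
    have hq9 : Fintype.card F = 9 := by
      by_contra hne
      have hn3 : 3 ≤ (n : ℕ) := by
        by_contra hlt
        have hn : (n : ℕ) = 1 ∨ (n : ℕ) = 2 := by
          have := n.pos
          omega
        rcases hn with h | h
        · rw [hqn, h] at h5
          norm_num at h5
        · apply hne
          rw [hqn, h]; norm_num
      have hlt : 3 ^ 2 < Fintype.card F := by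
        rw [hqn]; exact Nat.pow_lt_pow_right (by norm_num) (by omega)
      have hL := frobFix_ne_top (F := F) 3 2 (by norm_num) hlt
      have htr : ∀ g ∈ H, g 0 0 + g 1 1 ∈ frobFix F 3 2 := fun g hg =>
        trace_mem_a5 _ (fun t ε hε ht => golden_mem_frobFix 3 t ε hε ht) H e g hg
      obtain ⟨a, b, hab⟩ := a5_noncomm
      obtain ⟨g₁, g₂, -, -, hgh⟩ := noncomm_lift H e a b hab
      have hle := spanGrp_le_of_coatom (by omega) _ hL H hco H hself htr g₁ g₂ g₁.2 g₂.2 hgh
      obtain ⟨c₀, t₀, hc5, hc1, -, -, -⟩ := a5_exists_dihedral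
      obtain ⟨y, hy⟩ := imgK_surjective H e c₀
      have hy5 : (y : SL2 F) * y * y * y * y ∈ Subgroup.center (SL2 F) :=
        pow5_mem_center_of_img H e y y.2 (by rw [hy]; exact hc5)
      have hyc : (y : SL2 F) ∉ Subgroup.center (SL2 F) := fun h =>
        hc1 (by rw [← hy]; exact (imgK_eq_one_iff H e y).mpr h)
      obtain ⟨τ, hτL, hτ0, hτ1, hτm1⟩ :
          ∃ τ : F, τ ∈ frobFix F 3 2 ∧ τ ≠ 0 ∧ τ ≠ 1 ∧ τ ≠ -1 := by
        rcases trace_of_pow5_center (y : SL2 F) hy5 with h | h | h | h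
        · exact absurd (center_of_pm_unip_pow5 3 (by norm_num) (by norm_num) _ (Or.inl h) hy5) hyc
        · exact absurd (center_of_pm_unip_pow5 3 (by norm_num) (by norm_num) _ (Or.inr h) hy5) hyc
        · refine ⟨_, golden_mem_frobFix 3 _ 1 (Or.inl rfl) h, ?_, ?_, ?_⟩
          · intro h0
            rw [h0] at h
            apply one_ne_zero (α := F)
            linear_combination -h
          · intro h0
            rw [h0] at h
            apply one_ne_zero (α := F)
            linear_combination -h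
          · intro h0
            rw [h0] at h
            apply one_ne_zero (α := F)
            linear_combination h
        · refine ⟨_, golden_mem_frobFix 3 _ (-1) (Or.inr rfl) h, ?_, ?_, ?_⟩
          · intro h0
            rw [h0] at h
            apply one_ne_zero (α := F)
            linear_combination -h
          · intro h0
            rw [h0] at h
            apply one_ne_zero (α := F)
            linear_combination h
          · intro h0
            rw [h0] at h
            apply one_ne_zero (α := F)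
            linear_combination -h
      have hU : ∀ x ∈ frobFix F 3 2, upSL x ∈ H := fun x hx =>
        hle (upSL_mem_spanGrp _ H hu1 x hx)
      have hd1 : Nat.card ↥(unipSL F ⊓ H) ∣ Fintype.card F := by
        rw [← card_unipSL (F := F)]; exact Subgroup.card_dvd_of_le inf_le_left
      have hd2 : Nat.card ↥(unipSL F ⊓ H) ∣ 120 := by
        rw [← hcard]; exact Subgroup.card_dvd_of_le inf_le_right
      rw [hqn] at hd1
      obtain ⟨j, -, hj⟩ := (Nat.dvd_prime_pow Nat.prime_three).mp hd1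
      have hj1 : j ≤ 1 := by
        by_contra hj2
        have h9 : 3 ^ 2 ∣ 120 :=
          Dvd.dvd.trans (by rw [hj]; exact pow_dvd_pow 3 (by omega : 2 ≤ j)) hd2
        norm_num at h9
      have hle3 : Nat.card ↥(unipSL F ⊓ H) ≤ 3 := by
        rw [hj]
        calc 3 ^ j ≤ 3 ^ 1 := Nat.pow_le_pow_right (by norm_num) hj1
          _ = 3 := by norm_num
      have hsub : ((({0, 1, -1, τ} : Finset F).image upSL : Finset (SL2 F)) : Set (SL2 F)) ⊆
          ((unipSL F ⊓ H : Subgroup (SL2 F)) : Set (SL2 F)) := by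
        intro g hg
        rw [Finset.mem_coe, Finset.mem_image] at hg
        obtain ⟨x, hx, rfl⟩ := hg
        simp only [Finset.mem_insert, Finset.mem_singleton] at hx
        refine ⟨(mem_unipSL _).mpr ⟨upSL_00 x, upSL_10 x⟩, hU x ?_⟩
        rcases hx with rfl | rfl | rfl | rfl
        · exact Subfield.zero_mem _
        · exact Subfield.one_mem _
        · exact Subfield.neg_mem _ (Subfield.one_mem _)
        · exact hτL
      have h1m1 : (1 : F) ≠ -1 := by
        intro h
        apply h2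
        linear_combination h
      have hcardS : (({0, 1, -1, τ} : Finset F).image upSL).card = 4 := by
        rw [Finset.card_image_of_injective _ upSL_injective]
        rw [Finset.card_insert_of_notMem, Finset.card_insert_of_notMem,
          Finset.card_insert_of_notMem, Finset.card_singleton]
        · simp only [Finset.mem_singleton]; exact hτm1.symm
        · simp only [Finset.mem_insert, Finset.mem_singleton]
          push Not
          exact ⟨h1m1, hτ1.symm⟩
        · simp only [Finset.mem_insert, Finset.mem_singleton]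
          push Not
          exact ⟨zero_ne_one, by
            intro h
            apply one_ne_zero (α := F)
            linear_combination h, hτ0.symm⟩
      have h4 := Set.ncard_le_ncard hsub (Set.toFinite _)
      rw [Set.ncard_coe_finset, hcardS] at h4
      have h5' : Nat.card ↥(unipSL F ⊓ H) =
          ((unipSL F ⊓ H : Subgroup (SL2 F)) : Set (SL2 F)).ncard := Nat.card_coe_set_eq _
      omega
    right; right; right; right; right; left
    refine ⟨Or.inr (by rw [hq9]), Or.inr ⟨by rw [hq9]; norm_num, Or.inl (by norm_num)⟩, ⟨e⟩⟩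

/-- **Wild maximal subgroups.** -/
theorem max_wild (p : ℕ) [Fact p.Prime] [CharP F p] (h2 : (2 : F) ≠ 0)
    (h5 : 5 ≤ Fintype.card F) (K : Subgroup (SL2 F)) (hK : IsCoatom K)
    (hZK : Subgroup.center (SL2 F) ≤ K) (hw : ∃ g ∈ K, g ≠ 1 ∧ g 0 0 + g 1 1 = 2) :
    MaxConcl F p (K.map (QuotientGroup.mk' (Subgroup.center (SL2 F)))) := by
  obtain ⟨g, hg, hg1, htr⟩ := hw
  have hneg : negOne ∈ K := hZK negOne_mem_center
  obtain ⟨c₁, t₀, ht₀, hu⟩ := exists_conj_unip K g hg hg1 htr
  apply maxConcl_of_aut p (MulAut.conj c₁) K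
  have hneg₁ := negOne_mem_conjSub c₁ K hneg
  have hK₁ : IsCoatom (conjSub c₁ K) := isCoatom_conjSub c₁ K hK
  apply maxConcl_of_aut p (dkDiag t₀ ht₀) (conjSub c₁ K)
  obtain ⟨K₂, hK₂⟩ : ∃ K₂ : Subgroup (SL2 F),
      K₂ = (conjSub c₁ K).map (dkDiag t₀ ht₀).toMonoidHom := ⟨_, rfl⟩
  rw [← hK₂]
  have hK₂co : IsCoatom K₂ := by
    rw [hK₂]; exact ((dkDiag t₀ ht₀).mapSubgroup.isCoatom_iff _).mpr hK₁
  have hent : ∀ g' : SL2 F, (dkDiag t₀ ht₀ g') 0 0 = g' 0 0 ∧
      (dkDiag t₀ ht₀ g') 0 1 = g' 0 1 / t₀ ∧ (dkDiag t₀ ht₀ g') 1 0 = g' 1 0 * t₀ ∧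
      (dkDiag t₀ ht₀ g') 1 1 = g' 1 1 := fun g' => ⟨rfl, rfl, rfl, rfl⟩
  have hu₂ : upSL 1 ∈ K₂ := by
    rw [hK₂]
    refine Subgroup.mem_map.mpr ⟨upSL t₀, hu, ?_⟩
    show dkDiag t₀ ht₀ (upSL t₀) = upSL 1
    obtain ⟨e00, e01, e10, e11⟩ := hent (upSL t₀)
    apply sl2_ext
    · rw [e00, upSL_00, upSL_00]
    · rw [e01, upSL_01, upSL_01, div_self ht₀]
    · rw [e10, upSL_10, upSL_10, zero_mul]
    · rw [e11, upSL_11, upSL_11]
  have hneg₂ : negOne ∈ K₂ := by
    rw [hK₂]
    refine Subgroup.mem_map.mpr ⟨negOne, hneg₁, ?_⟩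
    show dkDiag t₀ ht₀ negOne = negOne
    obtain ⟨e00, e01, e10, e11⟩ := hent negOne
    apply sl2_ext
    · rw [e00]
    · rw [e01, negOne_01, zero_div]
    · rw [e10, negOne_10, zero_mul]
    · rw [e11]
  obtain ⟨s, hB⟩ := exists_conj_hB K₂ hneg₂
  apply maxConcl_of_aut p (MulAut.conj (upSL s)) K₂
  exact max_wild_norm p h2 h5 _ (isCoatom_conjSub _ _ hK₂co) (negOne_mem_conjSub _ _ hneg₂) hB
    (upSL_mem_conjSub_upSL s 1 _ hu₂)

end Wild

end Cfsg.Agent.Lib.helper98
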