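import Mathlib
import Cfsg.Agent.Lib.helper98.MaxOddD

/-!
# Maximal subgroups of `PSL₂(q)`, `q` odd: assembly

`maximal_odd`: the image in `PSL₂(F)` of a maximal subgroup `K ⊇ Z` of `SL₂(F)`, `|F| ≥ 5` odd,
satisfies `MaxConcl`.
-/

set_option autoImplicit false
set_option linter.unusedSimpArgs false
set_option linter.unusedVariables false

namespace Cfsg.Agent.Lib.helper98

open Matrix
open scoped Classical
open Cfsg.Agent.Lib.helper46

local notation "SL2" => Matrix.SpecialLinearGroup (Fin 2)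
local notation "PSL2" => Matrix.ProjectiveSpecialLinearGroup (Fin 2)

section Assemble

variable {F : Type*} [Field F] [Fintype F]

/-- A maximal subgroup of `SL₂(F)`, `|F| ≥ 5`, does not have order `2`. -/
theorem coatom_card_ne_two (h5 : 5 ≤ Fintype.card F) (K : Subgroup (SL2 F)) (hK : IsCoatom K)
    (hZK : Subgroup.center (SL2 F) ≤ K) (hZ2 : Nat.card (Subgroup.center (SL2 F)) = 2) :
    Nat.card K ≠ 2 := by
  intro hc
  have hKZ : Subgroup.center (SL2 F) = K := by
    apply Subgroup.eq_of_le_of_card_ge hZK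
    rw [hc, hZ2]
  have hle : K ≤ borelSL F := by
    rw [← hKZ]
    intro z hz
    rw [mem_borelSL]
    rcases center_sl2_eq z hz with h | h
    · rw [h]; rfl
    · rw [h, negOne_10]
  rcases hK.le_iff.mp hle with h | h
  · exact borelSL_ne_top h
  · have h1 := card_borelSL (F := F)
    rw [h, hc] at h1
    have h3 : 5 * 4 ≤ Fintype.card F * (Fintype.card F - 1) :=
      Nat.mul_le_mul h5 (by omega)
    omega

set_option maxHeartbeats 1000000 in
/-- **Maximal subgroups of `PSL₂(q)`, `q` odd** (at the level of `SL₂`). -/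
theorem maximal_odd (p : ℕ) [Fact p.Prime] [CharP F p] (h2 : (2 : F) ≠ 0)
    (h5 : 5 ≤ Fintype.card F) (K : Subgroup (SL2 F)) (hK : IsCoatom K)
    (hZK : Subgroup.center (SL2 F) ≤ K) :
    MaxConcl F p (K.map (QuotientGroup.mk' (Subgroup.center (SL2 F)))) := by
  by_cases hw : ∃ g ∈ K, g ≠ 1 ∧ g 0 0 + g 1 1 = 2
  · exact max_wild p h2 h5 K hK hZK hw
  have htame : ∀ g ∈ K, g 0 0 + g 1 1 = 2 → g = 1 := by
    intro g hg htr
    by_contra hne
    exact hw ⟨g, hg, hne, htr⟩
  have hneg : negOne ∈ K := hZK negOne_mem_center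
  have hchar : ringChar F ≠ 2 := ringChar_ne_two h2
  obtain ⟨δ, hδ⟩ := FiniteField.exists_nonsquare hchar
  have hδ0 : δ ≠ 0 := by
    rintro rfl; exact hδ ⟨0, by rw [mul_zero]⟩
  have hZ2 := card_center_odd h2
  have hcardmap := card_map_mk_mul (Subgroup.center (SL2 F)) K hZK
  rw [hZ2] at hcardmap
  have hne2 := coatom_card_ne_two h5 K hK hZK hZ2
  have habel : ∀ (x : SL2 F), x ∈ K → x ∉ Subgroup.center (SL2 F) →
      (∀ k ∈ K, (k * x * k⁻¹) * x = x * (k * x * k⁻¹)) →
      MaxConcl F p (K.map (QuotientGroup.mk' (Subgroup.center (SL2 F)))) := by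
    intro x hx hxc hcomm
    exact max_torus p h2 h5 K hK hZK x hxc (tame_not_dvd p K htame x hx) hcomm
  have hZstab : ∀ J : TZ δ, Subgroup.center (SL2 F) ≤ MulAction.stabilizer (SL2 F) J := by
    intro J z hz
    rw [MulAction.mem_stabilizer_iff]
    rcases center_sl2_eq z hz with h | h
    · rw [h, one_smul]
    · rw [h, TZ.smul_eq_iff]
      apply mat2_ext <;> simp only [mul2_apply, negOne_00, negOne_01, negOne_10, negOne_11] <;>
        ring
  have hbound : ∀ (m b : ℕ), 2 ≤ m → m ≤ 2 * b →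
      (∀ J : TZ δ, Nat.card ↥(K ⊓ MulAction.stabilizer (SL2 F) J) ≤ m) →
      ∀ g : ↥(K.map (QuotientGroup.mk' (Subgroup.center (SL2 F)))),
        ∃ j, 1 ≤ j ∧ j ≤ b ∧ g ^ j = 1 := by
    intro m b hm2 hmb hb
    rintro ⟨g, hg⟩
    obtain ⟨k, hk, rfl⟩ := Subgroup.mem_map.mp hg
    obtain ⟨j, hj1, hj2, hj⟩ := tame_pow_bound h2 hδ K hneg htame m hm2 hb k hk
    refine ⟨j, hj1, by omega, ?_⟩
    apply Subtype.ext
    rw [Subgroup.coe_pow, Subgroup.coe_one]; exact hj
  have hnotZ : ¬ K ≤ Subgroup.center (SL2 F) := by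
    intro hKZ
    apply hne2
    rw [le_antisymm hKZ hZK, hZ2]
  rcases tame_odd h2 hδ K hneg htame with h | ⟨J, hJ⟩ | ⟨J, hJ⟩ | ⟨hc, hb, -⟩ | ⟨hc, hb, -⟩ |
    ⟨hc, hb, -⟩
  · exact absurd h hne2
  · obtain ⟨x, hx, hxc⟩ := SetLike.not_le_iff_exists.mp hnotZ
    apply habel x hx hxc
    intro k hk
    exact tz_stab_comm h2 hδ0 J _ _
      (MulAction.mem_stabilizer_iff.mp (hJ (K.mul_mem (K.mul_mem hk hx) (K.inv_mem hk))))
      (MulAction.mem_stabilizer_iff.mp (hJ hx))
  · obtain ⟨A₀, hA₀⟩ : ∃ A₀ : Subgroup (SL2 F), A₀ = K ⊓ MulAction.stabilizer (SL2 F) J :=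
      ⟨_, rfl⟩
    rw [← hA₀] at hJ
    have hA₀K : A₀ ≤ K := by rw [hA₀]; exact inf_le_left
    have hA₀J : ∀ y ∈ A₀, y • J = J := by
      intro y hy
      rw [hA₀] at hy
      exact MulAction.mem_stabilizer_iff.mp hy.2
    by_cases hAZ : A₀ ≤ Subgroup.center (SL2 F)
    · have hZA : Subgroup.center (SL2 F) ≤ A₀ := by
        rw [hA₀]; exact le_inf hZK (hZstab J)
      have hA2 : Nat.card A₀ = 2 := by rw [le_antisymm hAZ hZA, hZ2]
      have hK4 : Nat.card K = 2 ^ 2 := by omega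
      have : Fact (Nat.Prime 2) := ⟨Nat.prime_two⟩
      have hcommK := IsPGroup.commutative_of_card_eq_prime_sq hK4
      obtain ⟨x, hx, hxc⟩ := SetLike.not_le_iff_exists.mp hnotZ
      apply habel x hx hxc
      intro k hk
      have h3 := hcommK ⟨k * x * k⁻¹, K.mul_mem (K.mul_mem hk hx) (K.inv_mem hk)⟩ ⟨x, hx⟩
      exact congrArg Subtype.val h3
    · obtain ⟨x, hx, hxc⟩ := SetLike.not_le_iff_exists.mp hAZ
      apply habel x (hA₀K hx) hxc
      have hidx : (A₀.subgroupOf K).index = 2 := by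
        have h3 := Subgroup.card_mul_index (A₀.subgroupOf K)
        rw [Nat.card_congr (Subgroup.subgroupOfEquivOfLe hA₀K).toEquiv, ← hJ] at h3
        have hpos : 0 < Nat.card A₀ := Nat.card_pos
        have h5 : Nat.card A₀ * (A₀.subgroupOf K).index = Nat.card A₀ * 2 := by
          rw [h3]; ring
        exact Nat.eq_of_mul_eq_mul_left hpos h5
      have hnormal := Subgroup.normal_of_index_eq_two hidx
      intro k hk
      have hmem : (⟨k, hk⟩ : K) * ⟨x, hA₀K hx⟩ * (⟨k, hk⟩ : K)⁻¹ ∈ A₀.subgroupOf K :=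
        hnormal.conj_mem _ (Subgroup.mem_subgroupOf.mpr hx) _
      rw [Subgroup.mem_subgroupOf] at hmem
      exact tz_stab_comm h2 hδ0 J _ _ (hA₀J _ hmem) (hA₀J _ hx)
  · have hc' : Nat.card (K.map (QuotientGroup.mk' (Subgroup.center (SL2 F)))) = 12 := by omega
    obtain ⟨e⟩ := rec12 hc' (no_comm_of_bound 3 2 3 (hbound 6 3 (by norm_num) (by norm_num) hb)
      (by norm_num) (by norm_num))
    exact max_a4 p h2 h5 K hK hZK htame e
  · have hc' : Nat.card (K.map (QuotientGroup.mk' (Subgroup.center (SL2 F)))) = 24 := by omega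
    have hS4 : Nonempty (K.map (QuotientGroup.mk' (Subgroup.center (SL2 F))) ≃*
        Equiv.Perm (Fin 4)) := by
      apply Cfsg.Agent.S1012.result hc'
      intro g hg6
      obtain ⟨j, hj1, hj4, hj⟩ := hbound 8 4 (by norm_num) (by norm_num) hb g
      have h3 := Nat.le_of_dvd (by omega) (orderOf_dvd_of_pow_eq_one hj)
      omega
    obtain ⟨e⟩ := hS4
    exact max_s4 p h2 h5 K hK hZK htame e
  · have hc' : Nat.card (K.map (QuotientGroup.mk' (Subgroup.center (SL2 F)))) = 60 := by omega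
    obtain ⟨e⟩ := rec60 hc' (no_comm_of_bound 5 5 3 (hbound 10 5 (by norm_num) (by norm_num) hb)
      (by norm_num) (by norm_num))
    exact max_a5 p h2 h5 K hK hZK htame e

end Assemble

end Cfsg.Agent.Lib.helper98
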