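import Mathlib
import Cfsg.Agent.Lib.helper24.SroReal

/-! S5988 piece NEC (`sre_nec`): the shape of an invariant nondegenerate subspace, characteristic-free. -/

set_option autoImplicit false
set_option linter.unusedSectionVars false
set_option linter.unusedVariables false

namespace Cfsg.Agent.Lib.helper98

open Module Cfsg.Agent.Lib.helper24 Cfsg.Agent.Lib.helper45 Cfsg.Agent.Lib.helper49

universe u

section generic

variable {F : Type u} [Field F] [Fintype F]

/-- NEC: the shape of an invariant nondegenerate subspace `W` of dimension `2m'` and type `η`: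
`W = (W ∩ K) ⊥ (W ∩ R)` with `a = dim (W ∩ K)`, `dim (W ∩ R) = c * j`. -/
theorem sre_nec {V : Type u} [AddCommGroup V] [Module F V] [FiniteDimensional F V]
    (Q : QuadraticForm F V) (hnd : ∀ v, (∀ w, QuadraticMap.polar Q v w = 0) → v = 0)
    (T : Module.End F V) (hT : ∀ v, Q (T v) = Q v)
    (p f' : ℕ) [Fact p.Prime] (hF : Fintype.card F = p ^ f') (r : ℕ) [Fact r.Prime]
    (hpr : p.Coprime r) (hr2 : r ≠ 2) (hTr : T ^ r = 1)
    (i c : ℕ) (hi : i = orderOf ((Fintype.card F : ℕ) : ZMod r))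
    (hc : c = if Even i then i else 2 * i)
    (ε : ℤ) (hε : ε = 1 ∨ ε = -1) (n' : ℕ) (hdim : finrank F V = 2 * n') (hty : SrTy Q ⊤ ε)
    (W : Submodule F V) (hWnd : SpNd (QuadraticMap.polarBilin Q) W)
    (hWinv : ∀ w ∈ W, T w ∈ W) (m' : ℕ) (hWdim : finrank F W = 2 * m')
    (η : ℤ) (hη : η = 1 ∨ η = -1) (hWty : SrTy Q W η) :
    ∃ a j : ℕ, a + c * j = 2 * m' ∧ a ≤ finrank F (LinearMap.ker (T - 1)) ∧
      (a = 0 → ((η : ℤ) : ZMod r) * ((Fintype.card F : ℕ) : ZMod r) ^ m' = 1) ∧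
      (a = finrank F (LinearMap.ker (T - 1)) →
        ((η * ε : ℤ) : ZMod r) * ((Fintype.card F : ℕ) : ZMod r) ^ (n' + m' - a) = 1) := by
  have hr : r.Prime := Fact.out
  have hq0 := el_card_ne_zero p f' hF r hpr
  have hrF := el_natCast_ne_zero (F := F) p f' hF r hpr
  have hcev : Even c := sr_c_even p f' hF r hpr hr2 i c hi hc
  obtain ⟨c', hc'⟩ := hcev
  have hKR := sr_KR_bot T r hTr hrF
  obtain ⟨hsup, hdimW⟩ := sr_split Q hnd T hT r hTr hrF W hWinv
  obtain ⟨hKnd', hDnd⟩ := sr_split_nd Q hnd T hT r hTr hrF W hWinv hWnd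
  have hDinv : ∀ d ∈ W ⊓ LinearMap.range (T - 1), T d ∈ W ⊓ LinearMap.range (T - 1) := by
    intro d hd
    rw [Submodule.mem_inf] at hd ⊢
    exact ⟨hWinv d hd.1, sr_R_inv T d hd.2⟩
  have hDfix : LinearMap.ker (T - 1) ⊓ (W ⊓ LinearMap.range (T - 1)) = ⊥ := by
    rw [eq_bot_iff, ← hKR]
    exact inf_le_inf_left _ inf_le_right
  obtain ⟨j, hj⟩ := sr_dvd Q hnd T hT p f' hF r hpr hr2 hTr i c hi hc _ hDnd hDinv hDfix
  have hDdim2 : finrank F ↥(W ⊓ LinearMap.range (T - 1)) = 2 * (c' * j) := by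
    rw [hj, hc']
    ring
  obtain ⟨δD, hδD, hDty, hδDq⟩ := sr_ty_free Q T hT p f' hF r hpr hr2 hTr _ hDnd hDinv hDfix
    (c' * j) hDdim2
  have hpos : ∀ k : ℕ, (0 : ℤ) < (Fintype.card F : ℤ) ^ k := by
    intro k
    apply pow_pos
    exact_mod_cast Fintype.card_pos
  refine ⟨finrank F ↥(W ⊓ LinearMap.ker (T - 1)), j, by rw [← hj, ← hWdim]; exact hdimW,
    Submodule.finrank_mono inf_le_right, ?_, ?_⟩
  · intro ha
    have hWK : LinearMap.ker (T - 1) ⊓ W = ⊥ := by
      rw [inf_comm]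
      exact Submodule.finrank_eq_zero.mp ha
    obtain ⟨δ, hδ, hδty, hδq⟩ := sr_ty_free Q T hT p f' hF r hpr hr2 hTr W hWnd hWinv hWK m' hWdim
    have hδε : δ = η := by
      unfold SrTy at hWty hδty
      have h1 := Unif.unique hδty hWty
      exact mul_right_cancel₀ (hpos _).ne' h1
    rw [← hδε]
    exact hδq
  · intro ha
    have hWKK : W ⊓ LinearMap.ker (T - 1) = LinearMap.ker (T - 1) :=
      Submodule.eq_of_le_of_finrank_eq inf_le_right ha
    -- the type of `R`
    have hRnd := sr_R_nd Q hnd T hT r hTr hrF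
    obtain ⟨b, hb⟩ := sr_dvd Q hnd T hT p f' hF r hpr hr2 hTr i c hi hc _ hRnd (sr_R_inv T)
      hKR
    have hRdim2 : finrank F ↥(LinearMap.range (T - 1)) = 2 * (c' * b) := by
      rw [hb, hc']
      ring
    obtain ⟨δR, hδR, hRty, hδRq⟩ := sr_ty_free Q T hT p f' hF r hpr hr2 hTr _ hRnd (sr_R_inv T)
      hKR (c' * b) hRdim2
    -- the type of `K`
    have hKnd := sr_K_nd Q hnd T hT r hTr hrF
    have hrk := LinearMap.finrank_range_add_finrank_ker (T - 1)
    have hKdim : finrank F ↥(LinearMap.ker (T - 1)) = 2 * (m' - c' * j) := by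
      have h1 : finrank F ↥(W ⊓ LinearMap.ker (T - 1)) + 2 * (c' * j) = 2 * m' := by
        rw [← hDdim2, ← hWdim]
        exact hdimW
      omega
    have hKev : Even (finrank F ↥(LinearMap.ker (T - 1))) := by
      rw [hKdim]
      exact even_two_mul _
    obtain ⟨τ, hτ, hKty⟩ : ∃ τ : ℤ, (τ = 1 ∨ τ = -1) ∧ SrTy Q (LinearMap.ker (T - 1)) τ := by
      rcases sr_ty_or Q _ hKnd _ hKdim with h | h
      · exact ⟨1, Or.inl rfl, h⟩
      · exact ⟨-1, Or.inr rfl, h⟩
    -- `V = K ⊥ R`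
    have hV : SrTy Q ⊤ (τ * δR) := by
      have h1 := sr_ty_sum Q (LinearMap.ker (T - 1)) (LinearMap.range (T - 1))
        (sr_KR_orth Q T hT) hKR τ δR hKty hRty hKev (by rw [hRdim2]; exact even_two_mul _)
      rwa [sp_fix_range_top T r hTr hrF] at h1
    have hε1 : τ * δR = ε := by
      unfold SrTy at hV hty
      have h1 := Unif.unique hV hty
      exact mul_right_cancel₀ (hpos _).ne' h1
    -- `W = K ⊥ (W ⊓ R)`
    have hW2 : SrTy Q W (τ * δD) := by
      have h1 := sr_ty_sum Q (LinearMap.ker (T - 1)) (W ⊓ LinearMap.range (T - 1))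
        (fun k hk x hx => sr_KR_orth Q T hT k hk x (Submodule.mem_inf.mp hx).2) hDfix τ δD hKty
        hDty hKev (by rw [hDdim2]; exact even_two_mul _)
      rw [← hWKK] at h1
      rwa [hsup] at h1
    have hη1 : τ * δD = η := by
      unfold SrTy at hW2 hWty
      have h1 := Unif.unique hW2 hWty
      exact mul_right_cancel₀ (hpos _).ne' h1
    have hprod : η * ε = δD * δR := by
      rw [← hη1, ← hε1]
      rcases hτ with rfl | rfl <;> ring
    have hexp : n' + m' - finrank F ↥(W ⊓ LinearMap.ker (T - 1)) = c' * b + c' * j := by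
      have h1 : finrank F ↥(W ⊓ LinearMap.ker (T - 1)) + 2 * (c' * j) = 2 * m' := by
        rw [← hDdim2, ← hWdim]
        exact hdimW
      rw [hdim, hRdim2, ← ha] at hrk
      omega
    rw [hexp, hprod, pow_add]
    push_cast
    calc ((δD : ℤ) : ZMod r) * ((δR : ℤ) : ZMod r) *
          (((Fintype.card F : ℕ) : ZMod r) ^ (c' * b) * ((Fintype.card F : ℕ) : ZMod r) ^ (c' * j))
        = (((δR : ℤ) : ZMod r) * ((Fintype.card F : ℕ) : ZMod r) ^ (c' * b)) *
          (((δD : ℤ) : ZMod r) * ((Fintype.card F : ℕ) : ZMod r) ^ (c' * j)) := by ring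
      _ = 1 := by rw [hδRq, hδDq, mul_one]

end generic

end Cfsg.Agent.Lib.helper98
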