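import Mathlib
import Cfsg.Agent.Lib.helper49.SPEDefs

/-! S2333 piece NC (helper98): the Siegel element `uS (a01 F n)` is not central in `Sp_{2n}(F)`. -/

set_option autoImplicit false

namespace Cfsg.Agent.Lib.helper49.SPE

open Matrix

/-- NC (S/M) -/
theorem exists_noncomm {F : Type*} [Field F] {n : ℕ} (hn : 2 ≤ n) :
    ∃ M ∈ Matrix.symplecticGroup (Fin n) F, M * uS (a01 F n) ≠ uS (a01 F n) * M := by
  obtain ⟨i0, hi0⟩ : ∃ i0 : Fin n, i0.1 = 0 := ⟨⟨0, by omega⟩, rfl⟩
  obtain ⟨i1, hi1⟩ : ∃ i1 : Fin n, i1.1 = 1 := ⟨⟨1, by omega⟩, rfl⟩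
  obtain ⟨D, hD⟩ : ∃ D : Matrix (Fin n) (Fin n) F, D = Matrix.single i0 i0 1 := ⟨_, rfl⟩
  have hDt : Dᵀ = D := by
    rw [hD, Matrix.transpose_single]
  refine ⟨Matrix.fromBlocks 1 0 D 1, ?_, ?_⟩
  · rw [SymplecticGroup.mem_iff]
    simp only [Matrix.J, Matrix.fromBlocks_transpose, Matrix.fromBlocks_multiply,
      Matrix.transpose_one, Matrix.transpose_zero, hDt]
    simp
  · intro h
    have h1 := congrFun (congrFun h (Sum.inl i1)) (Sum.inl i0)
    simp only [uS, Matrix.fromBlocks_multiply, Matrix.fromBlocks_apply₁₁] at h1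
    have h01 : i1 ≠ i0 := by
      intro h2
      have h3 := congrArg Fin.val h2
      omega
    have h2 : (a01 F n * D) i1 i0 = 1 := by
      rw [hD, Matrix.mul_apply]
      rw [Finset.sum_eq_single i0]
      · simp [a01, hi0, hi1]
      · intro b _ hb
        simp [hb.symm]
      · intro hh
        exact absurd (Finset.mem_univ _) hh
    simp only [Matrix.mul_zero, Matrix.mul_one, Matrix.add_apply, h2,
      Matrix.one_apply_ne h01] at h1
    simp at h1

end Cfsg.Agent.Lib.helper49.SPE
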