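import Mathlib
import Cfsg.Agent.Lib.helper51.S2113Defs
import Cfsg.Agent.Lib.helper69.StemSylow

/-! Piece R3 of the S2113 split (helper51): lifts of `T t u v` commute with lifts of the centre
`T 0 0 w`. -/

set_option autoImplicit false

namespace Cfsg.Agent.Lib.helper98.S2113

open scoped commutatorElement
open Cfsg.Agent.Lib.helper69 Cfsg.Agent.Lib.helper51.S2113

/-- PIECE R3: lifts of `T t u v` commute with lifts of `T 0 0 w`. -/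
theorem helper98_r3 {K G Γ : Type*} [Field K] [Group G] [Group Γ] (σ : Γ →* G)
    (hsurj : Function.Surjective σ) (hc : σ.ker ≤ Subgroup.center Γ) (T : K → K → K → G) (e : ℕ)
    (c : K → K → K) (D : UData K G T e c)
    (h2 : ∀ x y : Γ, (∃ u v, σ x = T 0 u v) → (∃ w, σ y = T 0 0 w) → x * y = y * x)
    (hac : ∀ B : K → K → Γ, (∀ s s' t, B (s + s') t = B s t * B s' t) →
      (∀ s t t', B s (t + t') = B s t * B s t') →
      (∀ ν s t, ν ≠ 0 → B (ν * s) (ν ^ 2 * (ν ^ e) ^ 3 * t) = B s t) → ∀ s t, B s t = 1)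
    (x y : Γ) (hx : ∃ t u v, σ x = T t u v) (hy : ∃ w, σ y = T 0 0 w) : x * y = y * x := by
  obtain ⟨ℓ, hℓ⟩ := hsurj.hasRightInverse
  -- splitting `T t u v = T t 0 0 * T 0 u w₂`
  have psplit : ∀ t u v : K, ∃ w₂ : K, T t u v = T t 0 0 * T 0 u w₂ := by
    intro t u v
    obtain ⟨w₃, hw₃⟩ := D.mul t 0 0 0 u 0
    rw [D.c_zero_right, add_zero, add_zero, zero_add] at hw₃
    refine ⟨0 + (v - w₃), ?_⟩
    rw [← D.top_r 0 u 0 (v - w₃), ← mul_assoc, hw₃, D.top_r]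
    congr 1
    ring
  -- `T t 0 0 * T t' 0 0 = T (t + t') 0 0 * T 0 b w₁`
  have p4 : ∀ t t' : K, ∃ b w₁ : K, T t 0 0 * T t' 0 0 = T (t + t') 0 0 * T 0 b w₁ := by
    intro t t'
    obtain ⟨w₀, hw₀⟩ := D.mul t 0 0 t' 0 0
    obtain ⟨w₂, hw₂⟩ := psplit (t + t') (0 + 0 + c t t') w₀
    exact ⟨0 + 0 + c t t', w₂, by rw [hw₀, hw₂]⟩
  have h2' : ∀ u v w : K, ⁅ℓ (T 0 u v), ℓ (T 0 0 w)⁆ = 1 := by
    intro u v w
    rw [commutatorElement_eq_one_iff_mul_comm]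
    exact h2 _ _ ⟨u, v, hℓ _⟩ ⟨w, hℓ _⟩
  have hcen : ∀ t w : K, ⁅ℓ (T t 0 0), ℓ (T 0 0 w)⁆ ∈ Subgroup.center Γ := by
    intro t w
    apply commutatorElement_mem_center_of_central σ hc
    rw [hℓ, hℓ, D.top_r, D.top_l]
  have hβ : ∀ t w : K, ⁅ℓ (T t 0 0), ℓ (T 0 0 w)⁆ = 1 := by
    apply hac (fun t w => ⁅ℓ (T t 0 0), ℓ (T 0 0 w)⁆)
    · intro t t' w
      show ⁅ℓ (T (t + t') 0 0), ℓ (T 0 0 w)⁆ =
        ⁅ℓ (T t 0 0), ℓ (T 0 0 w)⁆ * ⁅ℓ (T t' 0 0), ℓ (T 0 0 w)⁆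
      rw [← stem_commutatorElement_mul_left _ _ _ (hcen t' w)]
      obtain ⟨b, w₁, hbw⟩ := p4 t t'
      have e1 : ⁅ℓ (T (t + t') 0 0) * ℓ (T 0 b w₁), ℓ (T 0 0 w)⁆ =
          ⁅ℓ (T (t + t') 0 0), ℓ (T 0 0 w)⁆ := by
        rw [stem_commutatorElement_mul_left _ _ _ (by rw [h2']; exact Subgroup.one_mem _), h2',
          mul_one]
      rw [← e1]
      apply commutatorElement_congr_of_central σ hc
      · rw [map_mul, map_mul, hℓ, hℓ, hℓ, hℓ, hbw]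
      · rfl
    · intro t w w'
      show ⁅ℓ (T t 0 0), ℓ (T 0 0 (w + w'))⁆ =
        ⁅ℓ (T t 0 0), ℓ (T 0 0 w)⁆ * ⁅ℓ (T t 0 0), ℓ (T 0 0 w')⁆
      rw [← stem_commutatorElement_mul_right _ _ _ (hcen t w')]
      apply commutatorElement_congr_of_central σ hc
      · rfl
      · rw [map_mul, hℓ, hℓ, hℓ, D.top_r]
    · intro ν t w hν
      show ⁅ℓ (T (ν * t) 0 0), ℓ (T 0 0 (ν ^ 2 * (ν ^ e) ^ 3 * w))⁆ =
        ⁅ℓ (T t 0 0), ℓ (T 0 0 w)⁆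
      obtain ⟨h, hh⟩ := D.tor ν hν
      rw [← commutatorElement_conj_of_central (ℓ h) _ _ (hcen t w)]
      apply commutatorElement_congr_of_central σ hc
      · rw [map_mul, map_mul, map_inv, hℓ, hℓ, hℓ, hh, mul_zero, mul_zero]
      · rw [map_mul, map_mul, map_inv, hℓ, hℓ, hℓ, hh, mul_zero, mul_zero]
  obtain ⟨t, u, v, hx⟩ := hx
  obtain ⟨w, hy⟩ := hy
  obtain ⟨w₂, hw₂⟩ := psplit t u v
  have e2 : ⁅x, y⁆ = ⁅ℓ (T t 0 0) * ℓ (T 0 u w₂), ℓ (T 0 0 w)⁆ := by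
    apply commutatorElement_congr_of_central σ hc
    · rw [map_mul, hℓ, hℓ, ← hw₂, hx]
    · rw [hℓ, hy]
  rw [stem_commutatorElement_mul_left _ _ _ (by rw [h2']; exact Subgroup.one_mem _), hβ, h2',
    mul_one, commutatorElement_eq_one_iff_mul_comm] at e2
  exact e2

end Cfsg.Agent.Lib.helper98.S2113
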