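import Mathlib
import Cfsg.Agent.Lib.helper65.PearlBasic

/-!
# S5238L piece I1
-/

set_option autoImplicit false

namespace Cfsg.Agent.Lib.helper65.PearlPow

open Cfsg.Agent.Lib.helper68

variable {H : Type*} [Group H]

/-- I1 (S/M). `dl (s * y) n = dl s n * com (dl s n) y`. -/
theorem rel_dl_mul_const {v j : ℕ} {s : ℕ → H} {y : H} (hs : PolySeq v s) (hy : y ∈ gam H j) :
    Rel (v + 1 + j) (dl s) (dl (fun n => s n * y)) := by
  unfold Rel
  have e : (fun n : ℕ => (dl s n)⁻¹ * dl (fun n => s n * y) n)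
      = fun n => com ((s n)⁻¹ * s (n + 1)) y := by
    funext n
    unfold dl com
    group
  rw [e]
  exact PolySeq.comm (PolySeq.diff hs) (polyseq_const hy)

end Cfsg.Agent.Lib.helper65.PearlPow
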