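import Mathlib
import Cfsg.Agent.Lib.helper55.P2Defs
import Cfsg.Agent.Lib.helper71.BGTenA
import Cfsg.Agent.Lib.helper29.Basic
import Cfsg.Agent.S1350
import Cfsg.Agent.S1361
import Cfsg.Agent.S1378

/-!
# S1435 piece P11 (`p2_inter`): `M ∩ H = U K`
-/

set_option autoImplicit false

namespace Cfsg.Agent.Lib.helper55.P2

open Cfsg Subgroup

variable {G : Type*} [Group G]

/-- (P11) clause (c). -/
theorem p2_inter [Finite G] (hG : IsMinSimpleOddOrder G) {M K U Ms H : Subgroup G}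
    (b : Basic M K U Ms) (h : HCtx K U H) (hUσ : U ≤ sigmaCore H)
    (hCU : centralizer (U : Set G) ≤ H)
    (hnc : ∀ g : G, H ≠ M.map (MulAut.conj g).toMonoidHom) : M ⊓ H = U ⊔ K := by
  have hM := b.hM
  have hH := h.hH
  have hHallM : IsPiHallOf (sigma M) (sigmaCore M) M := (Cfsg.Agent.S1350.result hG M hM).1
  have hHallH : IsPiHallOf (sigma H) (sigmaCore H) H := (Cfsg.Agent.S1350.result hG H hH).1
  have hUM : U ≤ M := b.hKU.compl.1
  have hKM : K ≤ M := b.hKU.hall.1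
  have hσM : sigmaCore M ≤ M := Cfsg.Agent.Lib.helper71.BGA.sigmaCore_le M
  have hσH : sigmaCore H ≤ H := Cfsg.Agent.Lib.helper71.BGA.sigmaCore_le H
  have hMσn : ∀ m ∈ M, ∀ y ∈ sigmaCore M, m * y * m⁻¹ ∈ sigmaCore M :=
    Subgroup.le_normalizer_iff.mp (Cfsg.Agent.Lib.helper71.BGA.le_normalizer_sigmaCore M)
  have hHσn : ∀ m ∈ H, ∀ y ∈ sigmaCore H, m * y * m⁻¹ ∈ sigmaCore H :=
    Subgroup.le_normalizer_iff.mp (Cfsg.Agent.Lib.helper71.BGA.le_normalizer_sigmaCore H)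
  -- `σ(M) ∩ σ(H) = ∅`
  have hdisjσ : ∀ p : ℕ, p ∈ sigma M → p ∉ sigma H := by
    intro p hpM hpH
    obtain ⟨g, hg⟩ := (Cfsg.Agent.S1378.result hG).2 M H hM hH ⟨p, hpM, hpH⟩
    exact hnc g hg
  -- `M_σ ∩ H_σ = 1`
  have hσσ : sigmaCore M ⊓ sigmaCore H = ⊥ :=
    disjoint_iff.mp (Subgroup.disjoint_of_coprime_natCard
      (Nat.coprime_of_dvd fun k hk h1 h2 =>
        hdisjσ k (hHallM.2.1 k hk h1) (hHallH.2.1 k hk h2)))
  -- `J = M_σ ∩ H` centralizes `U`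
  have hJc : sigmaCore M ⊓ H ≤ sigmaCore M ⊓ centralizer (U : Set G) := by
    intro j hj
    obtain ⟨hjσ, hjH⟩ := Subgroup.mem_inf.mp hj
    refine Subgroup.mem_inf.mpr ⟨hjσ, ?_⟩
    rw [Subgroup.mem_centralizer_iff]
    intro u hu
    have h1 : j * u * j⁻¹ * u⁻¹ ∈ sigmaCore M ⊓ sigmaCore H := by
      refine Subgroup.mem_inf.mpr ⟨?_, ?_⟩
      · have h2 : u * j⁻¹ * u⁻¹ ∈ sigmaCore M :=
          hMσn u (hUM hu) _ (Subgroup.inv_mem _ hjσ)
        have h3 := Subgroup.mul_mem _ hjσ h2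
        have e : j * u * j⁻¹ * u⁻¹ = j * (u * j⁻¹ * u⁻¹) := by group
        rw [e]; exact h3
      · have h2 : j * u * j⁻¹ ∈ sigmaCore H := hHσn j hjH u (hUσ hu)
        exact Subgroup.mul_mem _ h2 (Subgroup.inv_mem _ (hUσ hu))
    rw [hσσ, Subgroup.mem_bot] at h1
    calc u * j = (j * u * j⁻¹ * u⁻¹)⁻¹ * (j * u) := by group
      _ = j * u := by rw [h1, inv_one, one_mul]
  -- `J = 1`
  have hJ : sigmaCore M ⊓ H = ⊥ := by
    by_contra hJ1
    have hXc : sigmaCore M ⊓ centralizer (U : Set G) ≠ ⊥ := by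
      intro h0
      apply hJ1
      rw [eq_bot_iff, ← h0]
      exact hJc
    have h61 := Cfsg.Agent.S1361.result hG M hM K U b.hKU U le_rfl b.u1 hXc
    have hHM : H = M := h61.2 H hH hCU
    apply hnc 1
    rw [hHM]
    ext y
    simp
  -- the equality
  apply le_antisymm
  · intro m hm
    obtain ⟨hmM, hmH⟩ := Subgroup.mem_inf.mp hm
    obtain ⟨u, hu, c, hc, hmuc⟩ := b.hKU.compl.2.2.2 m hmM
    rw [sup_comm] at hc
    obtain ⟨y, hy, k, hk, hcyk⟩ :=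
      Cfsg.Agent.Lib.helper29.exists_mul_of_mem_sup_of_le_normalizer
        (hKM.trans (Cfsg.Agent.Lib.helper71.BGA.le_normalizer_sigmaCore M)) hc
    have hyH : y ∈ H := by
      have e : y = u⁻¹ * m * k⁻¹ := by rw [hmuc, hcyk]; group
      rw [e]
      exact H.mul_mem (H.mul_mem (H.inv_mem (h.hUH hu)) hmH) (H.inv_mem (h.hKH hk))
    have hy1 : y = 1 := by
      have h1 : y ∈ sigmaCore M ⊓ H := Subgroup.mem_inf.mpr ⟨hy, hyH⟩
      rwa [hJ, Subgroup.mem_bot] at h1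
    rw [hmuc, hcyk, hy1, one_mul]
    exact Subgroup.mul_mem _ (Subgroup.mem_sup_left hu) (Subgroup.mem_sup_right hk)
  · exact sup_le (le_inf hUM h.hUH) (le_inf hKM h.hKH)

end Cfsg.Agent.Lib.helper55.P2
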