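import Mathlib
import Cfsg.Agent.Lib.helper55.P2Defs
import Cfsg.Agent.Lib.helper71.BGTenA
import Cfsg.Agent.Lib.helper29.Basic
import Cfsg.Agent.Lib.helper8.BGTwelve
import Cfsg.Agent.S1429

/-!
# S1435 piece P12 (`p2_norm`): `N_H(U) ≰ M`
-/

set_option autoImplicit false

namespace Cfsg.Agent.Lib.helper55.P2

open Cfsg Subgroup

variable {G : Type*} [Group G]

/-- (P12) clause (d). -/
theorem p2_norm [Finite G] (hG : IsMinSimpleOddOrder G) {M K U Ms H : Subgroup G}
    (b : Basic M K U Ms) (h : HCtx K U H) (hUσ : U ≤ sigmaCore H) (hint : M ⊓ H = U ⊔ K)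
    (hHM : H ≠ M) : ¬ H ⊓ normalizer (U : Set G) ≤ M := by
  intro hN
  have hM := b.hM
  have hH := h.hH
  have hσH : sigmaCore H ≤ H := Cfsg.Agent.Lib.helper71.BGA.sigmaCore_le H
  have hp := b.kprime
  -- `H_σ` is nilpotent
  have hpH : Nat.card K ∣ Nat.card H := Subgroup.card_dvd_of_le h.hKH
  have hpκ : Nat.card K ∉ kappa H := by rw [h.hκ]; exact Set.notMem_empty _
  have : Fact (Nat.card K).Prime := ⟨hp⟩
  obtain ⟨S⟩ : Nonempty (Sylow (Nat.card K) H) := inferInstance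
  have hnil : Group.IsNilpotent (sigmaCore H) :=
    (Cfsg.Agent.S1429.result hG H hH (fun h0 => hpκ (h0 _ hp hpH h.pσ)) (Nat.card K) hpH
      (fun h0 => h0.elim h.pσ hpκ) S).2.2
  -- `K ∩ H_σ = 1`
  have hKσ : K ⊓ sigmaCore H = ⊥ :=
    disjoint_iff.mp (Subgroup.disjoint_of_coprime_natCard
      (Cfsg.Agent.Lib.helper8.bg_sigmaCore_card_coprime H hp h.pσ).symm)
  -- an element of `H_σ` normalizing `U` lies in `U`
  have key : ∀ z ∈ sigmaCore H, z ∈ normalizer (U : Set G) → z ∈ U := by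
    intro z hzσ hzN
    have hzM : z ∈ M := hN (Subgroup.mem_inf.mpr ⟨hσH hzσ, hzN⟩)
    have hzUK : z ∈ U ⊔ K := by rw [← hint]; exact Subgroup.mem_inf.mpr ⟨hzM, hσH hzσ⟩
    obtain ⟨u, hu, k, hk, hzuk⟩ :=
      Cfsg.Agent.Lib.helper29.exists_mul_of_mem_sup_of_le_normalizer b.hKU.normal hzUK
    have hkσ : k ∈ sigmaCore H := by
      have e : k = u⁻¹ * z := by rw [hzuk]; group
      rw [e]
      exact Subgroup.mul_mem _ (Subgroup.inv_mem _ (hUσ hu)) hzσ
    have hk1 : k = 1 := by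
      have h1 : k ∈ K ⊓ sigmaCore H := Subgroup.mem_inf.mpr ⟨hk, hkσ⟩
      rwa [hKσ, Subgroup.mem_bot] at h1
    rw [hzuk, hk1, mul_one]
    exact hu
  -- normalizer condition
  have htop : U.subgroupOf (sigmaCore H) = ⊤ := by
    by_contra hne
    have hlt : U.subgroupOf (sigmaCore H) < ⊤ := lt_top_iff_ne_top.mpr hne
    have hnc := Group.normalizerCondition_of_isNilpotent (G := ↥(sigmaCore H)) _ hlt
    obtain ⟨z, hzN, hzU⟩ := SetLike.exists_of_lt hnc
    apply hzU
    rw [Subgroup.mem_subgroupOf]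
    apply key (z : G) z.2
    rw [Subgroup.mem_normalizer_iff]
    intro g
    rw [Subgroup.mem_normalizer_iff] at hzN
    constructor
    · intro hg
      have h1 := (hzN ⟨g, hUσ hg⟩).mp (Subgroup.mem_subgroupOf.mpr hg)
      exact Subgroup.mem_subgroupOf.mp h1
    · intro hg
      have hgσ : g ∈ sigmaCore H := by
        have e : g = (z : G)⁻¹ * ((z : G) * g * (z : G)⁻¹) * (z : G) := by group
        rw [e]
        exact Subgroup.mul_mem _ (Subgroup.mul_mem _ (Subgroup.inv_mem _ z.2) (hUσ hg)) z.2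
      have h1 := (hzN ⟨g, hgσ⟩).mpr (Subgroup.mem_subgroupOf.mpr hg)
      exact Subgroup.mem_subgroupOf.mp h1
  have hUeq : U = sigmaCore H := by
    apply le_antisymm hUσ
    intro y hy
    have h1 : (⟨y, hy⟩ : ↥(sigmaCore H)) ∈ U.subgroupOf (sigmaCore H) := by
      rw [htop]; exact Subgroup.mem_top _
    exact Subgroup.mem_subgroupOf.mp h1
  have hHN : H ≤ normalizer (U : Set G) := by
    rw [hUeq]
    exact Cfsg.Agent.Lib.helper71.BGA.le_normalizer_sigmaCore H
  have hHleM : H ≤ M := (le_inf le_rfl hHN).trans hN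
  rcases eq_or_lt_of_le hHleM with h0 | h0
  · exact hHM h0
  · exact hM.1 (hH.2 M h0)

end Cfsg.Agent.Lib.helper55.P2
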