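import Mathlib
import Cfsg.Agent.Lib.helper55.P2Defs
import Cfsg.Agent.Lib.helper71.P2P8
import Cfsg.Agent.Lib.helper71.P2P9
import Cfsg.Agent.Lib.helper29.Basic
import Cfsg.Agent.S1350
import Cfsg.Agent.S1420

/-!
# S1435 piece P14 (`k_cent_abelian`)

`k_cent_abelian_core` takes the two pure group theory pieces P8 (`fix_or_fpf`) and P9
(`le_of_prime_pow_mem`) as hypotheses; `k_cent_abelian` plugs in helper71's landed P8, P9.
-/

set_option autoImplicit false

namespace Cfsg.Agent.Lib.helper55.P2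

open Cfsg Subgroup

variable {G : Type*} [Group G]

/-- (P14), with P8 and P9 as hypotheses. -/
theorem k_cent_abelian_core [Finite G]
    (hP8 : ∀ (K V : Subgroup G), (Nat.card K).Prime →
      (∀ a ∈ V, ∀ b ∈ V, a * b = b * a) → (Nat.card V).Coprime (Nat.card K) →
      K ≤ normalizer (V : Set G) →
      V ≤ centralizer (K : Set G) ∨
        ∃ V₀ : Subgroup G, V₀ ≤ V ∧ V₀ ≠ ⊥ ∧ K ≤ normalizer (V₀ : Set G) ∧
          V₀ ⊓ centralizer (K : Set G) = ⊥)
    (hP9 : ∀ (D C : Subgroup G),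
      (∀ d ∈ D, (∃ s n : ℕ, s.Prime ∧ orderOf d = s ^ n) → d ∈ C) → D ≤ C)
    (hG : IsMinSimpleOddOrder G) {K U H : Subgroup G}
    (h : HCtx K U H) (hKp : (Nat.card K).Prime)
    (nov : ∀ (s : ℕ), s.Prime → s ≠ Nat.card K → s ∉ sigma H → ∀ V : Subgroup G, V ≤ H →
      (∀ a ∈ V, ∀ b ∈ V, a * b = b * a) → IsPGroup s V → V ≠ ⊥ → K ≤ normalizer (V : Set G) →
      V ⊓ centralizer (K : Set G) = ⊥ → False)
    (E : Subgroup G) (hE : IsComplIn E (sigmaCore H) H) (_hKE : K ≤ E)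
    (D : Subgroup G) (hDE : D ≤ E) (hDc : ∀ a ∈ D, ∀ b ∈ D, a * b = b * a)
    (hKD : K ≤ normalizer (D : Set G)) : D ≤ centralizer (K : Set G) := by
  have hH := h.hH
  have hHall : IsPiHallOf (sigma H) (sigmaCore H) H := (Cfsg.Agent.S1350.result hG H hH).1
  have hEH : E ≤ H := hE.1
  apply hP9
  rintro d hd ⟨s, n, hs, hord⟩
  by_cases hd1 : d = 1
  · rw [hd1]; exact Subgroup.one_mem _
  have : Fact s.Prime := ⟨hs⟩
  -- the subgroup `Q`
  obtain ⟨Q, hQdef⟩ : ∃ Q : Subgroup G, Q =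
      ({ carrier := {y | y ∈ D ∧ y ^ (s ^ n) = 1}
         mul_mem' := by
           rintro a c ⟨ha, ha'⟩ ⟨hc, hc'⟩
           refine ⟨D.mul_mem ha hc, ?_⟩
           have hcomm : Commute a c := hDc a ha c hc
           rw [hcomm.mul_pow, ha', hc', one_mul]
         one_mem' := ⟨D.one_mem, one_pow _⟩
         inv_mem' := by
           rintro a ⟨ha, ha'⟩
           exact ⟨D.inv_mem ha, by rw [inv_pow, ha', inv_one]⟩ } : Subgroup G) := ⟨_, rfl⟩
  have hQmem : ∀ y : G, y ∈ Q ↔ y ∈ D ∧ y ^ (s ^ n) = 1 := fun y => by rw [hQdef]; exact Iff.rfl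
  have hQD : Q ≤ D := fun y hy => ((hQmem y).mp hy).1
  have hdQ : d ∈ Q := by
    rw [hQmem]
    exact ⟨hd, by rw [← hord]; exact pow_orderOf_eq_one d⟩
  have hQ1 : Q ≠ ⊥ := by
    intro h0
    rw [h0, Subgroup.mem_bot] at hdQ
    exact hd1 hdQ
  have hQs : IsPGroup s Q := by
    intro a
    refine ⟨n, Subtype.ext ?_⟩
    rw [Subgroup.coe_pow]
    exact ((hQmem a).mp a.2).2
  have hKQ : K ≤ normalizer (Q : Set G) := by
    apply Subgroup.le_normalizer_iff.mpr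
    intro k hk y hy
    rw [hQmem] at hy ⊢
    refine ⟨Subgroup.le_normalizer_iff.mp hKD k hk y hy.1, ?_⟩
    rw [conj_pow, hy.2, mul_one, mul_inv_cancel]
  have hQc : ∀ a ∈ Q, ∀ c ∈ Q, a * c = c * a := fun a ha c hc => hDc a (hQD ha) c (hQD hc)
  have hQH : Q ≤ H := hQD.trans (hDE.trans hEH)
  -- `s ∉ σ(H)`
  have hsQ : s ∣ Nat.card Q := by
    rcases hQs.card_eq_or_dvd with h0 | h0
    · exact absurd (Subgroup.eq_bot_of_card_eq _ h0) hQ1
    · exact h0
  have hsσ : s ∉ sigma H := by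
    intro hsσ
    apply hHall.2.2 s hs hsσ
    rw [← Cfsg.Agent.Lib.helper29.IsComplIn.card_left hE]
    exact hsQ.trans (Subgroup.card_dvd_of_le (hQD.trans hDE))
  by_cases hsp : s = Nat.card K
  · -- `K ⊔ Q` is an abelian `p`-group
    have hKs : IsPGroup s K := IsPGroup.of_card (n := 1) (by rw [pow_one, hsp])
    have hN : IsPGroup s (K ⊔ Q : Subgroup G) := IsPGroup.to_sup_of_normal_right' hKs hQs hKQ
    have hNH : K ⊔ Q ≤ H := sup_le h.hKH hQH
    have hnil : Group.IsNilpotent ↥(K ⊔ Q) := hN.isNilpotent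
    have hcomm := (Cfsg.Agent.S1420.result hG H hH E hE).1 (K ⊔ Q) hNH hnil (by
      intro q hq hqd
      obtain ⟨m, hm⟩ := IsPGroup.iff_card.mp hN
      rw [hm] at hqd
      have h1 : q = s := (Nat.prime_dvd_prime_iff_eq hq hs).mp (hq.dvd_of_dvd_pow hqd)
      rw [h1]; exact hsσ)
    rw [Subgroup.mem_centralizer_iff]
    intro k hk
    exact congrArg Subtype.val
      (hcomm.is_comm.comm ⟨k, Subgroup.mem_sup_left hk⟩ ⟨d, Subgroup.mem_sup_right hdQ⟩)
  · have hcop : (Nat.card Q).Coprime (Nat.card K) := by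
      obtain ⟨m, hm⟩ := IsPGroup.iff_card.mp hQs
      rw [hm]
      exact Nat.Coprime.pow_left m ((Nat.coprime_primes hs hKp).mpr hsp)
    rcases hP8 K Q hKp hQc hcop hKQ with h1 | ⟨V₀, hV₀Q, hV₀1, hKV₀, hV₀K⟩
    · exact h1 hdQ
    · exact (nov s hs hsp hsσ V₀ (hV₀Q.trans hQH) (fun a ha c hc => hQc a (hV₀Q ha) c (hV₀Q hc))
        (fun a => by
          obtain ⟨k, hk⟩ := hQs ⟨a, hV₀Q a.2⟩
          refine ⟨k, Subtype.ext ?_⟩
          have h2 := congrArg Subtype.val hk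
          rw [Subgroup.coe_pow] at h2 ⊢
          exact h2) hV₀1 hKV₀ hV₀K).elim

/-- (P14) `K` centralizes every abelian `K`-invariant subgroup of a complement `E ≥ K`, given the
"no fixed-point-free section" statement `nov`. -/
theorem k_cent_abelian [Finite G] (hG : IsMinSimpleOddOrder G) {K U H : Subgroup G}
    (h : HCtx K U H) (hKp : (Nat.card K).Prime)
    (nov : ∀ (s : ℕ), s.Prime → s ≠ Nat.card K → s ∉ sigma H → ∀ V : Subgroup G, V ≤ H →
      (∀ a ∈ V, ∀ b ∈ V, a * b = b * a) → IsPGroup s V → V ≠ ⊥ → K ≤ normalizer (V : Set G) →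
      V ⊓ centralizer (K : Set G) = ⊥ → False)
    (E : Subgroup G) (hE : IsComplIn E (sigmaCore H) H) (hKE : K ≤ E)
    (D : Subgroup G) (hDE : D ≤ E) (hDc : ∀ a ∈ D, ∀ b ∈ D, a * b = b * a)
    (hKD : K ≤ normalizer (D : Set G)) : D ≤ centralizer (K : Set G) :=
  k_cent_abelian_core (fun K V hKp hVc hcop hKV => fix_or_fpf K V hKp hVc hcop hKV)
    (fun D C h => le_of_prime_pow_mem D C h) hG h hKp nov E hE hKE D hDE hDc hKD

end Cfsg.Agent.Lib.helper55.P2
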