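import Mathlib
import Cfsg.Agent.Lib.helper55.P2Defs
import Cfsg.Agent.Lib.helper71.BGTenA
import Cfsg.Agent.Lib.helper71.BGRegNA
import Cfsg.Agent.Lib.helper29.Basic
import Cfsg.Agent.Lib.helper60.BGSylU
import Cfsg.Agent.S1420

/-!
# S1435 piece P15 (`p2_ef`): `H ∩ M* = E` and `K ≤ F(E)`
-/

set_option autoImplicit false

namespace Cfsg.Agent.Lib.helper55.P2

open Cfsg Subgroup

variable {G : Type*} [Group G]

/-- a group in which all elements commute is nilpotent -/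
theorem helper98_nilpotent_of_comm {X : Type*} [Group X] (h : ∀ a b : X, a * b = b * a) :
    Group.IsNilpotent X := by
  let _ : CommGroup X := { (inferInstance : Group X) with mul_comm := h }
  exact CommGroup.isNilpotent

/-- (P15) clauses (e), (f). -/
theorem p2_ef [Finite G] (hG : IsMinSimpleOddOrder G) {M K U Ms H : Subgroup G}
    (b : Basic M K U Ms) (h : HCtx K U H) (hσs : sigmaCore H ⊓ Ms = ⊥)
    (E : Subgroup G) (hE : IsComplIn E (sigmaCore H) H) (hKE : K ≤ E)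
    (hKD : ⁅E, E⁆ ≤ centralizer (K : Set G)) :
    H ⊓ Ms = E ∧ K ≤ fittingOf E := by
  have hH := h.hH
  have hMs := b.hMs
  have hp := b.kprime
  have : Fact (Nat.card K).Prime := ⟨hp⟩
  have hDE : ⁅E, E⁆ ≤ E := by
    rw [Subgroup.commutator_le]
    intro a ha c hc
    exact E.mul_mem (E.mul_mem (E.mul_mem ha hc) (E.inv_mem ha)) (E.inv_mem hc)
  have hDc : ∀ a ∈ ⁅E, E⁆, ∀ c ∈ ⁅E, E⁆, a * c = c * a := by
    have h20 := (Cfsg.Agent.S1420.result hG H hH E hE).2.1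
    intro a ha c hc
    exact congrArg Subtype.val (h20.is_comm.comm ⟨a, ha⟩ ⟨c, hc⟩)
  have hKc : ∀ a ∈ K, ∀ c ∈ K, a * c = c * a := by
    have : IsCyclic ↥K := isCyclic_of_prime_card (p := Nat.card K) rfl
    intro a ha c hc
    have h1 := (IsCyclic.commGroup (α := ↥K)).mul_comm ⟨a, ha⟩ ⟨c, hc⟩
    exact congrArg Subtype.val h1
  have hKDn : K ≤ normalizer ((⁅E, E⁆ : Subgroup G) : Set G) := by
    apply Subgroup.le_normalizer_iff.mpr
    intro k hk a ha
    have h1 : k * a * k⁻¹ * a⁻¹ ∈ ⁅E, E⁆ := Subgroup.commutator_mem_commutator (hKE hk) (hDE ha)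
    have h2 : k * a * k⁻¹ = (k * a * k⁻¹ * a⁻¹) * a := by group
    rw [h2]
    exact Subgroup.mul_mem _ h1 ha
  -- the abelian normal subgroup `N = K [E,E]`
  obtain ⟨N, hNdef⟩ : ∃ N : Subgroup G, N = ⁅E, E⁆ ⊔ K := ⟨_, rfl⟩
  have hNE : N ≤ E := by rw [hNdef]; exact sup_le hDE hKE
  have hKN : K ≤ N := by rw [hNdef]; exact le_sup_right
  have hNmem : ∀ x ∈ N, ∃ d ∈ ⁅E, E⁆, ∃ k ∈ K, x = d * k := by
    intro x hx
    rw [hNdef] at hx
    exact Cfsg.Agent.Lib.helper29.exists_mul_of_mem_sup_of_le_normalizer hKDn hx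
  have hdk : ∀ d ∈ ⁅E, E⁆, ∀ k ∈ K, k * d = d * k := by
    intro d hd k hk
    exact Subgroup.mem_centralizer_iff.mp (hKD hd) k hk
  have hNc : ∀ a ∈ N, ∀ c ∈ N, a * c = c * a := by
    intro a ha c hc
    obtain ⟨d₁, hd₁, k₁, hk₁, rfl⟩ := hNmem a ha
    obtain ⟨d₂, hd₂, k₂, hk₂, rfl⟩ := hNmem c hc
    calc d₁ * k₁ * (d₂ * k₂) = d₁ * (k₁ * d₂) * k₂ := by group
      _ = d₁ * (d₂ * k₁) * k₂ := by rw [hdk d₂ hd₂ k₁ hk₁]
      _ = (d₁ * d₂) * (k₁ * k₂) := by group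
      _ = (d₂ * d₁) * (k₂ * k₁) := by rw [hDc d₁ hd₁ d₂ hd₂, hKc k₁ hk₁ k₂ hk₂]
      _ = d₂ * (d₁ * k₂) * k₁ := by group
      _ = d₂ * (k₂ * d₁) * k₁ := by rw [hdk d₁ hd₁ k₂ hk₂]
      _ = d₂ * k₂ * (d₁ * k₁) := by group
  have hNn : ∀ e ∈ E, ∀ x ∈ N, e * x * e⁻¹ ∈ N := by
    intro e he x hx
    have h1 : e * x * e⁻¹ * x⁻¹ ∈ ⁅E, E⁆ := Subgroup.commutator_mem_commutator he (hNE hx)
    have h2 : e * x * e⁻¹ = (e * x * e⁻¹ * x⁻¹) * x := by group
    rw [h2]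
    refine Subgroup.mul_mem _ ?_ hx
    rw [hNdef]
    exact Subgroup.mem_sup_left h1
  -- `K ≤ F(E)`
  have hfit : K ≤ fittingOf E := by
    have hn : (N.subgroupOf E).Normal := by
      refine ⟨fun n hn g => ?_⟩
      rw [Subgroup.mem_subgroupOf] at hn ⊢
      exact hNn g g.2 n hn
    have hnil : Group.IsNilpotent ↥(N.subgroupOf E) := by
      apply helper98_nilpotent_of_comm
      intro a c
      apply Subtype.ext
      apply Subtype.ext
      exact hNc _ (Subgroup.mem_subgroupOf.mp a.2) _ (Subgroup.mem_subgroupOf.mp c.2)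
    have hle : N.subgroupOf E ≤ fittingSubgroup ↥E := le_sSup ⟨hn, hnil⟩
    intro k hk
    exact ⟨⟨k, hKE hk⟩, hle (Subgroup.mem_subgroupOf.mpr (hKN hk)), rfl⟩
  -- the subgroup `P` of elements of order dividing `p` in `N`
  obtain ⟨P, hPdef⟩ : ∃ P : Subgroup G, P = 
      ({ carrier := {x | x ∈ N ∧ x ^ Nat.card K = 1}
         mul_mem' := by
           rintro a c ⟨ha, ha'⟩ ⟨hc, hc'⟩
           refine ⟨N.mul_mem ha hc, ?_⟩
           have hcomm : Commute a c := hNc a ha c hc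
           rw [hcomm.mul_pow, ha', hc', one_mul]
         one_mem' := ⟨N.one_mem, one_pow _⟩
         inv_mem' := by
           rintro a ⟨ha, ha'⟩
           exact ⟨N.inv_mem ha, by rw [inv_pow, ha', inv_one]⟩ } : Subgroup G) := ⟨_, rfl⟩
  have hPmem : ∀ x : G, x ∈ P ↔ x ∈ N ∧ x ^ Nat.card K = 1 := fun x => by rw [hPdef]; exact Iff.rfl
  have hKP : K ≤ P := by
    intro k hk
    rw [hPmem]
    refine ⟨hKN hk, ?_⟩
    have h1 : (⟨k, hk⟩ : K) ^ Nat.card K = 1 := pow_card_eq_one'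
    have h2 := congrArg Subtype.val h1
    rwa [Subgroup.coe_pow] at h2
  have hEP : E ≤ normalizer (P : Set G) := by
    apply Subgroup.le_normalizer_iff.mpr
    intro e he x hx
    rw [hPmem] at hx ⊢
    refine ⟨hNn e he x hx.1, ?_⟩
    rw [conj_pow, hx.2, mul_one, mul_inv_cancel]
  have hPMs : P ≤ Ms := by
    intro x hx
    apply b.cK.1
    rw [Subgroup.mem_centralizer_iff]
    intro k hk
    exact hNc k (hKN hk) x ((hPmem x).mp hx).1
  have hPp : IsPGroup (Nat.card K) P := by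
    intro a
    refine ⟨1, Subtype.ext ?_⟩
    rw [pow_one, Subgroup.coe_pow]
    exact ((hPmem a).mp a.2).2
  have hK1 : K ≠ ⊥ := by
    intro h0
    rw [h0, Subgroup.card_bot] at hp
    exact Nat.not_prime_one hp
  have hKMs : K ≤ Ms := b.kσs.trans (Cfsg.Agent.Lib.helper71.BGA.sigmaCore_le Ms)
  -- `E ≤ M*`
  have hEMs : E ≤ Ms := by
    by_cases hcyc : IsCyclic ↥P
    · -- `P = K`
      have hexp : Monoid.exponent ↥P ∣ Nat.card K := by
        apply Monoid.exponent_dvd_of_forall_pow_eq_one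
        intro a
        apply Subtype.ext
        rw [Subgroup.coe_pow]
        exact ((hPmem a).mp a.2).2
      rw [IsCyclic.exponent_eq_card] at hexp
      have hle : Nat.card P ≤ Nat.card K := Nat.le_of_dvd hp.pos hexp
      have hPK : K = P := Subgroup.eq_of_le_of_card_ge hKP hle
      have hN := Cfsg.Agent.Lib.helper71.BGRegNA.normalizer_le_of_uniq hG Ms K hMs hKMs hK1 b.cK.2
      rw [← hPK] at hEP
      exact hEP.trans hN
    · obtain ⟨Es, hEs⟩ := Cfsg.Agent.Lib.helper60.BGSylU.exists_compl_sigmaCore hG Ms hMs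
      have h20 := (Cfsg.Agent.S1420.result hG Ms hMs Es hEs).2.2.1
      exact hEP.trans (h20 (Nat.card K) P b.pσs hPp hPMs hcyc)
  refine ⟨?_, hfit⟩
  apply le_antisymm
  · intro z hz
    obtain ⟨hzH, hzMs⟩ := Subgroup.mem_inf.mp hz
    obtain ⟨e, he, y, hy, hzey⟩ := hE.2.2.2 z hzH
    have hyMs : y ∈ Ms := by
      have e1 : y = e⁻¹ * z := by rw [hzey]; group
      rw [e1]
      exact Ms.mul_mem (Ms.inv_mem (hEMs he)) hzMs
    have hy1 : y = 1 := by
      have h1 : y ∈ sigmaCore H ⊓ Ms := Subgroup.mem_inf.mpr ⟨hy, hyMs⟩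
      rwa [hσs, Subgroup.mem_bot] at h1
    rw [hzey, hy1, mul_one]
    exact he
  · exact le_inf hE.1 hEMs

end Cfsg.Agent.Lib.helper55.P2
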