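import Mathlib
import Cfsg.Prelude.Def_Classical
import Cfsg.Prelude.Def_GeometricClasses
import Cfsg.Agent.Lib.helper49.WittIso

/-!
# S5977 / S5978 block [A], piece BRIDGE
-/

set_option autoImplicit false

namespace Cfsg.Agent.Lib.helper59.Sfk

open Matrix Cfsg.Geo
open Cfsg.Agent.Lib.helper49 (detHom spinorSign)

/-- BRIDGE (M): a nondegenerate quadratic form in the sense of the Prelude is a Mathlib `QuadraticForm`
with nondegenerate polar form. -/
theorem sfk_bridge {F : Type*} [Field F] {ι : Type} [Fintype ι] [DecidableEq ι]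
    (Q : (ι → F) → F) (hQ : IsNondegenerateQuadraticForm Q) :
    ∃ Q' : QuadraticForm F (ι → F), (⇑Q' : (ι → F) → F) = Q ∧
      (QuadraticMap.polarBilin Q').Nondegenerate := by
  refine ⟨{ toFun := Q
            toFun_smul := fun a x => by rw [hQ.smul, smul_eq_mul, sq]
            exists_companion' := ⟨LinearMap.mk₂ F (QuadraticMap.polar Q)
              hQ.polar_bilinear.add_left (fun c m n => by
                rw [hQ.polar_bilinear.smul_left, smul_eq_mul])
              hQ.polar_bilinear.add_right (fun c m n => by
                rw [hQ.polar_bilinear.smul_right, smul_eq_mul]), fun x y => by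
                rw [LinearMap.mk₂_apply, QuadraticMap.polar]; ring⟩ }, rfl, ?_⟩
  constructor
  · intro v hv
    by_contra hv0
    obtain ⟨x, hx⟩ := (hQ.nondegenerate v hv0).2
    exact hx (hv x)
  · intro v hv
    by_contra hv0
    obtain ⟨x, hx⟩ := (hQ.nondegenerate v hv0).1
    exact hx (hv x)

end Cfsg.Agent.Lib.helper59.Sfk
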