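import Cfsg.Agent.Lib.helper81.WTDefs

/-! S4414 piece PE (helper98): equivariance of the weight projections. -/

set_option autoImplicit false

namespace Cfsg.Agent.Lib.helper81.WT

open scoped TensorProduct

universe u v w

/-- [PE] equivariance of the weight projections -/
theorem proj_equiv {S : Type u} [Group S] [Finite S] {F : Type w} [Field F] [Finite F] [CharP F 2]
    {V : Type v} [AddCommGroup V] [Module F V]
    (R : Representation F S V) (Y : Subgroup S) [Y.Normal] [Fintype ↥Y]
    (g : S) (μ : ↥Y →* Fˣ) (v : V) :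
    R g (proj R Y μ v) = proj R Y (cj Y g μ) (R g v) := by
  rw [proj_apply, proj_apply, map_sum]
  rw [← Equiv.sum_comp (MulAut.conjNormal g : ↥Y ≃* ↥Y).toEquiv
    (fun y : ↥Y => ((cj Y g μ y⁻¹ : Fˣ) : F) • R (y : S) (R g v))]
  apply Finset.sum_congr rfl
  intro y _
  rw [map_smul]
  have h1 : cj Y g μ ((MulAut.conjNormal g y)⁻¹) = μ y⁻¹ := by
    rw [cj_apply]
    congr 1
    apply Subtype.ext
    simp only [MulAut.conjNormal_apply, Subgroup.coe_inv, inv_inv]
    group
  have h2 : R ((MulAut.conjNormal g y : ↥Y) : S) (R g v) = R g (R (y : S) v) := by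
    rw [← Module.End.mul_apply, ← map_mul, ← Module.End.mul_apply, ← map_mul,
      MulAut.conjNormal_apply]
    congr 2
    group
  show _ = ((cj Y g μ ((MulAut.conjNormal g y)⁻¹) : Fˣ) : F) •
      R ((MulAut.conjNormal g y : ↥Y) : S) (R g v)
  rw [h1, h2]

end Cfsg.Agent.Lib.helper81.WT
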