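import Cfsg.Agent.Lib.helper95.B2Defs

/-!
# S1083 piece C1: `Lmap` is injective, and a matrix commuting with every `Lmap c` is scalar
-/

set_option autoImplicit false

namespace Cfsg.Agent.Lib.helper95.B2

open Matrix Cfsg Cfsg.Lie

variable {F : Type*} [Field F]

theorem helper98_Lmap_entries (c : chevB2.Idx → F) :
    c (hI 0) = Lmap (F := F) c 0 0 ∧ c (hI 1) = Lmap (F := F) c 1 1 + Lmap (F := F) c 0 0 ∧
    c (eI 0) = Lmap (F := F) c 2 0 ∧ c (eI 1) = Lmap (F := F) c 2 1 ∧
    c (eI 2) = Lmap (F := F) c 1 0 ∧ c (eI 3) = - Lmap (F := F) c 3 1 ∧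
    c (eI 4) = - Lmap (F := F) c 1 3 ∧ c (eI 5) = Lmap (F := F) c 0 1 ∧
    c (eI 6) = Lmap (F := F) c 0 3 ∧ c (eI 7) = Lmap (F := F) c 0 2 := by
  simp [Lmap]

theorem Lmap_inj (c c' : chevB2.Idx → F) (h : Lmap c = Lmap c') : c = c' := by
  obtain ⟨a0, a1, b0, b1, b2, b3, b4, b5, b6, b7⟩ := helper98_Lmap_entries (F := F) c
  obtain ⟨a0', a1', b0', b1', b2', b3', b4', b5', b6', b7'⟩ := helper98_Lmap_entries (F := F) c'
  rw [h] at a0 a1 b0 b1 b2 b3 b4 b5 b6 b7
  have hl : ∀ i : Fin 2, c (hI i) = c' (hI i) := by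
    intro i
    fin_cases i
    · exact a0.trans a0'.symm
    · exact a1.trans a1'.symm
  have hr : ∀ k : Fin 8, c (eI k) = c' (eI k) := by
    intro k
    fin_cases k
    · exact b0.trans b0'.symm
    · exact b1.trans b1'.symm
    · exact b2.trans b2'.symm
    · exact b3.trans b3'.symm
    · exact b4.trans b4'.symm
    · exact b5.trans b5'.symm
    · exact b6.trans b6'.symm
    · exact b7.trans b7'.symm
  funext x
  rcases x with i | k
  · exact hl i
  · exact hr k

/-- the coordinate vector of the root vector `e_k` -/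
def helper98_cvec (F : Type*) [Field F] (k : Fin 8) : chevB2.Idx → F :=
  fun x => Sum.elim (fun _ => (0 : F)) (fun j : Fin 8 => if j = k then (1 : F) else 0) x

theorem helper98_cvec_hI (k : Fin 8) (i : Fin 2) : helper98_cvec F k (hI i) = 0 := rfl

theorem helper98_cvec_eI (k j : Fin 8) :
    helper98_cvec F k (eI j) = if j = k then (1 : F) else 0 := rfl

theorem helper98_Lmap_7 : Lmap (helper98_cvec F 7) = !![0,0,1,0; 0,0,0,0; 0,0,0,0; 0,0,0,0] := by
  ext i j; fin_cases i <;> fin_cases j <;> simp [Lmap, helper98_cvec_hI, helper98_cvec_eI]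

theorem helper98_Lmap_0 : Lmap (helper98_cvec F 0) = !![0,0,0,0; 0,0,0,0; 1,0,0,0; 0,0,0,0] := by
  ext i j; fin_cases i <;> fin_cases j <;> simp [Lmap, helper98_cvec_hI, helper98_cvec_eI]

theorem helper98_Lmap_4 : Lmap (helper98_cvec F 4) = !![0,0,0,0; 0,0,0,-1; 0,0,0,0; 0,0,0,0] := by
  ext i j; fin_cases i <;> fin_cases j <;> simp [Lmap, helper98_cvec_hI, helper98_cvec_eI]

theorem helper98_Lmap_3 : Lmap (helper98_cvec F 3) = !![0,0,0,0; 0,0,0,0; 0,0,0,0; 0,-1,0,0] := by
  ext i j; fin_cases i <;> fin_cases j <;> simp [Lmap, helper98_cvec_hI, helper98_cvec_eI]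

theorem helper98_Lmap_5 : Lmap (helper98_cvec F 5) = !![0,1,0,0; 0,0,0,0; 0,0,0,0; 0,0,-1,0] := by
  ext i j; fin_cases i <;> fin_cases j <;> simp [Lmap, helper98_cvec_hI, helper98_cvec_eI]

theorem comm_Lmap (g : Matrix (Fin 4) (Fin 4) F) (h : ∀ c : chevB2.Idx → F, g * Lmap c = Lmap c * g) :
    ∃ a : F, g = a • (1 : Matrix (Fin 4) (Fin 4) F) := by
  have h7 := h (helper98_cvec F 7)
  have h0 := h (helper98_cvec F 0)
  have h4 := h (helper98_cvec F 4)
  have h3 := h (helper98_cvec F 3)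
  have h5 := h (helper98_cvec F 5)
  rw [helper98_Lmap_7] at h7
  rw [helper98_Lmap_0] at h0
  rw [helper98_Lmap_4] at h4
  rw [helper98_Lmap_3] at h3
  rw [helper98_Lmap_5] at h5
  have e7 := fun i j => congrFun (congrFun h7 i) j
  have e0 := fun i j => congrFun (congrFun h0 i) j
  have e4 := fun i j => congrFun (congrFun h4 i) j
  have e3 := fun i j => congrFun (congrFun h3 i) j
  have e5 := fun i j => congrFun (congrFun h5 i) j
  -- column 0 (off-diagonal) from e7 at (i,2)
  have g10 : g 1 0 = 0 := by simpa [Matrix.mul_apply, Fin.sum_univ_four] using e7 1 2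
  have g20 : g 2 0 = 0 := by simpa [Matrix.mul_apply, Fin.sum_univ_four] using e7 2 2
  have g30 : g 3 0 = 0 := by simpa [Matrix.mul_apply, Fin.sum_univ_four] using e7 3 2
  have g0022 : g 0 0 = g 2 2 := by simpa [Matrix.mul_apply, Fin.sum_univ_four] using e7 0 2
  -- column 2 from e0 at (i,0)
  have g02 : g 0 2 = 0 := by simpa [Matrix.mul_apply, Fin.sum_univ_four] using e0 0 0
  have g12 : g 1 2 = 0 := by simpa [Matrix.mul_apply, Fin.sum_univ_four] using e0 1 0
  have g32 : g 3 2 = 0 := by simpa [Matrix.mul_apply, Fin.sum_univ_four] using e0 3 0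
  -- column 1 from e4 at (i,3)
  have g01 : g 0 1 = 0 := by simpa [Matrix.mul_apply, Fin.sum_univ_four] using e4 0 3
  have g21 : g 2 1 = 0 := by simpa [Matrix.mul_apply, Fin.sum_univ_four] using e4 2 3
  have g31 : g 3 1 = 0 := by simpa [Matrix.mul_apply, Fin.sum_univ_four] using e4 3 3
  have g1133 : g 1 1 = g 3 3 := by simpa [Matrix.mul_apply, Fin.sum_univ_four] using e4 1 3
  -- column 3 from e3 at (i,1)
  have g03 : g 0 3 = 0 := by simpa [Matrix.mul_apply, Fin.sum_univ_four] using e3 0 1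
  have g13 : g 1 3 = 0 := by simpa [Matrix.mul_apply, Fin.sum_univ_four] using e3 1 1
  have g23 : g 2 3 = 0 := by simpa [Matrix.mul_apply, Fin.sum_univ_four] using e3 2 1
  -- g00 = g11 from e5 at (0,1)
  have g0011 : g 0 0 = g 1 1 := by
    have := e5 0 1
    simp [Matrix.mul_apply, Fin.sum_univ_four] at this
    simpa [g21] using this
  refine ⟨g 0 0, ?_⟩
  ext i j
  fin_cases i <;> fin_cases j <;>
    simp [g10, g20, g30, g02, g12, g32, g01, g21, g31, g03, g13, g23, ← g0022, ← g1133, ← g0011]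

end Cfsg.Agent.Lib.helper95.B2
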