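import Cfsg.Agent.Lib.helper95.B2Defs

/-!
# S1083 piece C2: `Wmap` is injective, and `g * W * gᵀ = W` for every `W = Wmap c` forces `g = ± 1`
-/

set_option autoImplicit false

namespace Cfsg.Agent.Lib.helper95.B2

open Matrix Cfsg Cfsg.Lie

variable {F : Type*} [Field F]

theorem Wmap_inj (c c' : Fin 5 → F) (h : Wmap c = Wmap c') : c = c' := by
  have e := fun i j => congrFun (congrFun h i) j
  funext k
  fin_cases k
  · simpa [Wmap] using e 0 2
  · simpa [Wmap] using e 0 1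
  · simpa [Wmap] using e 0 3
  · simpa [Wmap] using e 2 3
  · simpa [Wmap] using e 1 2

theorem helper98_conj_entry (g : Matrix (Fin 4) (Fin 4) F) (c : Fin 5 → F) (i j : Fin 4) :
    (g * Wmap c * gᵀ) i j =
      c 1 * (g i 0 * g j 1 - g i 1 * g j 0) +
      c 0 * (g i 0 * g j 2 - g i 2 * g j 0 - g i 1 * g j 3 + g i 3 * g j 1) +
      c 2 * (g i 0 * g j 3 - g i 3 * g j 0) +
      c 4 * (g i 1 * g j 2 - g i 2 * g j 1) +
      c 3 * (g i 2 * g j 3 - g i 3 * g j 2) := by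
  simp [Matrix.mul_apply, Fin.sum_univ_four, Wmap]
  ring

/-- a `2 × 2` linear system with determinant one -/
theorem helper98_solve (a b c d x y : F) (hdet : a * d - b * c = 1)
    (h1 : a * y - b * x = 0) (h2 : c * y - d * x = 0) : x = 0 ∧ y = 0 := by
  constructor
  · linear_combination (-x) * hdet + c * h1 - a * h2
  · linear_combination (-y) * hdet + d * h1 - b * h2

/-- if the `2 × 2` minors of columns `p, q` of `g` are given by `W`, and `W r s = 1`,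
`W r i = 0 = W s i`, then row `i` of these columns vanishes -/
theorem helper98_fix_cols (g W : Matrix (Fin 4) (Fin 4) F) (p q : Fin 4)
    (k : ∀ i j : Fin 4, g i p * g j q - g i q * g j p = W i j) (r s i : Fin 4)
    (hrs : W r s = 1) (hri : W r i = 0) (hsi : W s i = 0) : g i p = 0 ∧ g i q = 0 :=
  helper98_solve (g r p) (g r q) (g s p) (g s q) (g i p) (g i q)
    (by rw [← hrs, ← k]) (by rw [← hri, ← k]) (by rw [← hsi, ← k])

theorem helper98_W1 : Wmap (F := F) (Pi.single 1 1) = !![0,1,0,0; -1,0,0,0; 0,0,0,0; 0,0,0,0] := by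
  ext i j; fin_cases i <;> fin_cases j <;> simp [Wmap]

theorem helper98_W2 : Wmap (F := F) (Pi.single 2 1) = !![0,0,0,1; 0,0,0,0; 0,0,0,0; -1,0,0,0] := by
  ext i j; fin_cases i <;> fin_cases j <;> simp [Wmap]

theorem helper98_W3 : Wmap (F := F) (Pi.single 3 1) = !![0,0,0,0; 0,0,0,0; 0,0,0,1; 0,0,-1,0] := by
  ext i j; fin_cases i <;> fin_cases j <;> simp [Wmap]

theorem helper98_W4 : Wmap (F := F) (Pi.single 4 1) = !![0,0,0,0; 0,0,1,0; 0,-1,0,0; 0,0,0,0] := by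
  ext i j; fin_cases i <;> fin_cases j <;> simp [Wmap]

theorem helper98_W0 : Wmap (F := F) (Pi.single 0 1) = !![0,0,1,0; 0,0,0,-1; -1,0,0,0; 0,1,0,0] := by
  ext i j; fin_cases i <;> fin_cases j <;> simp [Wmap]

theorem helper98_minors (g : Matrix (Fin 4) (Fin 4) F)
    (h : ∀ c : Fin 5 → F, g * Wmap c * gᵀ = Wmap c) :
    (∀ i j : Fin 4, g i 0 * g j 1 - g i 1 * g j 0 =
      (!![0,1,0,0; -1,0,0,0; 0,0,0,0; 0,0,0,0] : Matrix (Fin 4) (Fin 4) F) i j) ∧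
    (∀ i j : Fin 4, g i 0 * g j 3 - g i 3 * g j 0 =
      (!![0,0,0,1; 0,0,0,0; 0,0,0,0; -1,0,0,0] : Matrix (Fin 4) (Fin 4) F) i j) ∧
    (∀ i j : Fin 4, g i 2 * g j 3 - g i 3 * g j 2 =
      (!![0,0,0,0; 0,0,0,0; 0,0,0,1; 0,0,-1,0] : Matrix (Fin 4) (Fin 4) F) i j) ∧
    (∀ i j : Fin 4, g i 1 * g j 2 - g i 2 * g j 1 =
      (!![0,0,0,0; 0,0,1,0; 0,-1,0,0; 0,0,0,0] : Matrix (Fin 4) (Fin 4) F) i j) ∧
    (∀ i j : Fin 4, g i 0 * g j 2 - g i 2 * g j 0 - g i 1 * g j 3 + g i 3 * g j 1 =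
      (!![0,0,1,0; 0,0,0,-1; -1,0,0,0; 0,1,0,0] : Matrix (Fin 4) (Fin 4) F) i j) := by
  have key : ∀ (c : Fin 5 → F) (i j : Fin 4),
      c 1 * (g i 0 * g j 1 - g i 1 * g j 0) +
      c 0 * (g i 0 * g j 2 - g i 2 * g j 0 - g i 1 * g j 3 + g i 3 * g j 1) +
      c 2 * (g i 0 * g j 3 - g i 3 * g j 0) +
      c 4 * (g i 1 * g j 2 - g i 2 * g j 1) +
      c 3 * (g i 2 * g j 3 - g i 3 * g j 2) = Wmap c i j := by
    intro c i j
    rw [← helper98_conj_entry, h c]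
  refine ⟨?_, ?_, ?_, ?_, ?_⟩
  · intro i j
    have := key (Pi.single 1 1) i j
    rw [helper98_W1] at this
    rw [← this]
    simp
  · intro i j
    have := key (Pi.single 2 1) i j
    rw [helper98_W2] at this
    rw [← this]
    simp
  · intro i j
    have := key (Pi.single 3 1) i j
    rw [helper98_W3] at this
    rw [← this]
    simp
  · intro i j
    have := key (Pi.single 4 1) i j
    rw [helper98_W4] at this
    rw [← this]
    simp
  · intro i j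
    have := key (Pi.single 0 1) i j
    rw [helper98_W0] at this
    rw [← this]
    simp

theorem helper98_offdiag (g : Matrix (Fin 4) (Fin 4) F)
    (h : ∀ c : Fin 5 → F, g * Wmap c * gᵀ = Wmap c) :
    (g 1 0 = 0 ∧ g 2 0 = 0 ∧ g 3 0 = 0) ∧ (g 0 1 = 0 ∧ g 2 1 = 0 ∧ g 3 1 = 0) ∧
    (g 0 2 = 0 ∧ g 1 2 = 0 ∧ g 3 2 = 0) ∧ (g 0 3 = 0 ∧ g 1 3 = 0 ∧ g 2 3 = 0) := by
  obtain ⟨k1, k2, k3, k4, -⟩ := helper98_minors g h
  have a12 := helper98_fix_cols g _ 0 1 k1 0 1 2 (by simp) (by simp) (by simp)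
  have a13 := helper98_fix_cols g _ 0 1 k1 0 1 3 (by simp) (by simp) (by simp)
  have a21 := helper98_fix_cols g _ 0 3 k2 0 3 1 (by simp) (by simp) (by simp)
  have a22 := helper98_fix_cols g _ 0 3 k2 0 3 2 (by simp) (by simp) (by simp)
  have a30 := helper98_fix_cols g _ 2 3 k3 2 3 0 (by simp) (by simp) (by simp)
  have a31 := helper98_fix_cols g _ 2 3 k3 2 3 1 (by simp) (by simp) (by simp)
  have a40 := helper98_fix_cols g _ 1 2 k4 1 2 0 (by simp) (by simp) (by simp)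
  have a43 := helper98_fix_cols g _ 1 2 k4 1 2 3 (by simp) (by simp) (by simp)
  exact ⟨⟨a21.1, a12.1, a13.1⟩, ⟨a40.1, a12.2, a13.2⟩, ⟨a30.1, a31.1, a43.2⟩,
    ⟨a30.2, a31.2, a22.2⟩⟩

theorem helper98_diag (g : Matrix (Fin 4) (Fin 4) F)
    (h : ∀ c : Fin 5 → F, g * Wmap c * gᵀ = Wmap c) :
    g 0 0 = g 2 2 ∧ g 1 1 = g 2 2 ∧ g 3 3 = g 2 2 ∧ (g 2 2 - 1) * (g 2 2 + 1) = 0 := by
  obtain ⟨⟨g10, g20, g30⟩, ⟨g01, g21, g31⟩, ⟨g02, g12, g32⟩, ⟨g03, g13, g23⟩⟩ :=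
    helper98_offdiag g h
  obtain ⟨k1, k2, k3, k4, k0⟩ := helper98_minors g h
  have d1 : g 0 0 * g 1 1 - g 0 1 * g 1 0 = 1 := by rw [k1]; simp
  have d2 : g 0 0 * g 3 3 - g 0 3 * g 3 0 = 1 := by rw [k2]; simp
  have d4 : g 1 1 * g 2 2 - g 1 2 * g 2 1 = 1 := by rw [k4]; simp
  have d0 : g 0 0 * g 2 2 - g 0 2 * g 2 0 - g 0 1 * g 2 3 + g 0 3 * g 2 1 = 1 := by
    rw [k0]; simp
  have r01 : g 0 0 * g 1 1 = 1 := by linear_combination d1 + g 0 1 * g10
  have r03 : g 0 0 * g 3 3 = 1 := by linear_combination d2 + g 0 3 * g30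
  have r12 : g 1 1 * g 2 2 = 1 := by linear_combination d4 + g 1 2 * g21
  have r02 : g 0 0 * g 2 2 = 1 := by
    linear_combination d0 + g 0 2 * g20 + g 0 1 * g23 - g 0 3 * g21
  have e12 : g 1 1 = g 2 2 := by
    linear_combination (-(g 1 1)) * r02 + (g 2 2) * r01
  have e02 : g 0 0 = g 2 2 := by
    linear_combination (-(g 0 0)) * r12 + (g 2 2) * r01
  have e32 : g 3 3 = g 2 2 := by
    linear_combination (-(g 3 3)) * r02 + (g 2 2) * r03
  refine ⟨e02, e12, e32, ?_⟩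
  linear_combination r02 - (g 2 2) * e02

theorem fix_Wmap (g : Matrix (Fin 4) (Fin 4) F) (h : ∀ c : Fin 5 → F, g * Wmap c * gᵀ = Wmap c) :
    g = 1 ∨ g = -1 := by
  obtain ⟨⟨g10, g20, g30⟩, ⟨g01, g21, g31⟩, ⟨g02, g12, g32⟩, ⟨g03, g13, g23⟩⟩ :=
    helper98_offdiag g h
  obtain ⟨e02, e12, e32, sq⟩ := helper98_diag g h
  rcases mul_eq_zero.mp sq with h1 | h1
  · left
    have e : g 2 2 = 1 := by linear_combination h1
    ext i j
    fin_cases i <;> fin_cases j <;>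
      simp [g10, g20, g30, g02, g12, g32, g01, g21, g31, g03, g13, g23, e12, e02, e32, e]
  · right
    have e : g 2 2 = -1 := by linear_combination h1
    ext i j
    fin_cases i <;> fin_cases j <;>
      simp [g10, g20, g30, g02, g12, g32, g01, g21, g31, g03, g13, g23, e12, e02, e32, e]

end Cfsg.Agent.Lib.helper95.B2
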