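import Mathlib
import Cfsg.Prelude.Def_Classical
import Cfsg.Prelude.Def_GeometricClasses

/-!
# S5977 / S5978 block [B], piece CRITB: core

`h98_fe_crit_b_core` is the CRITB statement `fe_crit_b` with the statements of the pieces
COMM, CYC, FROB, KFROB, NDEG (specialised to the data at hand) as hypotheses.
-/

set_option autoImplicit false

namespace Cfsg.Agent.Lib.helper96.FE

open Polynomial

/-- if `T * Y = X * T` then `T * p(Y) = p(X) * T` for every polynomial `p` -/
theorem helper98_aeval_intertwine {F : Type*} [Field F] {A : Type*} [Ring A] [Algebra F A]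
    (X Y T : A) (h : T * Y = X * T) (p : F[X]) : T * aeval Y p = aeval X p * T := by
  have hpow : ∀ n : ℕ, T * Y ^ n = X ^ n * T := by
    intro n
    induction n with
    | zero => simp
    | succ n ih => rw [pow_succ, ← mul_assoc, ih, mul_assoc, h, ← mul_assoc, ← pow_succ]
  induction p using Polynomial.induction_on' with
  | add p q hp hq => rw [map_add, map_add, mul_add, add_mul, hp, hq]
  | monomial n a =>
    rw [aeval_monomial, aeval_monomial]
    calc T * (algebraMap F A a * Y ^ n) = algebraMap F A a * (T * Y ^ n) := by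
          rw [← mul_assoc, ← Algebra.commutes a T, mul_assoc]
      _ = algebraMap F A a * (X ^ n * T) := by rw [hpow n]
      _ = algebraMap F A a * X ^ n * T := by rw [mul_assoc]

/-- CRITB core: the statement of `fe_crit_b` from the statements of COMM, CYC, FROB, KFROB,
NDEG. -/
theorem h98_fe_crit_b_core {F : Type*} [Field F] [Fintype F] {ι : Type} [Fintype ι]
    [DecidableEq ι]
    (Q : (ι → F) → F) (hQ : Cfsg.Geo.IsNondegenerateQuadraticForm Q)
    (K : Subalgebra F (Matrix ι ι F))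
    (hKf : Cfsg.Geo.IsSelfAdjointFor (QuadraticMap.polar Q) K)
    (r : ℕ) [Fact r.Prime] (hr2 : r ≠ 2) (hrF : (r : F) ≠ 0)
    (hi : orderOf ((Fintype.card F : ℕ) : ZMod r) % 4 = 2)
    (x : GL ι F) (hx : x ∈ Cfsg.isometryGroup F Q) (hxr : x ^ r = 1)
    (hdim : Module.finrank F
        (LinearMap.ker (aeval (Matrix.toLin' (x : Matrix ι ι F)) (cyclotomic r F)))
      = orderOf ((Fintype.card F : ℕ) : ZMod r))
    (g : GL ι F) (hg : g ∈ Cfsg.isometryGroup F Q)
    (hCOMM : ∀ (y : GL ι F), y ∈ Cfsg.Geo.subalgebraNormalizer K → ∀ (s : ℕ), Odd s →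
      (∃ z : F, ((y ^ s : GL ι F) : Matrix ι ι F) = z • (1 : Matrix ι ι F)) →
      ∀ k ∈ K, (y : Matrix ι ι F) * k = k * (y : Matrix ι ι F))
    (hCYC : ∀ (y : Module.End F (ι → F)), y ^ r = 1 → ∀ (W : Submodule F (ι → F)),
      (∀ w ∈ W, y w ∈ W) → (∀ w ∈ W, y w = w → w = 0) →
      Module.finrank F W = orderOf ((Fintype.card F : ℕ) : ZMod r) →
      ∀ (w : ι → F), w ∈ W → w ≠ 0 → ∀ (w' : ι → F), w' ∈ W →
        ∃ g : F[X], w' = aeval y g w)
    (hFROB : ∀ (y : Module.End F (ι → F)) (g : F[X]) (j : ℕ),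
      aeval (y ^ (Fintype.card F ^ j)) g = (aeval y g) ^ (Fintype.card F ^ j))
    (hKFROB : ∀ (j : ℕ), Odd j →
      ∃ k ∈ K, ∃ k' ∈ K, (k ^ (Fintype.card F ^ j) - k) * k' = 1)
    (hNDEG : ∀ (y : GL ι F), y ∈ Cfsg.isometryGroup F Q → y ^ r = 1 → ∀ (w : ι → F),
      w ∈ LinearMap.ker (aeval (Matrix.toLin' (y : Matrix ι ι F)) (cyclotomic r F)) →
      (∀ w' ∈ LinearMap.ker (aeval (Matrix.toLin' (y : Matrix ι ι F)) (cyclotomic r F)),
        QuadraticMap.polar Q w w' = 0) → w = 0) :
    g⁻¹ * x * g ∉ Cfsg.Geo.subalgebraNormalizer K := by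
  intro hyN
  have hrodd : Odd r := (Fact.out : r.Prime).odd_of_ne_two hr2
  obtain ⟨y, hydef⟩ : ∃ y : GL ι F, y = g⁻¹ * x * g := ⟨_, rfl⟩
  rw [← hydef] at hyN
  have hyI : y ∈ Cfsg.isometryGroup F Q := by
    rw [hydef]; exact mul_mem (mul_mem (inv_mem hg) hx) hg
  have hyr : y ^ r = 1 := by
    have h := conj_pow (a := g⁻¹) (b := x) (i := r)
    rw [inv_inv] at h
    rw [hydef, h, hxr]; simp
  have hgy : (g : Matrix ι ι F) * (y : Matrix ι ι F)
      = (x : Matrix ι ι F) * (g : Matrix ι ι F) := by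
    rw [← Units.val_mul, ← Units.val_mul, hydef]; congr 1; group
  -- the endomorphisms
  obtain ⟨Y, hY⟩ : ∃ Y : Module.End F (ι → F), Y = Matrix.toLin' (y : Matrix ι ι F) := ⟨_, rfl⟩
  obtain ⟨Yi, hYi⟩ : ∃ Yi : Module.End F (ι → F),
      Yi = Matrix.toLin' ((y⁻¹ : GL ι F) : Matrix ι ι F) := ⟨_, rfl⟩
  have hYapp : ∀ v, Y v = (y : Matrix ι ι F).mulVec v := fun v => by rw [hY]; rfl
  have hYYi : Y * Yi = 1 := by
    rw [hY, hYi, Module.End.mul_eq_comp, ← Matrix.toLin'_mul, ← Units.val_mul, mul_inv_cancel,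
      Units.val_one, Matrix.toLin'_one]; rfl
  have hYiY : Yi * Y = 1 := by
    rw [hY, hYi, Module.End.mul_eq_comp, ← Matrix.toLin'_mul, ← Units.val_mul, inv_mul_cancel,
      Units.val_one, Matrix.toLin'_one]; rfl
  have hYr : Y ^ r = 1 := by
    rw [hY, ← Matrix.toLin'_pow, ← Units.val_pow_eq_pow_val, hyr, Units.val_one,
      Matrix.toLin'_one]; rfl
  have hYYi_apply : ∀ v, Y (Yi v) = v := fun v => LinearMap.congr_fun hYYi v
  obtain ⟨W, hW⟩ : ∃ W : Submodule F (ι → F),
      W = LinearMap.ker (aeval Y (cyclotomic r F)) := ⟨_, rfl⟩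
  have hWmem : ∀ v, v ∈ W ↔ (aeval Y (cyclotomic r F)) v = 0 := fun v => by
    rw [hW, LinearMap.mem_ker]
  -- the dimension of `W`
  have hWdim : Module.finrank F W = orderOf ((Fintype.card F : ℕ) : ZMod r) := by
    have h1 : Matrix.toLin' (g : Matrix ι ι F) ∘ₗ Matrix.toLin' ((g⁻¹ : GL ι F) : Matrix ι ι F)
        = LinearMap.id := by
      rw [← Matrix.toLin'_mul, ← Units.val_mul, mul_inv_cancel, Units.val_one,
        Matrix.toLin'_one]
    have h2 : Matrix.toLin' ((g⁻¹ : GL ι F) : Matrix ι ι F) ∘ₗ Matrix.toLin' (g : Matrix ι ι F)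
        = LinearMap.id := by
      rw [← Matrix.toLin'_mul, ← Units.val_mul, inv_mul_cancel, Units.val_one,
        Matrix.toLin'_one]
    have hGY : (Matrix.toLin' (g : Matrix ι ι F) : Module.End F (ι → F)) * Y
        = (Matrix.toLin' (x : Matrix ι ι F) : Module.End F (ι → F))
          * (Matrix.toLin' (g : Matrix ι ι F) : Module.End F (ι → F)) := by
      rw [hY, Module.End.mul_eq_comp, Module.End.mul_eq_comp, ← Matrix.toLin'_mul,
        ← Matrix.toLin'_mul, hgy]
    have hint := helper98_aeval_intertwine (Matrix.toLin' (x : Matrix ι ι F) : Module.End F (ι → F))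
      Y (Matrix.toLin' (g : Matrix ι ι F) : Module.End F (ι → F)) hGY (cyclotomic r F)
    have h3 : ∀ v, (aeval (Matrix.toLin' (x : Matrix ι ι F)) (cyclotomic r F))
        (Matrix.toLin' (g : Matrix ι ι F) v)
        = Matrix.toLin' (g : Matrix ι ι F) ((aeval Y (cyclotomic r F)) v) := by
      intro v
      have := LinearMap.congr_fun hint v
      rw [Module.End.mul_apply, Module.End.mul_apply] at this
      exact this.symm
    have hWeq : W = Submodule.comap
        ((LinearEquiv.ofLinear (Matrix.toLin' (g : Matrix ι ι F))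
          (Matrix.toLin' ((g⁻¹ : GL ι F) : Matrix ι ι F)) h1 h2 : (ι → F) ≃ₗ[F] (ι → F)) :
          (ι → F) →ₗ[F] (ι → F))
        (LinearMap.ker (aeval (Matrix.toLin' (x : Matrix ι ι F)) (cyclotomic r F))) := by
      ext v
      rw [Submodule.mem_comap, LinearMap.mem_ker, hWmem]
      constructor
      · intro h
        show (aeval (Matrix.toLin' (x : Matrix ι ι F)) (cyclotomic r F))
          (Matrix.toLin' (g : Matrix ι ι F) v) = 0
        rw [h3, h, map_zero]
      · intro h
        have h4 : (aeval (Matrix.toLin' (x : Matrix ι ι F)) (cyclotomic r F))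
          (Matrix.toLin' (g : Matrix ι ι F) v) = 0 := h
        rw [h3] at h4
        have h5 := congrArg (Matrix.toLin' ((g⁻¹ : GL ι F) : Matrix ι ι F)) h4
        rw [map_zero] at h5
        have h6 : Matrix.toLin' ((g⁻¹ : GL ι F) : Matrix ι ι F)
            (Matrix.toLin' (g : Matrix ι ι F) ((aeval Y (cyclotomic r F)) v))
            = (aeval Y (cyclotomic r F)) v := LinearMap.congr_fun h2 _
        rw [h6] at h5
        exact h5
    rw [hWeq, (LinearEquiv.ofSubmodule' _ _).finrank_eq]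
    exact hdim
  -- invariance of `W`
  have hWinv : ∀ T : Module.End F (ι → F), T * Y = Y * T → ∀ w ∈ W, T w ∈ W := by
    intro T hT w hw
    rw [hWmem] at hw ⊢
    have h := LinearMap.congr_fun (helper98_aeval_intertwine Y Y T hT (cyclotomic r F)) w
    rw [Module.End.mul_apply, Module.End.mul_apply] at h
    rw [← h, hw, map_zero]
  have hWy : ∀ w ∈ W, Y w ∈ W := hWinv Y rfl
  have hW1 : ∀ w ∈ W, Y w = w → w = 0 := by
    intro w hw hYw
    by_contra hw0
    have hev : Module.End.HasEigenvector Y 1 w :=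
      Module.End.hasEigenvector_iff.mpr
        ⟨by rw [Module.End.mem_eigenspace_iff, one_smul]; exact hYw, hw0⟩
    have h1 := Module.End.aeval_apply_of_hasEigenvector hev (p := cyclotomic r F)
    rw [hWmem] at hw
    rw [hw, eval_one_cyclotomic_prime] at h1
    exact hw0 ((smul_eq_zero.mp h1.symm).resolve_left hrF)
  -- a nonzero vector of `W`
  obtain ⟨w0, hw0W, hw0⟩ : ∃ w ∈ W, w ≠ 0 := by
    have hpos : 0 < Module.finrank F W := by rw [hWdim]; omega
    obtain ⟨⟨w, hw⟩, hne⟩ := Module.finrank_pos_iff_exists_ne_zero.mp hpos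
    exact ⟨w, hw, fun h => hne (Subtype.ext h)⟩
  -- arithmetic
  obtain ⟨j, hj⟩ : ∃ j : ℕ, orderOf ((Fintype.card F : ℕ) : ZMod r) = 2 * j :=
    ⟨orderOf ((Fintype.card F : ℕ) : ZMod r) / 2, by omega⟩
  have hjodd : Odd j := by rw [Nat.odd_iff]; omega
  have haj : ((Fintype.card F : ℕ) : ZMod r) ^ j = -1 := by
    have h1 : ((Fintype.card F : ℕ) : ZMod r) ^ j * ((Fintype.card F : ℕ) : ZMod r) ^ j = 1 := by
      rw [← pow_add, ← two_mul, ← hj]; exact pow_orderOf_eq_one _
    rcases mul_self_eq_one_iff.mp h1 with h | h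
    · exact absurd h (pow_ne_one_of_lt_orderOf (by omega) (by omega))
    · exact h
  have hrdvd : r ∣ Fintype.card F ^ j + 1 := by
    rw [← ZMod.natCast_eq_zero_iff]
    push_cast
    rw [haj]; ring
  obtain ⟨c, hc⟩ := hrdvd
  have hYq : Y ^ (Fintype.card F ^ j) = Yi := by
    have h1 : Y ^ (Fintype.card F ^ j + 1) = 1 := by rw [hc, pow_mul, hYr, one_pow]
    calc Y ^ (Fintype.card F ^ j) = (Yi * Y) * Y ^ (Fintype.card F ^ j) := by
          rw [hYiY, one_mul]
      _ = Yi * Y ^ (Fintype.card F ^ j + 1) := by rw [mul_assoc, ← pow_succ']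
      _ = Yi := by rw [h1, mul_one]
  -- the polar form
  have hQy : ∀ u : ι → F, Q (Y u) = Q u := fun u => by rw [hYapp]; exact hyI u u
  have hBY : ∀ a b : ι → F, QuadraticMap.polar Q (Y a) (Y b) = QuadraticMap.polar Q a b := by
    intro a b
    simp only [QuadraticMap.polar]
    rw [← map_add, hQy, hQy, hQy]
  have hBYi : ∀ a b : ι → F, QuadraticMap.polar Q (Y a) b = QuadraticMap.polar Q a (Yi b) := by
    intro a b
    rw [← hBY a (Yi b), hYYi_apply]
  have hBpow : ∀ (n : ℕ) (a b : ι → F),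
      QuadraticMap.polar Q ((Y ^ n) a) b = QuadraticMap.polar Q a ((Yi ^ n) b) := by
    intro n
    induction n with
    | zero => intro a b; simp
    | succ n ih =>
      intro a b
      rw [pow_succ', pow_succ, Module.End.mul_apply, Module.End.mul_apply, hBYi, ih]
  have hBpoly : ∀ (p : F[X]) (a b : ι → F),
      QuadraticMap.polar Q ((aeval Y p) a) b = QuadraticMap.polar Q a ((aeval Yi p) b) := by
    intro p
    induction p using Polynomial.induction_on' with
    | add p q hp hq =>
      intro a b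
      rw [map_add, map_add, LinearMap.add_apply, LinearMap.add_apply,
        hQ.polar_bilinear.add_left, hQ.polar_bilinear.add_right, hp, hq]
    | monomial n c =>
      intro a b
      rw [aeval_monomial, aeval_monomial, Module.End.mul_apply, Module.End.mul_apply,
        Module.algebraMap_end_apply, Module.algebraMap_end_apply, hQ.polar_bilinear.smul_left,
        hQ.polar_bilinear.smul_right, hBpow]
  have hsub : ∀ a b c : ι → F, QuadraticMap.polar Q (a - b) c
      = QuadraticMap.polar Q a c - QuadraticMap.polar Q b c := by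
    intro a b c
    have h1 := hQ.polar_bilinear.add_left (a - b) b c
    rw [sub_add_cancel] at h1
    rw [h1]; ring
  -- the field `K`
  have hcomm := hCOMM y hyN r hrodd ⟨1, by rw [hyr]; simp⟩
  have hKY : ∀ k ∈ K, (Matrix.toLin' k : Module.End F (ι → F)) * Y
      = Y * (Matrix.toLin' k : Module.End F (ι → F)) := by
    intro k hk
    rw [hY, Module.End.mul_eq_comp, Module.End.mul_eq_comp, ← Matrix.toLin'_mul,
      ← Matrix.toLin'_mul, hcomm k hk]
  obtain ⟨k, hk, k', hk', hkk'⟩ := hKFROB j hjodd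
  obtain ⟨T, hT⟩ : ∃ T : Module.End F (ι → F), T = Matrix.toLin' k := ⟨_, rfl⟩
  obtain ⟨T', hT'⟩ : ∃ T' : Module.End F (ι → F), T' = Matrix.toLin' k' := ⟨_, rfl⟩
  have hTapp : ∀ v, T v = k.mulVec v := fun v => by rw [hT]; rfl
  have hT'app : ∀ v, T' v = k'.mulVec v := fun v => by rw [hT']; rfl
  have hTY : T * Y = Y * T := by rw [hT]; exact hKY k hk
  have hT'Y : T' * Y = Y * T' := by rw [hT']; exact hKY k' hk'
  have hw1 : T' w0 ∈ W := hWinv T' hT'Y w0 hw0W
  have hTw : T w0 ∈ W := hWinv T hTY w0 hw0W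
  obtain ⟨gk, hgk⟩ := hCYC Y hYr W hWy hW1 hWdim w0 hw0W hw0 (T w0) hTw
  obtain ⟨G, hG⟩ : ∃ G : Module.End F (ι → F), G = aeval Y gk := ⟨_, rfl⟩
  rw [← hG] at hgk
  have hGY : G * Y = Y * G := by
    rw [hG]; exact (helper98_aeval_intertwine Y Y Y rfl gk).symm
  have hA : ∀ u ∈ W, T u = G u := by
    intro u hu
    obtain ⟨h, hh⟩ := hCYC Y hYr W hWy hW1 hWdim w0 hw0W hw0 u hu
    have h1 : T * aeval Y h = aeval Y h * T := helper98_aeval_intertwine Y Y T hTY h
    have h2 : G * aeval Y h = aeval Y h * G := by rw [hG, ← map_mul, mul_comm, map_mul]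
    calc T u = (T * aeval Y h) w0 := by rw [hh, Module.End.mul_apply]
      _ = (aeval Y h * T) w0 := by rw [h1]
      _ = (aeval Y h) (G w0) := by rw [Module.End.mul_apply, hgk]
      _ = (aeval Y h * G) w0 := by rw [Module.End.mul_apply]
      _ = (G * aeval Y h) w0 := by rw [h2]
      _ = G u := by rw [hh, Module.End.mul_apply]
  have hGW : ∀ v ∈ W, G v ∈ W := hWinv G hGY
  have hGnW : ∀ (n : ℕ), ∀ v ∈ W, (G ^ n) v ∈ W := by
    intro n
    induction n with
    | zero => intro v hv; simpa using hv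
    | succ n ih =>
      intro v hv
      rw [pow_succ', Module.End.mul_apply]
      exact hGW _ (ih v hv)
  have hGi : aeval Yi gk = G ^ (Fintype.card F ^ j) := by
    rw [← hYq, hG]; exact hFROB Y gk j
  have hB : ∀ v ∈ W, G v = (aeval Yi gk) v := by
    intro v hv
    have hd : G v - (aeval Yi gk) v ∈ W :=
      W.sub_mem (hGW v hv) (by rw [hGi]; exact hGnW _ v hv)
    have hzero : G v - (aeval Yi gk) v = 0 := by
      apply hNDEG y hyI hyr _ (by rw [← hY, ← hW]; exact hd)
      intro u hu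
      rw [← hY, ← hW] at hu
      have e1 : QuadraticMap.polar Q (G v) u = QuadraticMap.polar Q ((aeval Yi gk) v) u := by
        calc QuadraticMap.polar Q (G v) u = QuadraticMap.polar Q (T v) u := by rw [hA v hv]
          _ = QuadraticMap.polar Q v (T u) := by rw [hTapp, hTapp]; exact hKf k hk v u
          _ = QuadraticMap.polar Q v (G u) := by rw [hA u hu]
          _ = QuadraticMap.polar Q (G u) v := QuadraticMap.polar_comm _ _ _
          _ = QuadraticMap.polar Q u ((aeval Yi gk) v) := by rw [hG]; exact hBpoly gk u v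
          _ = QuadraticMap.polar Q ((aeval Yi gk) v) u := QuadraticMap.polar_comm _ _ _
      rw [hsub, e1, sub_self]
    exact sub_eq_zero.mp hzero
  have hC : ∀ v ∈ W, (G ^ (Fintype.card F ^ j)) v = G v := fun v hv => by
    rw [← hGi]; exact (hB v hv).symm
  have hD : ∀ (n : ℕ), ∀ v ∈ W, (G ^ n) v = (k ^ n).mulVec v := by
    intro n
    induction n with
    | zero => intro v hv; simp
    | succ n ih =>
      intro v hv
      rw [pow_succ, Module.End.mul_apply, ih _ (hGW v hv), ← hA v hv, pow_succ,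
        ← Matrix.mulVec_mulVec, hTapp]
  have hfin : (k ^ (Fintype.card F ^ j) - k).mulVec (T' w0) = w0 := by
    rw [hT'app, Matrix.mulVec_mulVec, hkk', Matrix.one_mulVec]
  have hfin0 : (k ^ (Fintype.card F ^ j) - k).mulVec (T' w0) = 0 := by
    rw [Matrix.sub_mulVec, ← hD _ _ hw1, hC _ hw1, ← hA _ hw1, hTapp, sub_self]
  exact hw0 (hfin.symm.trans hfin0)

end Cfsg.Agent.Lib.helper96.FE
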