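import Mathlib
import Cfsg.Agent.S2504

/-!
Abelian subgroups of symmetric groups whose order equals the product of their orbit lengths:
numeric lemma, semiregularity, fullness, parity exclusions, local transfer lemmas.
-/

set_option autoImplicit false

namespace Cfsg.Agent.Lib.helper98

open MulAction Equiv

/-! ### numeric lemmas -/

theorem abalt_succ_cube (m : ℕ) (hm : 3 ≤ m) : (m + 1) ^ 3 ≤ 3 * m ^ 3 := by
  have h1 : 3 * m ≤ m * m := Nat.mul_le_mul_right m hm
  have h2 : 3 * (m * m) ≤ m * (m * m) := Nat.mul_le_mul_right _ hm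
  nlinarith [h1, h2]

theorem abalt_cube_le (m : ℕ) : m ^ 3 ≤ 3 ^ m := by
  rcases Nat.lt_or_ge m 3 with h | h
  · interval_cases m <;> norm_num
  · induction m, h using Nat.le_induction with
    | base => norm_num
    | succ m hm ih =>
      rw [pow_succ 3 m]
      have := abalt_succ_cube m hm
      omega

theorem abalt_big (m : ℕ) (hm : 5 ≤ m) : 6561 * m ^ 3 < 4096 * 3 ^ m := by
  induction m, hm using Nat.le_induction with
  | base => norm_num
  | succ m hm ih =>
    rw [pow_succ 3 m]
    have := abalt_succ_cube m (by omega)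
    omega

theorem abalt_small (m : ℕ) (h : 4096 * 3 ^ m ≤ 6561 * m ^ 3) : m = 2 ∨ m = 3 ∨ m = 4 := by
  rcases Nat.lt_or_ge m 5 with h5 | h5
  · interval_cases m <;> simp_all
  · exact absurd h (not_le.mpr (abalt_big m h5))

theorem abalt_numeric {Ω : Type*} [Fintype Ω] [DecidableEq Ω] (f : Ω → ℕ)
    (h : 4096 * 3 ^ (∑ ω, f ω) ≤ 6561 * (∏ ω, f ω) ^ 3) (ω₀ : Ω) :
    f ω₀ = 2 ∨ f ω₀ = 3 ∨ f ω₀ = 4 := by
  apply abalt_small
  have hS : 3 ^ (∑ ω, f ω) = 3 ^ f ω₀ * ∏ ω ∈ Finset.univ.erase ω₀, 3 ^ f ω := by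
    rw [← Finset.prod_pow_eq_pow_sum,
      Finset.mul_prod_erase _ (fun ω => 3 ^ f ω) (Finset.mem_univ ω₀)]
  have hP : (∏ ω, f ω) ^ 3 = f ω₀ ^ 3 * ∏ ω ∈ Finset.univ.erase ω₀, f ω ^ 3 := by
    rw [← Finset.prod_pow, Finset.mul_prod_erase _ (fun ω => f ω ^ 3) (Finset.mem_univ ω₀)]
  have hle : ∏ ω ∈ Finset.univ.erase ω₀, f ω ^ 3 ≤ ∏ ω ∈ Finset.univ.erase ω₀, 3 ^ f ω :=
    Finset.prod_le_prod (fun _ _ => Nat.zero_le _) (fun ω _ => abalt_cube_le (f ω))
  rw [hS, hP] at h
  have hQ : 0 < ∏ ω ∈ Finset.univ.erase ω₀, 3 ^ f ω :=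
    Finset.prod_pos (fun _ _ => by positivity)
  have key : 4096 * 3 ^ f ω₀ * ∏ ω ∈ Finset.univ.erase ω₀, 3 ^ f ω ≤
      6561 * f ω₀ ^ 3 * ∏ ω ∈ Finset.univ.erase ω₀, 3 ^ f ω := by
    calc 4096 * 3 ^ f ω₀ * ∏ ω ∈ Finset.univ.erase ω₀, 3 ^ f ω
        = 4096 * (3 ^ f ω₀ * ∏ ω ∈ Finset.univ.erase ω₀, 3 ^ f ω) := by ring
      _ ≤ 6561 * (f ω₀ ^ 3 * ∏ ω ∈ Finset.univ.erase ω₀, f ω ^ 3) := h
      _ ≤ 6561 * (f ω₀ ^ 3 * ∏ ω ∈ Finset.univ.erase ω₀, 3 ^ f ω) :=
        Nat.mul_le_mul_left _ (Nat.mul_le_mul_left _ hle)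
      _ = 6561 * f ω₀ ^ 3 * ∏ ω ∈ Finset.univ.erase ω₀, 3 ^ f ω := by ring
  exact Nat.le_of_mul_le_mul_right key hQ

/-! ### pigeonhole helpers -/

theorem abalt_card_le {α : Type*} [Finite α] (s : Set α) (t : Finset α) (h : ∀ x ∈ t, x ∈ s) :
    t.card ≤ Nat.card s := by
  rw [Nat.card_coe_set_eq, ← Set.ncard_coe_finset t]
  exact Set.ncard_le_ncard (fun x hx => h x (Finset.mem_coe.mp hx)) (Set.toFinite s)

theorem abalt_list_le {α : Type*} [Finite α] [DecidableEq α] (s : Set α) (l : List α)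
    (hl : l.Nodup) (h : ∀ x ∈ l, x ∈ s) : l.length ≤ Nat.card s := by
  rw [← List.toFinset_card_of_nodup hl]
  exact abalt_card_le s l.toFinset (fun x hx => h x (List.mem_toFinset.mp hx))

/-! ### orbits of a subgroup of `Perm α` -/

variable {α : Type*}

theorem abalt_mem_orbit_iff (A : Subgroup (Perm α)) (x y : α) :
    y ∈ orbit A x ↔ ∃ c ∈ A, c x = y := by
  constructor
  · rintro ⟨c, rfl⟩
    exact ⟨c.1, c.2, rfl⟩
  · rintro ⟨c, hc, rfl⟩
    exact ⟨⟨c, hc⟩, rfl⟩

theorem abalt_orbit_apply (A : Subgroup (Perm α)) {c : Perm α} (hc : c ∈ A) {x y : α}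
    (hy : y ∈ orbit A x) : c y ∈ orbit A x := by
  obtain ⟨d, hd, rfl⟩ := (abalt_mem_orbit_iff A x y).mp hy
  exact (abalt_mem_orbit_iff A x _).mpr ⟨c * d, mul_mem hc hd, rfl⟩

theorem abalt_orbit_symm (A : Subgroup (Perm α)) {x y : α} (hy : y ∈ orbit A x) :
    x ∈ orbit A y := mem_orbit_symm.mp hy

theorem abalt_orbit_trans (A : Subgroup (Perm α)) {x y z : α} (hy : y ∈ orbit A x)
    (hz : z ∈ orbit A y) : z ∈ orbit A x := by
  obtain ⟨d, hd, rfl⟩ := (abalt_mem_orbit_iff A y z).mp hz
  exact abalt_orbit_apply A hd hy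

theorem abalt_mem_orbit_out (A : Subgroup (Perm α)) (y : α) :
    y ∈ orbit A (Quotient.out (Quotient.mk'' y : orbitRel.Quotient A α) : α) := by
  have h1 : (Quotient.mk'' (Quotient.out (Quotient.mk'' y : orbitRel.Quotient A α) : α) :
      orbitRel.Quotient A α) = Quotient.mk'' y := Quotient.out_eq' _
  have h2 := Quotient.exact' h1
  exact (orbitRel_apply).mp (Setoid.symm' _ h2)

theorem abalt_comm (A : Subgroup (Perm α)) (hA : IsMulCommutative A) {a b : Perm α}
    (ha : a ∈ A) (hb : b ∈ A) : a * b = b * a :=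
  congrArg Subtype.val (hA.is_comm.comm ⟨a, ha⟩ ⟨b, hb⟩)

/-- two elements of an abelian permutation group agreeing at a point agree on its orbit -/
theorem abalt_semireg (A : Subgroup (Perm α)) (hA : IsMulCommutative A) {a b : Perm α}
    (ha : a ∈ A) (hb : b ∈ A) {x y : α} (hy : y ∈ orbit A x) (h : a x = b x) : a y = b y := by
  obtain ⟨c, hc, rfl⟩ := (abalt_mem_orbit_iff A x y).mp hy
  have h1 : a (c x) = c (a x) := by
    have := congrArg (fun p : Perm α => p x) (abalt_comm A hA ha hc)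
    simpa using this
  have h2 : b (c x) = c (b x) := by
    have := congrArg (fun p : Perm α => p x) (abalt_comm A hA hb hc)
    simpa using this
  rw [h1, h2, h]

theorem abalt_pow_card_orbit (A : Subgroup (Perm α)) (hA : IsMulCommutative A) {a : Perm α}
    (ha : a ∈ A) (x : α) : (a ^ Nat.card (orbit A x)) x = x := by
  have hnormal : (stabilizer A x).Normal := ⟨fun n hn g => by
    have : g * n * g⁻¹ = n := by
      rw [hA.is_comm.comm g n, mul_assoc, mul_inv_cancel, mul_one]
    rw [this]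
    exact hn⟩
  have := Subgroup.pow_index_mem (stabilizer A x) (⟨a, ha⟩ : A)
  rw [index_stabilizer, ← Nat.card_coe_set_eq] at this
  exact this

/-- fullness: a permutation agreeing orbitwise with elements of `A` lies in `A` -/
def AbFull (A : Subgroup (Perm α)) : Prop :=
  ∀ π : Perm α, (∀ x : α, ∃ a ∈ A, ∀ y ∈ orbit A x, π y = a y) → π ∈ A

theorem abalt_card_le_pi [Finite α] (A : Subgroup (Perm α)) (hA : IsMulCommutative A) :
    Function.Injective (fun (a : A) (ω : orbitRel.Quotient A α) =>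
        (⟨a • (Quotient.out ω : α), mem_orbit _ _⟩ : orbit A (Quotient.out ω : α))) := by
  intro a b hab
  apply Cfsg.Agent.S2504.eq_of_smul_out_eq A hA
  intro ω
  exact congrArg Subtype.val (congrFun hab ω)

theorem abalt_full [Finite α] (A : Subgroup (Perm α)) (hA : IsMulCommutative A)
    (hcard : Nat.card (∀ ω : orbitRel.Quotient A α, orbit A (Quotient.out ω : α)) ≤ Nat.card A) :
    AbFull A := by
  intro π hπ
  have hbij := (abalt_card_le_pi A hA).bijective_of_nat_card_le hcard
  choose a ha hagree using fun ω : orbitRel.Quotient A α => hπ (Quotient.out ω : α)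
  obtain ⟨b, hb⟩ := hbij.2 (fun ω => ⟨(a ω) (Quotient.out ω : α),
    (abalt_mem_orbit_iff A _ _).mpr ⟨a ω, ha ω, rfl⟩⟩)
  have hπb : π = (b : Perm α) := by
    ext y
    have hy := abalt_mem_orbit_out A y
    rw [hagree _ y hy]
    apply abalt_semireg A hA (ha _) b.2 hy
    have := congrArg Subtype.val (congrFun hb (Quotient.mk'' y))
    exact this.symm
  rw [hπb]
  exact b.2

/-! ### parity exclusions -/

theorem abalt_no_two [Fintype α] [DecidableEq α] (A : Subgroup (Perm α))
    (heven : A ≤ alternatingGroup α) (hfull : AbFull A) (x : α) :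
    Nat.card (orbit A x) ≠ 2 := by
  intro h2
  have h2' : (orbit A x).ncard = 2 := by rw [← Nat.card_coe_set_eq]; exact h2
  obtain ⟨y, hy, hyx⟩ := Set.exists_ne_of_one_lt_ncard (by omega : 1 < (orbit A x).ncard) x
  have hmem : ∀ w ∈ orbit A x, w = x ∨ w = y := by
    intro w hw
    by_contra hcon
    push Not at hcon
    have := abalt_list_le (orbit A x) [x, y, w] (by simp [hyx.symm, hcon.1.symm, hcon.2.symm])
      (by
        intro t ht
        simp only [List.mem_cons, List.not_mem_nil, or_false] at ht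
        rcases ht with rfl | rfl | rfl
        · exact mem_orbit_self _
        · exact hy
        · exact hw)
    simp only [List.length_cons, List.length_nil] at this
    omega
  obtain ⟨a, ha, hax⟩ := (abalt_mem_orbit_iff A x y).mp hy
  have hay : a y = x := by
    rcases hmem (a y) (abalt_orbit_apply A ha hy) with h | h
    · exact h
    · exfalso
      apply hyx
      apply a.injective
      rw [h, hax]
  have hsw : swap x y ∈ A := by
    apply hfull
    intro z
    by_cases hz : z ∈ orbit A x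
    · refine ⟨a, ha, fun w hw => ?_⟩
      rcases hmem w (abalt_orbit_trans A hz hw) with h | h
      · rw [h, swap_apply_left, hax]
      · rw [h, swap_apply_right, hay]
    · refine ⟨1, one_mem _, fun w hw => ?_⟩
      have hwx : w ≠ x := by
        rintro rfl
        exact hz (abalt_orbit_symm A hw)
      have hwy : w ≠ y := by
        rintro rfl
        exact hz (abalt_orbit_trans A hy (abalt_orbit_symm A hw))
      rw [swap_apply_of_ne_of_ne hwx hwy]
      rfl
  have hsign := Perm.mem_alternatingGroup.mp (heven hsw)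
  rw [Perm.sign_swap (Ne.symm hyx)] at hsign
  exact absurd hsign (by decide)

theorem abalt_four_invol [Fintype α] [DecidableEq α] (A : Subgroup (Perm α))
    (hA : IsMulCommutative A) (heven : A ≤ alternatingGroup α) (hfull : AbFull A) (x : α)
    (h4 : Nat.card (orbit A x) = 4) {a : Perm α} (ha : a ∈ A) : a (a x) = x := by
  by_contra h2
  have hp := abalt_pow_card_orbit A hA ha x
  rw [h4] at hp
  have hp' : a (a (a (a x))) = x := by simpa [pow_succ] using hp
  obtain ⟨x1, hx1⟩ : ∃ x1, x1 = a x := ⟨_, rfl⟩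
  obtain ⟨x2, hx2⟩ : ∃ x2, x2 = a x1 := ⟨_, rfl⟩
  obtain ⟨x3, hx3⟩ : ∃ x3, x3 = a x2 := ⟨_, rfl⟩
  rw [← hx1, ← hx2, ← hx3] at hp'
  rw [← hx1, ← hx2] at h2
  have h10 : x1 ≠ x := by
    intro h
    apply h2
    rw [hx2, h, ← hx1, h]
  have h30 : x3 ≠ x := by
    intro h
    rw [h] at hp'
    exact h10 (hx1.trans hp')
  have h21 : x2 ≠ x1 := by
    intro h
    apply h10
    apply a.injective
    rw [← hx2, ← hx1, h]
  have h31 : x3 ≠ x1 := by
    intro h
    apply h2
    apply a.injective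
    rw [← hx3, ← hx1, h]
  have h32 : x3 ≠ x2 := by
    intro h
    apply h21
    apply a.injective
    rw [← hx3, ← hx2, h]
  have m0 : x ∈ orbit A x := mem_orbit_self _
  have m1 : x1 ∈ orbit A x := by rw [hx1]; exact abalt_orbit_apply A ha m0
  have m2 : x2 ∈ orbit A x := by rw [hx2]; exact abalt_orbit_apply A ha m1
  have m3 : x3 ∈ orbit A x := by rw [hx3]; exact abalt_orbit_apply A ha m2
  have hmem : ∀ w ∈ orbit A x, w = x ∨ w = x1 ∨ w = x2 ∨ w = x3 := by
    intro w hw
    by_contra hcon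
    push Not at hcon
    have := abalt_list_le (orbit A x) [x, x1, x2, x3, w]
      (by simp [h10.symm, Ne.symm h2, h30.symm, h21.symm, h31.symm, h32.symm, hcon.1.symm,
        hcon.2.1.symm, hcon.2.2.1.symm, hcon.2.2.2.symm])
      (by
        intro t ht
        simp only [List.mem_cons, List.not_mem_nil, or_false] at ht
        rcases ht with rfl | rfl | rfl | rfl | rfl <;> assumption)
    simp only [List.length_cons, List.length_nil] at this
    omega
  have hπ : swap x x1 * swap x1 x2 * swap x2 x3 ∈ A := by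
    apply hfull
    intro z
    by_cases hz : z ∈ orbit A x
    · refine ⟨a, ha, fun w hw => ?_⟩
      rcases hmem w (abalt_orbit_trans A hz hw) with h | h | h | h
      · rw [h, Perm.mul_apply, Perm.mul_apply, swap_apply_of_ne_of_ne (Ne.symm h2) h30.symm,
          swap_apply_of_ne_of_ne h10.symm (Ne.symm h2), swap_apply_left]
        exact hx1
      · rw [h, Perm.mul_apply, Perm.mul_apply, swap_apply_of_ne_of_ne h21.symm h31.symm,
          swap_apply_left, swap_apply_of_ne_of_ne h2 h21]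
        exact hx2
      · rw [h, Perm.mul_apply, Perm.mul_apply, swap_apply_left,
          swap_apply_of_ne_of_ne h31 h32, swap_apply_of_ne_of_ne h30 h31]
        exact hx3
      · rw [h, Perm.mul_apply, Perm.mul_apply, swap_apply_right, swap_apply_right,
          swap_apply_right]
        exact hp'.symm
    · refine ⟨1, one_mem _, fun w hw => ?_⟩
      have hwn : w ∉ orbit A x := fun hw' =>
        hz (abalt_orbit_trans A hw' (abalt_orbit_symm A hw))
      have e0 : w ≠ x := by rintro rfl; exact hwn m0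
      have e1 : w ≠ x1 := by rintro rfl; exact hwn m1
      have e2 : w ≠ x2 := by rintro rfl; exact hwn m2
      have e3 : w ≠ x3 := by rintro rfl; exact hwn m3
      rw [Perm.mul_apply, Perm.mul_apply, swap_apply_of_ne_of_ne e2 e3,
        swap_apply_of_ne_of_ne e1 e2, swap_apply_of_ne_of_ne e0 e1]
      rfl
  have hsign := Perm.mem_alternatingGroup.mp (heven hπ)
  rw [map_mul, map_mul, Perm.sign_swap h10.symm, Perm.sign_swap h21.symm,
    Perm.sign_swap h32.symm] at hsign
  exact absurd hsign (by decide)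

/-! ### local transfer lemmas -/

theorem abalt_local3 [Fintype α] [DecidableEq α] (B : Subgroup (Perm α))
    (hB : IsMulCommutative B) (z : α) (h3 : Nat.card (orbit B z) = 3) (π : Perm α)
    (hpres : ∀ w ∈ orbit B z, π w ∈ orbit B z)
    (hfix : (∀ w ∈ orbit B z, π w = w) ∨ (∀ w ∈ orbit B z, π w ≠ w)) :
    ∃ b ∈ B, ∀ w ∈ orbit B z, π w = b w := by
  rcases hfix with hid | hfpf
  · exact ⟨1, one_mem _, fun w hw => hid w hw⟩
  have m0 : z ∈ orbit B z := mem_orbit_self _
  obtain ⟨b, hb, hbz⟩ := (abalt_mem_orbit_iff B z (π z)).mp (hpres z m0)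
  have hp := abalt_pow_card_orbit B hB hb z
  rw [h3] at hp
  have hp' : b (b (b z)) = z := by simpa [pow_succ] using hp
  obtain ⟨z1, hz1⟩ : ∃ z1, z1 = b z := ⟨_, rfl⟩
  obtain ⟨z2, hz2⟩ : ∃ z2, z2 = b z1 := ⟨_, rfl⟩
  rw [← hz1, ← hz2] at hp'
  have hπz : π z = z1 := hbz.symm.trans hz1.symm
  have h10 : z1 ≠ z := by
    intro h
    exact hfpf z m0 (hπz.trans h)
  have h20 : z2 ≠ z := by
    intro h
    rw [h] at hp'
    exact h10 (hz1.trans hp')
  have h21 : z2 ≠ z1 := by
    intro h
    apply h10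
    apply b.injective
    rw [← hz2, ← hz1, h]
  have m1 : z1 ∈ orbit B z := by rw [hz1]; exact abalt_orbit_apply B hb m0
  have m2 : z2 ∈ orbit B z := by rw [hz2]; exact abalt_orbit_apply B hb m1
  have hmem : ∀ w ∈ orbit B z, w = z ∨ w = z1 ∨ w = z2 := by
    intro w hw
    by_contra hcon
    push Not at hcon
    have := abalt_list_le (orbit B z) [z, z1, z2, w]
      (by simp [h10.symm, h20.symm, h21.symm, hcon.1.symm, hcon.2.1.symm, hcon.2.2.symm])
      (by
        intro t ht
        simp only [List.mem_cons, List.not_mem_nil, or_false] at ht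
        rcases ht with rfl | rfl | rfl | rfl <;> assumption)
    simp only [List.length_cons, List.length_nil] at this
    omega
  have hπ2 : π z2 = z := by
    rcases hmem (π z2) (hpres z2 m2) with h | h | h
    · exact h
    · exfalso
      exact h20 (π.injective (h.trans hπz.symm))
    · exact absurd h (hfpf z2 m2)
  have hπ1 : π z1 = z2 := by
    rcases hmem (π z1) (hpres z1 m1) with h | h | h
    · exfalso
      exact h21 (π.injective (hπ2.trans h.symm))
    · exact absurd h (hfpf z1 m1)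
    · exact h
  refine ⟨b, hb, fun w hw => ?_⟩
  rcases hmem w hw with h | h | h
  · rw [h]; exact hbz.symm
  · rw [h, hπ1, hz2]
  · rw [h, hπ2, hp']

theorem abalt_local4 [Fintype α] [DecidableEq α] (B : Subgroup (Perm α))
    (hB : IsMulCommutative B) (z : α) (h4 : Nat.card (orbit B z) = 4)
    (hV : ∀ b ∈ B, b (b z) = z) (π : Perm α)
    (hpres : ∀ w ∈ orbit B z, π w ∈ orbit B z)
    (hfix : (∀ w ∈ orbit B z, π w = w) ∨
      ((∀ w ∈ orbit B z, π w ≠ w) ∧ ∀ w ∈ orbit B z, π (π w) = w)) :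
    ∃ b ∈ B, ∀ w ∈ orbit B z, π w = b w := by
  rcases hfix with hid | ⟨hfpf, hinv⟩
  · exact ⟨1, one_mem _, fun w hw => hid w hw⟩
  have m0 : z ∈ orbit B z := mem_orbit_self _
  obtain ⟨b, hb, hbz⟩ := (abalt_mem_orbit_iff B z (π z)).mp (hpres z m0)
  have hbb := hV b hb
  have hbz0 : b z ≠ z := by
    intro h
    exact hfpf z m0 (hbz.symm.trans h)
  have m1 : b z ∈ orbit B z := abalt_orbit_apply B hb m0
  refine ⟨b, hb, fun w hw => ?_⟩
  by_cases hw0 : w = z
  · rw [hw0]; exact hbz.symm
  by_cases hw1 : w = b z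
  · rw [hw1, hbb, hbz, hinv z m0]
  have mbw : b w ∈ orbit B z := abalt_orbit_apply B hb hw
  have mπw : π w ∈ orbit B z := hpres w hw
  by_contra hne
  have hbw_w : b w ≠ w := by
    intro h
    exact hbz0 (abalt_semireg B hB hb (one_mem B) (abalt_orbit_symm B hw) (by simpa using h))
  have hbw_z : b w ≠ z := by
    intro h
    apply hw1
    apply b.injective
    rw [h, hbb]
  have hbw_bz : b w ≠ b z := fun h => hw0 (b.injective h)
  have hπw_w : π w ≠ w := hfpf w hw
  have hπw_z : π w ≠ z := by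
    intro h
    apply hw1
    calc w = π (π w) := (hinv w hw).symm
      _ = π z := by rw [h]
      _ = b z := hbz.symm
  have hπw_bz : π w ≠ b z := by
    intro h
    apply hw0
    apply π.injective
    rw [h, hbz]
  have := abalt_list_le (orbit B z) [z, b z, w, π w, b w]
    (by simp [hbz0.symm, Ne.symm hw0, hπw_z.symm, hbw_z.symm, Ne.symm hw1, hπw_bz.symm,
      hbw_bz.symm, hπw_w.symm, hbw_w.symm, hne])
    (by
      intro t ht
      simp only [List.mem_cons, List.not_mem_nil, or_false] at ht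
      rcases ht with rfl | rfl | rfl | rfl | rfl <;> assumption)
  simp only [List.length_cons, List.length_nil] at this
  omega

end Cfsg.Agent.Lib.helper98
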