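import Mathlib
import Cfsg.Agent.Lib.helper98.AbAltA

/-!
Full abelian permutation groups with all orbits of length 3 or 4 (of Klein type):
conjugacy by an even permutation.
-/

set_option autoImplicit false

namespace Cfsg.Agent.Lib.helper98

open MulAction Equiv

variable {α : Type*}

/-- the structure of a largest abelian group of even permutations -/
structure AbGood (A : Subgroup (Perm α)) : Prop where
  comm : IsMulCommutative A
  full : AbFull A
  card34 : ∀ x : α, Nat.card (orbit A x) = 3 ∨ Nat.card (orbit A x) = 4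
  invol : ∀ x : α, Nat.card (orbit A x) = 4 → ∀ a ∈ A, a (a x) = x
  cardprod : Nat.card A = Nat.card (∀ ω : orbitRel.Quotient A α, orbit A (Quotient.out ω : α))

theorem abalt_sum [Fintype α] (A : Subgroup (Perm α)) [Fintype (orbitRel.Quotient A α)] :
    ∑ ω : orbitRel.Quotient A α, Nat.card (orbit A (Quotient.out ω : α)) = Fintype.card α := by
  have := Nat.card_congr (selfEquivSigmaOrbits A α)
  rw [Nat.card_sigma, Nat.card_eq_fintype_card] at this
  exact this.symm

theorem abalt_orbit_out_card (A : Subgroup (Perm α)) (x : α) :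
    Nat.card (orbit A (Quotient.out (Quotient.mk'' x : orbitRel.Quotient A α) : α)) =
      Nat.card (orbit A x) := by
  rw [← orbit_eq_iff.mpr (abalt_mem_orbit_out A x)]

theorem abalt_good [Fintype α] [DecidableEq α] (A : Subgroup (Perm α)) (hA : IsMulCommutative A)
    (heven : A ≤ alternatingGroup α)
    (hcard : Nat.card A = Nat.card (∀ ω : orbitRel.Quotient A α, orbit A (Quotient.out ω : α)))
    (hnum : 4096 * 3 ^ Fintype.card α ≤ 6561 * (Nat.card A) ^ 3) : AbGood A := by
  classical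
  have : Fintype (orbitRel.Quotient A α) := Fintype.ofFinite _
  have hfull : AbFull A := abalt_full A hA hcard.ge
  have h234 : ∀ x : α, Nat.card (orbit A x) = 2 ∨ Nat.card (orbit A x) = 3 ∨
      Nat.card (orbit A x) = 4 := by
    intro x
    have h := abalt_numeric
      (fun ω : orbitRel.Quotient A α => Nat.card (orbit A (Quotient.out ω : α)))
      (by rw [abalt_sum A, ← Nat.card_pi, ← hcard]; exact hnum) (Quotient.mk'' x)
    simp only [abalt_orbit_out_card] at h
    exact h
  exact ⟨hA, hfull, fun x => (h234 x).resolve_left (abalt_no_two A heven hfull x),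
    fun x h4 a ha => abalt_four_invol A hA heven hfull x h4 ha, hcard⟩

theorem abalt_conj_le [Fintype α] [DecidableEq α] (A B : Subgroup (Perm α))
    (hA : IsMulCommutative A) (hB : IsMulCommutative B)
    (hAV : ∀ x : α, Nat.card (orbit A x) = 4 → ∀ a ∈ A, a (a x) = x)
    (hB34 : ∀ z : α, Nat.card (orbit B z) = 3 ∨ Nat.card (orbit B z) = 4)
    (hBV : ∀ z : α, Nat.card (orbit B z) = 4 → ∀ b ∈ B, b (b z) = z)
    (hBfull : AbFull B)
    (g : Perm α) (hg : ∀ x y, y ∈ orbit A x ↔ g y ∈ orbit B (g x))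
    {a : Perm α} (ha : a ∈ A) : g * a * g⁻¹ ∈ B := by
  apply hBfull
  intro z
  obtain ⟨x, rfl⟩ : ∃ x, g x = z := ⟨g⁻¹ z, by simp⟩
  have hcard : Nat.card (orbit B (g x)) = Nat.card (orbit A x) :=
    (Nat.card_congr (Equiv.subtypeEquiv g (fun y => hg x y))).symm
  have hπ : ∀ y, (g * a * g⁻¹) (g y) = g (a y) := by
    intro y
    simp
  have hpres : ∀ w ∈ orbit B (g x), (g * a * g⁻¹) w ∈ orbit B (g x) := by
    intro w hw
    obtain ⟨y, rfl⟩ : ∃ y, g y = w := ⟨g⁻¹ w, by simp⟩
    rw [hπ]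
    exact (hg x _).mp (abalt_orbit_apply A ha ((hg x y).mpr hw))
  have hdich : (∀ w ∈ orbit B (g x), (g * a * g⁻¹) w = w) ∨
      (∀ w ∈ orbit B (g x), (g * a * g⁻¹) w ≠ w) := by
    by_cases hax : a x = x
    · left
      intro w hw
      obtain ⟨y, rfl⟩ : ∃ y, g y = w := ⟨g⁻¹ w, by simp⟩
      rw [hπ]
      congr 1
      exact abalt_semireg A hA ha (one_mem A) ((hg x y).mpr hw) (by simpa using hax)
    · right
      intro w hw hfix
      obtain ⟨y, rfl⟩ : ∃ y, g y = w := ⟨g⁻¹ w, by simp⟩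
      rw [hπ] at hfix
      have hay : a y = y := g.injective hfix
      apply hax
      have := abalt_semireg A hA ha (one_mem A) (abalt_orbit_symm A ((hg x y).mpr hw))
        (by simpa using hay)
      simpa using this
  rcases hB34 (g x) with h3 | h4
  · exact abalt_local3 B hB (g x) h3 _ hpres hdich
  · apply abalt_local4 B hB (g x) h4 (hBV _ h4) _ hpres
    rcases hdich with h | h
    · exact Or.inl h
    · refine Or.inr ⟨h, fun w hw => ?_⟩
      obtain ⟨y, rfl⟩ : ∃ y, g y = w := ⟨g⁻¹ w, by simp⟩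
      rw [hπ, hπ]
      congr 1
      have hy := (hg x y).mpr hw
      have hoe : orbit A y = orbit A x := orbit_eq_iff.mpr hy
      exact hAV y (by rw [hoe, ← hcard]; exact h4) a ha

theorem abalt_prod_three_four {Ω : Type*} [Fintype Ω] (f : Ω → ℕ)
    (hf : ∀ ω, f ω = 3 ∨ f ω = 4) :
    ∏ ω, f ω = 3 ^ Fintype.card {ω // f ω = 3} * 4 ^ Fintype.card {ω // ¬ f ω = 3} := by
  have h1 : ∏ ω, f ω = ∏ ω, (if f ω = 3 then 3 else 4) := by
    apply Finset.prod_congr rfl
    intro ω _
    rcases hf ω with h | h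
    · rw [if_pos h, h]
    · rw [if_neg (by omega), h]
  rw [h1, Finset.prod_ite, Finset.prod_const, Finset.prod_const, Fintype.card_subtype,
    Fintype.card_subtype]

theorem abalt_pow_unique {a b a' b' : ℕ} (h : 3 ^ a * 4 ^ b = 3 ^ a' * 4 ^ b') :
    a = a' ∧ b = b' := by
  have hc : ∀ i j : ℕ, Nat.Coprime (3 ^ i) (4 ^ j) := fun i j =>
    Nat.Coprime.pow _ _ (by norm_num)
  have h1 : 3 ^ a ∣ 3 ^ a' := Nat.Coprime.dvd_of_dvd_mul_right (hc a b') (Dvd.intro _ h)
  have h2 : 3 ^ a' ∣ 3 ^ a := Nat.Coprime.dvd_of_dvd_mul_right (hc a' b) (Dvd.intro _ h.symm)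
  have e1 : a ≤ a' := (Nat.pow_dvd_pow_iff_le_right (by norm_num : 1 < 3)).mp h1
  have e2 : a' ≤ a := (Nat.pow_dvd_pow_iff_le_right (by norm_num : 1 < 3)).mp h2
  have ea : a = a' := le_antisymm e1 e2
  refine ⟨ea, ?_⟩
  rw [ea] at h
  have h3 : 4 ^ b = 4 ^ b' := Nat.eq_of_mul_eq_mul_left (by positivity) h
  exact Nat.pow_right_injective (by norm_num : 2 ≤ 4) h3

theorem abalt_exists_equiv [Fintype α] [DecidableEq α] (A B : Subgroup (Perm α))
    (hA : AbGood A) (hB : AbGood B) (hcard : Nat.card A = Nat.card B) :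
    ∃ e : orbitRel.Quotient A α ≃ orbitRel.Quotient B α,
      ∀ ω, Nat.card (orbit B (Quotient.out (e ω) : α)) =
        Nat.card (orbit A (Quotient.out ω : α)) := by
  classical
  have : Fintype (orbitRel.Quotient A α) := Fintype.ofFinite _
  have : Fintype (orbitRel.Quotient B α) := Fintype.ofFinite _
  obtain ⟨fA, hfA⟩ : ∃ fA : orbitRel.Quotient A α → ℕ,
      fA = fun ω => Nat.card (orbit A (Quotient.out ω : α)) := ⟨_, rfl⟩
  obtain ⟨fB, hfB⟩ : ∃ fB : orbitRel.Quotient B α → ℕ,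
      fB = fun ω => Nat.card (orbit B (Quotient.out ω : α)) := ⟨_, rfl⟩
  have hA34 : ∀ ω, fA ω = 3 ∨ fA ω = 4 := fun ω => by rw [hfA]; exact hA.card34 _
  have hB34 : ∀ ω, fB ω = 3 ∨ fB ω = 4 := fun ω => by rw [hfB]; exact hB.card34 _
  have hpA := abalt_prod_three_four fA hA34
  have hpB := abalt_prod_three_four fB hB34
  have hA' : Nat.card A = ∏ ω, fA ω := by rw [hA.cardprod, Nat.card_pi, hfA]
  have hB' : Nat.card B = ∏ ω, fB ω := by rw [hB.cardprod, Nat.card_pi, hfB]
  have hEq : 3 ^ Fintype.card {ω // fA ω = 3} * 4 ^ Fintype.card {ω // ¬ fA ω = 3} =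
      3 ^ Fintype.card {ω // fB ω = 3} * 4 ^ Fintype.card {ω // ¬ fB ω = 3} := by
    rw [← hpA, ← hpB, ← hA', ← hB', hcard]
  have huniq := abalt_pow_unique hEq
  obtain ⟨E3⟩ := Fintype.card_eq.mp huniq.1
  obtain ⟨E4⟩ := Fintype.card_eq.mp huniq.2
  refine ⟨(Equiv.sumCompl (fun ω => fA ω = 3)).symm.trans
    ((Equiv.sumCongr E3 E4).trans (Equiv.sumCompl (fun ω => fB ω = 3))), fun ω => ?_⟩
  have hgoal : ∀ ω' : orbitRel.Quotient B α, fB ω' = fA ω →
      Nat.card (orbit B (Quotient.out ω' : α)) = Nat.card (orbit A (Quotient.out ω : α)) := by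
    intro ω' h
    rw [hfA, hfB] at h
    exact h
  apply hgoal
  by_cases h : fA ω = 3
  · rw [Equiv.trans_apply,
      Equiv.sumCompl_symm_apply_of_pos (p := fun ω => fA ω = 3) (a := ω) h]
    show fB ((E3 ⟨ω, h⟩ : {ω // fB ω = 3}) : orbitRel.Quotient B α) = fA ω
    exact (E3 ⟨ω, h⟩).2.trans h.symm
  · rw [Equiv.trans_apply,
      Equiv.sumCompl_symm_apply_of_neg (p := fun ω => fA ω = 3) (a := ω) h]
    show fB ((E4 ⟨ω, h⟩ : {ω // ¬ fB ω = 3}) : orbitRel.Quotient B α) = fA ω
    have h4 : fA ω = 4 := (hA34 _).resolve_left h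
    have h4' : fB (E4 ⟨ω, h⟩) = 4 := (hB34 _).resolve_left (E4 ⟨ω, h⟩).2
    exact h4'.trans h4.symm

theorem abalt_exists_perm [Finite α] (A B : Subgroup (Perm α))
    (e : orbitRel.Quotient A α ≃ orbitRel.Quotient B α)
    (he : ∀ ω, Nat.card (orbit B (Quotient.out (e ω) : α)) =
        Nat.card (orbit A (Quotient.out ω : α))) :
    ∃ g : Perm α, ∀ x y, y ∈ orbit A x ↔ g y ∈ orbit B (g x) := by
  have E : ∀ ω, orbit A (Quotient.out ω : α) ≃ orbit B (Quotient.out (e ω) : α) :=
    fun ω => (Finite.card_eq.mp (he ω).symm).some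
  have key : ∀ x, ((selfEquivSigmaOrbits A α).trans
      ((Equiv.sigmaCongr e E).trans (selfEquivSigmaOrbits B α).symm)) x ∈
        orbit B (Quotient.out (e (Quotient.mk'' x)) : α) := by
    intro x
    exact (E _ _).2
  refine ⟨(selfEquivSigmaOrbits A α).trans
      ((Equiv.sigmaCongr e E).trans (selfEquivSigmaOrbits B α).symm), fun x y => ?_⟩
  have hx := key x
  have hy := key y
  constructor
  · intro h
    have hq : (Quotient.mk'' y : orbitRel.Quotient A α) = Quotient.mk'' x :=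
      Quotient.sound' (orbitRel_apply.mpr h)
    rw [hq] at hy
    exact abalt_orbit_trans B (abalt_orbit_symm B hx) hy
  · intro h
    have h1 : (Quotient.out (e (Quotient.mk'' y)) : α) ∈
        orbit B (Quotient.out (e (Quotient.mk'' x)) : α) :=
      abalt_orbit_trans B hx (abalt_orbit_trans B h (abalt_orbit_symm B hy))
    have h2 : (Quotient.mk'' (Quotient.out (e (Quotient.mk'' y)) : α) :
        orbitRel.Quotient B α) = Quotient.mk'' (Quotient.out (e (Quotient.mk'' x)) : α) :=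
      Quotient.sound' (orbitRel_apply.mpr h1)
    rw [Quotient.out_eq', Quotient.out_eq'] at h2
    have h3 := e.injective h2
    exact orbitRel_apply.mp (Quotient.exact' h3)

theorem abalt_exists_even [Fintype α] [DecidableEq α] (A B : Subgroup (Perm α))
    (h34 : ∀ x : α, Nat.card (orbit A x) = 3 ∨ Nat.card (orbit A x) = 4)
    (g : Perm α) (hg : ∀ x y, y ∈ orbit A x ↔ g y ∈ orbit B (g x)) :
    ∃ g' : Perm α, Perm.sign g' = 1 ∧ ∀ x y, y ∈ orbit A x ↔ g' y ∈ orbit B (g' x) := by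
  by_cases hs : Perm.sign g = 1
  · exact ⟨g, hs, hg⟩
  have hs' : Perm.sign g = -1 := (Int.units_eq_one_or _).resolve_left hs
  have hne : g ≠ 1 := by
    rintro rfl
    exact hs (map_one _)
  obtain ⟨x₀, -⟩ : ∃ x, g x ≠ x := by
    by_contra hcon
    push Not at hcon
    exact hne (Equiv.ext hcon)
  have hcard : 1 < (orbit A x₀).ncard := by
    rw [← Nat.card_coe_set_eq]
    rcases h34 x₀ with h | h <;> omega
  obtain ⟨y₀, hy₀, hne₀⟩ := Set.exists_ne_of_one_lt_ncard hcard x₀
  have ht : ∀ w, swap x₀ y₀ w ∈ orbit A w := by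
    intro w
    by_cases h0 : w = x₀
    · rw [h0, swap_apply_left]
      exact hy₀
    by_cases h1 : w = y₀
    · rw [h1, swap_apply_right]
      exact abalt_orbit_symm A hy₀
    · rw [swap_apply_of_ne_of_ne h0 h1]
      exact mem_orbit_self _
  refine ⟨g * swap x₀ y₀, ?_, fun x y => ?_⟩
  · rw [map_mul, hs', Perm.sign_swap hne₀.symm]
    decide
  · rw [Perm.mul_apply, Perm.mul_apply, ← hg]
    constructor
    · intro h
      exact abalt_orbit_trans A (abalt_orbit_symm A (ht x)) (abalt_orbit_trans A h (ht y))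
    · intro h
      exact abalt_orbit_trans A (ht x) (abalt_orbit_trans A h (abalt_orbit_symm A (ht y)))

/-- two good groups of the same order are conjugate by an even permutation -/
theorem abalt_conj [Fintype α] [DecidableEq α] (A B : Subgroup (Perm α)) (hA : AbGood A)
    (hB : AbGood B) (hcard : Nat.card A = Nat.card B) :
    ∃ g : Perm α, Perm.sign g = 1 ∧ ∀ b, b ∈ B ↔ g⁻¹ * b * g ∈ A := by
  obtain ⟨e, he⟩ := abalt_exists_equiv A B hA hB hcard
  obtain ⟨g₀, hg₀⟩ := abalt_exists_perm A B e he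
  obtain ⟨g, hs, hg⟩ := abalt_exists_even A B hA.card34 g₀ hg₀
  refine ⟨g, hs, fun b => ⟨fun hb => ?_, fun hb => ?_⟩⟩
  · have hg' : ∀ z w, w ∈ orbit B z ↔ g⁻¹ w ∈ orbit A (g⁻¹ z) := by
      intro z w
      rw [hg (g⁻¹ z) (g⁻¹ w)]
      simp
    have := abalt_conj_le B A hB.comm hA.comm hB.invol hA.card34 hA.invol hA.full g⁻¹ hg' hb
    simpa using this
  · have := abalt_conj_le A B hA.comm hB.comm hA.invol hB.card34 hB.invol hB.full g hg hb
    have e : g * (g⁻¹ * b * g) * g⁻¹ = b := by group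
    rwa [e] at this

end Cfsg.Agent.Lib.helper98
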