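import Mathlib
import Cfsg.Agent.Lib.helper98.AbAltB

/-!
Largest abelian subgroups of alternating groups: bounds on the orbit product, the exceptional
configuration, transfer between `Subgroup (alternatingGroup (Fin n))` and `Subgroup (Perm (Fin n))`,
and the degree five case.
-/

set_option autoImplicit false

open scoped Pointwise

namespace Cfsg.Agent.Lib.helper98

open MulAction Equiv Cfsg.Agent.S2505 Cfsg.Agent.S2504

variable {α : Type*}

/-- the exceptional configuration (one orbit of length 2, all others of length 3) does not occur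
for an abelian group of even permutations -/
theorem abalt_no_exceptional [Fintype α] [DecidableEq α] (A : Subgroup (Perm α))
    (hA : IsMulCommutative A) (heven : A ≤ alternatingGroup α) (x₀ : α)
    (h2 : Nat.card (orbit A x₀) = 2)
    (h3 : ∀ y : α, y ∉ orbit A x₀ → Nat.card (orbit A y) = 3) : False := by
  have h2' : (orbit A x₀).ncard = 2 := by rw [← Nat.card_coe_set_eq]; exact h2
  obtain ⟨y₀, hy₀, hyx⟩ :=
    Set.exists_ne_of_one_lt_ncard (by omega : 1 < (orbit A x₀).ncard) x₀
  have hmem : ∀ w ∈ orbit A x₀, w = x₀ ∨ w = y₀ := by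
    intro w hw
    by_contra hcon
    push Not at hcon
    have := abalt_list_le (orbit A x₀) [x₀, y₀, w]
      (by simp [hyx.symm, hcon.1.symm, hcon.2.symm])
      (by
        intro t ht
        simp only [List.mem_cons, List.not_mem_nil, or_false] at ht
        rcases ht with rfl | rfl | rfl
        · exact mem_orbit_self _
        · exact hy₀
        · exact hw)
    simp only [List.length_cons, List.length_nil] at this
    omega
  obtain ⟨a, ha, hax⟩ := (abalt_mem_orbit_iff A x₀ y₀).mp hy₀
  have hay : a y₀ = x₀ := by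
    rcases hmem (a y₀) (abalt_orbit_apply A ha hy₀) with h | h
    · exact h
    · exfalso
      apply hyx
      apply a.injective
      rw [h, hax]
  have hsw : a ^ 3 = swap x₀ y₀ := by
    ext w
    by_cases hw0 : w = x₀
    · rw [hw0, swap_apply_left]
      simp [pow_succ, hax, hay]
    by_cases hw1 : w = y₀
    · rw [hw1, swap_apply_right]
      simp [pow_succ, hax, hay]
    · rw [swap_apply_of_ne_of_ne hw0 hw1]
      have hw : w ∉ orbit A x₀ := by
        intro h
        rcases hmem w h with h | h
        · exact hw0 h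
        · exact hw1 h
      have := abalt_pow_card_orbit A hA ha w
      rwa [h3 w hw] at this
  have hsign := Perm.mem_alternatingGroup.mp (heven (pow_mem ha 3))
  rw [hsw, Perm.sign_swap hyx.symm] at hsign
  exact absurd hsign (by decide)

theorem abalt_pi_le_maxProd [Fintype α] (A : Subgroup (Perm α)) :
    Nat.card (∀ ω : orbitRel.Quotient A α, orbit A (Quotient.out ω : α)) ≤
      maxProd (Fintype.card α) := by
  classical
  have : Fintype (orbitRel.Quotient A α) := Fintype.ofFinite _
  rw [Nat.card_pi, ← abalt_sum A]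
  exact prod_le_maxProd Finset.univ _
    (fun ω _ => Nat.card_pos_iff.mpr ⟨⟨⟨_, mem_orbit_self _⟩⟩, inferInstance⟩)

theorem abalt_pi_le_sixteen [Fintype α] [DecidableEq α] (A : Subgroup (Perm α))
    (hA : IsMulCommutative A) (heven : A ≤ alternatingGroup α) (k : ℕ) (hk : 2 ≤ k)
    (hcard : Fintype.card α = 3 * k + 2) :
    Nat.card (∀ ω : orbitRel.Quotient A α, orbit A (Quotient.out ω : α)) ≤
      16 * 3 ^ (k - 2) := by
  classical
  have : Fintype (orbitRel.Quotient A α) := Fintype.ofFinite _
  rw [Nat.card_pi]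
  have hf : ∀ ω ∈ (Finset.univ : Finset (orbitRel.Quotient A α)),
      1 ≤ Nat.card (orbit A (Quotient.out ω : α)) :=
    fun ω _ => Nat.card_pos_iff.mpr ⟨⟨⟨_, mem_orbit_self _⟩⟩, inferInstance⟩
  rcases numeric Finset.univ
    (fun ω : orbitRel.Quotient A α => Nat.card (orbit A (Quotient.out ω : α))) hf k hk
    (by rw [abalt_sum A, hcard]) with h | ⟨ω₀, -, h2, h3⟩
  · exact h
  · exfalso
    apply abalt_no_exceptional A hA heven (Quotient.out ω₀ : α) h2
    intro y hy
    rw [← abalt_orbit_out_card]
    apply h3 _ (Finset.mem_univ _)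
    intro hω
    apply hy
    rw [← hω]
    exact abalt_mem_orbit_out A y

theorem abalt_good_of_bounds [Fintype α] [DecidableEq α] (A : Subgroup (Perm α))
    (hA : IsMulCommutative A) (heven : A ≤ alternatingGroup α) (c : ℕ) (hc : c ≤ Nat.card A)
    (hpi : Nat.card (∀ ω : orbitRel.Quotient A α, orbit A (Quotient.out ω : α)) ≤ c)
    (hnum : 4096 * 3 ^ Fintype.card α ≤ 6561 * c ^ 3) : AbGood A := by
  have h1 : Nat.card A ≤
      Nat.card (∀ ω : orbitRel.Quotient A α, orbit A (Quotient.out ω : α)) :=
    Nat.card_le_card_of_injective _ (abalt_card_le_pi A hA)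
  have h2 : Nat.card A = c := by omega
  exact abalt_good A hA heven (by omega) (by rw [h2]; exact hnum)

theorem abalt_map_comm {n : ℕ} (A : Subgroup (alternatingGroup (Fin n)))
    (hA : IsMulCommutative A) :
    IsMulCommutative (A.map (alternatingGroup (Fin n)).subtype) := by
  refine ⟨⟨fun x y => ?_⟩⟩
  obtain ⟨x, hx⟩ := x
  obtain ⟨y, hy⟩ := y
  obtain ⟨a, ha, rfl⟩ := hx
  obtain ⟨b, hb, rfl⟩ := hy
  apply Subtype.ext
  show (alternatingGroup (Fin n)).subtype a * (alternatingGroup (Fin n)).subtype b =
    (alternatingGroup (Fin n)).subtype b * (alternatingGroup (Fin n)).subtype a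
  rw [← map_mul, ← map_mul]
  congr 1
  exact congrArg Subtype.val (hA.is_comm.comm ⟨a, ha⟩ ⟨b, hb⟩)

theorem abalt_good_of_max {n : ℕ} (A : Subgroup (alternatingGroup (Fin n)))
    (hA : IsMulCommutative A)
    (hAmax : ∀ C : Subgroup (alternatingGroup (Fin n)), IsMulCommutative C →
      Nat.card C ≤ Nat.card A)
    (c : ℕ) (hex : ∃ C : Subgroup (alternatingGroup (Fin n)), IsMulCommutative C ∧ Nat.card C = c)
    (hpi : ∀ A' : Subgroup (Perm (Fin n)), IsMulCommutative A' → A' ≤ alternatingGroup (Fin n) →
      Nat.card (∀ ω : orbitRel.Quotient A' (Fin n), orbit A' (Quotient.out ω : Fin n)) ≤ c)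
    (hnum : 4096 * 3 ^ n ≤ 6561 * c ^ 3) :
    AbGood (A.map (alternatingGroup (Fin n)).subtype) := by
  obtain ⟨C, hC, rfl⟩ := hex
  have hc := hAmax C hC
  have hA' := abalt_map_comm A hA
  have heven : A.map (alternatingGroup (Fin n)).subtype ≤ alternatingGroup (Fin n) :=
    Subgroup.map_subtype_le _
  have hcard : Nat.card (A.map (alternatingGroup (Fin n)).subtype) = Nat.card A :=
    Subgroup.card_map_of_injective (Subgroup.subtype_injective _)
  exact abalt_good_of_bounds _ hA' heven (Nat.card C) (by rw [hcard]; exact hc)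
    (hpi _ hA' heven) (by rw [Fintype.card_fin]; exact hnum)

theorem abalt_conj_of_good {n : ℕ} (A B : Subgroup (alternatingGroup (Fin n)))
    (hA : AbGood (A.map (alternatingGroup (Fin n)).subtype))
    (hB : AbGood (B.map (alternatingGroup (Fin n)).subtype))
    (hcard : Nat.card A = Nat.card B) :
    ∃ g : alternatingGroup (Fin n), B = MulAut.conj g • A := by
  obtain ⟨g, hs, hg⟩ := abalt_conj _ _ hA hB (by
    rw [Subgroup.card_map_of_injective (Subgroup.subtype_injective _),
      Subgroup.card_map_of_injective (Subgroup.subtype_injective _), hcard])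
  refine ⟨⟨g, Perm.mem_alternatingGroup.mpr hs⟩, ?_⟩
  ext b
  rw [Subgroup.mem_pointwise_smul_iff_inv_smul_mem, MulAut.smul_def, MulAut.conj_inv_apply,
    ← Subgroup.mem_map_iff_mem (Subgroup.subtype_injective (alternatingGroup (Fin n))) (K := B),
    ← Subgroup.mem_map_iff_mem (Subgroup.subtype_injective (alternatingGroup (Fin n))) (K := A)]
  exact hg b.1

theorem abalt_trivial {G : Type*} [Group G] [Subsingleton G] (A B : Subgroup G) :
    ∃ g : G, B = MulAut.conj g • A := by
  refine ⟨1, ?_⟩
  rw [map_one, one_smul, Subgroup.eq_bot_of_subsingleton A, Subgroup.eq_bot_of_subsingleton B]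

theorem abalt_subsingleton_alt (n : ℕ) (hn : n < 3) :
    Subsingleton (alternatingGroup (Fin n)) := by
  interval_cases n
  · infer_instance
  · infer_instance
  · have := two_mul_nat_card_alternatingGroup (α := Fin 2)
    rw [Nat.card_perm, Nat.card_fin] at this
    have h2 : Nat.factorial 2 = 2 := by decide
    have h1 : Nat.card (alternatingGroup (Fin 2)) ≤ 1 := by omega
    exact Finite.card_le_one_iff_subsingleton.mp h1

theorem abalt_hasAbEven_five : HasAbEven 5 5 := by
  refine ⟨Subgroup.zpowers (finRotate 5), inferInstance, ?_, ?_⟩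
  · rw [Nat.card_zpowers, ← Equiv.Perm.lcm_cycleType, cycleType_finRotate_of_le (by omega)]
    simp
  · rw [Subgroup.zpowers_le, Equiv.Perm.mem_alternatingGroup, sign_finRotate]
    decide

theorem abalt_sylow_five (A B : Subgroup (alternatingGroup (Fin 5))) (hA : Nat.card A = 5)
    (hB : Nat.card B = 5) : ∃ g : alternatingGroup (Fin 5), B = MulAut.conj g • A := by
  have : Fact (Nat.Prime 5) := ⟨by norm_num⟩
  have hG : Nat.card (alternatingGroup (Fin 5)) = 60 := by
    have := two_mul_nat_card_alternatingGroup (α := Fin 5)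
    rw [Nat.card_perm, Nat.card_fin] at this
    have h120 : Nat.factorial 5 = 120 := by decide
    omega
  have hidx : ∀ C : Subgroup (alternatingGroup (Fin 5)), Nat.card C = 5 → ¬ 5 ∣ C.index := by
    intro C hC
    have := C.card_mul_index
    rw [hC, hG] at this
    have h12 : C.index = 12 := by omega
    rw [h12]
    decide
  obtain ⟨P, hP⟩ : ∃ P : Sylow 5 (alternatingGroup (Fin 5)),
      (P : Subgroup (alternatingGroup (Fin 5))) = A :=
    ⟨_, IsPGroup.toSylow_coe (IsPGroup.of_card (n := 1) (by rw [hA, pow_one])) (hidx A hA)⟩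
  obtain ⟨Q, hQ⟩ : ∃ Q : Sylow 5 (alternatingGroup (Fin 5)),
      (Q : Subgroup (alternatingGroup (Fin 5))) = B :=
    ⟨_, IsPGroup.toSylow_coe (IsPGroup.of_card (n := 1) (by rw [hB, pow_one])) (hidx B hB)⟩
  obtain ⟨g, hg⟩ := MulAction.exists_smul_eq (alternatingGroup (Fin 5)) P Q
  refine ⟨g, ?_⟩
  have h := Sylow.coe_subgroup_smul (g := g) (P := P)
  rw [hg, hQ, hP] at h
  exact h

theorem abalt_five_not_six (A' : Subgroup (Perm (Fin 5))) (hgood : AbGood A') : False := by
  classical
  have : Fintype (orbitRel.Quotient A' (Fin 5)) := Fintype.ofFinite _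
  have hsum := abalt_sum A'
  rw [Fintype.card_fin] at hsum
  have hlow : (Finset.univ : Finset (orbitRel.Quotient A' (Fin 5))).card • 3 ≤
      ∑ ω : orbitRel.Quotient A' (Fin 5), Nat.card (orbit A' (Quotient.out ω : Fin 5)) :=
    Finset.card_nsmul_le_sum _ _ 3 (fun ω _ => by
      rcases hgood.card34 (Quotient.out ω) with h | h <;> omega)
  have hup : ∑ ω : orbitRel.Quotient A' (Fin 5), Nat.card (orbit A' (Quotient.out ω : Fin 5)) ≤
      (Finset.univ : Finset (orbitRel.Quotient A' (Fin 5))).card • 4 :=
    Finset.sum_le_card_nsmul _ _ 4 (fun ω _ => by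
      rcases hgood.card34 (Quotient.out ω) with h | h <;> omega)
  rw [hsum] at hlow hup
  simp only [smul_eq_mul] at hlow hup
  omega

theorem abalt_five_case (A B : Subgroup (alternatingGroup (Fin 5)))
    (hA : IsMulCommutative A) (hB : IsMulCommutative B)
    (hAmax : ∀ C : Subgroup (alternatingGroup (Fin 5)), IsMulCommutative C →
      Nat.card C ≤ Nat.card A)
    (hBmax : ∀ C : Subgroup (alternatingGroup (Fin 5)), IsMulCommutative C →
      Nat.card C ≤ Nat.card B) :
    ∃ g : alternatingGroup (Fin 5), B = MulAut.conj g • A := by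
  have hAB : Nat.card A = Nat.card B := le_antisymm (hBmax A hA) (hAmax B hB)
  obtain ⟨C, hC, hC5⟩ := toSub abalt_hasAbEven_five
  have h5 : 5 ≤ Nat.card A := by
    have := hAmax C hC
    omega
  have hmp : maxProd 5 = 6 := by decide
  have h6 : Nat.card A ≤ 6 := by
    have := card_le_maxProd (A.map (alternatingGroup (Fin 5)).subtype) (abalt_map_comm A hA)
    rw [Subgroup.card_map_of_injective (Subgroup.subtype_injective _), Fintype.card_fin,
      hmp] at this
    exact this
  rcases (by omega : Nat.card A = 5 ∨ Nat.card A = 6) with hA5 | hA6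
  · exact abalt_sylow_five A B hA5 (hAB.symm.trans hA5)
  · exfalso
    apply abalt_five_not_six (A.map (alternatingGroup (Fin 5)).subtype)
    refine abalt_good_of_max A hA hAmax 6 ⟨A, hA, hA6⟩ (fun A' hA' _ => ?_) (by norm_num)
    have := abalt_pi_le_maxProd A'
    rwa [Fintype.card_fin, hmp] at this

end Cfsg.Agent.Lib.helper98
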