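import Mathlib
import Cfsg.Agent.S1350
import Cfsg.Agent.S1429
import Cfsg.Agent.S1430
import Cfsg.Agent.Lib.helper97.BGFitA
import Cfsg.Agent.Lib.helper26.BG1375
import Cfsg.Agent.Lib.helper29.FittingHall
import Cfsg.Agent.Lib.helper29.Trans
import Cfsg.Agent.Lib.helper69.BGKappaB
import Cfsg.Agent.Lib.helper13.BG11a
import Cfsg.Agent.Lib.lead.Hall

/-!
# S1389 from the frozen S1363

For a maximal subgroup `M` of a minimal simple group of odd order, with `M_s = typeCore M`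
(`M'` when `M` is of Type III or IV, `M_F` otherwise):

* every nontrivial Sylow subgroup `P` of `M_s` has `N_G(P) ≤ M`;
* `M_F` and `M_s` are Hall subgroups of `G`.

The only input beyond landed rows is the frozen statement S1363 (`H1363`): for a
`σ`-decomposition `(K, U)` of `M` with `K ≠ 1`, `N_G(U) ≰ M`.  It is used to show that for `M` of
Type III or IV, `M' = M_σ`.
-/

set_option autoImplicit false

namespace Cfsg.Agent.Lib.helper98.BG1389

open Cfsg Subgroup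

universe u

variable {G : Type u} [Group G]

/-- The frozen statement S1363 as a hypothesis. -/
def H1363 (G : Type*) [Group G] : Prop :=
  ∀ (M : Subgroup G), IsCoatom M → ∀ K U : Subgroup G, IsSigmaDecomposition M K U → K ≠ ⊥ →
    IsMulCommutative U ∧ ¬ Subgroup.normalizer (U : Set G) ≤ M

/-- A maximal subgroup has a Hall `κ(M)`-subgroup. -/
theorem exists_hall_kappa [Finite G] (hG : IsMinSimpleOddOrder G) (M : Subgroup G)
    (hM : IsCoatom M) : ∃ K : Subgroup G, IsPiHallOf (kappa M) K M := by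
  have hsolv : Group.IsSolvable ↥M := Cfsg.Agent.Lib.helper97.bg8_solvable hG M hM M le_rfl
  obtain ⟨H, hH⟩ := Cfsg.Agent.Lib.lead.exists_isPiHall_of_isSolvable (kappa M) ↥M
  have e : (H.map M.subtype).subgroupOf M = H :=
    Subgroup.comap_map_eq_self_of_injective (Subgroup.subtype_injective M) H
  refine ⟨H.map M.subtype, Subgroup.map_subtype_le H, fun p hp hd => ?_, fun p hp hpk hd => ?_⟩
  · rw [Subgroup.card_subtype] at hd
    exact hH.1 p hp hd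
  · apply hH.2 p hp hpk
    rwa [Subgroup.relIndex, e] at hd

/-- For `M` of type `P` with `|W₁|` prime and `N_G(U) ≤ M` (Types III and IV), every prime
divisor of `|M'|` lies in `σ(M)`. -/
theorem typeP_primes_sigma [Finite G] (hG : IsMinSimpleOddOrder G) (h1363 : H1363 G)
    (M : Subgroup G) (hM : IsCoatom M) (W₁ U W₂ : Subgroup G) (hP : IsTypePWith M W₁ U W₂)
    (hw : (Nat.card W₁).Prime) (hNU : normalizer (U : Set G) ≤ M) :
    ∀ p : ℕ, p.Prime → p ∣ Nat.card ↥⁅M, M⁆ → p ∈ sigma M := by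
  intro p hp hpD
  by_contra hpσ
  have hHall : IsPiHallOf (sigma M) (sigmaCore M) M := (Cfsg.Agent.S1350.result hG M hM).1
  have hDM : ⁅M, M⁆ ≤ M := hP.W₁_compl.1
  have hW₁M : W₁ ≤ M := hP.W₁_compl.2.1
  have hDW : ⁅M, M⁆ ⊓ W₁ = ⊥ := hP.W₁_compl.2.2.1
  have hFσ : fittingHallOf M ≤ sigmaCore M := Cfsg.Agent.Lib.helper97.bgf_fitHallOf_le hG M hM
  have hσD : sigmaCore M ≤ ⁅M, M⁆ := Cfsg.Agent.Lib.helper97.bgf_sigmaCore_le_comm hG M hM
  have hσM : sigmaCore M ≤ M := Cfsg.Agent.Lib.helper71.BGA.sigmaCore_le M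
  have hσnorm : M ≤ normalizer (sigmaCore M : Set G) :=
    Cfsg.Agent.Lib.helper71.BGA.le_normalizer_sigmaCore M
  have hMσn : ∀ m ∈ M, ∀ y ∈ sigmaCore M, m * y * m⁻¹ ∈ sigmaCore M :=
    Subgroup.le_normalizer_iff.mp hσnorm
  have hDnorm : M ≤ normalizer ((⁅M, M⁆ : Subgroup G) : Set G) :=
    Cfsg.Agent.Lib.helper69.bgk_le_normalizer_commutator Subgroup.le_normalizer
      Subgroup.le_normalizer
  have hDn : ∀ m ∈ M, ∀ d ∈ ⁅M, M⁆, m * d * m⁻¹ ∈ ⁅M, M⁆ := Subgroup.le_normalizer_iff.mp hDnorm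
  -- cardinalities
  have hcard : Nat.card ↥⁅M, M⁆ * Nat.card W₁ = Nat.card M :=
    Cfsg.Agent.Lib.helper29.IsComplIn.card_mul hP.W₁_compl
  have hrel : W₁.relIndex M = Nat.card ↥⁅M, M⁆ :=
    (Cfsg.Agent.Lib.helper29.IsComplIn.card_left hP.W₁_compl).symm
  obtain ⟨w, hwdef⟩ : ∃ w : ℕ, w = Nat.card W₁ := ⟨_, rfl⟩
  rw [← hwdef] at hw hcard
  have hwD : ¬ w ∣ Nat.card ↥⁅M, M⁆ := by
    have h := hP.W₁_hall
    rw [hrel, ← hwdef] at h
    exact (Nat.Prime.coprime_iff_not_dvd hw).mp h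
  have hwM : w ∣ Nat.card M := by rw [← hcard]; exact dvd_mul_left _ _
  have hwσ : w ∉ sigma M := by
    intro h
    have h1 : ¬ w ∣ (sigmaCore M).relIndex M := hHall.2.2 w hw h
    have h2 := Cfsg.Agent.Lib.helper69.bgk_card_mul_relIndex hHall.1
    rw [← h2] at hwM
    rcases (Nat.Prime.dvd_mul hw).mp hwM with h3 | h3
    · exact hwD (h3.trans (Subgroup.card_dvd_of_le hσD))
    · exact h1 h3
  -- elements of `W₁` and `W₂`
  obtain ⟨-, hW₂ne, -⟩ := hP.selfNormalizing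
  obtain ⟨⟨y₀, hy₀⟩, hy₀1⟩ := Subgroup.ne_bot_iff_exists_ne_one.mp hW₂ne
  obtain ⟨⟨x₀, hx₀⟩, hx₀1⟩ := Subgroup.ne_bot_iff_exists_ne_one.mp hP.W₁_ne
  have hx₀1' : x₀ ≠ 1 := fun h => hx₀1 (Subtype.ext h)
  have hy₀1' : y₀ ≠ 1 := fun h => hy₀1 (Subtype.ext h)
  have hW₂eq := hP.W₂_centralizer x₀ hx₀ hx₀1'
  have hW₂F : W₂ ≤ fittingHallOf M := hP.W₂_le.trans inf_le_left
  have hy₀σ : y₀ ∈ sigmaCore M := hFσ (hW₂F hy₀)
  have hcomm₀ : x₀ * y₀ = y₀ * x₀ := by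
    have h : y₀ ∈ ⁅M, M⁆ ⊓ centralizer ({x₀} : Set G) := by rw [hW₂eq]; exact hy₀
    exact Subgroup.mem_centralizer_iff.mp (Subgroup.mem_inf.mp h).2 x₀ rfl
  have : Fact w.Prime := ⟨hw⟩
  -- `w ∈ κ(M)`
  have hwκ : w ∈ kappa M := by
    refine ⟨hw, hwM, hwσ, fun P => ?_⟩
    have hPcard : Nat.card (P : Subgroup M) = w := by
      rw [Sylow.card_eq_multiplicity]
      have h1 : (Nat.card M).factorization w = 1 := by
        rw [← hcard, Nat.factorization_mul Nat.card_pos.ne' hw.pos.ne']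
        simp [Nat.factorization_eq_zero_of_not_dvd hwD, hw.factorization_self]
      rw [h1, pow_one]
    refine ⟨isCyclic_of_prime_card (p := w) hPcard, ?_⟩
    have hzp : IsPGroup w (W₁.subgroupOf M) := by
      apply IsPGroup.of_card (n := 1)
      rw [pow_one, Nat.card_congr (Subgroup.subgroupOfEquivOfLe hW₁M).toEquiv, hwdef]
    obtain ⟨Q, hQ⟩ := hzp.exists_le_sylow
    obtain ⟨g, hg⟩ := MulAction.exists_smul_eq M Q P
    refine ⟨g * ⟨x₀, hW₁M hx₀⟩ * g⁻¹, ?_, ?_, (g : G) * y₀ * (g : G)⁻¹, hMσn g g.2 y₀ hy₀σ, ?_, ?_⟩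
    · rw [← hg, Cfsg.Agent.Lib.helper69.bg1210_mem_smul_sylow]
      have h1 : g⁻¹ * (g * ⟨x₀, hW₁M hx₀⟩ * g⁻¹) * g = ⟨x₀, hW₁M hx₀⟩ := by group
      rw [h1]
      exact hQ (Subgroup.mem_subgroupOf.mpr hx₀)
    · intro h
      apply hx₀1'
      have h2 : (⟨x₀, hW₁M hx₀⟩ : M) = g⁻¹ * (g * ⟨x₀, hW₁M hx₀⟩ * g⁻¹) * g := by group
      rw [h] at h2
      have h3 : (⟨x₀, hW₁M hx₀⟩ : M) = 1 := by rw [h2]; group
      exact congrArg Subtype.val h3
    · intro h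
      apply hy₀1'
      have h2 : y₀ = (g : G)⁻¹ * ((g : G) * y₀ * (g : G)⁻¹) * (g : G) := by group
      rw [h2, h]; group
    · show (g : G) * x₀ * (g : G)⁻¹ * ((g : G) * y₀ * (g : G)⁻¹) =
        (g : G) * y₀ * (g : G)⁻¹ * ((g : G) * x₀ * (g : G)⁻¹)
      calc (g : G) * x₀ * (g : G)⁻¹ * ((g : G) * y₀ * (g : G)⁻¹)
          = (g : G) * (x₀ * y₀) * (g : G)⁻¹ := by group
        _ = (g : G) * (y₀ * x₀) * (g : G)⁻¹ := by rw [hcomm₀]
        _ = (g : G) * y₀ * (g : G)⁻¹ * ((g : G) * x₀ * (g : G)⁻¹) := by group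
  -- a Hall `κ(M)`-subgroup `K₀`
  obtain ⟨K₀, hK₀⟩ := exists_hall_kappa hG M hM
  have hK₀card : w ∣ Nat.card K₀ := by
    have e := Cfsg.Agent.Lib.helper69.bgk_card_mul_relIndex hK₀.1
    have h := hwM
    rw [← e] at h
    rcases (Nat.Prime.dvd_mul hw).mp h with h | h
    · exact h
    · exact absurd h (hK₀.2.2 w hw hwκ)
  have hK₀1 : K₀ ≠ ⊥ := by
    intro h
    rw [h, Subgroup.card_bot] at hK₀card
    exact hw.one_lt.ne' (Nat.dvd_one.mp hK₀card)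
  have hW₁p : IsPGroup w W₁ := IsPGroup.of_card (n := 1) (by rw [pow_one, hwdef])
  obtain ⟨g, hgM, hg⟩ := Cfsg.Agent.Lib.helper69.bgk_conj_into_hall hK₀ (p := w) hwκ hW₁M hW₁p
  obtain ⟨X, hX⟩ : ∃ X : Subgroup G, X = W₁.map (MulAut.conj g).toMonoidHom := ⟨_, rfl⟩
  have hXK : X ≤ K₀ := by
    rw [hX]
    rintro _ ⟨b, hb, rfl⟩
    exact hg b hb
  have hXcard : (Nat.card X).Prime := by
    rw [hX, Subgroup.card_map_of_injective (MulAut.conj g).injective, ← hwdef]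
    exact hw
  have h30 := Cfsg.Agent.S1430.result hG M hM K₀ hK₀ hK₀1
  have hNX := (h30.2.2 X hXK hXcard).1
  have hK₀NX : K₀ ≤ normalizer (X : Set G) := by
    have h : K₀ ≤ M ⊓ normalizer (X : Set G) := by rw [hNX]; exact le_sup_left
    exact h.trans inf_le_right
  -- `K₀ ∩ M' = 1`
  have hK₀D : K₀ ⊓ ⁅M, M⁆ = ⊥ := by
    rw [eq_bot_iff]
    intro k hk
    obtain ⟨hkK, hkD⟩ := Subgroup.mem_inf.mp hk
    rw [Subgroup.mem_bot]
    have hgi : g⁻¹ ∈ M := M.inv_mem hgM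
    have hcD : g⁻¹ * k * g ∈ ⁅M, M⁆ := by
      have h := hDn g⁻¹ hgi k hkD
      rwa [inv_inv] at h
    have hx' : g * x₀ * g⁻¹ ∈ X := by rw [hX]; exact ⟨x₀, hx₀, rfl⟩
    have h1 : k * (g * x₀ * g⁻¹) * k⁻¹ ∈ X := (Subgroup.le_normalizer_iff.mp hK₀NX) k hkK _ hx'
    rw [hX] at h1
    obtain ⟨b, hb, hbe⟩ := h1
    have hbe' : g * b * g⁻¹ = k * (g * x₀ * g⁻¹) * k⁻¹ := hbe
    have h2 : (g⁻¹ * k * g) * x₀ * (g⁻¹ * k * g)⁻¹ = b := by
      have h : b = g⁻¹ * (g * b * g⁻¹) * g := by group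
      rw [h, hbe']; group
    have h3 : (g⁻¹ * k * g) * x₀ * (g⁻¹ * k * g)⁻¹ * x₀⁻¹ ∈ ⁅M, M⁆ ⊓ W₁ := by
      refine Subgroup.mem_inf.mpr ⟨?_, ?_⟩
      · have h4 : x₀ * (g⁻¹ * k * g)⁻¹ * x₀⁻¹ ∈ ⁅M, M⁆ :=
          hDn x₀ (hW₁M hx₀) _ (Subgroup.inv_mem _ hcD)
        have h5 := Subgroup.mul_mem _ hcD h4
        have e : (g⁻¹ * k * g) * x₀ * (g⁻¹ * k * g)⁻¹ * x₀⁻¹ =
            (g⁻¹ * k * g) * (x₀ * (g⁻¹ * k * g)⁻¹ * x₀⁻¹) := by group
        rw [e]; exact h5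
      · rw [h2]; exact W₁.mul_mem hb (W₁.inv_mem hx₀)
    rw [hDW, Subgroup.mem_bot] at h3
    have h6 : x₀ * (g⁻¹ * k * g) = (g⁻¹ * k * g) * x₀ := by
      calc x₀ * (g⁻¹ * k * g)
          = ((g⁻¹ * k * g) * x₀ * (g⁻¹ * k * g)⁻¹ * x₀⁻¹)⁻¹ * ((g⁻¹ * k * g) * x₀) := by group
        _ = (g⁻¹ * k * g) * x₀ := by rw [h3, inv_one, one_mul]
    have h7 : g⁻¹ * k * g ∈ ⁅M, M⁆ ⊓ centralizer ({x₀} : Set G) := by
      refine Subgroup.mem_inf.mpr ⟨hcD, ?_⟩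
      rw [Subgroup.mem_centralizer_iff]
      intro z hz
      rw [Set.mem_singleton_iff.mp hz]
      exact h6
    rw [hW₂eq] at h7
    have h8 : g⁻¹ * k * g ∈ sigmaCore M := hFσ (hW₂F h7)
    have h9 : k ∈ sigmaCore M := by
      have h := hMσn g hgM _ h8
      have e : g * (g⁻¹ * k * g) * g⁻¹ = k := by group
      rwa [e] at h
    have h10 : k ∈ K₀ ⊓ sigmaCore M := Subgroup.mem_inf.mpr ⟨hkK, h9⟩
    rw [Cfsg.Agent.Lib.helper69.bgk_K_inf_sigmaCore hK₀ hHall, Subgroup.mem_bot] at h10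
    exact h10
  -- `|K₀| = w`
  have hK₀Dn : K₀ ≤ normalizer ((⁅M, M⁆ : Subgroup G) : Set G) := hK₀.1.trans hDnorm
  have hcompl : IsComplIn ⁅M, M⁆ K₀ (⁅M, M⁆ ⊔ K₀) := by
    refine ⟨le_sup_left, le_sup_right, ?_, fun m hm => ?_⟩
    · rw [inf_comm]; exact hK₀D
    · exact Cfsg.Agent.Lib.helper29.exists_mul_of_mem_sup_of_le_normalizer hK₀Dn hm
  have hc2 : Nat.card ↥⁅M, M⁆ * Nat.card K₀ = Nat.card ↥(⁅M, M⁆ ⊔ K₀) :=
    Cfsg.Agent.Lib.helper29.IsComplIn.card_mul hcompl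
  have hc3 : Nat.card ↥(⁅M, M⁆ ⊔ K₀) ∣ Nat.card M := Subgroup.card_dvd_of_le (sup_le hDM hK₀.1)
  have hK₀w : Nat.card K₀ = w := by
    rw [← hc2, ← hcard] at hc3
    have h1 : Nat.card K₀ ∣ w := Nat.dvd_of_mul_dvd_mul_left Nat.card_pos hc3
    rcases (Nat.dvd_prime hw).mp h1 with h | h
    · rw [h] at hK₀card
      exact absurd (Nat.dvd_one.mp hK₀card) hw.one_lt.ne'
    · exact h
  -- `W₁` is a Hall `κ(M)`-subgroup
  have hW₁κ : IsPiHallOf (kappa M) W₁ M := by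
    refine ⟨hW₁M, fun q hq hqd => ?_, fun q hq hqκ hqd => ?_⟩
    · rw [← hwdef] at hqd
      have h : q = w := (Nat.prime_dvd_prime_iff_eq hq hw).mp hqd
      rw [h]; exact hwκ
    · apply hK₀.2.2 q hq hqκ
      have e1 := Cfsg.Agent.Lib.helper69.bgk_card_mul_relIndex hK₀.1
      have e2 := Cfsg.Agent.Lib.helper69.bgk_card_mul_relIndex hW₁M
      rw [hK₀w] at e1
      rw [← hwdef] at e2
      have h : K₀.relIndex M = W₁.relIndex M := Nat.eq_of_mul_eq_mul_left hw.pos (e1.trans e2.symm)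
      rw [h]; exact hqd
  have hpκ : p ∉ kappa M := by
    intro h
    have h1 := hW₁κ.2.2 p hp h
    rw [hrel] at h1
    exact h1 hpD
  -- `M_σ` is nilpotent, hence `M_σ = M_F`
  have hpM : p ∣ Nat.card M := hpD.trans (Subgroup.card_dvd_of_le hDM)
  have : Fact p.Prime := ⟨hp⟩
  obtain ⟨S⟩ : Nonempty (Sylow p M) := inferInstance
  have hnil : Group.IsNilpotent (sigmaCore M) :=
    (Cfsg.Agent.S1429.result hG M hM (fun h => hpκ (h p hp hpM hpσ)) p hpM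
      (fun h => h.elim hpσ hpκ) S).2.2
  have hσF : sigmaCore M = fittingHallOf M :=
    Cfsg.Agent.Lib.helper26.BG1375.sigmaCore_eq_fittingHallOf hG hM hnil
  -- `(W₁, U)` is a `σ`-decomposition
  have hUD : U ≤ ⁅M, M⁆ := hP.U_compl.2.1
  have hFU : fittingHallOf M ⊓ U = ⊥ := hP.U_compl.2.2.1
  have hdec : IsSigmaDecomposition M W₁ U := by
    refine ⟨hP.W₁_cyclic, hW₁κ, ⟨hUD.trans hDM, sup_le hW₁M hσM, ?_, fun m hm => ?_⟩, hP.U_normal⟩
    · rw [eq_bot_iff]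
      intro z hz
      obtain ⟨hzU, hzS⟩ := Subgroup.mem_inf.mp hz
      rw [sup_comm] at hzS
      obtain ⟨s, hs, b, hb, hzsb⟩ :=
        Cfsg.Agent.Lib.helper29.exists_mul_of_mem_sup_of_le_normalizer (hW₁M.trans hσnorm) hzS
      have hbD : b ∈ ⁅M, M⁆ := by
        have h1 : s⁻¹ * z ∈ ⁅M, M⁆ :=
          Subgroup.mul_mem _ (Subgroup.inv_mem _ (hσD hs)) (hUD hzU)
        rwa [hzsb, inv_mul_cancel_left] at h1
      have hb1 : b = 1 := by
        have h : b ∈ ⁅M, M⁆ ⊓ W₁ := Subgroup.mem_inf.mpr ⟨hbD, hb⟩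
        rwa [hDW, Subgroup.mem_bot] at h
      rw [hb1, mul_one] at hzsb
      have h : z ∈ fittingHallOf M ⊓ U := by
        refine Subgroup.mem_inf.mpr ⟨?_, hzU⟩
        rw [← hσF, hzsb]; exact hs
      rwa [hFU] at h
    · obtain ⟨d, hd, b, hb, hmdb⟩ := hP.W₁_compl.2.2.2 m hm
      obtain ⟨h, hh, u, hu, hdhu⟩ := hP.U_compl.2.2.2 d hd
      refine ⟨u, hu, (u⁻¹ * h * u) * b, ?_, ?_⟩
      · apply Subgroup.mul_mem _ (Subgroup.mem_sup_right ?_) (Subgroup.mem_sup_left hb)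
        have huM : u⁻¹ ∈ M := M.inv_mem (hDM (hUD hu))
        have h1 := hMσn u⁻¹ huM h (hFσ hh)
        rwa [inv_inv] at h1
      · rw [hmdb, hdhu]; group
  exact (h1363 M hM W₁ U hdec hP.W₁_ne).2 hNU

/-- For `M` of Type III or IV, `M' = M_σ`. -/
theorem commutator_eq_sigmaCore [Finite G] (hG : IsMinSimpleOddOrder G) (h1363 : H1363 G)
    (M : Subgroup G) (hM : IsCoatom M) (h : IsOfTypeIII M ∨ IsOfTypeIV M) :
    ⁅M, M⁆ = sigmaCore M := by
  have hσD : sigmaCore M ≤ ⁅M, M⁆ := Cfsg.Agent.Lib.helper97.bgf_sigmaCore_le_comm hG M hM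
  have hDnorm : M ≤ normalizer ((⁅M, M⁆ : Subgroup G) : Set G) :=
    Cfsg.Agent.Lib.helper69.bgk_le_normalizer_commutator Subgroup.le_normalizer
      Subgroup.le_normalizer
  have key : ∀ W₁ U W₂ : Subgroup G, IsTypePWith M W₁ U W₂ → (Nat.card W₁).Prime →
      normalizer (U : Set G) ≤ M → ⁅M, M⁆ = sigmaCore M := by
    intro W₁ U W₂ hP hw hNU
    have hprimes := typeP_primes_sigma hG h1363 M hM W₁ U W₂ hP hw hNU
    exact le_antisymm (Cfsg.Agent.Lib.helper29.le_piCoreOf hP.W₁_compl.1 hDnorm hprimes) hσD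
  rcases h with ⟨W₁, U, W₂, hP, -, hw, -, -, hNU⟩ | ⟨W₁, U, W₂, hP, -, hw, -, -, hNU⟩
  · exact key W₁ U W₂ hP hw hNU
  · exact key W₁ U W₂ hP hw hNU

/-- A subgroup of `M_σ` which is a Hall subgroup of `M` is a Hall subgroup of `G`. -/
theorem coprime_index_of_le_sigmaCore [Finite G] (hG : IsMinSimpleOddOrder G) (M : Subgroup G)
    (hM : IsCoatom M) (H : Subgroup G) (hH : H ≤ sigmaCore M)
    (hcop : (Nat.card H).Coprime (H.relIndex M)) : (Nat.card H).Coprime H.index := by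
  have hHall : IsPiHallOf (sigma M) (sigmaCore M) M := (Cfsg.Agent.S1350.result hG M hM).1
  have hσM : sigmaCore M ≤ M := Cfsg.Agent.Lib.helper71.BGA.sigmaCore_le M
  apply Nat.coprime_of_dvd
  intro k hk h1 h2
  have hkσ : k ∈ sigma M := hHall.2.1 k hk (h1.trans (Subgroup.card_dvd_of_le hH))
  rw [← Subgroup.relIndex_mul_index (hH.trans hσM)] at h2
  rcases (Nat.Prime.dvd_mul hk).mp h2 with h3 | h3
  · have h4 : k ∣ 1 := by
      have h5 := Nat.dvd_gcd h1 h3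
      rwa [Nat.Coprime.gcd_eq_one hcop] at h5
    exact hk.one_lt.ne' (Nat.dvd_one.mp h4)
  · exact Cfsg.Agent.Lib.helper8.bg_sigma_not_dvd_index M hkσ h3

/-- The normalizer of a nontrivial Sylow subgroup of a Hall subgroup `T ≤ M_σ` of `G` lies in `M`. -/
theorem sylow_normalizer_le [Finite G] (hG : IsMinSimpleOddOrder G) (M : Subgroup G)
    (hM : IsCoatom M) (T : Subgroup G) (hT : T ≤ sigmaCore M)
    (hTcop : (Nat.card T).Coprime T.index) (p : ℕ) (hp : p.Prime) (P : Sylow p ↥T)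
    (hP1 : (P : Subgroup ↥T) ≠ ⊥) :
    normalizer ((((P : Subgroup ↥T).map T.subtype : Subgroup G)) : Set G) ≤ M := by
  have hHall : IsPiHallOf (sigma M) (sigmaCore M) M := (Cfsg.Agent.S1350.result hG M hM).1
  have hσM : sigmaCore M ≤ M := Cfsg.Agent.Lib.helper71.BGA.sigmaCore_le M
  have : Fact p.Prime := ⟨hp⟩
  have hpP : p ∣ Nat.card (P : Subgroup ↥T) := by
    rcases P.isPGroup'.card_eq_or_dvd with h | h
    · exact absurd (Subgroup.eq_bot_of_card_eq _ h) hP1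
    · exact h
  have hpT : p ∣ Nat.card T := hpP.trans (Subgroup.card_subgroup_dvd_card _)
  have hpσ : p ∈ sigma M := hHall.2.1 p hp (hpT.trans (Subgroup.card_dvd_of_le hT))
  have hXT : (P : Subgroup ↥T).map T.subtype ≤ T := Subgroup.map_subtype_le _
  have e : ((P : Subgroup ↥T).map T.subtype).subgroupOf T = (P : Subgroup ↥T) :=
    Subgroup.comap_map_eq_self_of_injective (Subgroup.subtype_injective T) _
  have hidx : ¬ p ∣ ((P : Subgroup ↥T).map T.subtype).index := by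
    rw [← Subgroup.relIndex_mul_index hXT, Subgroup.relIndex, e]
    intro h
    rcases (Nat.Prime.dvd_mul hp).mp h with h3 | h3
    · exact P.not_dvd_index h3
    · have h4 : p ∣ 1 := by
        have h5 := Nat.dvd_gcd hpT h3
        rwa [Nat.Coprime.gcd_eq_one hTcop] at h5
      exact hp.one_lt.ne' (Nat.dvd_one.mp h4)
  exact Cfsg.Agent.Lib.helper13.sigma_normalizer_le M hpσ _ (hXT.trans (hT.trans hσM))
    (P.isPGroup'.map T.subtype) hidx

/-- **S1389** from the frozen S1363. -/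
theorem bg1389 [Finite G] (hG : IsMinSimpleOddOrder G) (h1363 : H1363 G)
    (M : Subgroup G) (hM : IsCoatom M) :
    (∀ (p : ℕ), p.Prime → ∀ (P : Sylow p ↥(Cfsg.typeCore M)),
        (P : Subgroup ↥(Cfsg.typeCore M)) ≠ ⊥ →
        Subgroup.normalizer ((((P : Subgroup ↥(Cfsg.typeCore M)).map (Cfsg.typeCore M).subtype :
          Subgroup G)) : Set G) ≤ M) ∧
      (Nat.card (Cfsg.fittingHallOf M)).Coprime (Cfsg.fittingHallOf M).index ∧
      (Nat.card (Cfsg.typeCore M)).Coprime (Cfsg.typeCore M).index := by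
  have hHall : IsPiHallOf (sigma M) (sigmaCore M) M := (Cfsg.Agent.S1350.result hG M hM).1
  have hFσ : fittingHallOf M ≤ sigmaCore M := Cfsg.Agent.Lib.helper97.bgf_fitHallOf_le hG M hM
  have hFcop := Cfsg.Agent.Lib.helper29.fittingHallOf_coprime M
  have hT : typeCore M ≤ sigmaCore M ∧
      (Nat.card (typeCore M)).Coprime ((typeCore M).relIndex M) := by
    by_cases h : IsOfTypeIII M ∨ IsOfTypeIV M
    · have e : typeCore M = ⁅M, M⁆ := by unfold typeCore; rw [if_pos h]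
      rw [e, commutator_eq_sigmaCore hG h1363 M hM h]
      exact ⟨le_rfl, Cfsg.Agent.Lib.helper69.bgk_hall_coprime hHall⟩
    · have e : typeCore M = fittingHallOf M := by unfold typeCore; rw [if_neg h]
      rw [e]
      exact ⟨hFσ, hFcop⟩
  have hTG := coprime_index_of_le_sigmaCore hG M hM _ hT.1 hT.2
  exact ⟨fun p hp P hP1 => sylow_normalizer_le hG M hM _ hT.1 hTG p hp P hP1,
    coprime_index_of_le_sigmaCore hG M hM _ hFσ hFcop, hTG⟩

end Cfsg.Agent.Lib.helper98.BG1389
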