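import Mathlib
import Cfsg.Prelude.Def_OddOrderLocal
import Cfsg.Agent.Lib.helper71.BGTwelveFour
import Cfsg.Agent.Lib.helper13.BG11a
import Cfsg.Agent.Lib.helper12.FrobFixB
import Cfsg.Agent.Lib.helper27.Radical

/-!
# Bender–Glauberman, the `τ₁`-asymmetry lemma: step (2)

`M ≠ L` maximal subgroups, `p ∈ τ₁(M)`, `P ≤ M ∩ L` of order `p`, `Q ≤ M ∩ L` a `q`-subgroup
(`q ∉ α(M)`) normalized by `P` with `C_Q(P) = 1` and `N_G(Q) ≤ L`.  If `M_α ≠ 1` then
`C_{M_α}(P) ≰ L`.  (Fixed point formula for the Frobenius group `QP` acting on `M_α` and on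
`M_α ∩ L`.)
-/

set_option autoImplicit false

namespace Cfsg.Agent.Lib.helper98.BGAsym

open Cfsg

/-- **Step (2) of the asymmetry lemma.** -/
theorem asym_cent_not_le {G : Type*} [Group G] [Finite G] (hG : IsMinSimpleOddOrder G)
    (M L : Subgroup G) (hM : IsCoatom M) (hL : IsCoatom L) (hne : L ≠ M)
    (p : ℕ) (hp : p ∈ tau1 M) (P : Subgroup G) (hPM : P ≤ M) (hPL : P ≤ L) (hP : Nat.card P = p)
    (q : ℕ) (hq : q.Prime) (hqα : q ∉ alpha M) (Q : Subgroup G) (hQ : IsPGroup q Q)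
    (hQM : Q ≤ M) (hQL : Q ≤ L) (hPQ : P ≤ Subgroup.normalizer (Q : Set G))
    (hQP : Q ⊓ Subgroup.centralizer (P : Set G) = ⊥)
    (hNQ : Subgroup.normalizer (Q : Set G) ≤ L) (hα : alphaCore M ≠ ⊥) :
    ¬ alphaCore M ⊓ Subgroup.centralizer (P : Set G) ≤ L := by
  intro hle
  have hU := Cfsg.Agent.Lib.helper13.bgx_uniq hG
  have hF := Cfsg.Agent.Lib.helper13.bgx_fus hG
  obtain ⟨hodd, hsimple, hna, hsolv⟩ := id hG
  have hpp : p.Prime := hp.1
  have : Fact q.Prime := ⟨hq⟩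
  have hαM : alphaCore M ≤ M := Cfsg.Agent.Lib.helper71.BGA.alphaCore_le M
  obtain ⟨hHallM, -, -, -, -⟩ :=
    Cfsg.Agent.Lib.helper8.bg_alpha_core_statement hG hU hF M hM
  have hP1 : P ≠ ⊥ := by
    rintro rfl
    rw [Subgroup.card_bot] at hP
    exact hpp.one_lt.ne hP
  have hUn : ∀ e ∈ P, ∀ u ∈ Q, e * u * e⁻¹ ∈ Q := by
    intro e he u hu
    exact ((Subgroup.mem_normalizer_iff).mp (hPQ he) u).mp hu
  have hfpf : ∀ e ∈ P, e ≠ 1 → ∀ u ∈ Q, e * u = u * e → u = 1 := by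
    intro e he he1 u hu hcomm
    have hgen : Subgroup.zpowers (⟨e, he⟩ : P) = ⊤ := by
      have hprime : Fact p.Prime := ⟨hpp⟩
      refine zpowers_eq_top_of_prime_card hP ?_
      intro h
      exact he1 (congrArg Subtype.val h)
    have huC : u ∈ Subgroup.centralizer (P : Set G) := by
      rw [Subgroup.mem_centralizer_iff]
      intro x hx
      have hx' : (⟨x, hx⟩ : P) ∈ Subgroup.zpowers (⟨e, he⟩ : P) := by
        rw [hgen]; exact Subgroup.mem_top _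
      obtain ⟨k, hk⟩ := hx'
      have hxe : x = e ^ k := by
        have := congrArg Subtype.val hk
        simpa using this.symm
      rw [hxe]
      have hc : Commute e u := hcomm
      exact (hc.zpow_left k).eq
    have hmem : u ∈ Q ⊓ Subgroup.centralizer (P : Set G) := ⟨hu, huC⟩
    rw [hQP] at hmem
    exact Subgroup.mem_bot.mp hmem
  have hQPM : Q ⊔ P ≤ M := sup_le hQM hPM
  have hQPL : Q ⊔ P ≤ L := sup_le hQL hPL
  have hHn1 : ∀ x ∈ Q ⊔ P, ∀ h ∈ alphaCore M, x * h * x⁻¹ ∈ alphaCore M := by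
    intro x hx h hh
    exact ((Subgroup.mem_normalizer_iff).mp
      (Cfsg.Agent.Lib.helper71.BGA.le_normalizer_alphaCore M (hQPM hx)) h).mp hh
  have hHn2 : ∀ x ∈ Q ⊔ P, ∀ h ∈ alphaCore M ⊓ L, x * h * x⁻¹ ∈ alphaCore M ⊓ L := by
    intro x hx h hh
    exact ⟨hHn1 x hx h hh.1, L.mul_mem (L.mul_mem (hQPL hx) hh.2) (L.inv_mem (hQPL hx))⟩
  have hsolv1 : Group.IsSolvable ↥(alphaCore M) := hsolv _ (ne_top_of_le_ne_top hM.1 hαM)
  have hsolv2 : Group.IsSolvable ↥(alphaCore M ⊓ L) :=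
    hsolv _ (ne_top_of_le_ne_top hM.1 (inf_le_left.trans hαM))
  have hpα : p ∉ alpha M := by
    intro h
    apply h.2
    intro A hc he
    exact (hp.2.2.2.2 A hc he).trans (Nat.pow_le_pow_right hpp.pos (by norm_num))
  have hcardQP : Nat.card ↥(Q ⊔ P) ∣ Nat.card Q * Nat.card P := by
    have h := Cfsg.Agent.Lib.helper27.card_sup_dvd_mul_of_le_normalizer P Q hPQ
    rw [sup_comm, mul_comm] at h
    exact h
  have hnoprime : ∀ r : ℕ, r.Prime → r ∣ Nat.card ↥(Q ⊔ P) → r ∉ alpha M := by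
    intro r hr hrd
    have h1 := hrd.trans hcardQP
    obtain ⟨n, hn⟩ := IsPGroup.iff_card.mp hQ
    rw [hn, hP] at h1
    rcases (Nat.Prime.dvd_mul hr).mp h1 with h | h
    · rw [(Nat.prime_dvd_prime_iff_eq hr hq).mp (hr.dvd_of_dvd_pow h)]
      exact hqα
    · rw [(Nat.prime_dvd_prime_iff_eq hr hpp).mp h]
      exact hpα
  have hcop1 : (Nat.card ↥(alphaCore M)).Coprime (Nat.card ↥(Q ⊔ P)) := by
    by_contra h
    obtain ⟨r, hr, hrd⟩ := Nat.exists_prime_and_dvd h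
    exact hnoprime r hr (hrd.trans (Nat.gcd_dvd_right _ _))
      (hHallM.2.1 r hr (hrd.trans (Nat.gcd_dvd_left _ _)))
  have hcop2 : (Nat.card ↥(alphaCore M ⊓ L)).Coprime (Nat.card ↥(Q ⊔ P)) :=
    Nat.Coprime.coprime_dvd_left (Subgroup.card_dvd_of_le inf_le_left) hcop1
  have hF1 := Cfsg.Agent.Lib.helper12.ff_formula Q P (alphaCore M) hP1 hUn hfpf hHn1 hsolv1 hcop1
  have hF2 := Cfsg.Agent.Lib.helper12.ff_formula Q P (alphaCore M ⊓ L) hP1 hUn hfpf hHn2 hsolv2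
    hcop2
  have hCQL : Subgroup.centralizer (Q : Set G) ≤ L :=
    (Subgroup.centralizer_le_normalizer _).trans hNQ
  have hCQPL : Subgroup.centralizer ((Q ⊔ P : Subgroup G) : Set G) ≤ L :=
    (Subgroup.centralizer_le (le_sup_left : Q ≤ Q ⊔ P)).trans hCQL
  have e1 : alphaCore M ⊓ L ⊓ Subgroup.centralizer ((Q ⊔ P : Subgroup G) : Set G) =
      alphaCore M ⊓ Subgroup.centralizer ((Q ⊔ P : Subgroup G) : Set G) := by
    rw [inf_assoc, inf_eq_right.mpr hCQPL]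
  have e2 : alphaCore M ⊓ L ⊓ Subgroup.centralizer (Q : Set G) =
      alphaCore M ⊓ Subgroup.centralizer (Q : Set G) := by
    rw [inf_assoc, inf_eq_right.mpr hCQL]
  have e3 : alphaCore M ⊓ L ⊓ Subgroup.centralizer (P : Set G) =
      alphaCore M ⊓ Subgroup.centralizer (P : Set G) := by
    apply le_antisymm
    · exact inf_le_inf_right _ inf_le_left
    · exact le_inf (le_inf inf_le_left hle) inf_le_right
  rw [e1, e2, e3, ← hF1] at hF2
  have hpos : 0 < Nat.card ↥(alphaCore M ⊓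
      Subgroup.centralizer ((Q ⊔ P : Subgroup G) : Set G)) ^ Nat.card P :=
    pow_pos Nat.card_pos _
  have hcardeq : Nat.card ↥(alphaCore M ⊓ L) = Nat.card ↥(alphaCore M) :=
    Nat.eq_of_mul_eq_mul_left hpos hF2
  have hαL : alphaCore M ≤ L := by
    have h1 : alphaCore M ⊓ L = alphaCore M :=
      Subgroup.eq_of_le_of_card_ge inf_le_left hcardeq.ge
    rw [← h1]
    exact inf_le_right
  -- `M_α ≠ 1` contains an elementary abelian subgroup of rank 3
  have hcard1 : Nat.card (alphaCore M) ≠ 1 := fun h => hα (Subgroup.card_eq_one.mp h)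
  obtain ⟨r, hr, hrd⟩ := Nat.exists_prime_and_dvd hcard1
  have : Fact r.Prime := ⟨hr⟩
  have hrα : r ∈ alpha M := hHallM.2.1 r hr hrd
  obtain ⟨B, hBM, hBe, hBcard⟩ :=
    (Cfsg.Agent.Lib.helper28.not_pRankLE_subgroup_iff r 2 M).mp hrα.2
  have hBα : B ≤ alphaCore M := by
    unfold alphaCore
    exact Cfsg.Agent.Lib.helper71.BGA.le_map_of_isPGroup (piCore (alpha M) ↥M)
      ((Cfsg.Agent.Lib.helper8.bg_alpha_core_main hG hU hF M hM).1 r hrα)
      hBM (Cfsg.Agent.Lib.helper71.BG12.isPGroup_of_elemAb hBe)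
  have hBU : InUniqueMaximal B :=
    Cfsg.Agent.Lib.helper71.BG12.inUniqueMaximal_of_elemAb hU hr hM hBM hBe hBcard
  exact hne (Cfsg.Agent.Lib.helper71.BG12.eq_of_inUniqueMaximal hBU hM hBM hL (hBα.trans hαL))

end Cfsg.Agent.Lib.helper98.BGAsym
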