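import Mathlib
import Cfsg.Prelude.Def_OddOrderLocal
import Cfsg.Agent.Lib.helper54.BG1428Good
import Cfsg.Agent.S1423
import Cfsg.Agent.S1428

/-!
# Bender–Glauberman, the `τ₁`-asymmetry lemma: step (5), the chain

`M`, `L` nonconjugate maximal subgroups, `p ∈ τ₁(M)`, `P ≤ M` of order `p`, `s ∈ β(L)` and
`Y ≤ M ∩ L` of order `s` centralized by `P`.  Then `C_{M_σ}(P) ≤ C_G(Y) ≤ L`.
-/

set_option autoImplicit false

namespace Cfsg.Agent.Lib.helper98.BGAsym

open Cfsg

/-- the order of the join of two elementwise commuting subgroups divides the product of the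
orders -/
theorem card_sup_dvd_of_le_centralizer {G : Type*} [Group G] [Finite G] (P Y : Subgroup G)
    (hYP : Y ≤ Subgroup.centralizer (P : Set G)) :
    Nat.card ↥(P ⊔ Y) ∣ Nat.card P * Nat.card Y := by
  have hcomm : ∀ (a : P) (b : Y), Commute (P.subtype a) (Y.subtype b) := by
    intro a b
    have h := hYP b.2 a a.2
    exact h
  have h1 := MonoidHom.noncommCoprod_range P.subtype Y.subtype hcomm
  rw [Subgroup.range_subtype, Subgroup.range_subtype] at h1
  have h2 := Subgroup.card_range_dvd (MonoidHom.noncommCoprod P.subtype Y.subtype hcomm)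
  rw [h1, Nat.card_prod] at h2
  exact h2

/-- **Step (5) of the asymmetry lemma.** -/
theorem asym_chain {G : Type*} [Group G] [Finite G] (hG : IsMinSimpleOddOrder G)
    (M L : Subgroup G) (hM : IsCoatom M) (hL : IsCoatom L)
    (hnc : ∀ g : G, L ≠ M.map (MulAut.conj g).toMonoidHom)
    (p : ℕ) (hp : p ∈ tau1 M) (P : Subgroup G) (hPM : P ≤ M) (hP : Nat.card P = p)
    (s : ℕ) (hs : s ∈ beta L) (Y : Subgroup G) (hYM : Y ≤ M) (hYL : Y ≤ L)
    (hYc : Nat.card Y = s) (hYP : Y ≤ Subgroup.centralizer (P : Set G)) :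
    sigmaCore M ⊓ Subgroup.centralizer (P : Set G) ≤ Subgroup.centralizer (Y : Set G) ⊓ L := by
  have hU := Cfsg.Agent.Lib.helper13.bgx_uniq hG
  have hsp : s.Prime := hs.1.1
  have hpp : p.Prime := hp.1
  have : Fact s.Prime := ⟨hsp⟩
  have hsσM : s ∉ sigma M := fun h =>
    Cfsg.Agent.Lib.helper55.BGJ.not_mem_alpha_of_sigma hU hM hL hnc h hs.1
  have hpσM : p ∉ sigma M := hp.2.1
  have hsσL : s ∈ sigma L := Cfsg.Agent.Lib.helper8.bg_alpha_sub_sigma hG hU L hL hs.1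
  have hPY : ∀ q : ℕ, q.Prime → q ∣ Nat.card ↥(P ⊔ Y) → q ∉ sigma M := by
    intro q hq hqd
    have h1 := hqd.trans (card_sup_dvd_of_le_centralizer P Y hYP)
    rw [hP, hYc] at h1
    rcases (Nat.Prime.dvd_mul hq).mp h1 with h | h
    · rw [(Nat.prime_dvd_prime_iff_eq hq hpp).mp h]
      exact hpσM
    · rw [(Nat.prime_dvd_prime_iff_eq hq hsp).mp h]
      exact hsσM
  obtain ⟨E, hE, hPYE⟩ :=
    Cfsg.Agent.Lib.helper60.BGCentU.exists_compl_ge hG M hM (P ⊔ Y) (sup_le hPM hYM) hPY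
  have h1 := Cfsg.Agent.S1428.result hG M hM E hE p hp P (le_sup_left.trans hPYE) hP Y
    (le_inf (le_sup_right.trans hPYE) hYP) (hYc ▸ hsp)
  obtain ⟨Psyl⟩ : Nonempty (Sylow s ↥(sigmaCore L)) := inferInstance
  have h2 := (Cfsg.Agent.S1423.result hG L hL s hsσL Y hYL hYc Psyl (Or.inl hs)).1.1
  intro x hx
  have h3 := h1 hx
  exact ⟨h3.2, h2 h3.2⟩

end Cfsg.Agent.Lib.helper98.BGAsym
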