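import Mathlib
import Cfsg.Prelude.Def_Classical
import Cfsg.Prelude.Def_GeometricClasses
import Cfsg.Agent.Lib.helper98.FeCRITBcore
import Cfsg.Agent.Lib.helper30.FeCOMM
import Cfsg.Agent.Lib.helper22.FeCYC
import Cfsg.Agent.Lib.helper16.FeFROB
import Cfsg.Agent.Lib.helper16.FeKFROB
import Cfsg.Agent.Lib.helper16.FeNDEG

/-!
# S5977 / S5978 block [B], piece CRITB (canonical statement)
-/

set_option autoImplicit false

namespace Cfsg.Agent.Lib.helper96.FE

open Polynomial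

/-- CRITB (L; uses COMM, CYC, FROB, KFROB, NDEG): the criterion for `ord_r(q) ≡ 2 mod 4`. -/
theorem fe_crit_b {F : Type*} [Field F] [Fintype F] {ι : Type} [Fintype ι] [DecidableEq ι]
    (Q : (ι → F) → F) (hQ : Cfsg.Geo.IsNondegenerateQuadraticForm Q)
    (K : Subalgebra F (Matrix ι ι F)) (hK : Cfsg.Geo.IsFieldSubalgebra 2 K)
    (hKf : Cfsg.Geo.IsSelfAdjointFor (QuadraticMap.polar Q) K)
    (r : ℕ) [Fact r.Prime] (hr2 : r ≠ 2) (hrF : (r : F) ≠ 0)
    (hi : orderOf ((Fintype.card F : ℕ) : ZMod r) % 4 = 2)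
    (x : GL ι F) (hx : x ∈ Cfsg.isometryGroup F Q) (hxr : x ^ r = 1)
    (hdim : Module.finrank F
        (LinearMap.ker (aeval (Matrix.toLin' (x : Matrix ι ι F)) (cyclotomic r F)))
      = orderOf ((Fintype.card F : ℕ) : ZMod r))
    (g : GL ι F) (hg : g ∈ Cfsg.isometryGroup F Q) :
    g⁻¹ * x * g ∉ Cfsg.Geo.subalgebraNormalizer K :=
  h98_fe_crit_b_core Q hQ K hKf r hr2 hrF hi x hx hxr hdim g hg
    (fun y hy s hs hys => fe_comm K hK y hy s hs hys)
    (fun y hyr W hWy hW1 hWd w hw hw0 w' hw' => fe_cyclic r y hyr W hWy hW1 hWd w hw hw0 w' hw')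
    (fun y p j => fe_frob y p j)
    (fun j hj => fe_Kfrob K hK j hj)
    (fun y hy hyr w hw hperp => fe_nondeg Q hQ r hrF y hy hyr w hw hperp)

end Cfsg.Agent.Lib.helper96.FE
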