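import Mathlib

/-!
# Small facts about `S₄` (by computation), for the maximal subgroups of `PGL₂(q)`
-/

set_option autoImplicit false

namespace Cfsg.Agent.Lib.helper98

section Models

set_option maxRecDepth 100000 in
/-- `S₄` has an odd element of order `4`. -/
theorem s4_exists_four_cycle : ∃ σ : Equiv.Perm (Fin 4),
    Equiv.Perm.sign σ = -1 ∧ σ * σ * σ * σ = 1 ∧ σ * σ ≠ 1 := by decide

end Models

end Cfsg.Agent.Lib.helper98
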