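import Mathlib
import Cfsg.Agent.Lib.helper98.MaxOddE
import Cfsg.Agent.Lib.helper98.PglModels

/-!
# Maximal subgroups of `PGL₂(q)`: abstract lemmas

Index-two arguments, `p`-group arguments, normal subgroups of `SL₂(F)`, and the conclusion
`PglConcl`.
-/

set_option autoImplicit false
set_option linter.unusedSimpArgs false
set_option linter.unusedVariables false

namespace Cfsg.Agent.Lib.helper98

open Matrix
open scoped Classical

local notation "SL2" => Matrix.SpecialLinearGroup (Fin 2)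
local notation "PSL2" => Matrix.ProjectiveSpecialLinearGroup (Fin 2)
local notation "M2" => Matrix (Fin 2) (Fin 2)

section Abstract

variable {G : Type*} [Group G]

theorem index_two_of_card [Finite G] (S P : Subgroup G) (hSP : S ≤ P)
    (hidx : Nat.card P = 2 * Nat.card S) : (S.subgroupOf P).index = 2 := by
  have h1 := Subgroup.card_mul_index (S.subgroupOf P)
  rw [Nat.card_congr (Subgroup.subgroupOfEquivOfLe hSP).toEquiv, hidx] at h1
  have hpos : 0 < Nat.card S := Nat.card_pos
  have h3 : Nat.card S * (S.subgroupOf P).index = Nat.card S * 2 := by rw [h1]; ring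
  exact Nat.eq_of_mul_eq_mul_left hpos h3

/-- In an index-two situation, `a * b ∈ S ↔ (a ∈ S ↔ b ∈ S)`. -/
theorem mul_mem_iff_of_card [Finite G] (S P : Subgroup G) (hSP : S ≤ P)
    (hidx : Nat.card P = 2 * Nat.card S) (a b : G) (ha : a ∈ P) (hb : b ∈ P) :
    a * b ∈ S ↔ (a ∈ S ↔ b ∈ S) := by
  have h := Subgroup.mul_mem_iff_of_index_two (index_two_of_card S P hSP hidx)
    (a := ⟨a, ha⟩) (b := ⟨b, hb⟩)
  rw [Subgroup.mem_subgroupOf, Subgroup.mem_subgroupOf, Subgroup.mem_subgroupOf] at h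
  exact h

/-- An index-two subgroup is normal (elementwise form). -/
theorem conj_mem_of_card [Finite G] (S P : Subgroup G) (hSP : S ≤ P)
    (hidx : Nat.card P = 2 * Nat.card S) (g x : G) (hg : g ∈ P) (hx : x ∈ S) :
    g * x * g⁻¹ ∈ S := by
  have hn := Subgroup.normal_of_index_eq_two (index_two_of_card S P hSP hidx)
  have hmem : (⟨g, hg⟩ : P) * ⟨x, hSP hx⟩ * (⟨g, hg⟩ : P)⁻¹ ∈ S.subgroupOf P :=
    hn.conj_mem _ (Subgroup.mem_subgroupOf.mpr hx) _
  rw [Subgroup.mem_subgroupOf] at hmem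
  exact hmem

/-- A subgroup of `P` not inside the index-two subgroup `S` meets it in index two. -/
theorem card_eq_two_mul_inf [Finite G] (S P K : Subgroup G) (hSP : S ≤ P)
    (hidx : Nat.card P = 2 * Nat.card S) (hKP : K ≤ P) (hKS : ¬ K ≤ S) :
    Nat.card K = 2 * Nat.card (K ⊓ S : Subgroup G) := by
  obtain ⟨k₀, hk₀K, hk₀S⟩ := SetLike.not_le_iff_exists.mp hKS
  have hidxK : ((K ⊓ S).subgroupOf K).index = 2 := by
    rw [Subgroup.index_eq_two_iff]
    refine ⟨⟨k₀, hk₀K⟩, fun b => ?_⟩
    have h1 := mul_mem_iff_of_card S P hSP hidx (b : G) k₀ (hKP b.2) (hKP hk₀K)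
    rw [Subgroup.mem_subgroupOf, Subgroup.mem_subgroupOf]
    by_cases hb : (b : G) ∈ S
    · right
      refine ⟨⟨b.2, hb⟩, ?_⟩
      intro h3
      have h4 : (b : G) * k₀ ∈ S := h3.2
      exact hk₀S ((h1.mp h4).mp hb)
    · left
      refine ⟨⟨K.mul_mem b.2 hk₀K, ?_⟩, fun h3 => hb h3.2⟩
      exact h1.mpr ⟨fun h => absurd h hb, fun h => absurd h hk₀S⟩
  have h1 := Subgroup.card_mul_index ((K ⊓ S).subgroupOf K)
  rw [Nat.card_congr (Subgroup.subgroupOfEquivOfLe (inf_le_left : K ⊓ S ≤ K)).toEquiv, hidxK] at h1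
  omega

/-- A group with no subgroup of index two is not isomorphic to a group with such a subgroup. -/
theorem index_two_absurd {X : Type*} [Group X] [Finite G] (H H₁ : Subgroup G) (hle : H₁ ≤ H)
    (hc : Nat.card H = 2 * Nat.card H₁) (e : H ≃* X) (hX : ∀ Y : Subgroup X, Y.index ≠ 2) :
    False := by
  apply hX ((H₁.subgroupOf H).map e.toMonoidHom)
  have h1 := Subgroup.index_map_equiv (H₁.subgroupOf H) e
  rw [← index_two_of_card H₁ H hle hc]
  exact h1

/-- Alternating groups have no subgroup of index two. -/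
theorem alt_no_index_two (n : ℕ) (Y : Subgroup (alternatingGroup (Fin n))) : Y.index ≠ 2 := by
  intro h
  have hsq : ∀ a : alternatingGroup (Fin n), a * a ∈ Y := Subgroup.mul_self_mem_of_index_two h
  have h3 : ∀ a : alternatingGroup (Fin n), a ^ 3 = 1 → a ∈ Y := by
    intro a ha
    have h1 := hsq (a * a)
    have e : a * a * (a * a) = a := by
      calc a * a * (a * a) = a ^ 3 * a := by rw [pow_succ, pow_two, ← mul_assoc]
        _ = a := by rw [ha, one_mul]
    rwa [e] at h1
  have hle : Subgroup.closure {σ : Equiv.Perm (Fin n) | σ.IsThreeCycle} ≤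
      Y.map (alternatingGroup (Fin n)).subtype := by
    rw [Subgroup.closure_le]
    intro σ hσ
    have hσA : σ ∈ alternatingGroup (Fin n) := Equiv.Perm.IsThreeCycle.mem_alternatingGroup hσ
    refine ⟨⟨σ, hσA⟩, h3 _ ?_, rfl⟩
    apply Subtype.ext
    rw [Subgroup.coe_pow, Subgroup.coe_one]
    have h1 := pow_orderOf_eq_one σ
    rwa [Equiv.Perm.IsThreeCycle.orderOf hσ] at h1
  have htop : Y = ⊤ := by
    rw [eq_top_iff]
    intro a _
    have ha : (a : Equiv.Perm (Fin n)) ∈
        Subgroup.closure {σ : Equiv.Perm (Fin n) | σ.IsThreeCycle} := by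
      rw [Equiv.Perm.closure_three_cycles_eq_alternating]; exact a.2
    obtain ⟨y, hy, hya⟩ := hle ha
    have : y = a := Subtype.ext hya
    rwa [← this]
  rw [htop, Subgroup.index_top] at h
  norm_num at h

/-- A maximal subgroup of `P` of prime power order is a Sylow subgroup of `P`. -/
theorem pmax_ppow_absurd [Finite G] (P K : Subgroup G) (hKP : K ≤ P)
    (hmax : ∀ K' : Subgroup G, K ≤ K' → K' ≤ P → K' = K ∨ K' = P)
    (ℓ k : ℕ) [Fact ℓ.Prime] (hK : Nat.card K = ℓ ^ k) (hdvd : ℓ ^ (k + 1) ∣ Nat.card P)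
    (hne : Nat.card P ≠ ℓ ^ (k + 1)) : False := by
  have hK' : Nat.card (K.subgroupOf P) = ℓ ^ k := by
    rw [Nat.card_congr (Subgroup.subgroupOfEquivOfLe hKP).toEquiv, hK]
  obtain ⟨K'', hK''c, hK''le⟩ := Sylow.exists_subgroup_card_pow_succ (G := P) hdvd hK'
  have hc : Nat.card (K''.map P.subtype) = ℓ ^ (k + 1) := by
    rw [Subgroup.card_map_of_injective P.subtype_injective, hK''c]
  have hle : K ≤ K''.map P.subtype := by
    intro x hx
    exact ⟨⟨x, hKP hx⟩, hK''le (Subgroup.mem_subgroupOf.mpr hx), rfl⟩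
  have hleP : K''.map P.subtype ≤ P := by
    rintro _ ⟨y, -, rfl⟩
    exact y.2
  rcases hmax _ hle hleP with h | h
  · rw [h, hK] at hc
    have := Nat.pow_lt_pow_right (Fact.out : ℓ.Prime).one_lt (by omega : k < k + 1)
    omega
  · rw [h] at hc
    exact hne hc

/-- In a finite group, an element conjugating `N` into itself normalizes `N`. -/
theorem mem_normalizer_of_conj_le [Finite G] (N : Subgroup G) (g : G)
    (h : ∀ y ∈ N, g * y * g⁻¹ ∈ N) : g ∈ Subgroup.normalizer (N : Set G) := by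
  rw [Subgroup.mem_normalizer_iff]
  intro y
  refine ⟨h y, fun hy => ?_⟩
  have hle : N.map (MulAut.conj g).toMonoidHom ≤ N := by
    rintro _ ⟨z, hz, rfl⟩
    show MulAut.conj g z ∈ N
    rw [MulAut.conj_apply]; exact h z hz
  have heq := Subgroup.eq_of_le_of_card_ge hle
    (by rw [Subgroup.card_map_of_injective (MulAut.conj g).injective])
  rw [← heq] at hy
  obtain ⟨z, hz, hzy⟩ := hy
  have h1 : g * z * g⁻¹ = g * y * g⁻¹ := by
    have : MulAut.conj g z = g * y * g⁻¹ := hzy
    rwa [MulAut.conj_apply] at this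
  have h2 : z = y := by
    have := mul_right_cancel h1
    exact mul_left_cancel this
  rwa [← h2]

end Abstract

section SLNormal

variable {F : Type*} [Field F]

/-- A subgroup of `SL₂(F)` containing all elementary matrices is everything. -/
theorem eq_top_of_unip_le (N : Subgroup (SL2 F)) (hu : ∀ t : F, upSL t ∈ N)
    (hl : ∀ t : F, lowSL t ∈ N) : N = ⊤ := by
  apply eq_top_of_upSL N hu
  have e : (wSL : SL2 F) = upSL 1 * lowSL (-1) * upSL 1 := by
    apply sl2_ext <;> simp only [sl2_mul_apply, lowSL_00, lowSL_01, lowSL_10, lowSL_11,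
      upSL_00, upSL_01, upSL_10, upSL_11, wSL_00, wSL_01, wSL_10, wSL_11] <;> ring
  rw [e]
  exact N.mul_mem (N.mul_mem (hu _) (hl _)) (hu _)

/-- A normal subgroup of `SL₂(F)`, `|F| ≥ 4` odd, not contained in the centre, is everything. -/
theorem normal_eq_top [Fintype F] (h2 : (2 : F) ≠ 0) (h4 : 4 ≤ Fintype.card F)
    (N : Subgroup (SL2 F)) (hnorm : ∀ s : SL2 F, ∀ y ∈ N, s * y * s⁻¹ ∈ N)
    (hZ : ¬ N ≤ Subgroup.center (SL2 F)) : N = ⊤ := by
  have hN : N.Normal := ⟨fun y hy s => hnorm s y hy⟩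
  have hsimple : IsSimpleGroup (PSL2 F) :=
    Matrix.ProjectiveSpecialLinearGroup.rank_two_simple
      (by rw [Nat.card_eq_fintype_card]; exact h4)
  have hmapn : (N.map (QuotientGroup.mk' (Subgroup.center (SL2 F)))).Normal :=
    Subgroup.Normal.map hN _ (QuotientGroup.mk'_surjective _)
  rcases hmapn.eq_bot_or_eq_top with hb | ht
  · exfalso
    apply hZ
    intro y hy
    have h1 : QuotientGroup.mk' (Subgroup.center (SL2 F)) y ∈
        N.map (QuotientGroup.mk' (Subgroup.center (SL2 F))) := Subgroup.mem_map_of_mem _ hy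
    rw [hb, Subgroup.mem_bot] at h1
    exact (QuotientGroup.eq_one_iff y).mp h1
  · have hmem : ∀ g : SL2 F, g * g ∈ N := by
      intro g
      have h1 : QuotientGroup.mk' (Subgroup.center (SL2 F)) g ∈
          N.map (QuotientGroup.mk' (Subgroup.center (SL2 F))) := by rw [ht]; trivial
      obtain ⟨n, hn, hng⟩ := h1
      have h3 : n⁻¹ * g ∈ Subgroup.center (SL2 F) := QuotientGroup.eq.mp hng
      have hc := Subgroup.mem_center_iff.mp h3
      have h4' : (n⁻¹ * g) * (n⁻¹ * g) = 1 := sq_eq_one_of_mem_center _ h3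
      have e : g * g = n * n := by
        calc g * g = n * (n⁻¹ * g) * (n * (n⁻¹ * g)) := by group
          _ = n * ((n⁻¹ * g) * n) * (n⁻¹ * g) := by group
          _ = n * (n * (n⁻¹ * g)) * (n⁻¹ * g) := by rw [hc n]
          _ = n * n * ((n⁻¹ * g) * (n⁻¹ * g)) := by group
          _ = n * n := by rw [h4', mul_one]
      rw [e]; exact N.mul_mem hn hn
    have hhalf : ∀ t : F, t / 2 + t / 2 = t := by
      intro t; field_simp; ring
    apply eq_top_of_unip_le
    · intro t
      have h1 := hmem (upSL (t / 2))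
      rwa [upSL_add, hhalf] at h1
    · intro t
      have h1 := hmem (lowSL (t / 2))
      have e : lowSL (t / 2) * lowSL (t / 2) = lowSL t := by
        apply sl2_ext <;> simp only [sl2_mul_apply, lowSL_00, lowSL_01, lowSL_10, lowSL_11]
        · ring
        · ring
        · linear_combination hhalf t
        · ring
      rwa [e] at h1

/-- A field all of whose elements are fixed by the Frobenius has `p` elements. -/
theorem card_eq_of_frob [Fintype F] (p : ℕ) [Fact p.Prime] [CharP F p]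
    (h : ∀ x : F, x ^ p = x) : Fintype.card F = p := by
  by_contra hne
  have hlt := prime_lt_card (F := F) p hne
  apply frobFix_ne_top (F := F) p 1 (le_refl 1) hlt
  rw [eq_top_iff]
  intro x _
  rw [mem_frobFix, pow_one]
  exact h x

end SLNormal

section Concl

/-- The conclusion of the classification of the maximal subgroups of `PGL₂(F)` not containing
`PSL₂(F)`, for a subgroup `M` of an arbitrary group. -/
def PglConcl (F : Type*) [Field F] [Fintype F] {G : Type*} [Group G] (M : Subgroup G) : Prop :=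
  Nat.card M = Fintype.card F * (Fintype.card F - 1) ∨
  (Fintype.card F ≠ 5 ∧ Nonempty (M ≃* DihedralGroup (Fintype.card F - 1))) ∨
  Nonempty (M ≃* DihedralGroup (Fintype.card F + 1)) ∨
  ((Fintype.card F).Prime ∧ (Fintype.card F % 8 = 3 ∨ Fintype.card F % 8 = 5) ∧
    Nonempty (M ≃* Equiv.Perm (Fin 4))) ∨
  (∃ (F₀ : Type) (_ : Field F₀) (_ : Fintype F₀) (r : ℕ), r.Prime ∧ Odd r ∧
    Fintype.card F = Fintype.card F₀ ^ r ∧ Nonempty (M ≃* Matrix.ProjGenLinGroup (Fin 2) F₀))

theorem pglConcl_congr (F : Type*) [Field F] [Fintype F] {G G' : Type*} [Group G] [Group G']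
    {M : Subgroup G} {M' : Subgroup G'} (e : M ≃* M') (h : PglConcl F M) : PglConcl F M' := by
  rcases h with h | ⟨h5, hf⟩ | hf | ⟨hp, h8, hf⟩ | ⟨F₀, i1, i2, r, hr, hodd, hc, hf⟩
  · left; rw [← Nat.card_congr e.toEquiv]; exact h
  · obtain ⟨f⟩ := hf
    right; left; exact ⟨h5, ⟨e.symm.trans f⟩⟩
  · obtain ⟨f⟩ := hf
    right; right; left; exact ⟨e.symm.trans f⟩
  · obtain ⟨f⟩ := hf
    right; right; right; left; exact ⟨hp, h8, ⟨e.symm.trans f⟩⟩
  · obtain ⟨f⟩ := hf
    right; right; right; right; exact ⟨F₀, i1, i2, r, hr, hodd, hc, ⟨e.symm.trans f⟩⟩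

end Concl

end Cfsg.Agent.Lib.helper98
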