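import Mathlib
import Cfsg.Agent.Lib.helper98.PglA

/-!
# Maximal subgroups of `PGL₂(q)`: the model `pglSL Φ ≤ SL₂(E)`, `|E| = |F|²`

Basic facts about `P = pglSL Φ` and `S = SL₂(F) ≤ P`, the predicate `PMax` ("maximal in `P`, not
containing `S`"), and the normalization of wild subgroups.
-/

set_option autoImplicit false
set_option linter.unusedSimpArgs false
set_option linter.unusedVariables false

namespace Cfsg.Agent.Lib.helper98

open Matrix
open scoped Classical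

local notation "SL2" => Matrix.SpecialLinearGroup (Fin 2)
local notation "PSL2" => Matrix.ProjectiveSpecialLinearGroup (Fin 2)
local notation "M2" => Matrix (Fin 2) (Fin 2)

section Entries

variable {F E : Type*} [Field F] [Field E]

theorem mem_pglSL_of_entries (Φ : F →+* E) (g : SL2 E) (a b c d : F) (u : E)
    (h00 : Φ a * u = g 0 0) (h01 : Φ b * u = g 0 1) (h10 : Φ c * u = g 1 0)
    (h11 : Φ d * u = g 1 1) : g ∈ pglSL Φ := by
  have hdet := sl2_det' g
  have hdet' : Φ a * u * (Φ d * u) - Φ b * u * (Φ c * u) = 1 := by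
    rw [h00, h01, h10, h11]; exact hdet
  have hD : Φ (a * d - b * c) * (u * u) = 1 := by
    rw [map_sub, map_mul, map_mul]; linear_combination hdet'
  have hD0 : a * d - b * c ≠ 0 := by
    intro h0
    rw [h0, map_zero, zero_mul] at hD
    exact zero_ne_one hD
  have hu0 : u ≠ 0 := by
    rintro rfl
    rw [mul_zero, mul_zero] at hD
    exact zero_ne_one hD
  rw [mem_pglSL_iff]
  refine ⟨Matrix.GeneralLinearGroup.mkOfDetNeZero !![a, b; c, d]
    (by rw [Matrix.det_fin_two_of]; exact hD0), Units.mk0 u hu0, ?_⟩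
  apply Matrix.GeneralLinearGroup.ext
  intro i j
  rw [gl_mul_scalar_apply, Units.val_mk0, Matrix.GeneralLinearGroup.map_apply]
  show Φ ((!![a, b; c, d] : Matrix (Fin 2) (Fin 2) F) i j) * u = g i j
  fin_cases i <;> fin_cases j
  · exact h00
  · exact h01
  · exact h10
  · exact h11

theorem pglSL_le_of_range_subset {K₀ K₁ : Type*} [Field K₀] [Field K₁] (ψ : K₀ →+* E)
    (ψ₁ : K₁ →+* E) (h : Set.range ψ ⊆ Set.range ψ₁) : pglSL ψ ≤ pglSL ψ₁ := by
  intro g hg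
  obtain ⟨a, b, c, d, u, h00, h01, h10, h11⟩ := pglSL_entries ψ g hg
  obtain ⟨a', ha'⟩ := h ⟨a, rfl⟩
  obtain ⟨b', hb'⟩ := h ⟨b, rfl⟩
  obtain ⟨c', hc'⟩ := h ⟨c, rfl⟩
  obtain ⟨d', hd'⟩ := h ⟨d, rfl⟩
  exact mem_pglSL_of_entries ψ₁ g a' b' c' d' u (by rw [ha']; exact h00) (by rw [hb']; exact h01)
    (by rw [hc']; exact h10) (by rw [hd']; exact h11)

/-- An element of `pglSL Φ` with nonzero trace in the small field lies in `SL₂(F)`. -/
theorem mem_range_of_pglSL_trace (Φ : F →+* E) (g : SL2 E) (hg : g ∈ pglSL Φ) (t : F)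
    (ht0 : t ≠ 0) (ht : g 0 0 + g 1 1 = Φ t) :
    g ∈ (Matrix.SpecialLinearGroup.map Φ : SL2 F →* SL2 E).range := by
  obtain ⟨a, b, c, d, u, h00, h01, h10, h11⟩ := pglSL_entries Φ g hg
  have h1 : Φ (a + d) * u = Φ t := by rw [map_add, add_mul, h00, h11]; exact ht
  have had : a + d ≠ 0 := by
    intro h0
    rw [h0, map_zero, zero_mul] at h1
    exact ht0 ((map_eq_zero Φ).mp h1.symm)
  have hne : Φ (a + d) ≠ 0 := (map_ne_zero Φ).mpr had
  have hu : u = Φ (t / (a + d)) := by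
    rw [map_div₀, eq_div_iff hne, mul_comm]; exact h1
  apply mem_range_map_of_entries
  intro i j
  fin_cases i <;> fin_cases j
  · exact ⟨a * (t / (a + d)), by rw [map_mul, ← hu]; exact h00⟩
  · exact ⟨b * (t / (a + d)), by rw [map_mul, ← hu]; exact h01⟩
  · exact ⟨c * (t / (a + d)), by rw [map_mul, ← hu]; exact h10⟩
  · exact ⟨d * (t / (a + d)), by rw [map_mul, ← hu]; exact h11⟩

/-- The unipotent elements of `pglSL Φ` lie in `SL₂(F)`. -/
theorem unip_mem_range (Φ : F →+* E) (h2 : (2 : E) ≠ 0) (g : SL2 E) (hg : g ∈ pglSL Φ)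
    (htr : g 0 0 + g 1 1 = 2) :
    g ∈ (Matrix.SpecialLinearGroup.map Φ : SL2 F →* SL2 E).range :=
  mem_range_of_pglSL_trace Φ g hg 2 (two_ne_zero_of_hom Φ h2) (by rw [htr, map_ofNat])

/-- Squares of the diagonal entries of diagonal elements of `pglSL Φ`. -/
theorem diag_sq_mem_range (Φ : F →+* E) (g : SL2 E) (hg : g ∈ pglSL Φ) (h10 : g 1 0 = 0) :
    ∃ k : F, k ≠ 0 ∧ Φ k = g 0 0 ^ 2 := by
  obtain ⟨a, b, c, d, u, h00, h01, h10', h11⟩ := pglSL_entries Φ g hg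
  have hd := sl2_det' g
  rw [h10, mul_zero, sub_zero] at hd
  have hu0 : u ≠ 0 := by
    rintro rfl
    rw [mul_zero] at h00
    rw [← h00, zero_mul] at hd
    exact zero_ne_one hd
  have hd0 : d ≠ 0 := by
    rintro rfl
    rw [map_zero, zero_mul] at h11
    rw [← h11, mul_zero] at hd
    exact zero_ne_one hd
  have ha0 : a ≠ 0 := by
    rintro rfl
    rw [map_zero, zero_mul] at h00
    rw [← h00, zero_mul] at hd
    exact zero_ne_one hd
  refine ⟨a / d, div_ne_zero ha0 hd0, ?_⟩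
  have hΦd : Φ d ≠ 0 := (map_ne_zero Φ).mpr hd0
  rw [map_div₀, div_eq_iff hΦd]
  have h3 : g 0 0 ^ 2 * Φ d * u = Φ a * u := by
    calc g 0 0 ^ 2 * Φ d * u = g 0 0 * (g 0 0 * (Φ d * u)) := by ring
      _ = g 0 0 := by rw [h11, hd, mul_one]
      _ = Φ a * u := h00.symm
  exact (mul_right_cancel₀ hu0 h3).symm

theorem exists_lift_ringHom {K₀ : Type*} [Field K₀] (Φ : F →+* E) (ψ : K₀ →+* E)
    (h : ∀ x, ∃ y, Φ y = ψ x) : ∃ ψ' : K₀ →+* F, ∀ x, Φ (ψ' x) = ψ x := by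
  choose f hf using h
  refine ⟨{ toFun := f, map_one' := ?_, map_mul' := ?_, map_zero' := ?_, map_add' := ?_ }, hf⟩
  · apply Φ.injective; rw [hf, map_one, map_one]
  · intro x y; apply Φ.injective; rw [hf, map_mul, map_mul, hf, hf]
  · apply Φ.injective; rw [hf, map_zero, map_zero]
  · intro x y; apply Φ.injective; rw [hf, map_add, map_add, hf, hf]

end Entries

section PMaxDef

variable {F E : Type*} [Field F] [Field E]

/-- `K` is a maximal subgroup of `pglSL Φ` containing the centre and not containing `SL₂(F)`. -/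
structure PMax (Φ : F →+* E) (K : Subgroup (SL2 E)) : Prop where
  le : K ≤ pglSL Φ
  ne : K ≠ pglSL Φ
  max : ∀ K' : Subgroup (SL2 E), K ≤ K' → K' ≤ pglSL Φ → K' = K ∨ K' = pglSL Φ
  notS : ¬ (Matrix.SpecialLinearGroup.map Φ : SL2 F →* SL2 E).range ≤ K
  center : Subgroup.center (SL2 E) ≤ K

end PMaxDef

section Cards

variable {F E : Type*} [Field F] [Field E] [Fintype F] [Fintype E]

theorem isSquare_of_card_sq (Φ : F →+* E) (h2 : (2 : E) ≠ 0)
    (hcard : Fintype.card E = Fintype.card F ^ 2) : ∀ x : F, x ≠ 0 → IsSquare (Φ x) :=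
  Cfsg.Agent.S0805.isSquare_map Φ (Nat.odd_iff.mpr (card_odd h2)) 2 even_two hcard.symm

theorem card_pglSL_of_card_sq (Φ : F →+* E) (h2 : (2 : E) ≠ 0)
    (hcard : Fintype.card E = Fintype.card F ^ 2) :
    Nat.card (pglSL Φ) =
      2 * Nat.card (Matrix.SpecialLinearGroup.map Φ : SL2 F →* SL2 E).range := by
  rw [card_pglSL Φ _ rfl h2 (isSquare_of_card_sq Φ h2 hcard), card_range_map]

theorem PMax.not_le_range {Φ : F →+* E} {K : Subgroup (SL2 E)} (hK : PMax Φ K) (h2 : (2 : E) ≠ 0)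
    (hcard : Fintype.card E = Fintype.card F ^ 2) :
    ¬ K ≤ (Matrix.SpecialLinearGroup.map Φ : SL2 F →* SL2 E).range := by
  intro hle
  rcases hK.max _ hle (range_le_pglSL Φ) with h | h
  · exact hK.notS h.le
  · have h1 := card_pglSL_of_card_sq Φ h2 hcard
    rw [h] at h1
    have hpos : 0 < Nat.card (pglSL Φ) := Nat.card_pos
    omega

theorem PMax.card_eq {Φ : F →+* E} {K : Subgroup (SL2 E)} (hK : PMax Φ K) (h2 : (2 : E) ≠ 0)
    (hcard : Fintype.card E = Fintype.card F ^ 2) :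
    Nat.card K = 2 * Nat.card
      (K ⊓ (Matrix.SpecialLinearGroup.map Φ : SL2 F →* SL2 E).range : Subgroup (SL2 E)) :=
  card_eq_two_mul_inf _ (pglSL Φ) K (range_le_pglSL Φ) (card_pglSL_of_card_sq Φ h2 hcard) hK.le
    (hK.not_le_range h2 hcard)

/-- `SL₂(F)` is normal in `pglSL Φ`. -/
theorem conj_mem_range (Φ : F →+* E) (h2 : (2 : E) ≠ 0)
    (hcard : Fintype.card E = Fintype.card F ^ 2) (g x : SL2 E) (hg : g ∈ pglSL Φ)
    (hx : x ∈ (Matrix.SpecialLinearGroup.map Φ : SL2 F →* SL2 E).range) :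
    g * x * g⁻¹ ∈ (Matrix.SpecialLinearGroup.map Φ : SL2 F →* SL2 E).range :=
  conj_mem_of_card _ (pglSL Φ) (range_le_pglSL Φ) (card_pglSL_of_card_sq Φ h2 hcard) g x hg hx

omit [Fintype F] [Fintype E] in
theorem conjSub_conjSub_inv (c : SL2 E) (K : Subgroup (SL2 E)) :
    conjSub c (conjSub c⁻¹ K) = K := by
  ext g
  rw [mem_conjSub, mem_conjSub, inv_inv]
  have e : c * (c⁻¹ * g * c) * c⁻¹ = g := by group
  rw [e]

omit [Fintype F] [Fintype E] in
theorem conjSub_le_pglSL (Φ : F →+* E) (c : SL2 E) (hc : c ∈ pglSL Φ) (K : Subgroup (SL2 E))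
    (hK : K ≤ pglSL Φ) : conjSub c K ≤ pglSL Φ := by
  intro g hg
  rw [mem_conjSub] at hg
  have h1 := hK hg
  have e : g = c * (c⁻¹ * g * c) * c⁻¹ := by group
  rw [e]
  exact Subgroup.mul_mem _ (Subgroup.mul_mem _ hc h1) (Subgroup.inv_mem _ hc)

/-- `PMax` is invariant under conjugation by elements of `pglSL Φ`. -/
theorem PMax.conj {Φ : F →+* E} {K : Subgroup (SL2 E)} (hK : PMax Φ K) (h2 : (2 : E) ≠ 0)
    (hcard : Fintype.card E = Fintype.card F ^ 2) (c : SL2 E) (hc : c ∈ pglSL Φ) :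
    PMax Φ (conjSub c K) := by
  refine ⟨conjSub_le_pglSL Φ c hc K hK.le, ?_, ?_, ?_, ?_⟩
  · intro h
    apply hK.ne
    apply Subgroup.eq_of_le_of_card_ge hK.le
    rw [← card_conjSub c K, h]
  · intro K' hle hleP
    have h1 : K ≤ conjSub c⁻¹ K' := by
      intro k hk
      rw [mem_conjSub, inv_inv]
      exact hle (conj_mem_conjSub c K k hk)
    have h3 : conjSub c⁻¹ K' ≤ pglSL Φ :=
      conjSub_le_pglSL Φ c⁻¹ (Subgroup.inv_mem _ hc) K' hleP
    rcases hK.max _ h1 h3 with h | h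
    · left
      rw [← conjSub_conjSub_inv c K', h]
    · right
      apply Subgroup.eq_of_le_of_card_ge hleP
      rw [← card_conjSub c⁻¹ K', h]
  · intro hle
    apply hK.notS
    intro s hs
    have h1 := conj_mem_range Φ h2 hcard c s hc hs
    have h3 := hle h1
    rw [mem_conjSub] at h3
    have e : c⁻¹ * (c * s * c⁻¹) * c = s := by group
    rwa [e] at h3
  · intro z hz
    rw [mem_conjSub]
    have hc' := Subgroup.mem_center_iff.mp hz
    have e : c⁻¹ * z * c = z := by rw [mul_assoc, ← hc' c, inv_mul_cancel_left]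
    rw [e]
    exact hK.center hz

/-- Rational version of `exists_conj_hB`. -/
theorem exists_conj_hB_rat (Φ : F →+* E) (H : Subgroup (SL2 E)) (hHP : H ≤ pglSL Φ)
    (hneg : negOne ∈ H) :
    ∃ s₀ : F, ∀ g ∈ conjSub (upSL (Φ s₀)) H, g 1 0 = 0 →
      ∃ h ∈ conjSub (upSL (Φ s₀)) H, h 0 0 = g 0 0 ∧ h 0 1 = 0 ∧ h 1 0 = 0 := by
  obtain ⟨s, hs⟩ := exists_conj_hB H hneg
  by_cases hall : ∀ g ∈ H, g 1 0 = 0 → (g 0 0 = 1 ∨ g 0 0 = -1)
  · refine ⟨0, ?_⟩
    have hH0 : conjSub (upSL (Φ 0)) H = H := by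
      ext g
      rw [mem_conjSub, map_zero, upSL_zero, inv_one, one_mul, mul_one]
    rw [hH0]
    intro g hg h10
    rcases hall g hg h10 with h | h
    · exact ⟨1, H.one_mem, by rw [sl2_one_00, h], sl2_one_01, sl2_one_10⟩
    · exact ⟨negOne, hneg, by rw [negOne_00, h], negOne_01, negOne_10⟩
  · push Not at hall
    obtain ⟨g₀, hg₀, h10, hne1, hnem1⟩ := hall
    have hg₀' := conj_mem_conjSub (upSL s) H g₀ hg₀
    have e10 : (upSL s * g₀ * (upSL s)⁻¹) 1 0 = 0 := by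
      simp only [sl2_mul_apply, sl2_inv_00, sl2_inv_01, sl2_inv_10, sl2_inv_11, upSL_00, upSL_01,
        upSL_10, upSL_11, h10]
      ring
    have e00 : (upSL s * g₀ * (upSL s)⁻¹) 0 0 = g₀ 0 0 := by
      simp only [sl2_mul_apply, sl2_inv_00, sl2_inv_01, sl2_inv_10, sl2_inv_11, upSL_00, upSL_01,
        upSL_10, upSL_11, h10]
      ring
    obtain ⟨h, hh, h00, h01, h10'⟩ := hs _ hg₀' e10
    rw [e00] at h00
    have hy := (mem_conjSub _ _ _).mp hh
    obtain ⟨α, β, γ, δ, u, y00, y01, y10, y11⟩ := pglSL_entries Φ _ (hHP hy)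
    have f00 : ((upSL s)⁻¹ * h * upSL s) 0 0 = g₀ 0 0 := by
      simp only [sl2_mul_apply, sl2_inv_00, sl2_inv_01, sl2_inv_10, sl2_inv_11, upSL_00, upSL_01,
        upSL_10, upSL_11, h01, h10', h00]
      ring
    have f01 : ((upSL s)⁻¹ * h * upSL s) 0 1 = s * (g₀ 0 0 - h 1 1) := by
      simp only [sl2_mul_apply, sl2_inv_00, sl2_inv_01, sl2_inv_10, sl2_inv_11, upSL_00, upSL_01,
        upSL_10, upSL_11, h01, h10', h00]
      ring
    have f11 : ((upSL s)⁻¹ * h * upSL s) 1 1 = h 1 1 := by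
      simp only [sl2_mul_apply, sl2_inv_00, sl2_inv_01, sl2_inv_10, sl2_inv_11, upSL_00, upSL_01,
        upSL_10, upSL_11, h01, h10', h00]
      ring
    have hd := sl2_det' h
    rw [h01, zero_mul, sub_zero, h00] at hd
    rw [f00] at y00
    rw [f01] at y01
    rw [f11] at y11
    have hane : g₀ 0 0 ≠ h 1 1 := by
      intro h'
      rw [← h'] at hd
      have h3 : (g₀ 0 0 - 1) * (g₀ 0 0 + 1) = 0 := by linear_combination hd
      rcases mul_eq_zero.mp h3 with h4 | h4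
      · exact hne1 (by linear_combination h4)
      · exact hnem1 (by linear_combination h4)
    have hu0 : u ≠ 0 := by
      rintro rfl
      rw [mul_zero] at y00
      rw [← y00, zero_mul] at hd
      exact zero_ne_one hd
    have hαδ : α ≠ δ := by
      rintro rfl
      exact hane (by rw [← y00, ← y11])
    refine ⟨β / (α - δ), ?_⟩
    have hs' : Φ (β / (α - δ)) = s := by
      have hne : Φ α - Φ δ ≠ 0 := by
        rw [← map_sub]; exact (map_ne_zero Φ).mpr (sub_ne_zero.mpr hαδ)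
      rw [map_div₀, map_sub, div_eq_iff hne]
      have h3 : Φ β * u = s * (Φ α - Φ δ) * u := by rw [y01, ← y00, ← y11]; ring
      exact mul_right_cancel₀ hu0 h3
    rw [hs']
    exact hs

/-- **Normalization of wild subgroups** inside `pglSL Φ`. -/
theorem pmax_normalize (Φ : F →+* E) (h2 : (2 : E) ≠ 0)
    (hcard : Fintype.card E = Fintype.card F ^ 2) (K : Subgroup (SL2 E)) (hK : PMax Φ K)
    (g : SL2 E) (hg : g ∈ K) (hg1 : g ≠ 1) (htr : g 0 0 + g 1 1 = 2) :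
    ∃ H : Subgroup (SL2 E), PMax Φ H ∧
      Nonempty (K.map (QuotientGroup.mk' (Subgroup.center (SL2 E))) ≃*
        H.map (QuotientGroup.mk' (Subgroup.center (SL2 E)))) ∧ upSL 1 ∈ H ∧
      (∀ g ∈ H, g 1 0 = 0 → ∃ h ∈ H, h 0 0 = g 0 0 ∧ h 0 1 = 0 ∧ h 1 0 = 0) := by
  have hgS := unip_mem_range Φ h2 g (hK.le hg) htr
  obtain ⟨g₀, rfl⟩ := hgS
  have hg₀1 : g₀ ≠ 1 := by
    rintro rfl
    exact hg1 (map_one _)
  have htr₀ : g₀ 0 0 + g₀ 1 1 = 2 := by
    apply Φ.injective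
    rw [map_add, ← sl2_map_apply, ← sl2_map_apply, htr, map_ofNat]
  obtain ⟨c₁, t₀, ht₀, hu⟩ :=
    exists_conj_unip (K.comap (Matrix.SpecialLinearGroup.map Φ : SL2 F →* SL2 E)) g₀ hg hg₀1 htr₀
  rw [mem_conjSub, Subgroup.mem_comap, map_mul, map_mul, map_inv, map_upSL] at hu
  have hc₁P : Matrix.SpecialLinearGroup.map Φ c₁ ∈ pglSL Φ := range_le_pglSL Φ ⟨c₁, rfl⟩
  have hK₁ := hK.conj h2 hcard _ hc₁P
  have hu₁ : upSL (Φ t₀) ∈ conjSub (Matrix.SpecialLinearGroup.map Φ c₁) K :=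
    (mem_conjSub _ _ _).mpr hu
  obtain ⟨s, hs⟩ := isSquare_of_card_sq Φ h2 hcard t₀⁻¹ (inv_ne_zero ht₀)
  have hs0 : s ≠ 0 := by
    rintro rfl
    rw [mul_zero] at hs
    exact (map_ne_zero Φ).mpr (inv_ne_zero ht₀) hs
  have hdP : diagSL s hs0 ∈ pglSL Φ := diagSL_mem_pglSL Φ s hs0 t₀⁻¹ (by rw [hs, pow_two])
  have hK₂ := hK₁.conj h2 hcard _ hdP
  have hu₂ : upSL 1 ∈ conjSub (diagSL s hs0) (conjSub (Matrix.SpecialLinearGroup.map Φ c₁) K) := by
    rw [mem_conjSub]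
    have hΦ : Φ t₀ = s⁻¹ * s⁻¹ := by
      rw [map_inv₀] at hs
      rw [← mul_inv, ← hs, inv_inv]
    have e : (diagSL s hs0)⁻¹ * upSL 1 * diagSL s hs0 = upSL (Φ t₀) := by
      apply sl2_ext <;> simp only [sl2_mul_apply, sl2_inv_00, sl2_inv_01, sl2_inv_10, sl2_inv_11,
        diagSL_00, diagSL_01, diagSL_10, diagSL_11, upSL_00, upSL_01, upSL_10, upSL_11]
      · field_simp
        ring
      · rw [hΦ]; ring
      · ring
      · field_simp
        ring
    rw [e]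
    exact hu₁
  obtain ⟨s₀, hB⟩ := exists_conj_hB_rat Φ _ hK₂.le (hK₂.center negOne_mem_center)
  have hK₃ := hK₂.conj h2 hcard (upSL (Φ s₀))
    (range_le_pglSL Φ ⟨upSL s₀, map_upSL Φ s₀⟩)
  obtain ⟨e1⟩ := map_aut_equiv (MulAut.conj (Matrix.SpecialLinearGroup.map Φ c₁)) K
  obtain ⟨e2⟩ := map_aut_equiv (MulAut.conj (diagSL s hs0))
    (conjSub (Matrix.SpecialLinearGroup.map Φ c₁) K)
  obtain ⟨e3⟩ := map_aut_equiv (MulAut.conj (upSL (Φ s₀)))
    (conjSub (diagSL s hs0) (conjSub (Matrix.SpecialLinearGroup.map Φ c₁) K))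
  exact ⟨_, hK₃, ⟨(e1.trans e2).trans e3⟩, upSL_mem_conjSub_upSL (Φ s₀) 1 _ hu₂, hB⟩

end Cards

end Cfsg.Agent.Lib.helper98
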