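import Mathlib
import Cfsg.Agent.Lib.helper98.PglB

/-!
# Maximal subgroups of `PGL₂(q)`: the wild case

`pmax_wild`: a `PMax` subgroup of `pglSL Φ` containing a nontrivial unipotent element satisfies
`PglConcl`.
-/

set_option autoImplicit false
set_option linter.unusedSimpArgs false
set_option linter.unusedVariables false

namespace Cfsg.Agent.Lib.helper98

open Matrix
open scoped Classical
open Cfsg.Agent.Lib.helper46

local notation "SL2" => Matrix.SpecialLinearGroup (Fin 2)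
local notation "PSL2" => Matrix.ProjectiveSpecialLinearGroup (Fin 2)
local notation "M2" => Matrix (Fin 2) (Fin 2)

section WildAux

theorem card_pow_of_ringHom {K₀ F : Type*} [Field K₀] [Field F] [Fintype K₀] [Fintype F]
    (ψ : K₀ →+* F) : ∃ m, Fintype.card F = Fintype.card K₀ ^ m := by
  let _ := ψ.toAlgebra
  exact ⟨_, Module.card_eq_pow_finrank (K := K₀) (V := F)⟩

theorem cube_lt_cube (x y : ℕ) (hx : 1 ≤ x) (h : x < y) :
    x * (x ^ 2 - 1) < y * (y ^ 2 - 1) := by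
  have hpos : 0 < y ^ 2 - 1 := by
    have h3 : 2 ^ 2 ≤ y ^ 2 := Nat.pow_le_pow_left (by omega) 2
    omega
  calc x * (x ^ 2 - 1) ≤ x * (y ^ 2 - 1) :=
        Nat.mul_le_mul_left _ (Nat.sub_le_sub_right (Nat.pow_le_pow_left h.le 2) 1)
    _ < y * (y ^ 2 - 1) := Nat.mul_lt_mul_of_pos_right h hpos

variable {F E : Type*} [Field F] [Field E]

theorem map_lowSL (φ : F →+* E) (k : F) :
    Matrix.SpecialLinearGroup.map φ (lowSL k) = lowSL (φ k) := by
  apply sl2_ext <;> simp only [sl2_map_apply, lowSL_00, lowSL_01, lowSL_10, lowSL_11, map_one,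
    map_zero]

end WildAux

section Wild

variable {F E : Type*} [Field F] [Field E] [Fintype F] [Fintype E]

/-- Borel case. -/
theorem pmax_borel (Φ : F →+* E) (h2 : (2 : E) ≠ 0)
    (hcard : Fintype.card E = Fintype.card F ^ 2) (H : Subgroup (SL2 E)) (hK : PMax Φ H)
    (hall : ∀ g ∈ H, g 1 0 = 0) :
    Nat.card (H.map (QuotientGroup.mk' (Subgroup.center (SL2 E)))) =
      Fintype.card F * (Fintype.card F - 1) := by
  have hle : H ≤ pglSL Φ ⊓ borelSL E := fun g hg => ⟨hK.le hg, (mem_borelSL g).mpr (hall g hg)⟩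
  have hlow : lowSL (1 : E) ∈ pglSL Φ :=
    range_le_pglSL Φ ⟨lowSL 1, by rw [map_lowSL, map_one]⟩
  have heq : pglSL Φ ⊓ borelSL E = H := by
    rcases hK.max _ hle inf_le_left with h | h
    · exact h
    · exfalso
      have h1 : lowSL (1 : E) ∈ pglSL Φ ⊓ borelSL E := by rw [h]; exact hlow
      have h3 := (mem_borelSL _).mp h1.2
      rw [lowSL_10] at h3
      exact one_ne_zero h3
  have hinf : H ⊓ (Matrix.SpecialLinearGroup.map Φ : SL2 F →* SL2 E).range =
      (borelSL F).map (Matrix.SpecialLinearGroup.map Φ : SL2 F →* SL2 E) := by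
    ext g
    constructor
    · rintro ⟨hgH, g₀, rfl⟩
      refine ⟨g₀, ?_, rfl⟩
      have h1 := hall _ hgH
      rw [sl2_map_apply] at h1
      exact (mem_borelSL g₀).mpr ((map_eq_zero Φ).mp h1)
    · rintro ⟨g₀, hg₀, rfl⟩
      refine ⟨?_, g₀, rfl⟩
      rw [← heq]
      refine ⟨range_le_pglSL Φ ⟨g₀, rfl⟩, ?_⟩
      show (Matrix.SpecialLinearGroup.map Φ g₀) 1 0 = 0
      rw [sl2_map_apply, (mem_borelSL g₀).mp hg₀, map_zero]
  have hc := hK.card_eq h2 hcard
  rw [hinf, Subgroup.card_map_of_injective (sl2_map_injective Φ), card_borelSL] at hc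
  have hcardmap := card_map_mk_mul (Subgroup.center (SL2 E)) H hK.center
  rw [card_center_odd h2, hc] at hcardmap
  exact Nat.eq_of_mul_eq_mul_right (by norm_num : 0 < 2) (by rw [hcardmap]; ring)

/-- `SL`-type case: impossible. -/
theorem pmax_sl_absurd (p : ℕ) [Fact p.Prime] [CharP E p] (Φ : F →+* E) (h2 : (2 : E) ≠ 0)
    (hcard : Fintype.card E = Fintype.card F ^ 2) (H : Subgroup (SL2 E)) (hK : PMax Φ H)
    (hB : ∀ g ∈ H, g 1 0 = 0 → ∃ h ∈ H, h 0 0 = g 0 0 ∧ h 0 1 = 0 ∧ h 1 0 = 0)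
    (hu1 : upSL 1 ∈ H)
    (hd : Nat.card {g : SL2 E // g ∈ H ∧ g 0 1 = 0 ∧ g 1 0 = 0} =
      Nat.card {t : E // upSL t ∈ H} - 1)
    (hc : Nat.card H = Nat.card {t : E // upSL t ∈ H} *
      (Nat.card {t : E // upSL t ∈ H} ^ 2 - 1)) : False := by
  have hAq := card_UH_dvd H
  have hdq := card_TH_dvd H
  have hA2 : 2 ≤ Nat.card {t : E // upSL t ∈ H} := by
    have : Nontrivial {t : E // upSL t ∈ H} :=
      ⟨⟨⟨0, by rw [upSL_zero]; exact H.one_mem⟩, ⟨1, hu1⟩,
        fun h => one_ne_zero (congrArg Subtype.val h).symm⟩⟩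
    exact Finite.one_lt_card
  obtain ⟨K₀, _, _, m, ψ, hK₀, hm⟩ := exists_subfield_data p _ hA2 hAq
    (by rw [← hd]; exact hdq)
  obtain ⟨c, hc'⟩ := sl_type_conj ψ h2 H hB (by rw [hK₀]; exact hd) hu1 hK₀.symm
    (by rw [hK₀]; exact hc)
  obtain ⟨N, hN⟩ : ∃ N : Subgroup (SL2 K₀), N =
      (conjSub c (Matrix.SpecialLinearGroup.map Φ : SL2 F →* SL2 E).range).comap
        (Matrix.SpecialLinearGroup.map ψ : SL2 K₀ →* SL2 E) := ⟨_, rfl⟩
  have hmemN : ∀ g₀ : SL2 K₀, g₀ ∈ N ↔ c⁻¹ * Matrix.SpecialLinearGroup.map ψ g₀ * c ∈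
      (Matrix.SpecialLinearGroup.map Φ : SL2 F →* SL2 E).range := by
    intro g₀
    rw [hN, Subgroup.mem_comap, mem_conjSub]
  have hunip : ∀ g₀ : SL2 K₀, g₀ 0 0 + g₀ 1 1 = 2 → g₀ ∈ N := by
    intro g₀ htr
    rw [hmemN]
    have hH : c⁻¹ * Matrix.SpecialLinearGroup.map ψ g₀ * c ∈ H := by
      rw [← mem_conjSub, hc']
      exact ⟨g₀, rfl⟩
    apply unip_mem_range Φ h2 _ (hK.le hH)
    have h3 := trace_conj c⁻¹ (Matrix.SpecialLinearGroup.map ψ g₀)
    rw [inv_inv] at h3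
    rw [h3, sl2_map_apply, sl2_map_apply, ← map_add, htr, map_ofNat]
  have hNtop : N = ⊤ := by
    apply eq_top_of_unip_le N
    · intro t
      apply hunip
      rw [upSL_00, upSL_11]; norm_num
    · intro t
      apply hunip
      rw [lowSL_00, lowSL_11]; norm_num
  apply hK.not_le_range h2 hcard
  intro h hh
  have h1 : c * h * c⁻¹ ∈ conjSub c H := by
    rw [mem_conjSub]
    have e : c⁻¹ * (c * h * c⁻¹) * c = h := by group
    rw [e]; exact hh
  rw [hc'] at h1
  obtain ⟨g₀, hg₀⟩ := h1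
  have h3 : g₀ ∈ N := by rw [hNtop]; trivial
  rw [hmemN, hg₀] at h3
  have e : c⁻¹ * (c * h * c⁻¹) * c = h := by group
  rw [e] at h3
  exact h3

/-- `A₅` case: impossible. -/
theorem pmax_a5_absurd [CharP E 3] (Φ : F →+* E) (h2 : (2 : E) ≠ 0)
    (hcard : Fintype.card E = Fintype.card F ^ 2) (H : Subgroup (SL2 E)) (hK : PMax Φ H)
    (hc : Nat.card H = 120) : False := by
  have hZH := hK.center
  have hZ2 := card_center_odd h2
  have hcardmap := card_map_mk_mul (Subgroup.center (SL2 E)) H hZH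
  rw [hZ2] at hcardmap
  have hc60 : Nat.card (H.map (QuotientGroup.mk' (Subgroup.center (SL2 E)))) = 60 := by omega
  obtain ⟨e⟩ : Nonempty (↥(H.map (QuotientGroup.mk' (Subgroup.center (SL2 E)))) ≃*
      alternatingGroup (Fin 5)) := by
    apply rec60 hc60
    intro x y hx hy hxy
    have h3 := psl_cube_of_comm (x : PSL2 E) (y : PSL2 E)
      (by rw [Subgroup.orderOf_coe]; exact hy)
      (by
        have h4 := congrArg Subtype.val hxy
        simpa only [Subgroup.coe_mul] using h4)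
    have h4 : orderOf (x : PSL2 E) ∣ 3 := orderOf_dvd_of_pow_eq_one h3
    rw [Subgroup.orderOf_coe, hx] at h4
    norm_num at h4
  have hle : (H ⊓ (Matrix.SpecialLinearGroup.map Φ : SL2 F →* SL2 E).range).map
      (QuotientGroup.mk' (Subgroup.center (SL2 E))) ≤
      H.map (QuotientGroup.mk' (Subgroup.center (SL2 E))) := Subgroup.map_mono inf_le_left
  have hZS : Subgroup.center (SL2 E) ≤
      H ⊓ (Matrix.SpecialLinearGroup.map Φ : SL2 F →* SL2 E).range :=
    le_inf hZH (center_le_range Φ)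
  have hcardmap2 := card_map_mk_mul (Subgroup.center (SL2 E)) _ hZS
  rw [hZ2] at hcardmap2
  have hc2 := hK.card_eq h2 hcard
  exact index_two_absurd _ _ hle (by omega) e (alt_no_index_two 5)

set_option maxHeartbeats 1000000 in
/-- `PGL`-type case. -/
theorem pmax_pgl (p : ℕ) [Fact p.Prime] [CharP E p] (Φ : F →+* E) (h2 : (2 : E) ≠ 0)
    (hcard : Fintype.card E = Fintype.card F ^ 2) (H : Subgroup (SL2 E)) (hK : PMax Φ H)
    (hB : ∀ g ∈ H, g 1 0 = 0 → ∃ h ∈ H, h 0 0 = g 0 0 ∧ h 0 1 = 0 ∧ h 1 0 = 0)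
    (hu1 : upSL 1 ∈ H)
    (hd : Nat.card {g : SL2 E // g ∈ H ∧ g 0 1 = 0 ∧ g 1 0 = 0} =
      2 * (Nat.card {t : E // upSL t ∈ H} - 1))
    (hc : Nat.card H = 2 * (Nat.card {t : E // upSL t ∈ H} *
      (Nat.card {t : E // upSL t ∈ H} ^ 2 - 1))) :
    PglConcl F (H.map (QuotientGroup.mk' (Subgroup.center (SL2 E)))) := by
  have hpp := (Fact.out : p.Prime)
  have hAq := card_UH_dvd H
  have hdq := card_TH_dvd H
  have hA2 : 2 ≤ Nat.card {t : E // upSL t ∈ H} := by
    have : Nontrivial {t : E // upSL t ∈ H} :=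
      ⟨⟨⟨0, by rw [upSL_zero]; exact H.one_mem⟩, ⟨1, hu1⟩,
        fun h => one_ne_zero (congrArg Subtype.val h).symm⟩⟩
    exact Finite.one_lt_card
  obtain ⟨K₀, _, _, m, ψ, hK₀, hm⟩ := exists_subfield_data p _ hA2 hAq
    (by
      have h3 : 2 * (Nat.card {t : E // upSL t ∈ H} - 1) ∣ Fintype.card E - 1 := by
        rw [← hd]; exact hdq
      exact dvd_of_mul_left_dvd h3)
  obtain ⟨hsq, hH⟩ := pgl_type_eq ψ h2 H hB (by rw [hK₀]; exact hd) hu1 hK₀.symm
    (by rw [hK₀]; exact hc)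
  have hmap : H.map (QuotientGroup.mk' (Subgroup.center (SL2 E))) = pglSub ψ := by
    rw [hH]
    exact Subgroup.map_comap_eq_self_of_surjective
      (QuotientGroup.mk'_surjective (Subgroup.center (SL2 E))) _
  have hrange : ∀ x : K₀, ∃ y, Φ y = ψ x := by
    intro x
    apply upSL_mem_pglSL Φ
    apply hK.le
    rw [hH]
    exact range_le_pglSL ψ ⟨upSL x, map_upSL ψ x⟩
  obtain ⟨ψ', hψ'⟩ := exists_lift_ringHom Φ ψ hrange
  obtain ⟨m', hm'⟩ := card_pow_of_ringHom ψ'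
  have hFodd : Odd (Fintype.card F) := Nat.odd_iff.mpr (card_odd (two_ne_zero_of_hom Φ h2))
  have hsqΦ := isSquare_of_card_sq Φ h2 hcard
  have hcP := card_pglSL Φ _ rfl h2 hsqΦ
  have hcH := card_pglSL ψ _ rfl h2 hsq
  have hA2' : 2 ≤ Fintype.card K₀ := by rw [hK₀]; exact hA2
  have hm'0 : m' ≠ 0 := by
    rintro rfl
    rw [pow_zero] at hm'
    have := Fintype.one_lt_card (α := F)
    omega
  have hm'1 : m' ≠ 1 := by
    rintro rfl
    rw [pow_one] at hm'
    apply hK.ne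
    apply Subgroup.eq_of_le_of_card_ge hK.le
    rw [hcP, hH, hcH, hm']
  have hm'odd : Odd m' := by
    by_contra hne
    have hev : Even m' := Nat.not_odd_iff_even.mp hne
    have hsq' : ∀ x : K₀, x ≠ 0 → IsSquare (ψ' x) :=
      Cfsg.Agent.S0805.isSquare_map ψ' hFodd m' hev hm'.symm
    apply hK.not_le_range h2 hcard
    rw [hH]
    intro g hg
    obtain ⟨a, b, c, d, u, h00, h01, h10, h11⟩ := pglSL_entries ψ g hg
    have hdet := sl2_det' g
    have hdet' : ψ a * u * (ψ d * u) - ψ b * u * (ψ c * u) = 1 := by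
      rw [h00, h01, h10, h11]; exact hdet
    have hD : ψ (a * d - b * c) * (u * u) = 1 := by
      rw [map_sub, map_mul, map_mul]; linear_combination hdet'
    have hD0 : a * d - b * c ≠ 0 := by
      intro h0
      rw [h0, map_zero, zero_mul] at hD
      exact zero_ne_one hD
    obtain ⟨s, hs⟩ := hsq' _ hD0
    have h1 : (Φ s * u) * (Φ s * u) = 1 := by
      rw [← hψ', hs, map_mul] at hD
      linear_combination hD
    obtain ⟨v, hv⟩ : ∃ v : F, u = Φ v := by
      rcases mul_self_eq_one_iff.mp h1 with h | h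
      · refine ⟨s⁻¹, ?_⟩
        rw [map_inv₀]; exact eq_inv_of_mul_eq_one_right h
      · refine ⟨-s⁻¹, ?_⟩
        have h3 : Φ s * (-u) = 1 := by linear_combination -h
        have h4 := eq_inv_of_mul_eq_one_right h3
        rw [map_neg, map_inv₀, ← h4, neg_neg]
    apply mem_range_map_of_entries
    intro i j
    fin_cases i <;> fin_cases j
    · exact ⟨ψ' a * v, by rw [map_mul, hψ', ← hv]; exact h00⟩
    · exact ⟨ψ' b * v, by rw [map_mul, hψ', ← hv]; exact h01⟩
    · exact ⟨ψ' c * v, by rw [map_mul, hψ', ← hv]; exact h10⟩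
    · exact ⟨ψ' d * v, by rw [map_mul, hψ', ← hv]; exact h11⟩
  obtain ⟨n, -, hqn⟩ := FiniteField.card E p
  obtain ⟨k, hkn, hAk⟩ := (Nat.dvd_prime_pow hpp).mp (hqn ▸ hAq)
  have hk1 : 1 ≤ k := by
    by_contra hlt
    have hk0 : k = 0 := by omega
    rw [hk0, pow_zero] at hAk
    omega
  have hK₀' : Fintype.card K₀ = p ^ k := by rw [hK₀, hAk]
  have hprime : m'.Prime := by
    by_contra hnp
    obtain ⟨a, b, ha, hb, hab⟩ := (Nat.not_prime_iff_exists_mul_eq (by omega : 2 ≤ m')).mp hnp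
    have ha2 : 2 ≤ a := by
      by_contra h
      have h' : a = 0 ∨ a = 1 := by omega
      rcases h' with rfl | rfl
      · rw [zero_mul] at hab; omega
      · rw [one_mul] at hab; omega
    let _ : Fintype (GaloisField p (k * a)) := Fintype.ofFinite _
    have hK₁ : Fintype.card (GaloisField p (k * a)) = p ^ (k * a) := by
      rw [← Nat.card_eq_fintype_card]
      exact GaloisField.card p (k * a) (Nat.mul_ne_zero (by omega) (by omega))
    have hFc : Fintype.card F = p ^ (k * m') := by rw [hm', hK₀', ← pow_mul]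
    obtain ⟨ψ₁'⟩ := Cfsg.Agent.S0805.exists_ringHom (F := F) (K := GaloisField p (k * a)) b
      (by rw [hK₁, hFc, ← pow_mul, mul_assoc, hab])
    obtain ⟨ψ₁, hψ₁⟩ : ∃ ψ₁ : GaloisField p (k * a) →+* E, ψ₁ = Φ.comp ψ₁' := ⟨_, rfl⟩
    have hle1 : pglSL ψ ≤ pglSL ψ₁ := by
      apply pglSL_le_of_range_subset ψ ψ₁
      rintro _ ⟨x, rfl⟩
      apply mem_range_of_pow_card_eq ψ₁
      rw [hK₁, pow_mul, ← hK₀', ← map_pow, FiniteField.pow_card_pow]
    have hle2 : pglSL ψ₁ ≤ pglSL Φ := by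
      apply pglSL_le_of_range_subset ψ₁ Φ
      rintro _ ⟨x, rfl⟩
      exact ⟨ψ₁' x, by rw [hψ₁]; rfl⟩
    have hsq₁ : ∀ x : GaloisField p (k * a), x ≠ 0 → IsSquare (ψ₁ x) := by
      intro x hx
      rw [hψ₁]
      exact hsqΦ (ψ₁' x) ((map_ne_zero ψ₁').mpr hx)
    have hc₁ := card_pglSL ψ₁ _ rfl h2 hsq₁
    have hka : k < k * a := by nlinarith
    have hkam : k * a < k * m' := by nlinarith
    have hlt1 : Fintype.card K₀ < Fintype.card (GaloisField p (k * a)) := by
      rw [hK₀', hK₁]; exact Nat.pow_lt_pow_right hpp.one_lt hka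
    have hlt2 : Fintype.card (GaloisField p (k * a)) < Fintype.card F := by
      rw [hFc, hK₁]; exact Nat.pow_lt_pow_right hpp.one_lt hkam
    rcases hK.max (pglSL ψ₁) (by rw [hH]; exact hle1) hle2 with h | h
    · rw [h, hH, hcH] at hc₁
      have h3 := cube_lt_cube _ _ (by omega) hlt1
      omega
    · rw [h, hcP] at hc₁
      have h3 := cube_lt_cube _ _ (by omega) hlt2
      omega
  right; right; right; right
  refine ⟨K₀, inferInstance, inferInstance, m', hprime, hm'odd, hm', ?_⟩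
  rw [hmap]
  exact pglSub_equiv ψ hsq

/-- **Wild maximal subgroups of `pglSL Φ`.** -/
theorem pmax_wild (p : ℕ) [Fact p.Prime] [CharP E p] (Φ : F →+* E) (h2 : (2 : E) ≠ 0)
    (hcard : Fintype.card E = Fintype.card F ^ 2) (K : Subgroup (SL2 E)) (hK : PMax Φ K)
    (hw : ∃ g ∈ K, g ≠ 1 ∧ g 0 0 + g 1 1 = 2) :
    PglConcl F (K.map (QuotientGroup.mk' (Subgroup.center (SL2 E)))) := by
  obtain ⟨g, hg, hg1, htr⟩ := hw
  obtain ⟨H, hH, ⟨e⟩, hu1, hB⟩ := pmax_normalize Φ h2 hcard K hK g hg hg1 htr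
  apply pglConcl_congr F e.symm
  have hneg : negOne ∈ H := hH.center negOne_mem_center
  rcases wild_odd_normalized' p h2 H hneg hB 1 one_ne_zero hu1 with h | ⟨hd, hc⟩ | ⟨hd, hc⟩ |
    ⟨hp3, hc⟩
  · left; exact pmax_borel Φ h2 hcard H hH h
  · exact (pmax_sl_absurd p Φ h2 hcard H hH hB hu1 hd hc).elim
  · exact pmax_pgl p Φ h2 hcard H hH hB hu1 hd hc
  · subst hp3
    exact (pmax_a5_absurd Φ h2 hcard H hH hc).elim

end Wild

end Cfsg.Agent.Lib.helper98
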