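import Mathlib
import Cfsg.Agent.Lib.helper98.PglC

/-!
# Maximal subgroups of `PGL₂(q)`: the torus case

`pmax_torus`: a `PMax` subgroup `K` of `pglSL Φ` such that the `K`-conjugates of a non-central
semisimple element `x ∈ K ∩ SL₂(F)` commute with `x` is a full torus normalizer, dihedral modulo
the centre of order `2 (q ∓ 1)`; the case `q = 5`, `n = 4` is impossible.
-/

set_option autoImplicit false
set_option linter.unusedSimpArgs false
set_option linter.unusedVariables false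

namespace Cfsg.Agent.Lib.helper98

open Matrix
open scoped Classical
open Cfsg.Agent.Lib.helper46

local notation "SL2" => Matrix.SpecialLinearGroup (Fin 2)
local notation "PSL2" => Matrix.ProjectiveSpecialLinearGroup (Fin 2)
local notation "M2" => Matrix (Fin 2) (Fin 2)

section Generic

variable {G : Type*} [Group G]

theorem conj_mem_center_iff' (c y : G) :
    c⁻¹ * y * c ∈ Subgroup.center G ↔ y ∈ Subgroup.center G := by
  constructor
  · intro h
    have hz := Subgroup.mem_center_iff.mp h c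
    have e : y = c⁻¹ * y * c := by
      apply mul_right_cancel (b := c)
      rw [← hz]; group
    rw [e]; exact h
  · intro h
    have hz := Subgroup.mem_center_iff.mp h c
    have e : c⁻¹ * y * c = y := by rw [mul_assoc, ← hz, inv_mul_cancel_left]
    rw [e]; exact h

theorem dicSub_conj_mem (t w : G) (hw : w * t * w⁻¹ = t⁻¹) (hw2 : w * w ∈ Subgroup.zpowers t)
    (d y : G) (hd : d ∈ dicSub t w hw hw2) (hy : y ∈ Subgroup.zpowers t) :
    d * y * d⁻¹ ∈ Subgroup.zpowers t := by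
  have hwconj : ∀ z ∈ Subgroup.zpowers t, w * z * w⁻¹ ∈ Subgroup.zpowers t := by
    intro z hz
    obtain ⟨j, rfl⟩ := Subgroup.mem_zpowers_iff.mp hz
    rw [← conj_zpow, hw]
    exact Subgroup.zpow_mem _ (Subgroup.inv_mem _ (Subgroup.mem_zpowers t)) j
  rcases (mem_dicSub t w hw hw2 d).mp hd with h | h
  · exact Subgroup.mul_mem _ (Subgroup.mul_mem _ h hy) (Subgroup.inv_mem _ h)
  · have e : d * y * d⁻¹ = w * ((w⁻¹ * d) * y * (w⁻¹ * d)⁻¹) * w⁻¹ := by group
    rw [e]
    exact hwconj _ (Subgroup.mul_mem _ (Subgroup.mul_mem _ h hy) (Subgroup.inv_mem _ h))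

end Generic

section SLMap

variable {F E : Type*} [Field F] [Field E]

theorem map_mem_center_iff (Φ : F →+* E) (y : SL2 F) :
    Matrix.SpecialLinearGroup.map Φ y ∈ Subgroup.center (SL2 E) ↔
      y ∈ Subgroup.center (SL2 F) := by
  constructor
  · intro h
    rcases center_sl2_eq _ h with h1 | h1
    · have h3 : y = 1 := sl2_map_injective Φ (by rw [h1, map_one])
      rw [h3]; exact Subgroup.one_mem _
    · have h3 : y = negOne := sl2_map_injective Φ (by rw [h1, map_negOne])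
      rw [h3]; exact negOne_mem_center
  · intro h
    rcases center_sl2_eq _ h with h1 | h1
    · rw [h1, map_one]; exact Subgroup.one_mem _
    · rw [h1, map_negOne]; exact negOne_mem_center

theorem det_one_add (g : SL2 F) (htr : g 0 0 + g 1 1 = 0) :
    ((1 : M2 F) + (g : M2 F)).det = 2 := by
  rw [Matrix.det_fin_two]
  have hd := sl2_det' g
  simp only [Matrix.add_apply, Matrix.one_apply_eq, Matrix.one_apply_ne, ne_eq, Fin.isValue,
    zero_ne_one, one_ne_zero, not_false_eq_true, zero_add]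
  linear_combination hd + htr

/-- The element `(1 + I) (1 + J) / 2` cyclically permuting `I`, `J`, `I J`. -/
theorem exists_omega (h2 : (2 : F) ≠ 0) (t w : SL2 F) (ht : t * t = negOne)
    (hw : w * w = negOne) (hwt : w * t * w⁻¹ = t⁻¹) :
    ∃ ω : SL2 F, ω * t * ω⁻¹ = w ∧ ω * w * ω⁻¹ = t * w := by
  obtain ⟨I, hI⟩ : ∃ I : M2 F, I = (t : M2 F) := ⟨_, rfl⟩
  obtain ⟨J, hJ⟩ : ∃ J : M2 F, J = (w : M2 F) := ⟨_, rfl⟩
  have hII : I * I = -1 := by
    rw [hI, ← Matrix.SpecialLinearGroup.coe_mul, ht, coe_negOne]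
  have hJJ : J * J = -1 := by
    rw [hJ, ← Matrix.SpecialLinearGroup.coe_mul, hw, coe_negOne]
  have htinv : t⁻¹ = negOne * t := by
    symm
    apply eq_inv_of_mul_eq_one_left
    rw [mul_assoc, ht, negOne_mul_self]
  have hwt' : w * t = negOne * t * w := by
    rw [← htinv, ← hwt]; group
  have hJI : J * I = -(I * J) := by
    rw [hI, hJ, ← Matrix.SpecialLinearGroup.coe_mul, hwt', Matrix.SpecialLinearGroup.coe_mul,
      Matrix.SpecialLinearGroup.coe_mul, coe_negOne, neg_one_mul, neg_mul]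
  have hdetI : ((1 : M2 F) + I).det = 2 := by
    rw [hI]; exact det_one_add t (trace_zero_of_sq_negOne t ht)
  have hdetJ : ((1 : M2 F) + J).det = 2 := by
    rw [hJ]; exact det_one_add w (trace_zero_of_sq_negOne w hw)
  have hdet : ((2⁻¹ : F) • (((1 : M2 F) + I) * (1 + J))).det = 1 := by
    rw [Matrix.det_smul, Matrix.det_mul, hdetI, hdetJ, Fintype.card_fin]
    field_simp
  obtain ⟨ω, hω⟩ : ∃ ω : SL2 F, (ω : M2 F) = (2⁻¹ : F) • (((1 : M2 F) + I) * (1 + J)) :=
    ⟨⟨_, hdet⟩, rfl⟩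
  have key1 : ((1 : M2 F) + I) * (1 + J) * I - J * (((1 : M2 F) + I) * (1 + J)) =
      (I * I + 1) - (J * J + 1) + I * (I * J + J * I) - (I * I + 1) * J - (I * J + J * I) * J +
        I * (J * J + 1) := by noncomm_ring
  have hz1 : (I * I + 1) - (J * J + 1) + I * (I * J + J * I) - (I * I + 1) * J -
      (I * J + J * I) * J + I * (J * J + 1) = 0 := by
    rw [hII, hJJ, hJI]; simp
  rw [hz1] at key1
  have key2 : ((1 : M2 F) + I) * (1 + J) * J - I * J * (((1 : M2 F) + I) * (1 + J)) =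
      -(I * (I * J + J * I)) + (I * I + 1) * J - I * (I * J + J * I) * J +
        (I * I + 1) * J * J := by noncomm_ring
  have hz2 : -(I * (I * J + J * I)) + (I * I + 1) * J - I * (I * J + J * I) * J +
      (I * I + 1) * J * J = 0 := by
    rw [hII, hJI]; simp
  rw [hz2] at key2
  have h1 : ω * t = w * ω := by
    apply Subtype.ext
    have h3 : ((ω * t : SL2 F) : M2 F) = ((w * ω : SL2 F) : M2 F) := by
      rw [Matrix.SpecialLinearGroup.coe_mul, Matrix.SpecialLinearGroup.coe_mul, hω, ← hI, ← hJ,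
        Matrix.smul_mul, Matrix.mul_smul, sub_eq_zero.mp key1]
    exact h3
  have h2' : ω * w = t * w * ω := by
    apply Subtype.ext
    have h3 : ((ω * w : SL2 F) : M2 F) = ((t * w * ω : SL2 F) : M2 F) := by
      rw [Matrix.SpecialLinearGroup.coe_mul, Matrix.SpecialLinearGroup.coe_mul,
        Matrix.SpecialLinearGroup.coe_mul, hω, ← hI, ← hJ,
        Matrix.smul_mul, Matrix.mul_smul, sub_eq_zero.mp key2]
    exact h3
  exact ⟨ω, by rw [h1]; group, by rw [h2']; group⟩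

end SLMap

section Torus

variable {F E : Type*} [Field F] [Field E] [Fintype F] [Fintype E]

/-- If `K` normalizes the image of a non-central proper subgroup `N₁` of `SL₂(F)`, then every
element of `pglSL Φ` normalizing this image lies in `K`. -/
theorem pmax_normalizer_mem (Φ : F →+* E) (h2 : (2 : E) ≠ 0)
    (hcard : Fintype.card E = Fintype.card F ^ 2) (h4 : 4 ≤ Fintype.card F)
    (K : Subgroup (SL2 E)) (hK : PMax Φ K) (N₁ : Subgroup (SL2 F))
    (hN₁c : ¬ N₁ ≤ Subgroup.center (SL2 F)) (hN₁top : N₁ ≠ ⊤)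
    (hKN : ∀ k ∈ K, ∀ y₀ ∈ N₁, k * Matrix.SpecialLinearGroup.map Φ y₀ * k⁻¹ ∈
      N₁.map (Matrix.SpecialLinearGroup.map Φ : SL2 F →* SL2 E))
    (s : SL2 E) (hsP : s ∈ pglSL Φ)
    (hs : ∀ y₀ ∈ N₁, s * Matrix.SpecialLinearGroup.map Φ y₀ * s⁻¹ ∈
      N₁.map (Matrix.SpecialLinearGroup.map Φ : SL2 F →* SL2 E)) : s ∈ K := by
  obtain ⟨NP, hNP⟩ : ∃ NP : Subgroup (SL2 E), NP = Subgroup.normalizer
      ((N₁.map (Matrix.SpecialLinearGroup.map Φ : SL2 F →* SL2 E) : Subgroup (SL2 E)) :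
        Set (SL2 E)) ⊓ pglSL Φ := ⟨_, rfl⟩
  have hmemN : ∀ s' : SL2 E, (∀ y₀ ∈ N₁, s' * Matrix.SpecialLinearGroup.map Φ y₀ * s'⁻¹ ∈
      N₁.map (Matrix.SpecialLinearGroup.map Φ : SL2 F →* SL2 E)) → s' ∈ pglSL Φ → s' ∈ NP := by
    intro s' hs' hs'P
    rw [hNP]
    refine ⟨mem_normalizer_of_conj_le _ s' ?_, hs'P⟩
    rintro _ ⟨y₀, hy₀, rfl⟩
    exact hs' y₀ hy₀
  have hle : K ≤ NP := fun k hk => hmemN k (hKN k hk) (hK.le hk)
  have hleP : NP ≤ pglSL Φ := by rw [hNP]; exact inf_le_right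
  rcases hK.max NP hle hleP with h | h
  · rw [← h]; exact hmemN s hs hsP
  · exfalso
    apply hN₁top
    apply normal_eq_top (two_ne_zero_of_hom Φ h2) h4 N₁ _ hN₁c
    intro s₀ y₀ hy₀
    have h1 : Matrix.SpecialLinearGroup.map Φ s₀ ∈ NP := by
      rw [h]; exact range_le_pglSL Φ ⟨s₀, rfl⟩
    rw [hNP] at h1
    have h3 := (Subgroup.mem_normalizer_iff.mp h1.1 (Matrix.SpecialLinearGroup.map Φ y₀)).mp
      (Subgroup.mem_map_of_mem _ hy₀)
    obtain ⟨z₀, hz₀, hz⟩ := h3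
    have h5 : z₀ = s₀ * y₀ * s₀⁻¹ :=
      sl2_map_injective Φ (by rw [hz, map_mul, map_mul, map_inv])
    rw [← h5]; exact hz₀

set_option maxHeartbeats 1000000 in
/-- The torus case, with the torus in standard position. -/
theorem pmax_torus_core (p : ℕ) [Fact p.Prime] [CharP E p] (Φ : F →+* E) (h2 : (2 : E) ≠ 0)
    (hcard : Fintype.card E = Fintype.card F ^ 2) (h5 : 5 ≤ Fintype.card F)
    (K : Subgroup (SL2 E)) (hK : PMax Φ K)
    (n : ℕ) (t w : SL2 F) (hn : n = Fintype.card F - 1 ∨ n = Fintype.card F + 1)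
    (hpkg : TorusPkg n t w)
    (x₀ : SL2 F) (hx₀t : x₀ ∈ Subgroup.zpowers t) (hx₀c : x₀ ∉ Subgroup.center (SL2 F))
    (hxK : Matrix.SpecialLinearGroup.map Φ x₀ ∈ K)
    (hp : ¬ p ∣ orderOf (Matrix.SpecialLinearGroup.map Φ x₀))
    (hcomm : ∀ k ∈ K, (k * Matrix.SpecialLinearGroup.map Φ x₀ * k⁻¹) *
        Matrix.SpecialLinearGroup.map Φ x₀ =
      Matrix.SpecialLinearGroup.map Φ x₀ * (k * Matrix.SpecialLinearGroup.map Φ x₀ * k⁻¹)) :
    PglConcl F (K.map (QuotientGroup.mk' (Subgroup.center (SL2 E)))) := by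
  have hpkg' := hpkg
  obtain ⟨ht, hC, hcent, hconj, hw, hwT, hw2Z, hZ⟩ := hpkg'
  have h2F : (2 : F) ≠ 0 := two_ne_zero_of_hom Φ h2
  have hZ2 := card_center_odd h2
  have hZ2F := card_center_odd h2F
  have hcardS := Cfsg.Agent.Lib.helper7.card_SL2 (F := F) rfl
  have hbig : 2 * (Fintype.card F + 1) < Fintype.card F * (Fintype.card F ^ 2 - 1) := by
    have h3 : Fintype.card F ^ 2 - 1 = (Fintype.card F - 1) * (Fintype.card F + 1) := by
      obtain ⟨m, hm⟩ : ∃ m, Fintype.card F = m + 1 := ⟨Fintype.card F - 1, by omega⟩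
      rw [hm]
      apply Nat.sub_eq_of_eq_add
      simp only [Nat.add_sub_cancel]; ring
    rw [h3]
    have h4 : 5 * (4 * (Fintype.card F + 1)) ≤
        Fintype.card F * ((Fintype.card F - 1) * (Fintype.card F + 1)) :=
      Nat.mul_le_mul h5 (Nat.mul_le_mul_right _ (by omega))
    omega
  have hnle : n ≤ Fintype.card F + 1 := by rcases hn with rfl | rfl <;> omega
  obtain ⟨N₀, hN₀⟩ : ∃ N₀ : Subgroup (SL2 F), N₀ = dicSub t w hw (hZ hw2Z) := ⟨_, rfl⟩
  have hcardN₀ : Nat.card N₀ = 2 * n := by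
    rw [hN₀, card_dicSub t w hw (hZ hw2Z) hwT, ht]
  have htN₀ : Subgroup.zpowers t ≤ N₀ := by rw [hN₀]; exact fun y hy => Or.inl hy
  have hwN₀ : w ∈ N₀ := by
    rw [hN₀, mem_dicSub]; right; rw [inv_mul_cancel]; exact Subgroup.one_mem _
  have hTc : ¬ Subgroup.zpowers t ≤ Subgroup.center (SL2 F) := fun h => hx₀c (h hx₀t)
  have hTtop : Subgroup.zpowers t ≠ ⊤ := by
    intro h
    have h1 : Nat.card (Subgroup.zpowers t) = Nat.card (SL2 F) := by rw [h, Subgroup.card_top]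
    rw [Nat.card_zpowers, ht, hcardS] at h1
    omega
  have hN₀c : ¬ N₀ ≤ Subgroup.center (SL2 F) := fun h => hx₀c (h (htN₀ hx₀t))
  have hN₀top : N₀ ≠ ⊤ := by
    intro h
    have h1 : Nat.card N₀ = Nat.card (SL2 F) := by rw [h, Subgroup.card_top]
    rw [hcardN₀, hcardS] at h1
    omega
  have hxc : Matrix.SpecialLinearGroup.map Φ x₀ ∉ Subgroup.center (SL2 E) :=
    fun h => hx₀c ((map_mem_center_iff Φ x₀).mp h)
  -- `K` normalizes the torus
  have stepA : ∀ k ∈ K, ∀ y₀ ∈ Subgroup.zpowers t,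
      k * Matrix.SpecialLinearGroup.map Φ y₀ * k⁻¹ ∈
      (Subgroup.zpowers t).map (Matrix.SpecialLinearGroup.map Φ : SL2 F →* SL2 E) := by
    intro k hk y₀ hy₀
    obtain ⟨x₁, hx₁⟩ := conj_mem_range Φ h2 hcard k _ (hK.le hk) ⟨x₀, rfl⟩
    have hx₁comm : x₁ * x₀ = x₀ * x₁ := by
      apply sl2_map_injective Φ
      rw [map_mul, map_mul, hx₁]
      exact hcomm k hk
    have hx₁t : x₁ ∈ Subgroup.zpowers t := hcent x₀ hx₀t hx₀c x₁ hx₁comm
    have hx₁c : x₁ ∉ Subgroup.center (SL2 F) := by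
      intro h
      have h1 := (map_mem_center_iff Φ x₁).mpr h
      rw [hx₁] at h1
      have h3 := (conj_mem_center_iff' k⁻¹ (Matrix.SpecialLinearGroup.map Φ x₀)).mp
        (by rw [inv_inv]; exact h1)
      exact hxc h3
    obtain ⟨z₀, hz₀⟩ := conj_mem_range Φ h2 hcard k _ (hK.le hk) ⟨y₀, rfl⟩
    have hyx : y₀ * x₀ = x₀ * y₀ := by
      obtain ⟨i, hi⟩ := Subgroup.mem_zpowers_iff.mp hy₀
      obtain ⟨j, hj⟩ := Subgroup.mem_zpowers_iff.mp hx₀t
      rw [← hi, ← hj]
      exact zpow_mul_comm t i j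
    have hz₀comm : z₀ * x₁ = x₁ * z₀ := by
      apply sl2_map_injective Φ
      rw [map_mul, map_mul, hx₁, hz₀]
      calc k * Matrix.SpecialLinearGroup.map Φ y₀ * k⁻¹ *
            (k * Matrix.SpecialLinearGroup.map Φ x₀ * k⁻¹)
          = k * (Matrix.SpecialLinearGroup.map Φ (y₀ * x₀)) * k⁻¹ := by rw [map_mul]; group
        _ = k * (Matrix.SpecialLinearGroup.map Φ (x₀ * y₀)) * k⁻¹ := by rw [hyx]
        _ = k * Matrix.SpecialLinearGroup.map Φ x₀ * k⁻¹ *
            (k * Matrix.SpecialLinearGroup.map Φ y₀ * k⁻¹) := by rw [map_mul]; group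
    have hz₀t : z₀ ∈ Subgroup.zpowers t := hcent x₁ hx₁t hx₁c z₀ hz₀comm
    rw [← hz₀]
    exact Subgroup.mem_map_of_mem _ hz₀t
  -- the full torus normalizer of `SL₂(F)` lies in `K`
  have hDK : ∀ d₀ ∈ N₀, Matrix.SpecialLinearGroup.map Φ d₀ ∈ K := by
    intro d₀ hd₀
    apply pmax_normalizer_mem Φ h2 hcard (by omega) K hK (Subgroup.zpowers t) hTc hTtop stepA _
      (range_le_pglSL Φ ⟨d₀, rfl⟩)
    intro y₀ hy₀
    have h1 := dicSub_conj_mem t w hw (hZ hw2Z) d₀ y₀ (by rw [← hN₀]; exact hd₀) hy₀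
    have e : Matrix.SpecialLinearGroup.map Φ d₀ * Matrix.SpecialLinearGroup.map Φ y₀ *
        (Matrix.SpecialLinearGroup.map Φ d₀)⁻¹ =
        Matrix.SpecialLinearGroup.map Φ (d₀ * y₀ * d₀⁻¹) := by rw [map_mul, map_mul, map_inv]
    rw [e]
    exact Subgroup.mem_map_of_mem _ h1
  have hinf : K ⊓ (Matrix.SpecialLinearGroup.map Φ : SL2 F →* SL2 E).range =
      N₀.map (Matrix.SpecialLinearGroup.map Φ : SL2 F →* SL2 E) := by
    ext k
    constructor
    · rintro ⟨hkK, k₀, rfl⟩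
      refine ⟨k₀, ?_, rfl⟩
      have hcomm₀ : ∀ k₁ ∈ K.comap (Matrix.SpecialLinearGroup.map Φ : SL2 F →* SL2 E),
          (k₁ * x₀ * k₁⁻¹) * x₀ = x₀ * (k₁ * x₀ * k₁⁻¹) := by
        intro k₁ hk₁
        apply sl2_map_injective Φ
        simp only [map_mul, map_inv]
        exact hcomm _ hk₁
      have h1 := le_conj_dicSub n t w hpkg hw (hZ hw2Z)
        (K.comap (Matrix.SpecialLinearGroup.map Φ : SL2 F →* SL2 E)) x₀ hx₀c hcomm₀ 1
        (by rw [inv_one, one_mul, mul_one]; exact hx₀t) k₀ hkK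
      rw [inv_one, one_mul, mul_one] at h1
      rw [hN₀]; exact h1
    · rintro ⟨d₀, hd₀, rfl⟩
      exact ⟨hDK d₀ hd₀, d₀, rfl⟩
  have hcK : Nat.card K = 4 * n := by
    have h1 := hK.card_eq h2 hcard
    rw [hinf, Subgroup.card_map_of_injective (sl2_map_injective Φ), hcardN₀] at h1
    omega
  have hcardmap := card_map_mk_mul (Subgroup.center (SL2 E)) K hK.center
  rw [hZ2, hcK] at hcardmap
  have hcM : Nat.card (K.map (QuotientGroup.mk' (Subgroup.center (SL2 E)))) = 2 * n := by omega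
  -- the quaternion case is impossible
  have hsmall : ¬ n = 4 := by
    intro hn4
    have ht4 : t ^ 4 = 1 := by rw [← hn4, ← ht]; exact pow_orderOf_eq_one t
    have htt : t * t = negOne := by
      have h1 : (t * t) * (t * t) = 1 := by
        rw [← ht4, pow_succ, pow_succ, pow_succ, pow_one]
        simp only [mul_assoc]
      have h3 := mem_center_of_sq_eq_one h2F (t * t) h1
      rcases center_sl2_eq _ h3 with h | h
      · exfalso
        have h4 : orderOf t ∣ 2 := orderOf_dvd_of_pow_eq_one (by rw [pow_two]; exact h)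
        rw [ht, hn4] at h4
        norm_num at h4
      · exact h
    have hww : w * w = negOne := by
      rcases center_sl2_eq _ hw2Z with h | h
      · exact absurd (hZ (mem_center_of_sq_eq_one h2F w h)) hwT
      · exact h
    obtain ⟨ω, hω1, hω2⟩ := exists_omega h2F t w htt hww hw
    have hωN : ∀ y₀ ∈ N₀, ω * y₀ * ω⁻¹ ∈ N₀ := by
      intro y₀ hy₀
      have hpow : ∀ z ∈ Subgroup.zpowers t, ω * z * ω⁻¹ ∈ N₀ := by
        intro z hz
        obtain ⟨j, rfl⟩ := Subgroup.mem_zpowers_iff.mp hz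
        rw [← conj_zpow, hω1]
        exact Subgroup.zpow_mem _ hwN₀ j
      rw [hN₀, mem_dicSub] at hy₀
      rcases hy₀ with h | h
      · exact hpow _ h
      · have e : ω * y₀ * ω⁻¹ = (ω * w * ω⁻¹) * (ω * (w⁻¹ * y₀) * ω⁻¹) := by group
        rw [e, hω2]
        exact Subgroup.mul_mem _
          (Subgroup.mul_mem _ (htN₀ (Subgroup.mem_zpowers t)) hwN₀) (hpow _ h)
    have hωnot : ω ∉ N₀ := by
      intro h
      rw [hN₀, mem_dicSub] at h
      rcases h with h | h
      · obtain ⟨j, hj⟩ := Subgroup.mem_zpowers_iff.mp h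
        have h1 : ω * t * ω⁻¹ = t := by
          rw [← hj]
          have h3 := zpow_mul_comm t j 1
          rw [zpow_one] at h3
          rw [h3]; group
        rw [hω1] at h1
        exact hwT (h1 ▸ Subgroup.mem_zpowers t)
      · obtain ⟨j, hj⟩ := Subgroup.mem_zpowers_iff.mp h
        have hω : ω = w * t ^ j := by rw [hj]; group
        have h1 : ω * t * ω⁻¹ = t⁻¹ := by
          rw [hω]
          have h3 := zpow_mul_comm t j 1
          rw [zpow_one] at h3
          calc w * t ^ j * t * (w * t ^ j)⁻¹ = w * (t ^ j * t) * (t ^ j)⁻¹ * w⁻¹ := by group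
            _ = w * (t * t ^ j) * (t ^ j)⁻¹ * w⁻¹ := by rw [h3]
            _ = w * t * w⁻¹ := by group
            _ = t⁻¹ := hw
        rw [hω1] at h1
        exact hwT (h1 ▸ Subgroup.inv_mem _ (Subgroup.mem_zpowers t))
    have hKN : ∀ k ∈ K, ∀ y₀ ∈ N₀, k * Matrix.SpecialLinearGroup.map Φ y₀ * k⁻¹ ∈
        N₀.map (Matrix.SpecialLinearGroup.map Φ : SL2 F →* SL2 E) := by
      intro k hk y₀ hy₀
      rw [← hinf]
      exact ⟨K.mul_mem (K.mul_mem hk (hDK y₀ hy₀)) (K.inv_mem hk),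
        conj_mem_range Φ h2 hcard k _ (hK.le hk) ⟨y₀, rfl⟩⟩
    have hωK : Matrix.SpecialLinearGroup.map Φ ω ∈ K := by
      apply pmax_normalizer_mem Φ h2 hcard (by omega) K hK N₀ hN₀c hN₀top hKN _
        (range_le_pglSL Φ ⟨ω, rfl⟩)
      intro y₀ hy₀
      have e : Matrix.SpecialLinearGroup.map Φ ω * Matrix.SpecialLinearGroup.map Φ y₀ *
          (Matrix.SpecialLinearGroup.map Φ ω)⁻¹ =
          Matrix.SpecialLinearGroup.map Φ (ω * y₀ * ω⁻¹) := by rw [map_mul, map_mul, map_inv]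
      rw [e]
      exact Subgroup.mem_map_of_mem _ (hωN y₀ hy₀)
    have h1 : Matrix.SpecialLinearGroup.map Φ ω ∈
        K ⊓ (Matrix.SpecialLinearGroup.map Φ : SL2 F →* SL2 E).range := ⟨hωK, ω, rfl⟩
    rw [hinf] at h1
    obtain ⟨d₀, hd₀, hd⟩ := h1
    rw [sl2_map_injective Φ hd] at hd₀
    exact hωnot hd₀
  obtain ⟨k, -, hk⟩ := torus_type p K hK.center (Matrix.SpecialLinearGroup.map Φ x₀) hxc hp hcomm
  rcases hk with ⟨hcyc, hck⟩ | he
  · exfalso
    apply hsmall
    have htK : Matrix.SpecialLinearGroup.map Φ t ∈ K := hDK t (htN₀ (Subgroup.mem_zpowers t))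
    have hwK : Matrix.SpecialLinearGroup.map Φ w ∈ K := hDK w hwN₀
    have hab : ∀ a b : ↥(K.map (QuotientGroup.mk' (Subgroup.center (SL2 E)))), a * b = b * a :=
      fun a b => (IsCyclic.commGroup
        (α := ↥(K.map (QuotientGroup.mk' (Subgroup.center (SL2 E)))))).mul_comm a b
    have h1 := hab ⟨QuotientGroup.mk' _ (Matrix.SpecialLinearGroup.map Φ t),
      Subgroup.mem_map_of_mem _ htK⟩ ⟨QuotientGroup.mk' _ (Matrix.SpecialLinearGroup.map Φ w),
      Subgroup.mem_map_of_mem _ hwK⟩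
    have h3 := congrArg Subtype.val h1
    simp only [Subgroup.coe_mul] at h3
    rw [← map_mul (QuotientGroup.mk' (Subgroup.center (SL2 E))),
      ← map_mul (QuotientGroup.mk' (Subgroup.center (SL2 E)))] at h3
    have h4 : (Matrix.SpecialLinearGroup.map Φ t * Matrix.SpecialLinearGroup.map Φ w)⁻¹ *
        (Matrix.SpecialLinearGroup.map Φ w * Matrix.SpecialLinearGroup.map Φ t) ∈
        Subgroup.center (SL2 E) := QuotientGroup.eq.mp h3
    have e1 : (Matrix.SpecialLinearGroup.map Φ t * Matrix.SpecialLinearGroup.map Φ w)⁻¹ *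
        (Matrix.SpecialLinearGroup.map Φ w * Matrix.SpecialLinearGroup.map Φ t) =
        Matrix.SpecialLinearGroup.map Φ (t * t) := by
      have e2 : (t * w)⁻¹ * (w * t) = t * t := by
        have e3 : w⁻¹ * t⁻¹ * w = t := by rw [← hw]; group
        calc (t * w)⁻¹ * (w * t) = (w⁻¹ * t⁻¹ * w) * t := by group
          _ = t * t := by rw [e3]
      rw [← e2, map_mul, map_inv, map_mul, map_mul]
    rw [e1] at h4
    have h5 := (map_mem_center_iff Φ (t * t)).mp h4
    have h6 : (t * t) ^ 2 = 1 := by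
      have h7 := pow_card_eq_one' (G := Subgroup.center (SL2 F)) (x := ⟨t * t, h5⟩)
      rw [hZ2F] at h7
      have h8 := congrArg Subtype.val h7
      simpa using h8
    rw [pow_two] at h6
    have h9 : orderOf t ∣ 4 := orderOf_dvd_of_pow_eq_one (by
      rw [pow_succ, pow_succ, pow_succ, pow_one, mul_assoc]; exact h6)
    rw [ht] at h9
    have h10 := Nat.le_of_dvd (by norm_num) h9
    rcases hn with rfl | rfl <;> omega
  · obtain ⟨e⟩ := he
    have hk : k = n := by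
      have h1 := Nat.card_congr e.toEquiv
      rw [hcM, DihedralGroup.nat_card] at h1
      omega
    subst hk
    rcases hn with hn | hn
    · right; left
      refine ⟨?_, ?_⟩
      · intro h5'
        apply hsmall
        rw [hn, h5']
      · rw [← hn]; exact ⟨e⟩
    · right; right; left
      rw [← hn]; exact ⟨e⟩

/-- **The torus case.** -/
theorem pmax_torus (p : ℕ) [Fact p.Prime] [CharP E p] [CharP F p] (Φ : F →+* E)
    (h2 : (2 : E) ≠ 0) (hcard : Fintype.card E = Fintype.card F ^ 2) (h5 : 5 ≤ Fintype.card F)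
    (K : Subgroup (SL2 E)) (hK : PMax Φ K) (x : SL2 E) (hxK : x ∈ K)
    (hxS : x ∈ (Matrix.SpecialLinearGroup.map Φ : SL2 F →* SL2 E).range)
    (hxc : x ∉ Subgroup.center (SL2 E)) (hp : ¬ p ∣ orderOf x)
    (hcomm : ∀ k ∈ K, (k * x * k⁻¹) * x = x * (k * x * k⁻¹)) :
    PglConcl F (K.map (QuotientGroup.mk' (Subgroup.center (SL2 E)))) := by
  obtain ⟨x₀', rfl⟩ := hxS
  have hx₀'c : x₀' ∉ Subgroup.center (SL2 F) :=
    fun h => hxc ((map_mem_center_iff Φ x₀').mpr h)
  have hp₀ : ¬ p ∣ orderOf x₀' := by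
    rw [← orderOf_injective (Matrix.SpecialLinearGroup.map Φ : SL2 F →* SL2 E)
      (sl2_map_injective Φ) x₀']
    exact hp
  obtain ⟨n, t, w, g, hn, hpkg, hg⟩ := exists_conj_mem_torus p x₀' hx₀'c hp₀
  obtain ⟨c, hc⟩ : ∃ c : SL2 E, c = Matrix.SpecialLinearGroup.map Φ g⁻¹ := ⟨_, rfl⟩
  have hcP : c ∈ pglSL Φ := by rw [hc]; exact range_le_pglSL Φ ⟨g⁻¹, rfl⟩
  have hK' := hK.conj h2 hcard c hcP
  obtain ⟨e⟩ := map_aut_equiv (MulAut.conj c) K
  apply pglConcl_congr F e.symm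
  have hx' : Matrix.SpecialLinearGroup.map Φ (g⁻¹ * x₀' * g) =
      c * Matrix.SpecialLinearGroup.map Φ x₀' * c⁻¹ := by
    rw [hc, map_mul, map_mul, map_inv, inv_inv]
  apply pmax_torus_core p Φ h2 hcard h5 (conjSub c K) hK' n t w hn hpkg (g⁻¹ * x₀' * g) hg
  · exact fun h => hx₀'c ((conj_mem_center_iff' g x₀').mp h)
  · rw [mem_conjSub, hx']
    have e1 : c⁻¹ * (c * Matrix.SpecialLinearGroup.map Φ x₀' * c⁻¹) * c =
        Matrix.SpecialLinearGroup.map Φ x₀' := by group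
    rw [e1]; exact hxK
  · rw [hx']
    have h1 := MulEquiv.orderOf_eq (MulAut.conj c) (Matrix.SpecialLinearGroup.map Φ x₀')
    rw [MulAut.conj_apply] at h1
    rw [h1]; exact hp
  · intro k' hk'
    rw [mem_conjSub] at hk'
    rw [hx']
    have h1 := hcomm _ hk'
    have e1 : (k' * (c * Matrix.SpecialLinearGroup.map Φ x₀' * c⁻¹) * k'⁻¹) *
        (c * Matrix.SpecialLinearGroup.map Φ x₀' * c⁻¹) =
        c * (((c⁻¹ * k' * c) * Matrix.SpecialLinearGroup.map Φ x₀' * (c⁻¹ * k' * c)⁻¹) *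
          Matrix.SpecialLinearGroup.map Φ x₀') * c⁻¹ := by group
    have e2 : (c * Matrix.SpecialLinearGroup.map Φ x₀' * c⁻¹) *
        (k' * (c * Matrix.SpecialLinearGroup.map Φ x₀' * c⁻¹) * k'⁻¹) =
        c * (Matrix.SpecialLinearGroup.map Φ x₀' *
          ((c⁻¹ * k' * c) * Matrix.SpecialLinearGroup.map Φ x₀' * (c⁻¹ * k' * c)⁻¹)) * c⁻¹ := by
      group
    rw [e1, e2, h1]

end Torus

end Cfsg.Agent.Lib.helper98
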