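import Mathlib
import Cfsg.Agent.Lib.helper98.PglD

/-!
# Maximal subgroups of `PGL₂(q)`: the tame case and the assembly

`pmax_main`: every `PMax` subgroup of `pglSL Φ` satisfies `PglConcl`.
-/

set_option autoImplicit false
set_option linter.unusedSimpArgs false
set_option linter.unusedVariables false

namespace Cfsg.Agent.Lib.helper98

open Matrix
open scoped Classical
open Cfsg.Agent.Lib.helper46

local notation "SL2" => Matrix.SpecialLinearGroup (Fin 2)
local notation "PSL2" => Matrix.ProjectiveSpecialLinearGroup (Fin 2)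
local notation "M2" => Matrix (Fin 2) (Fin 2)

section Arith

theorem sixteen_dvd (q : ℕ) (hq : q % 2 = 1) : 16 ∣ 2 * (q * (q ^ 2 - 1)) := by
  obtain ⟨j, rfl⟩ : ∃ j, q = 2 * j + 1 := ⟨q / 2, by omega⟩
  have h1 : (2 * j + 1) ^ 2 - 1 = 4 * (j * (j + 1)) := by
    apply Nat.sub_eq_of_eq_add; ring
  obtain ⟨m, hm⟩ := Nat.even_mul_succ_self j
  rw [h1, hm]
  exact ⟨(2 * j + 1) * m, by ring⟩

end Arith

section SpanRange

variable {F E : Type*} [Field F] [Field E]

theorem spanAlg_entries_range (Φ : F →+* E) (L : Subfield E) (hL : ∀ x ∈ L, x ∈ Set.range Φ)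
    (K' : Subgroup (SL2 E))
    (hK' : K' ≤ (Matrix.SpecialLinearGroup.map Φ : SL2 F →* SL2 E).range)
    {a : M2 E} (ha : a ∈ spanAlg L K') : ∀ i j, a i j ∈ Set.range Φ := by
  refine Submodule.span_induction (p := fun a _ => ∀ i j, a i j ∈ Set.range Φ) ?_ ?_ ?_ ?_ ha
  · rintro x ⟨k, hk, rfl⟩ i j
    obtain ⟨k₀, rfl⟩ := hK' hk
    exact ⟨k₀ i j, (sl2_map_apply Φ k₀ i j).symm⟩
  · intro i j
    exact ⟨0, by rw [map_zero]; rfl⟩
  · intro x y _ _ hx hy i j
    obtain ⟨a, ha⟩ := hx i j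
    obtain ⟨b, hb⟩ := hy i j
    exact ⟨a + b, by rw [map_add, ha, hb]; rfl⟩
  · intro r x _ hx i j
    obtain ⟨a, ha⟩ := hx i j
    obtain ⟨r₀, hr₀⟩ := hL r r.2
    exact ⟨r₀ * a, by rw [map_mul, ha, hr₀, Matrix.smul_apply, Subfield.smul_def, smul_eq_mul]⟩

end SpanRange

section Tame

variable {F E : Type*} [Field F] [Field E] [Fintype F] [Fintype E]

/-- In the `S₄` case, the even elements are exactly those of `K ∩ SL₂(F)`. -/
theorem s4_sign_iff (Φ : F →+* E) (h2 : (2 : E) ≠ 0)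
    (hcard : Fintype.card E = Fintype.card F ^ 2) (K : Subgroup (SL2 E)) (hK : PMax Φ K)
    (e : K.map (QuotientGroup.mk' (Subgroup.center (SL2 E))) ≃* Equiv.Perm (Fin 4)) (y : K) :
    Equiv.Perm.sign (imgK K e y) = 1 ↔
      (y : SL2 E) ∈ (Matrix.SpecialLinearGroup.map Φ : SL2 F →* SL2 E).range := by
  have hZ2 := card_center_odd h2
  have hZK := hK.center
  have hcardmap := card_map_mk_mul (Subgroup.center (SL2 E)) K hZK
  rw [hZ2] at hcardmap
  have hcK := hK.card_eq h2 hcard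
  have hZS : Subgroup.center (SL2 E) ≤
      K ⊓ (Matrix.SpecialLinearGroup.map Φ : SL2 F →* SL2 E).range :=
    le_inf hZK (center_le_range Φ)
  have hcardmap2 := card_map_mk_mul (Subgroup.center (SL2 E)) _ hZS
  rw [hZ2] at hcardmap2
  have hcM : Nat.card (K.map (QuotientGroup.mk' (Subgroup.center (SL2 E)))) =
      2 * Nat.card ((K ⊓ (Matrix.SpecialLinearGroup.map Φ : SL2 F →* SL2 E).range).map
        (QuotientGroup.mk' (Subgroup.center (SL2 E)))) := by omega
  obtain ⟨M₁, hM₁⟩ : ∃ M₁ : Subgroup (PSL2 E), M₁ =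
      (K ⊓ (Matrix.SpecialLinearGroup.map Φ : SL2 F →* SL2 E).range).map
        (QuotientGroup.mk' (Subgroup.center (SL2 E))) := ⟨_, rfl⟩
  rw [← hM₁] at hcM
  have hleM : M₁ ≤ K.map (QuotientGroup.mk' (Subgroup.center (SL2 E))) := by
    rw [hM₁]; exact Subgroup.map_mono inf_le_left
  obtain ⟨Y, hY⟩ : ∃ Y : Subgroup (Equiv.Perm (Fin 4)), Y =
      (M₁.subgroupOf (K.map (QuotientGroup.mk' (Subgroup.center (SL2 E))))).map
        e.toMonoidHom := ⟨_, rfl⟩
  have hYidx : Y.index = 2 := by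
    have h3 := index_two_of_card M₁ _ hleM hcM
    rw [hY]
    exact (Subgroup.index_map_equiv (M₁.subgroupOf _) e).trans h3
  have hYA : Y = alternatingGroup (Fin 4) :=
    Equiv.Perm.eq_alternatingGroup_of_index_eq_two hYidx
  rw [← Equiv.Perm.mem_alternatingGroup, ← hYA, hY]
  have himg : imgK K e y =
      e ((QuotientGroup.mk' (Subgroup.center (SL2 E))).subgroupMap K y) := rfl
  rw [himg]
  constructor
  · rintro ⟨m, hm, hme⟩
    have hm' : m = (QuotientGroup.mk' (Subgroup.center (SL2 E))).subgroupMap K y :=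
      e.injective hme
    rw [hm'] at hm
    have hm2 := Subgroup.mem_subgroupOf.mp hm
    rw [hM₁] at hm2
    obtain ⟨k₁, hk₁, hk₁y⟩ := hm2
    have h3 : k₁⁻¹ * (y : SL2 E) ∈ Subgroup.center (SL2 E) := QuotientGroup.eq.mp hk₁y
    have e1 : (y : SL2 E) = k₁ * (k₁⁻¹ * (y : SL2 E)) := by group
    rw [e1]
    exact Subgroup.mul_mem _ hk₁.2 (center_le_range Φ h3)
  · intro hyS
    refine ⟨(QuotientGroup.mk' (Subgroup.center (SL2 E))).subgroupMap K y,
      Subgroup.mem_subgroupOf.mpr ?_, rfl⟩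
    rw [hM₁]
    exact ⟨(y : SL2 E), ⟨y.2, hyS⟩, rfl⟩

set_option maxHeartbeats 1000000 in
/-- **Type `S₄`.** -/
theorem pmax_s4 (p : ℕ) [Fact p.Prime] [CharP E p] [CharP F p] (Φ : F →+* E)
    (h2 : (2 : E) ≠ 0) (hcard : Fintype.card E = Fintype.card F ^ 2) (h5 : 5 ≤ Fintype.card F)
    (K : Subgroup (SL2 E)) (hK : PMax Φ K) (htame : ∀ g ∈ K, g 0 0 + g 1 1 = 2 → g = 1)
    (e : K.map (QuotientGroup.mk' (Subgroup.center (SL2 E))) ≃* Equiv.Perm (Fin 4)) :
    PglConcl F (K.map (QuotientGroup.mk' (Subgroup.center (SL2 E)))) := by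
  have hpp := (Fact.out : p.Prime)
  have h2F : (2 : F) ≠ 0 := two_ne_zero_of_hom Φ h2
  have hsign := s4_sign_iff Φ h2 hcard K hK e
  -- `2` is not a square in `F`
  have h8 : Fintype.card F % 8 = 3 ∨ Fintype.card F % 8 = 5 := by
    by_contra hcon
    have hsq : IsSquare (2 : F) := by
      rw [FiniteField.isSquare_two_iff]; omega
    obtain ⟨s, hs⟩ := hsq
    obtain ⟨σ, hσs, hσ4, hσ2⟩ := s4_exists_four_cycle
    obtain ⟨y, hy⟩ := imgK_surjective K e σ
    have hy2c : (y : SL2 E) * (y : SL2 E) ∉ Subgroup.center (SL2 E) := by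
      intro h
      apply hσ2
      have h1 := (imgK_eq_one_iff K e (y * y)).mpr h
      rw [map_mul, hy] at h1
      exact h1
    have hy4c : ((y : SL2 E) * (y : SL2 E)) * ((y : SL2 E) * (y : SL2 E)) ∈
        Subgroup.center (SL2 E) := by
      apply (imgK_eq_one_iff K e (y * y * (y * y))).mp
      rw [map_mul, map_mul, hy, ← mul_assoc]
      exact hσ4
    have hyy := sq_eq_negOne_of_center h2 _ hy4c hy2c
    have htr2 := trace_zero_of_sq_negOne _ hyy
    rw [sl2_mul_apply, sl2_mul_apply] at htr2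
    have hdet := sl2_det' (y : SL2 E)
    have hτ : ((y : SL2 E) 0 0 + (y : SL2 E) 1 1) * ((y : SL2 E) 0 0 + (y : SL2 E) 1 1) = 2 := by
      linear_combination htr2 + 2 * hdet
    have hs' : Φ s * Φ s = 2 := by rw [← map_mul, ← hs, map_ofNat]
    have hs0 : s ≠ 0 := by
      rintro rfl
      rw [mul_zero] at hs
      exact h2F hs
    have hmul : ((y : SL2 E) 0 0 + (y : SL2 E) 1 1 - Φ s) *
        ((y : SL2 E) 0 0 + (y : SL2 E) 1 1 + Φ s) = 0 := by
      linear_combination hτ - hs'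
    have hyS : (y : SL2 E) ∈ (Matrix.SpecialLinearGroup.map Φ : SL2 F →* SL2 E).range := by
      rcases mul_eq_zero.mp hmul with h | h
      · exact mem_range_of_pglSL_trace Φ y (hK.le y.2) s hs0 (by linear_combination h)
      · exact mem_range_of_pglSL_trace Φ y (hK.le y.2) (-s) (neg_ne_zero.mpr hs0)
          (by rw [map_neg]; linear_combination h)
    have h3 := (hsign y).mpr hyS
    rw [hy, hσs] at h3
    exact absurd h3 (by decide)
  -- the field is the prime field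
  have hqp : Fintype.card F = p := by
    obtain ⟨L, hL⟩ : ∃ L : Subfield E, L = frobFix E p 1 := ⟨_, rfl⟩
    have hLΦ : ∀ x ∈ L, x ∈ Set.range Φ := by
      intro x hx
      rw [hL, mem_frobFix, pow_one] at hx
      apply mem_range_of_pow_card_eq Φ
      obtain ⟨n, -, hqn⟩ := FiniteField.card F p
      rw [hqn]
      have hpow : ∀ m : ℕ, x ^ p ^ m = x := by
        intro m
        induction m with
        | zero => rw [pow_zero, pow_one]
        | succ m ih => rw [pow_succ, pow_mul, ih, hx]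
      exact hpow n
    obtain ⟨a, b, ha, hb, hab⟩ := s4_alt_noncomm
    obtain ⟨g, h, hga, hhb, hgh⟩ := noncomm_lift K e a b hab
    obtain ⟨K', hK'⟩ : ∃ K' : Subgroup (SL2 E),
        K' = ((alternatingGroup (Fin 4)).comap (imgK K e)).map K.subtype := ⟨_, rfl⟩
    have hmem : ∀ y : SL2 E, y ∈ K' ↔
        ∃ y' : K, Equiv.Perm.sign (imgK K e y') = 1 ∧ (y' : SL2 E) = y := by
      intro y
      rw [hK']
      constructor
      · rintro ⟨y', hy', rfl⟩
        exact ⟨y', Equiv.Perm.mem_alternatingGroup.mp hy', rfl⟩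
      · rintro ⟨y', hy', rfl⟩
        exact ⟨y', Equiv.Perm.mem_alternatingGroup.mpr hy', rfl⟩
    have hgK' : (g : SL2 E) ∈ K' := (hmem g).mpr ⟨g, by rw [hga]; exact ha, rfl⟩
    have hhK' : (h : SL2 E) ∈ K' := (hmem h).mpr ⟨h, by rw [hhb]; exact hb, rfl⟩
    have hK'S : K' ≤ (Matrix.SpecialLinearGroup.map Φ : SL2 F →* SL2 E).range := by
      intro y hy
      obtain ⟨y', hy', rfl⟩ := (hmem y).mp hy
      exact (hsign y').mp hy'
    have hnorm : ∀ k ∈ K, ∀ x ∈ K', k * x * k⁻¹ ∈ K' := by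
      intro k hk y hy
      obtain ⟨y', hy', rfl⟩ := (hmem y).mp hy
      rw [hmem]
      refine ⟨⟨k, hk⟩ * y' * ⟨k, hk⟩⁻¹, ?_, by
        rw [Subgroup.coe_mul, Subgroup.coe_mul, Subgroup.coe_inv]⟩
      rw [map_mul, map_mul, map_inv, map_mul, map_mul, map_inv, hy', mul_one, mul_inv_cancel]
    have htr : ∀ k ∈ K', k 0 0 + k 1 1 ∈ L := by
      intro y hy
      obtain ⟨y', hy', rfl⟩ := (hmem y).mp hy
      exact trace_mem_s4_alt _ K e y' y'.2 hy'
    have hSgS : spanGrp L K' ≤ (Matrix.SpecialLinearGroup.map Φ : SL2 F →* SL2 E).range := by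
      intro g' hg'
      exact mem_range_map_of_entries Φ g' (spanAlg_entries_range Φ L hLΦ K' hK'S hg')
    have hKSg : ∀ k ∈ K, ∀ x ∈ spanGrp L K', k * x * k⁻¹ ∈ spanGrp L K' :=
      fun k hk x hx => conj_mem_spanGrp L K' k (hnorm k hk) hx
    obtain ⟨u, hu, hu1, hutr⟩ := exists_unip_spanGrp L K' htr g h hgK' hhK' hgh
    obtain ⟨NSg, hNSg⟩ : ∃ NSg : Subgroup (SL2 E), NSg =
        Subgroup.normalizer ((spanGrp L K' : Subgroup (SL2 E)) : Set (SL2 E)) ⊓ pglSL Φ :=
      ⟨_, rfl⟩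
    have hle : K ≤ NSg := by
      intro k hk
      rw [hNSg]
      exact ⟨mem_normalizer_of_conj_le _ k (hKSg k hk), hK.le hk⟩
    have hleP : NSg ≤ pglSL Φ := by rw [hNSg]; exact inf_le_right
    rcases hK.max NSg hle hleP with hN | hN
    · exfalso
      have huN : u ∈ NSg := by
        rw [hNSg]
        exact ⟨Subgroup.le_normalizer hu, range_le_pglSL Φ (hSgS hu)⟩
      rw [hN] at huN
      exact hu1 (htame u huN hutr)
    · obtain ⟨Sg₀, hSg₀⟩ : ∃ Sg₀ : Subgroup (SL2 F), Sg₀ =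
          (spanGrp L K').comap (Matrix.SpecialLinearGroup.map Φ : SL2 F →* SL2 E) := ⟨_, rfl⟩
      have hnormal : ∀ s₀ : SL2 F, ∀ y ∈ Sg₀, s₀ * y * s₀⁻¹ ∈ Sg₀ := by
        intro s₀ y hy
        rw [hSg₀, Subgroup.mem_comap] at hy ⊢
        have h1 : Matrix.SpecialLinearGroup.map Φ s₀ ∈ NSg := by
          rw [hN]; exact range_le_pglSL Φ ⟨s₀, rfl⟩
        rw [hNSg] at h1
        have h3 := (Subgroup.mem_normalizer_iff.mp h1.1 (Matrix.SpecialLinearGroup.map Φ y)).mp hy
        rw [map_mul, map_mul, map_inv]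
        exact h3
      have hSg₀c : ¬ Sg₀ ≤ Subgroup.center (SL2 F) := by
        intro hle'
        obtain ⟨g₀, hg₀⟩ := hK'S hgK'
        have h1 : g₀ ∈ Sg₀ := by
          rw [hSg₀, Subgroup.mem_comap, hg₀]
          exact le_spanGrp L K' hgK'
        have h3 := (map_mem_center_iff Φ g₀).mpr (hle' h1)
        rw [hg₀] at h3
        exact hgh (Subgroup.mem_center_iff.mp h3 (h : SL2 E)).symm
      have hSgtop : Sg₀ = ⊤ := normal_eq_top h2F (by omega) Sg₀ hnormal hSg₀c
      apply card_eq_of_frob p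
      intro τ
      have h1 : upSL (τ - 2) * lowSL (1 : F) ∈ Sg₀ := by rw [hSgtop]; trivial
      rw [hSg₀, Subgroup.mem_comap] at h1
      have h3 := trace_mem_of_spanGrp L K' htr h1
      rw [sl2_map_apply, sl2_map_apply, ← map_add] at h3
      have e1 : (upSL (τ - 2) * lowSL (1 : F)) 0 0 + (upSL (τ - 2) * lowSL (1 : F)) 1 1 = τ := by
        simp only [sl2_mul_apply, upSL_00, upSL_01, upSL_10, upSL_11, lowSL_00, lowSL_01,
          lowSL_10, lowSL_11]
        ring
      rw [e1, hL, mem_frobFix, pow_one, ← map_pow] at h3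
      exact Φ.injective h3
  right; right; right; left
  exact ⟨by rw [hqp]; exact hpp, h8, ⟨e⟩⟩

set_option maxHeartbeats 1000000 in
/-- **Maximal subgroups of `pglSL Φ ≅ 2.PGL₂(q)` not containing `SL₂(q)`.** -/
theorem pmax_main (p : ℕ) [Fact p.Prime] [CharP E p] [CharP F p] (Φ : F →+* E)
    (h2 : (2 : E) ≠ 0) (hcard : Fintype.card E = Fintype.card F ^ 2) (h5 : 5 ≤ Fintype.card F)
    (K : Subgroup (SL2 E)) (hK : PMax Φ K) :
    PglConcl F (K.map (QuotientGroup.mk' (Subgroup.center (SL2 E)))) := by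
  by_cases hw : ∃ g ∈ K, g ≠ 1 ∧ g 0 0 + g 1 1 = 2
  · exact pmax_wild p Φ h2 hcard K hK hw
  have htame : ∀ g ∈ K, g 0 0 + g 1 1 = 2 → g = 1 := by
    intro g hg htr
    by_contra hne
    exact hw ⟨g, hg, hne, htr⟩
  have hZK := hK.center
  have hneg : negOne ∈ K := hZK negOne_mem_center
  have hchar : ringChar E ≠ 2 := ringChar_ne_two h2
  obtain ⟨δ, hδ⟩ := FiniteField.exists_nonsquare hchar
  have hδ0 : δ ≠ 0 := by
    rintro rfl; exact hδ ⟨0, by rw [mul_zero]⟩
  have h2F : (2 : F) ≠ 0 := two_ne_zero_of_hom Φ h2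
  have hZ2 := card_center_odd h2
  have hcardmap := card_map_mk_mul (Subgroup.center (SL2 E)) K hZK
  rw [hZ2] at hcardmap
  have hcK := hK.card_eq h2 hcard
  have hZS : Subgroup.center (SL2 E) ≤
      K ⊓ (Matrix.SpecialLinearGroup.map Φ : SL2 F →* SL2 E).range :=
    le_inf hZK (center_le_range Φ)
  have hcardmap2 := card_map_mk_mul (Subgroup.center (SL2 E)) _ hZS
  rw [hZ2] at hcardmap2
  have hleM : (K ⊓ (Matrix.SpecialLinearGroup.map Φ : SL2 F →* SL2 E).range).map
      (QuotientGroup.mk' (Subgroup.center (SL2 E))) ≤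
      K.map (QuotientGroup.mk' (Subgroup.center (SL2 E))) := Subgroup.map_mono inf_le_left
  have hcM : Nat.card (K.map (QuotientGroup.mk' (Subgroup.center (SL2 E)))) =
      2 * Nat.card ((K ⊓ (Matrix.SpecialLinearGroup.map Φ : SL2 F →* SL2 E).range).map
        (QuotientGroup.mk' (Subgroup.center (SL2 E)))) := by omega
  have hcP := card_pglSL Φ _ rfl h2 (isSquare_of_card_sq Φ h2 hcard)
  have h16 : 16 ∣ Nat.card (pglSL Φ) := by
    rw [hcP]; exact sixteen_dvd _ (card_odd h2F)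
  have hPbig : 240 ≤ Nat.card (pglSL Φ) := by
    rw [hcP]
    have h3 : 5 * 24 ≤ Fintype.card F * (Fintype.card F ^ 2 - 1) :=
      Nat.mul_le_mul h5 (by
        have : 5 ^ 2 ≤ Fintype.card F ^ 2 := Nat.pow_le_pow_left h5 2
        omega)
    omega
  have : Fact (Nat.Prime 2) := ⟨Nat.prime_two⟩
  have hd8 : 2 ^ (2 + 1) ∣ Nat.card (pglSL Φ) := Dvd.dvd.trans (by norm_num) h16
  have hd16 : 2 ^ (3 + 1) ∣ Nat.card (pglSL Φ) := Dvd.dvd.trans (by norm_num) h16
  have hne8 : Nat.card (pglSL Φ) ≠ 2 ^ (2 + 1) := by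
    have h8' : (2 : ℕ) ^ (2 + 1) = 8 := by norm_num
    rw [h8']; omega
  have hne16 : Nat.card (pglSL Φ) ≠ 2 ^ (3 + 1) := by
    have h8' : (2 : ℕ) ^ (3 + 1) = 16 := by norm_num
    rw [h8']; omega
  have habel : ∀ (x : SL2 E), x ∈ K →
      x ∈ (Matrix.SpecialLinearGroup.map Φ : SL2 F →* SL2 E).range →
      x ∉ Subgroup.center (SL2 E) →
      (∀ k ∈ K, (k * x * k⁻¹) * x = x * (k * x * k⁻¹)) →
      PglConcl F (K.map (QuotientGroup.mk' (Subgroup.center (SL2 E)))) := by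
    intro x hx hxS hxc hcomm
    exact pmax_torus p Φ h2 hcard h5 K hK x hx hxS hxc (tame_not_dvd p K htame x hx) hcomm
  have hZstab : ∀ J : TZ δ, Subgroup.center (SL2 E) ≤ MulAction.stabilizer (SL2 E) J := by
    intro J z hz
    rw [MulAction.mem_stabilizer_iff]
    rcases center_sl2_eq z hz with h | h
    · rw [h, one_smul]
    · rw [h, TZ.smul_eq_iff]
      apply mat2_ext <;> simp only [mul2_apply, negOne_00, negOne_01, negOne_10, negOne_11] <;>
        ring
  have hbound : ∀ (m b : ℕ), 2 ≤ m → m ≤ 2 * b →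
      (∀ J : TZ δ, Nat.card ↥(K ⊓ MulAction.stabilizer (SL2 E) J) ≤ m) →
      ∀ g : ↥(K.map (QuotientGroup.mk' (Subgroup.center (SL2 E)))),
        ∃ j, 1 ≤ j ∧ j ≤ b ∧ g ^ j = 1 := by
    intro m b hm2 hmb hb
    rintro ⟨g, hg⟩
    obtain ⟨k, hk, rfl⟩ := Subgroup.mem_map.mp hg
    obtain ⟨j, hj1, hj2, hj⟩ := tame_pow_bound h2 hδ K hneg htame m hm2 hb k hk
    refine ⟨j, hj1, by omega, ?_⟩
    apply Subtype.ext
    rw [Subgroup.coe_pow, Subgroup.coe_one]; exact hj
  rcases tame_odd h2 hδ K hneg htame with h | ⟨J, hJ⟩ | ⟨J, hJ⟩ | ⟨hc, hb, -⟩ | ⟨hc, hb, -⟩ |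
    ⟨hc, hb, -⟩
  · exfalso
    apply hK.not_le_range h2 hcard
    have hKZ : Subgroup.center (SL2 E) = K :=
      Subgroup.eq_of_le_of_card_ge hZK (by rw [h, hZ2])
    rw [← hKZ]; exact center_le_range Φ
  · by_cases hAZ : K ⊓ (Matrix.SpecialLinearGroup.map Φ : SL2 F →* SL2 E).range ≤
        Subgroup.center (SL2 E)
    · exfalso
      have hc2 : Nat.card ↥(K ⊓ (Matrix.SpecialLinearGroup.map Φ : SL2 F →* SL2 E).range) = 2 := by
        rw [le_antisymm hAZ hZS, hZ2]
      have hK4 : Nat.card K = 2 ^ 2 := by omega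
      exact pmax_ppow_absurd (pglSL Φ) K hK.le hK.max 2 2 hK4 hd8 hne8
    · obtain ⟨x, hx, hxc⟩ := SetLike.not_le_iff_exists.mp hAZ
      apply habel x hx.1 hx.2 hxc
      intro k hk
      exact tz_stab_comm h2 hδ0 J _ _
        (MulAction.mem_stabilizer_iff.mp (hJ (K.mul_mem (K.mul_mem hk hx.1) (K.inv_mem hk))))
        (MulAction.mem_stabilizer_iff.mp (hJ hx.1))
  · obtain ⟨A₀, hA₀⟩ : ∃ A₀ : Subgroup (SL2 E), A₀ = K ⊓ MulAction.stabilizer (SL2 E) J :=
      ⟨_, rfl⟩
    rw [← hA₀] at hJ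
    have hA₀K : A₀ ≤ K := by rw [hA₀]; exact inf_le_left
    have hA₀J : ∀ y ∈ A₀, y • J = J := by
      intro y hy
      rw [hA₀] at hy
      exact MulAction.mem_stabilizer_iff.mp hy.2
    by_cases hAZ : A₀ ⊓ (Matrix.SpecialLinearGroup.map Φ : SL2 F →* SL2 E).range ≤
        Subgroup.center (SL2 E)
    · exfalso
      have hZA : Subgroup.center (SL2 E) ≤
          A₀ ⊓ (Matrix.SpecialLinearGroup.map Φ : SL2 F →* SL2 E).range :=
        le_inf (by rw [hA₀]; exact le_inf hZK (hZstab J)) (center_le_range Φ)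
      have hc2 : Nat.card ↥(A₀ ⊓ (Matrix.SpecialLinearGroup.map Φ : SL2 F →* SL2 E).range) = 2 := by
        rw [le_antisymm hAZ hZA, hZ2]
      have hA₀c : Nat.card A₀ = 2 ∨ Nat.card A₀ = 4 := by
        by_cases hAS : A₀ ≤ (Matrix.SpecialLinearGroup.map Φ : SL2 F →* SL2 E).range
        · left
          have h3 : A₀ ⊓ (Matrix.SpecialLinearGroup.map Φ : SL2 F →* SL2 E).range = A₀ :=
            inf_eq_left.mpr hAS
          rw [h3] at hc2
          exact hc2
        · right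
          have h3 := card_eq_two_mul_inf (Matrix.SpecialLinearGroup.map Φ : SL2 F →* SL2 E).range
            (pglSL Φ) A₀ (range_le_pglSL Φ) (card_pglSL_of_card_sq Φ h2 hcard)
            (hA₀K.trans hK.le) hAS
          omega
      rcases hA₀c with h | h
      · exact pmax_ppow_absurd (pglSL Φ) K hK.le hK.max 2 2 (by omega) hd8 hne8
      · exact pmax_ppow_absurd (pglSL Φ) K hK.le hK.max 2 3 (by omega) hd16 hne16
    · obtain ⟨x, hx, hxc⟩ := SetLike.not_le_iff_exists.mp hAZ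
      apply habel x (hA₀K hx.1) hx.2 hxc
      have hidx : (A₀.subgroupOf K).index = 2 := by
        have h3 := Subgroup.card_mul_index (A₀.subgroupOf K)
        rw [Nat.card_congr (Subgroup.subgroupOfEquivOfLe hA₀K).toEquiv, ← hJ] at h3
        have hpos : 0 < Nat.card A₀ := Nat.card_pos
        have h5 : Nat.card A₀ * (A₀.subgroupOf K).index = Nat.card A₀ * 2 := by
          rw [h3]; ring
        exact Nat.eq_of_mul_eq_mul_left hpos h5
      have hnormal := Subgroup.normal_of_index_eq_two hidx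
      intro k hk
      have hmem : (⟨k, hk⟩ : K) * ⟨x, hA₀K hx.1⟩ * (⟨k, hk⟩ : K)⁻¹ ∈ A₀.subgroupOf K :=
        hnormal.conj_mem _ (Subgroup.mem_subgroupOf.mpr hx.1) _
      rw [Subgroup.mem_subgroupOf] at hmem
      exact tz_stab_comm h2 hδ0 J _ _ (hA₀J _ hmem) (hA₀J _ hx.1)
  · exfalso
    have hc' : Nat.card (K.map (QuotientGroup.mk' (Subgroup.center (SL2 E)))) = 12 := by omega
    obtain ⟨e⟩ := rec12 hc' (no_comm_of_bound 3 2 3 (hbound 6 3 (by norm_num) (by norm_num) hb)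
      (by norm_num) (by norm_num))
    exact index_two_absurd _ _ hleM hcM e (alt_no_index_two 4)
  · have hc' : Nat.card (K.map (QuotientGroup.mk' (Subgroup.center (SL2 E)))) = 24 := by omega
    have hS4 : Nonempty (K.map (QuotientGroup.mk' (Subgroup.center (SL2 E))) ≃*
        Equiv.Perm (Fin 4)) := by
      apply Cfsg.Agent.S1012.result hc'
      intro g hg6
      obtain ⟨j, hj1, hj4, hj⟩ := hbound 8 4 (by norm_num) (by norm_num) hb g
      have h3 := Nat.le_of_dvd (by omega) (orderOf_dvd_of_pow_eq_one hj)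
      omega
    obtain ⟨e⟩ := hS4
    exact pmax_s4 p Φ h2 hcard h5 K hK htame e
  · exfalso
    have hc' : Nat.card (K.map (QuotientGroup.mk' (Subgroup.center (SL2 E)))) = 60 := by omega
    obtain ⟨e⟩ := rec60 hc' (no_comm_of_bound 5 5 3 (hbound 10 5 (by norm_num) (by norm_num) hb)
      (by norm_num) (by norm_num))
    exact index_two_absurd _ _ hleM hcM e (alt_no_index_two 5)

end Tame

end Cfsg.Agent.Lib.helper98
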