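import Mathlib
import Cfsg.Agent.Lib.helper98.PglE

/-!
# Maximal subgroups of `PGL₂(q)`: transfer to the model `pglSL Φ`

`pgl_transfer`: a maximal subgroup `M` of `PGL₂(F)` not containing the image of `SL₂(F)` is, via
an isomorphism `pglSub Φ ≃* PGL₂(F)`, the image of a `PMax` subgroup of `pglSL Φ`.
-/

set_option autoImplicit false
set_option linter.unusedSimpArgs false
set_option linter.unusedVariables false

namespace Cfsg.Agent.Lib.helper98

open Matrix
open scoped Classical

local notation "SL2" => Matrix.SpecialLinearGroup (Fin 2)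
local notation "PSL2" => Matrix.ProjectiveSpecialLinearGroup (Fin 2)
local notation "M2" => Matrix (Fin 2) (Fin 2)

section IndexTwo

variable {F : Type*} [Field F]

/-- Every subgroup of index two of `PGL₂(F)`, `char F ≠ 2`, contains the image of `SL₂(F)`. -/
theorem psl_le_of_index_two (h2F : (2 : F) ≠ 0)
    (N : Subgroup (Matrix.ProjGenLinGroup (Fin 2) F)) (hN : N.index = 2) :
    (Matrix.ProjGenLinGroup.mk.comp Matrix.SpecialLinearGroup.toGL :
      SL2 F →* Matrix.ProjGenLinGroup (Fin 2) F).range ≤ N := by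
  obtain ⟨f, hf⟩ : ∃ f : SL2 F →* Matrix.ProjGenLinGroup (Fin 2) F,
      f = Matrix.ProjGenLinGroup.mk.comp Matrix.SpecialLinearGroup.toGL := ⟨_, rfl⟩
  rw [← hf]
  have hnormal := Subgroup.normal_of_index_eq_two hN
  have hu : ∀ t : F, upSL t ∈ N.comap f := by
    intro t
    rw [Subgroup.mem_comap]
    have e2 : t / 2 + t / 2 = t := by
      rw [← add_div, ← two_mul, mul_div_cancel_left₀ t h2F]
    have e : upSL t = upSL (t / 2) * upSL (t / 2) := by
      rw [upSL_add, e2]
    rw [e, map_mul]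
    exact Subgroup.mul_self_mem_of_index_two hN _
  have hl : ∀ t : F, lowSL t ∈ N.comap f := by
    intro t
    rw [Subgroup.mem_comap, lowSL_eq, map_mul, map_mul, map_inv]
    have h1 := hnormal.conj_mem _ (hu (-t)) (f wSL)⁻¹
    rw [inv_inv] at h1
    exact h1
  have htop := eq_top_of_unip_le (N.comap f) hu hl
  rintro _ ⟨g, rfl⟩
  have h3 : g ∈ N.comap f := by rw [htop]; trivial
  exact h3

end IndexTwo

section Transfer

variable {F E : Type*} [Field F] [Field E] [Fintype F] [Fintype E]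

set_option maxHeartbeats 1000000 in
/-- **Transfer** of maximal subgroups of `PGL₂(F)` to `pglSL Φ`. -/
theorem pgl_transfer (Φ : F →+* E) (h2 : (2 : E) ≠ 0)
    (hcard : Fintype.card E = Fintype.card F ^ 2)
    (e : pglSub Φ ≃* Matrix.ProjGenLinGroup (Fin 2) F)
    (M : Subgroup (Matrix.ProjGenLinGroup (Fin 2) F)) (hM : IsCoatom M)
    (hML : ¬ (Matrix.ProjGenLinGroup.mk.comp Matrix.SpecialLinearGroup.toGL :
      SL2 F →* Matrix.ProjGenLinGroup (Fin 2) F).range ≤ M) :
    ∃ K : Subgroup (SL2 E), PMax Φ K ∧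
      Nonempty (K.map (QuotientGroup.mk' (Subgroup.center (SL2 E))) ≃* M) := by
  obtain ⟨π, hπ⟩ : ∃ π : SL2 E →* PSL2 E, π = QuotientGroup.mk' (Subgroup.center (SL2 E)) :=
    ⟨_, rfl⟩
  have hsurj : Function.Surjective π := by rw [hπ]; exact QuotientGroup.mk'_surjective _
  have hker : π.ker = Subgroup.center (SL2 E) := by rw [hπ]; exact QuotientGroup.ker_mk' _
  have hP : pglSL Φ = (pglSub Φ).comap π := by rw [hπ]; rfl
  obtain ⟨M'', hM''⟩ : ∃ M'' : Subgroup (PSL2 E),
      M'' = (M.map e.symm.toMonoidHom).map (pglSub Φ).subtype := ⟨_, rfl⟩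
  have hmemM'' : ∀ x : PSL2 E, x ∈ M'' ↔ ∃ m ∈ M, ((e.symm m : pglSub Φ) : PSL2 E) = x := by
    intro x
    rw [hM'']
    constructor
    · rintro ⟨b, ⟨m, hm, rfl⟩, rfl⟩
      exact ⟨m, hm, rfl⟩
    · rintro ⟨m, hm, rfl⟩
      exact ⟨e.symm m, ⟨m, hm, rfl⟩, rfl⟩
  obtain ⟨K, hKdef⟩ : ∃ K : Subgroup (SL2 E), K = M''.comap π := ⟨_, rfl⟩
  have hmemK : ∀ g : SL2 E, g ∈ K ↔ ∃ m ∈ M, ((e.symm m : pglSub Φ) : PSL2 E) = π g := by
    intro g
    rw [hKdef, Subgroup.mem_comap, hmemM'']
  have hmemK' : ∀ (g : SL2 E) (hg : π g ∈ pglSub Φ), g ∈ K ↔ e ⟨π g, hg⟩ ∈ M := by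
    intro g hg
    rw [hmemK]
    constructor
    · rintro ⟨m, hm, hmg⟩
      have h1 : e.symm m = ⟨π g, hg⟩ := Subtype.ext hmg
      rw [← h1, MulEquiv.apply_symm_apply]; exact hm
    · intro h
      exact ⟨_, h, by rw [MulEquiv.symm_apply_apply]⟩
  have hKP : K ≤ pglSL Φ := by
    intro g hg
    obtain ⟨m, hm, hmg⟩ := (hmemK g).mp hg
    rw [hP, Subgroup.mem_comap, ← hmg]
    exact (e.symm m).2
  have hZK : Subgroup.center (SL2 E) ≤ K := by
    intro z hz
    rw [hmemK]
    refine ⟨1, M.one_mem, ?_⟩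
    have h1 : π z = 1 := by rw [← MonoidHom.mem_ker, hker]; exact hz
    rw [h1, map_one]; rfl
  have hmapK : K.map π = M'' := by
    rw [hKdef]; exact Subgroup.map_comap_eq_self_of_surjective hsurj M''
  refine ⟨K, ⟨hKP, ?_, ?_, ?_, hZK⟩, ?_⟩
  · intro hKeq
    apply hM.1
    rw [eq_top_iff]
    intro m' _
    obtain ⟨g, hg⟩ := hsurj ((e.symm m' : pglSub Φ) : PSL2 E)
    have hgP : g ∈ pglSL Φ := by
      rw [hP, Subgroup.mem_comap, hg]; exact (e.symm m').2
    rw [← hKeq] at hgP
    obtain ⟨m, hm, hmg⟩ := (hmemK g).mp hgP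
    have h1 : e.symm m = e.symm m' := Subtype.ext (hmg.trans hg)
    rw [← e.symm.injective h1]; exact hm
  · intro K' hle hleP
    obtain ⟨M₂, hM₂⟩ : ∃ M₂ : Subgroup (Matrix.ProjGenLinGroup (Fin 2) F),
        M₂ = ((K'.map π).subgroupOf (pglSub Φ)).map e.toMonoidHom := ⟨_, rfl⟩
    have hmemM₂ : ∀ b : pglSub Φ, e b ∈ M₂ ↔ (b : PSL2 E) ∈ K'.map π := by
      intro b
      rw [hM₂]
      constructor
      · rintro ⟨b', hb', hbb⟩
        have h1 : b' = b := e.injective hbb
        rw [← h1]; exact Subgroup.mem_subgroupOf.mp hb'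
      · intro h
        exact ⟨b, Subgroup.mem_subgroupOf.mpr h, rfl⟩
    have hMM₂ : M ≤ M₂ := by
      intro m hm
      obtain ⟨g, hg⟩ := hsurj ((e.symm m : pglSub Φ) : PSL2 E)
      have hgK : g ∈ K := (hmemK g).mpr ⟨m, hm, hg.symm⟩
      have h1 := (hmemM₂ (e.symm m)).mpr
        (by rw [← hg]; exact Subgroup.mem_map_of_mem π (hle hgK))
      rwa [MulEquiv.apply_symm_apply] at h1
    rcases hM.le_iff.mp hMM₂ with h | h
    · right
      apply le_antisymm hleP
      intro g hg
      have hg' : π g ∈ pglSub Φ := by rw [hP] at hg; exact hg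
      have h1 : e ⟨π g, hg'⟩ ∈ M₂ := by rw [h]; trivial
      rw [hmemM₂] at h1
      obtain ⟨k', hk', hk'g⟩ := h1
      have h3 : k'⁻¹ * g ∈ Subgroup.center (SL2 E) := by
        rw [← hker, MonoidHom.mem_ker, map_mul, map_inv, hk'g]; exact inv_mul_cancel _
      have e1 : g = k' * (k'⁻¹ * g) := by group
      rw [e1]
      exact K'.mul_mem hk' (hle (hZK h3))
    · left
      apply le_antisymm _ hle
      intro g hg
      have hg' : π g ∈ pglSub Φ := by
        have h3 := hleP hg
        rw [hP] at h3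
        exact h3
      rw [hmemK' g hg', ← h, hmemM₂]
      exact Subgroup.mem_map_of_mem π hg
  · intro hSK
    apply hML
    obtain ⟨S, hS⟩ : ∃ S : Subgroup (SL2 E),
        S = (Matrix.SpecialLinearGroup.map Φ : SL2 F →* SL2 E).range := ⟨_, rfl⟩
    rw [← hS] at hSK
    obtain ⟨N, hN⟩ : ∃ N : Subgroup (Matrix.ProjGenLinGroup (Fin 2) F),
        N = ((S.map π).subgroupOf (pglSub Φ)).map e.toMonoidHom := ⟨_, rfl⟩
    have hNM : N ≤ M := by
      rw [hN]
      rintro _ ⟨b, hb, rfl⟩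
      have hb' := Subgroup.mem_subgroupOf.mp hb
      obtain ⟨s, hs, hsb⟩ := hb'
      have hsK := hSK hs
      have hπs : π s ∈ pglSub Φ := by rw [hsb]; exact b.2
      have h1 := (hmemK' s hπs).mp hsK
      have h3 : (⟨π s, hπs⟩ : pglSub Φ) = b := Subtype.ext hsb
      rw [h3] at h1
      exact h1
    have hidx : N.index = 2 := by
      rw [hN]
      have hSle : S.map π ≤ pglSub Φ := by
        rw [Subgroup.map_le_iff_le_comap, ← hP, hS]; exact range_le_pglSL Φ
      have hZ2 := card_center_odd h2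
      have h1 := Cfsg.Agent.Lib.helper46.card_map_mk_mul (Subgroup.center (SL2 E)) (pglSL Φ)
        (hZK.trans hKP)
      have h3 := Cfsg.Agent.Lib.helper46.card_map_mk_mul (Subgroup.center (SL2 E)) S
        (by rw [hS]; exact center_le_range Φ)
      have h4 := card_pglSL_of_card_sq Φ h2 hcard
      have h5 : (pglSL Φ).map π = pglSub Φ := by
        rw [hP]; exact Subgroup.map_comap_eq_self_of_surjective hsurj _
      rw [hZ2] at h1 h3
      rw [← hS] at h4
      have h1' : Nat.card (pglSub Φ) * 2 = Nat.card (pglSL Φ) := by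
        rw [← h5, hπ]; exact h1
      have h3' : Nat.card (S.map π) * 2 = Nat.card S := by
        rw [hπ]; exact h3
      have hc : Nat.card (pglSub Φ) = 2 * Nat.card (S.map π) := by omega
      exact (Subgroup.index_map_equiv _ e).trans
        (index_two_of_card (S.map π) (pglSub Φ) hSle hc)
    exact (psl_le_of_index_two (two_ne_zero_of_hom Φ h2) N hidx).trans hNM
  · rw [← hπ, hmapK, hM'']
    exact ⟨((Subgroup.equivMapOfInjective _ _ (pglSub Φ).subtype_injective).symm).trans
      (Subgroup.equivMapOfInjective M e.symm.toMonoidHom e.symm.injective).symm⟩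

end Transfer

end Cfsg.Agent.Lib.helper98
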