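import Mathlib
import Cfsg.Agent.S1237
import Cfsg.Agent.Lib.helper26.Suz64b
import Cfsg.Agent.Lib.helper26.PRank
import Cfsg.Agent.Lib.helper37.S1238Defs

/-! S1238 piece E1 (`cfg_T_struct`): the structure of `T` in the configuration `Cfg`, from the
S1237 pieces. -/

set_option autoImplicit false

namespace Cfsg.Agent.Lib.helper98.S1238

open Cfsg Cfsg.Agent.Lib.helper26 Cfsg.Agent.Lib.helper37.S1238

/-- A finite set inside the closure of a set of pairwise commuting involutions has at most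
`2 ^ j` elements when the `2`-rank is at most `j`. -/
theorem h98_card_le {H : Type*} [Group H] [Finite H] {j : ℕ} (hr : Cfsg.PRankLE 2 j H)
    (k : Set H) (hcomm : ∀ x ∈ k, ∀ y ∈ k, x * y = y * x) (hsq : ∀ x ∈ k, x * x = 1)
    (F : Finset H) (hF : ∀ x ∈ F, x ∈ Subgroup.closure k) : F.card ≤ 2 ^ j := by
  classical
  have hc : IsMulCommutative (Subgroup.closure k) := Subgroup.isMulCommutative_closure hcomm
  have hexp : ∀ a ∈ Subgroup.closure k, a ^ 2 = 1 := by
    intro a ha
    induction ha using Subgroup.closure_induction with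
    | mem x hx => rw [pow_two]; exact hsq x hx
    | one => exact one_pow 2
    | mul x y hx hy hx2 hy2 =>
      have hxy : Commute x y := setLike_mul_comm (s := Subgroup.closure k) hx hy
      rw [hxy.mul_pow, hx2, hy2, mul_one]
    | inv x hx hx2 => rw [inv_pow, hx2, inv_one]
  have h1 := hr _ hc hexp
  have h2 : F.card ≤ Nat.card (Subgroup.closure k) := by
    have h3 : Nat.card ↥F = F.card := by rw [Nat.card_eq_fintype_card, Fintype.card_coe]
    rw [← h3]
    apply Nat.card_le_card_of_injective (fun x : ↥F => (⟨x.1, hF x.1 x.2⟩ : Subgroup.closure k))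
    intro a b hab
    exact Subtype.ext (congrArg (fun x : Subgroup.closure k => (x : H)) hab)
  exact h2.trans h1

/-- Conjugation by `y` as an automorphism of `T`. -/
def h98conj {G : Type*} [Group G] (T : Subgroup G) (y : G)
    (hy : ∀ t : G, y * t * y⁻¹ ∈ T ↔ t ∈ T) : MulAut ↥T where
  toFun t := ⟨y * t.1 * y⁻¹, (hy t.1).mpr t.2⟩
  invFun t := ⟨y⁻¹ * t.1 * y, (hy _).mp (by
    have e : y * (y⁻¹ * t.1 * y) * y⁻¹ = t.1 := by group
    rw [e]
    exact t.2)⟩
  left_inv t := Subtype.ext (by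
    show y⁻¹ * (y * t.1 * y⁻¹) * y = t.1
    group)
  right_inv t := Subtype.ext (by
    show y * (y⁻¹ * t.1 * y) * y⁻¹ = t.1
    group)
  map_mul' a b := Subtype.ext (by
    show y * (a.1 * b.1) * y⁻¹ = (y * a.1 * y⁻¹) * (y * b.1 * y⁻¹)
    group)

theorem h98conj_coe {G : Type*} [Group G] (T : Subgroup G) (y : G)
    (hy : ∀ t : G, y * t * y⁻¹ ∈ T ↔ t ∈ T) (t : ↥T) :
    ((h98conj T y hy t : ↥T) : G) = y * t.1 * y⁻¹ := rfl

/-- An involution of `T` is one of `z`, `u`, `z * u`. -/
theorem h98_inv_cases {G : Type*} [Group G] [Finite G] (h2 : Cfsg.PRankLE 2 2 G)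
    (S T : Subgroup G) (z u y s : G) (h : Cfg S T z u y s) (t : G) (ht : t ∈ T)
    (htt : t * t = 1) (ht1 : t ≠ 1) : t = z ∨ t = u ∨ t = z * u := by
  classical
  by_contra hcon
  push Not at hcon
  obtain ⟨htz, htu, htzu⟩ := hcon
  have hzu1 : z * u ≠ 1 := by
    intro h0
    have : u = z := by
      have h3 : z * u = z * z := by rw [h0, h.zz]
      exact mul_left_cancel h3
    exact h.uz this
  have hzzu : z ≠ z * u := by
    intro h0
    have : z * 1 = z * u := by rw [mul_one]; exact h0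
    exact h.u1 (mul_left_cancel this).symm
  have huzu : u ≠ z * u := by
    intro h0
    have : 1 * u = z * u := by rw [one_mul]; exact h0
    exact h.z1 (mul_right_cancel this).symm
  have hk : ∀ x ∈ ({z, u, t} : Set G), ∀ y' ∈ ({z, u, t} : Set G), x * y' = y' * x := by
    have hzu := h.zu_comm
    have hzt : z * t = t * z := (h.zc t (h.TS ht)).symm
    have hut : u * t = t * u := (h.uc t ht).symm
    intro x hx y' hy'
    simp only [Set.mem_insert_iff, Set.mem_singleton_iff] at hx hy'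
    rcases hx with rfl | rfl | rfl <;> rcases hy' with rfl | rfl | rfl <;>
      first | rfl | assumption | (symm; assumption)
  have hsq : ∀ x ∈ ({z, u, t} : Set G), x * x = 1 := by
    intro x hx
    simp only [Set.mem_insert_iff, Set.mem_singleton_iff] at hx
    rcases hx with rfl | rfl | rfl
    · exact h.zz
    · exact h.uu
    · exact htt
  have hzm : z ∈ Subgroup.closure ({z, u, t} : Set G) :=
    Subgroup.subset_closure (by simp)
  have hum : u ∈ Subgroup.closure ({z, u, t} : Set G) :=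
    Subgroup.subset_closure (by simp)
  have htm : t ∈ Subgroup.closure ({z, u, t} : Set G) :=
    Subgroup.subset_closure (by simp)
  have hle := h98_card_le h2 ({z, u, t} : Set G) hk hsq ({1, z, u, z * u, t} : Finset G) (by
    intro x hx
    simp only [Finset.mem_insert, Finset.mem_singleton] at hx
    rcases hx with rfl | rfl | rfl | rfl | rfl
    · exact Subgroup.one_mem _
    · exact hzm
    · exact hum
    · exact Subgroup.mul_mem _ hzm hum
    · exact htm)
  have hcard : ({1, z, u, z * u, t} : Finset G).card = 5 := by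
    rw [Finset.card_insert_of_notMem, Finset.card_insert_of_notMem, Finset.card_insert_of_notMem,
      Finset.card_insert_of_notMem, Finset.card_singleton]
    · simp only [Finset.mem_singleton]
      exact fun h0 => htzu h0.symm
    · simp only [Finset.mem_insert, Finset.mem_singleton, not_or]
      exact ⟨huzu, fun h0 => htu h0.symm⟩
    · simp only [Finset.mem_insert, Finset.mem_singleton, not_or]
      exact ⟨fun h0 => h.uz h0.symm, hzzu, fun h0 => htz h0.symm⟩
    · simp only [Finset.mem_insert, Finset.mem_singleton, not_or]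
      exact ⟨fun h0 => h.z1 h0.symm, fun h0 => h.u1 h0.symm, fun h0 => hzu1 h0.symm,
        fun h0 => ht1 h0.symm⟩
  rw [hcard] at hle
  norm_num at hle

/-- PIECE E1. Structure of `T` from the S1237 pieces. -/
theorem cfg_T_struct {G : Type*} [Group G] [Finite G] (h2 : Cfsg.PRankLE 2 2 G) (S : Sylow 2 G)
    (T : Subgroup G) (z u y s : G) (h : Cfg (S : Subgroup G) T z u y s) :
    (∃ n : ℕ, 1 ≤ n ∧ Nonempty (↥T ≃* Multiplicative (ZMod (2 ^ n) × ZMod (2 ^ n)))) ∨
    (∃ ρ : MulAut ↥T, S64.Hyp64 ρ) := by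
  classical
  have : Fact (Nat.Prime 2) := ⟨Nat.prime_two⟩
  have hT : IsPGroup 2 ↥T := S.isPGroup'.to_le h.TS
  have h2T : Cfsg.PRankLE 2 2 ↥T := prankLE_subgroup T h2
  have hzu : (⟨z, h.zT⟩ : ↥T) * ⟨u, h.uT⟩ = ⟨u, h.uT⟩ * ⟨z, h.zT⟩ := Subtype.ext h.zu_comm
  have h1T : ¬ Cfsg.PRankLE 2 1 ↥T := by
    intro h1
    have hk : ∀ x ∈ ({⟨z, h.zT⟩, ⟨u, h.uT⟩} : Set ↥T), ∀ y' ∈ ({⟨z, h.zT⟩, ⟨u, h.uT⟩} : Set ↥T),
        x * y' = y' * x := by
      intro x hx y' hy'
      simp only [Set.mem_insert_iff, Set.mem_singleton_iff] at hx hy'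
      rcases hx with rfl | rfl <;> rcases hy' with rfl | rfl <;>
        first | rfl | exact hzu | exact hzu.symm
    have hsq : ∀ x ∈ ({⟨z, h.zT⟩, ⟨u, h.uT⟩} : Set ↥T), x * x = 1 := by
      intro x hx
      simp only [Set.mem_insert_iff, Set.mem_singleton_iff] at hx
      rcases hx with rfl | rfl
      · exact Subtype.ext h.zz
      · exact Subtype.ext h.uu
    have hle := h98_card_le h1 _ hk hsq ({1, ⟨z, h.zT⟩, ⟨u, h.uT⟩} : Finset ↥T) (by
      intro x hx
      simp only [Finset.mem_insert, Finset.mem_singleton] at hx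
      rcases hx with rfl | rfl | rfl
      · exact Subgroup.one_mem _
      · exact Subgroup.subset_closure (by simp)
      · exact Subgroup.subset_closure (by simp))
    have hcard : ({1, ⟨z, h.zT⟩, ⟨u, h.uT⟩} : Finset ↥T).card = 3 := by
      rw [Finset.card_insert_of_notMem, Finset.card_insert_of_notMem, Finset.card_singleton]
      · simp only [Finset.mem_singleton]
        exact fun h0 => h.uz (congrArg Subtype.val h0).symm
      · simp only [Finset.mem_insert, Finset.mem_singleton, not_or]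
        exact ⟨fun h0 => h.z1 (congrArg Subtype.val h0).symm,
          fun h0 => h.u1 (congrArg Subtype.val h0).symm⟩
    rw [hcard] at hle
    norm_num at hle
  have hinv : ∀ t : ↥T, orderOf t = 2 → t.1 = z ∨ t.1 = u ∨ t.1 = z * u := by
    intro t ht
    obtain ⟨ht2, ht1⟩ := orderOf_eq_prime_iff.mp ht
    have htt : t.1 * t.1 = 1 := by
      have := congrArg Subtype.val ht2
      rwa [pow_two] at this
    exact h98_inv_cases h2 (S : Subgroup G) T z u y s h t.1 t.2 htt
      (fun h0 => ht1 (Subtype.ext h0))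
  have hφz : ∀ t : ↥T, t.1 = z → (h98conj T y h.yT t).1 = u := by
    intro t ht
    rw [h98conj_coe, ht, h.yz]
  have hφu : ∀ t : ↥T, t.1 = u → (h98conj T y h.yT t).1 = z * u := by
    intro t ht
    rw [h98conj_coe, ht, h.yu]
  have hφzu : ∀ t : ↥T, t.1 = z * u → (h98conj T y h.yT t).1 = z := by
    intro t ht
    rw [h98conj_coe, ht, h.yzu]
  have htrans : ∀ s t : ↥T, orderOf s = 2 → orderOf t = 2 →
      ∃ k : ℕ, ((h98conj T y h.yT) ^ k) s = t := by
    intro a b ha hb
    have h0 : ((h98conj T y h.yT) ^ 0) a = a := by rw [pow_zero, MulAut.one_apply]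
    have h1 : ((h98conj T y h.yT) ^ 1) a = h98conj T y h.yT a := by rw [pow_one]
    have h2' : ((h98conj T y h.yT) ^ 2) a = h98conj T y h.yT (h98conj T y h.yT a) := by
      rw [pow_two, MulAut.mul_apply]
    rcases hinv a ha with ha' | ha' | ha' <;> rcases hinv b hb with hb' | hb' | hb'
    · exact ⟨0, by rw [h0]; exact Subtype.ext (ha'.trans hb'.symm)⟩
    · exact ⟨1, by rw [h1]; exact Subtype.ext ((hφz a ha').trans hb'.symm)⟩
    · exact ⟨2, by rw [h2']; exact Subtype.ext ((hφu _ (hφz a ha')).trans hb'.symm)⟩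
    · exact ⟨2, by rw [h2']; exact Subtype.ext ((hφzu _ (hφu a ha')).trans hb'.symm)⟩
    · exact ⟨0, by rw [h0]; exact Subtype.ext (ha'.trans hb'.symm)⟩
    · exact ⟨1, by rw [h1]; exact Subtype.ext ((hφu a ha').trans hb'.symm)⟩
    · exact ⟨1, by rw [h1]; exact Subtype.ext ((hφzu a ha').trans hb'.symm)⟩
    · exact ⟨2, by rw [h2']; exact Subtype.ext ((hφz _ (hφzu a ha')).trans hb'.symm)⟩
    · exact ⟨0, by rw [h0]; exact Subtype.ext (ha'.trans hb'.symm)⟩
  obtain ⟨V, ψ, k, hV, hV4, hVc, hψk, hψ⟩ :=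
    Cfsg.Agent.Lib.helper18.S1237.setup hT h2T h1T (h98conj T y h.yT) htrans
  have hρ : Cfsg.Agent.Lib.helper26.Fpf3.Hyp ψ :=
    ⟨Cfsg.Agent.Lib.helper50.S1237.cube_eq_one hT V hV hV4 hVc ψ k hψk hψ, hψ⟩
  by_cases hab : ∀ a b : ↥T, a * b = b * a
  · exact Or.inl (Cfsg.Agent.Lib.helper18.S1237.abelian_case hT V hV hV4 ψ hρ hab)
  · right
    have h64 := Cfsg.Agent.Lib.helper37.S1237.card_eq_64 hT V hV hV4 hVc ψ hρ hab
    exact ⟨ψ, ⟨hρ, h64, hab⟩⟩

end Cfsg.Agent.Lib.helper98.S1238
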