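import Mathlib
import Cfsg.Agent.Lib.helper69.SNDefs
import Cfsg.Agent.Lib.helper69.SNStruct
import Cfsg.Agent.S0117

/-!
# S4073 piece ODD-SYL (helper98): in a minimal simple `SN`-group of odd order the Sylow
subgroups are abelian (Glauberman-Thompson `S0117` + `sn_solvable_index`).
-/

set_option autoImplicit false

namespace Cfsg.Agent.Lib.helper98.SNG

open Cfsg.Agent.Lib.helper69.SNG

universe u

/-- **[ODD-SYL]** -/
theorem sn_odd_sylow_comm {G : Type u} [Group G] [Finite G] [IsSimpleGroup G]
    (hna : ¬ IsMulCommutative G) (h : SN G) (hodd : Odd (Nat.card G))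
    (hsub : ∀ K : Subgroup G, K ≠ ⊤ → Group.IsSolvable K)
    (p : ℕ) [Fact p.Prime] (P : Sylow p G) : IsMulCommutative P := by
  by_contra hP
  have hp : p.Prime := Fact.out
  -- `P` is nontrivial
  have hPnt : Nontrivial (P : Subgroup G) := by
    by_contra hc
    rw [not_nontrivial_iff_subsingleton] at hc
    exact hP ⟨⟨fun a b => Subsingleton.elim _ _⟩⟩
  have hPbot : (P : Subgroup G) ≠ ⊥ := by
    intro hb
    exact (Subgroup.nontrivial_iff_ne_bot _).mp hPnt hb
  -- `p` is odd
  have hp2 : p ≠ 2 := by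
    intro h2
    have h1 : p ∣ Nat.card (P : Subgroup G) := by
      obtain ⟨k, hk⟩ := (IsPGroup.iff_card.mp P.2)
      have hk0 : k ≠ 0 := by
        rintro rfl
        rw [pow_zero] at hk
        exact hPbot (Subgroup.card_eq_one.mp hk)
      rw [hk]
      exact dvd_pow_self p hk0
    have h3 : Nat.card (P : Subgroup G) ∣ Nat.card G := Subgroup.card_subgroup_dvd_card _
    have h1' : 2 ∣ Nat.card (P : Subgroup G) := by
      rw [← h2]
      exact h1
    exact (Nat.not_even_iff_odd.mpr hodd) (even_iff_two_dvd.mpr (h1'.trans h3))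
  -- `G` is not a `p`-group
  have hGp : ¬ IsPGroup p G := by
    intro hG
    have hnil : Group.IsNilpotent G := hG.isNilpotent
    have hs : Group.IsSolvable G := inferInstance
    have hc : ∀ a b : G, a * b = b * a := IsSimpleGroup.comm_iff_isSolvable.mpr hs
    exact hna ⟨⟨hc⟩⟩
  have hPtop : (P : Subgroup G) ≠ ⊤ := by
    intro ht
    apply hGp
    have hPp : IsPGroup p (P : Subgroup G) := P.2
    rw [ht] at hPp
    exact hPp.of_equiv Subgroup.topEquiv
  -- `G` has no normal `p`-complement
  have hnc : ¬ Cfsg.HasNormalPComplement p G := by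
    rintro ⟨Q, N, hN, hc⟩
    rcases hN.eq_bot_or_eq_top with hb | ht
    · rw [hb] at hc
      have hQt : (Q : Subgroup G) = ⊤ := Subgroup.isComplement'_bot_left.mp hc
      apply hGp
      have hQp : IsPGroup p (Q : Subgroup G) := Q.2
      rw [hQt] at hQp
      exact hQp.of_equiv Subgroup.topEquiv
    · rw [ht] at hc
      have hQb : (Q : Subgroup G) = ⊥ := Subgroup.isComplement'_top_left.mp hc
      have hcard : Nat.card (P : Subgroup G) = Nat.card (Q : Subgroup G) := by
        rw [Sylow.card_eq_multiplicity P, Sylow.card_eq_multiplicity Q]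
      rw [hQb, Subgroup.card_bot] at hcard
      exact hPbot (Subgroup.card_eq_one.mp hcard)
  -- `W = Z(J(P))`
  have hWeq := Cfsg.Agent.Lib.helper67.centerThompsonOf_eq_zJ p (P : Subgroup G)
  have hWP : Cfsg.centerThompsonOf p (P : Subgroup G) ≤ P := by
    rw [hWeq]
    exact Cfsg.Agent.Lib.helper67.zJ_le p _
  have hPK : (P : Subgroup G) ≤
      Subgroup.normalizer (Cfsg.centerThompsonOf p (P : Subgroup G) : Set G) := by
    rw [hWeq]
    exact Subgroup.le_normalizer.trans (Cfsg.Agent.Lib.helper67.normalizer_le_normalizer_zJ p _)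
  have hWne : Cfsg.centerThompsonOf p (P : Subgroup G) ≠ ⊥ := by
    rw [← Cfsg.Agent.Lib.helper67.inducedFunctor_zjeFunctor]
    have hz := Cfsg.Agent.Lib.helper67.zjeFunctor_ne_bot p (P : Subgroup G) P.2
    intro hb
    apply hz
    unfold Cfsg.inducedFunctor at hb
    exact (Subgroup.map_eq_bot_iff_of_injective _ (Subgroup.subtype_injective _)).mp hb
  have hKne : Subgroup.normalizer (Cfsg.centerThompsonOf p (P : Subgroup G) : Set G) ≠ ⊤ := by
    intro htop
    have hWn : (Cfsg.centerThompsonOf p (P : Subgroup G)).Normal :=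
      Subgroup.normalizer_eq_top_iff.mp htop
    rcases hWn.eq_bot_or_eq_top with hb | ht
    · exact hWne hb
    · apply hPtop
      rw [eq_top_iff, ← ht]
      exact hWP
  apply hnc
  rw [Cfsg.Agent.S0117.result hp2 P]
  rw [Cfsg.Agent.Lib.lead.hasNormalPComplement_subgroup_iff]
  have hKs : Group.IsSolvable
      (Subgroup.normalizer (Cfsg.centerThompsonOf p (P : Subgroup G) : Set G)) := hsub _ hKne
  have hKsn : SN (Subgroup.normalizer (Cfsg.centerThompsonOf p (P : Subgroup G) : Set G)) :=
    h.subgroup _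
  have hKna : ¬ IsMulCommutative
      (Subgroup.normalizer (Cfsg.centerThompsonOf p (P : Subgroup G) : Set G)) := by
    intro hc
    apply hP
    rw [comm_iff]
    intro a ha b hb
    have := hc.is_comm.comm
      (⟨a, hPK ha⟩ : Subgroup.normalizer (Cfsg.centerThompsonOf p (P : Subgroup G) : Set G))
      ⟨b, hPK hb⟩
    exact congrArg Subtype.val this
  obtain ⟨A, hAn, hAc, hAi⟩ := sn_solvable_index hKsn hKs hKna
  have hpow : ∀ x : Subgroup.normalizer (Cfsg.centerThompsonOf p (P : Subgroup G) : Set G),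
      x ^ A.index ∈ A := fun x => Subgroup.pow_index_mem A x
  by_cases hl : A.index = p
  · -- every `p'`-element of `K` lies in the abelian group `A`
    intro x hx y hy hox hoy
    have key : ∀ z : G, ∀ hz : z ∈ Subgroup.normalizer
        (Cfsg.centerThompsonOf p (P : Subgroup G) : Set G), (orderOf z).Coprime p →
        (⟨z, hz⟩ : Subgroup.normalizer (Cfsg.centerThompsonOf p (P : Subgroup G) : Set G)) ∈ A := by
      intro z hz hoz
      have h1 := hpow ⟨z, hz⟩
      rw [hl] at h1
      have hoz' : (orderOf (⟨z, hz⟩ :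
          Subgroup.normalizer (Cfsg.centerThompsonOf p (P : Subgroup G) : Set G))).Coprime p := by
        rwa [Subgroup.orderOf_mk]
      obtain ⟨m, hm⟩ := exists_pow_eq_self_of_coprime hoz'.symm
      rw [← hm]
      exact A.pow_mem h1 m
    have hxA := key x hx hox
    have hyA := key y hy hoy
    have hcomm : Commute x y := by
      have h1 := hAc.is_comm.comm (⟨⟨x, hx⟩, hxA⟩ : A) ⟨⟨y, hy⟩, hyA⟩
      have h2 := congrArg (fun t : A => ((t : Subgroup.normalizer
        (Cfsg.centerThompsonOf p (P : Subgroup G) : Set G)) : G)) h1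
      exact h2
    have hd := hcomm.orderOf_mul_dvd_lcm
    exact Nat.Coprime.coprime_dvd_left (hd.trans (Nat.lcm_dvd_mul _ _))
      (Nat.Coprime.mul_left hox hoy)
  · -- otherwise `P ≤ A`, so `P` is abelian
    exfalso
    apply hP
    rw [comm_iff]
    have key : ∀ z : G, ∀ hz : z ∈ (P : Subgroup G),
        (⟨z, hPK hz⟩ : Subgroup.normalizer (Cfsg.centerThompsonOf p (P : Subgroup G) : Set G))
          ∈ A := by
      intro z hz
      have h1 := hpow ⟨z, hPK hz⟩
      obtain ⟨k, hk⟩ := (IsPGroup.iff_orderOf.mp P.2) ⟨z, hz⟩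
      rw [Subgroup.orderOf_mk] at hk
      have hco : (A.index).Coprime (orderOf (⟨z, hPK hz⟩ :
          Subgroup.normalizer (Cfsg.centerThompsonOf p (P : Subgroup G) : Set G))) := by
        rw [Subgroup.orderOf_mk, hk]
        exact Nat.Coprime.pow_right k ((Nat.coprime_primes hAi hp).mpr hl)
      obtain ⟨m, hm⟩ := exists_pow_eq_self_of_coprime hco
      rw [← hm]
      exact A.pow_mem h1 m
    intro a ha b hb
    have h1 := hAc.is_comm.comm (⟨⟨a, hPK ha⟩, key a ha⟩ : A) ⟨⟨b, hPK hb⟩, key b hb⟩
    have h2 := congrArg (fun t : A => ((t : Subgroup.normalizer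
      (Cfsg.centerThompsonOf p (P : Subgroup G) : Set G)) : G)) h1
    exact h2

end Cfsg.Agent.Lib.helper98.SNG
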