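import Mathlib
import Cfsg.Agent.Lib.helper49.SPEDefs

/-! S2333 piece ECOUNT (helper98, racing copy): there are at least `(q^n - 1)(q^n - q)`
independent pairs of vectors. -/

set_option autoImplicit false

namespace Cfsg.Agent.Lib.helper49.SPE

open Matrix

/-- ECOUNT (L), racing copy of `card_indep`. -/
theorem h98_card_indep {F : Type*} [Field F] [Fintype F] {n : ℕ} :
    (Fintype.card F ^ n - 1) * (Fintype.card F ^ n - Fintype.card F) ≤
      Nat.card {p : (Fin n → F) × (Fin n → F) // Indep p.1 p.2} := by
  classical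
  have hV : Fintype.card (Fin n → F) = Fintype.card F ^ n := by simp
  obtain ⟨T, hT⟩ : ∃ T : Finset (Σ _ : (Fin n → F), (Fin n → F)), T =
      (Finset.univ.filter (fun u : Fin n → F => u ≠ 0)).sigma
        (fun u => Finset.univ.filter (fun v : Fin n → F => ∀ κ : F, v ≠ κ • u)) := ⟨_, rfl⟩
  have hinner : ∀ u : Fin n → F, u ≠ 0 →
      (Finset.univ.filter (fun v : Fin n → F => ∀ κ : F, v ≠ κ • u)).card =
        Fintype.card F ^ n - Fintype.card F := by
    intro u hu
    have h1 : Finset.univ.filter (fun v : Fin n → F => ∀ κ : F, v ≠ κ • u) =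
        Finset.univ \ (Finset.univ.image (fun κ : F => κ • u)) := by
      ext v
      simp only [Finset.mem_filter, Finset.mem_univ, true_and, Finset.mem_sdiff,
        Finset.mem_image, not_exists]
      constructor
      · intro h κ hκ
        exact h κ hκ.symm
      · intro h κ hκ
        exact h κ hκ.symm
    have hinj : Function.Injective (fun κ : F => κ • u) := by
      intro κ κ' h
      have h0 : (κ - κ') • u = 0 := by
        rw [sub_smul]
        exact sub_eq_zero.mpr h
      rcases smul_eq_zero.mp h0 with h' | h'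
      · exact sub_eq_zero.mp h'
      · exact absurd h' hu
    rw [h1, Finset.card_sdiff_of_subset (Finset.subset_univ _), Finset.card_univ, hV,
      Finset.card_image_of_injective _ hinj, Finset.card_univ]
  have hcardT : T.card = (Fintype.card F ^ n - 1) * (Fintype.card F ^ n - Fintype.card F) := by
    rw [hT, Finset.card_sigma]
    rw [Finset.sum_congr rfl (fun u hu => hinner u (Finset.mem_filter.mp hu).2)]
    rw [Finset.sum_const, smul_eq_mul]
    congr 1
    rw [Finset.filter_ne', Finset.card_erase_of_mem (Finset.mem_univ _), Finset.card_univ, hV]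
  have hind : ∀ x : ↥T, Indep x.1.1 x.1.2 := by
    intro x s t hst
    have hx : x.1 ∈ (Finset.univ.filter (fun u : Fin n → F => u ≠ 0)).sigma
        (fun u => Finset.univ.filter (fun v : Fin n → F => ∀ κ : F, v ≠ κ • u)) := hT ▸ x.2
    rw [Finset.mem_sigma, Finset.mem_filter, Finset.mem_filter] at hx
    obtain ⟨⟨_, hu⟩, _, hv⟩ := hx
    by_cases ht : t = 0
    · subst ht
      rw [zero_smul, add_zero] at hst
      rcases smul_eq_zero.mp hst with h | h
      · exact ⟨h, rfl⟩
      · exact absurd h hu
    · exfalso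
      apply hv (-(t⁻¹ * s))
      have h1 : t • x.1.2 = -(s • x.1.1) := eq_neg_of_add_eq_zero_right hst
      calc x.1.2 = t⁻¹ • (t • x.1.2) := by rw [smul_smul, inv_mul_cancel₀ ht, one_smul]
        _ = -(t⁻¹ * s) • x.1.1 := by rw [h1, smul_neg, smul_smul, neg_smul]
  have hfin : Fintype {p : (Fin n → F) × (Fin n → F) // Indep p.1 p.2} := Fintype.ofFinite _
  rw [Nat.card_eq_fintype_card, ← hcardT, ← Fintype.card_coe]
  refine Fintype.card_le_of_injective (fun x : ↥T => ⟨(x.1.1, x.1.2), hind x⟩) ?_
  intro x y hxy
  have h1 := congrArg Subtype.val hxy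
  simp only [Prod.mk.injEq] at h1
  apply Subtype.ext
  exact Sigma.ext h1.1 (heq_of_eq h1.2)

end Cfsg.Agent.Lib.helper49.SPE
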