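import Mathlib
import Cfsg.Prelude.Def_Classical
import Cfsg.Prelude.Def_GeometricClasses
import Cfsg.Agent.Lib.helper49.WittIso

/-!
# S5977 / S5978 block [A], piece RHO1 (racer copy)
-/

set_option autoImplicit false

namespace Cfsg.Agent.Lib.helper59.Sfk

open Matrix Cfsg.Geo
open Cfsg.Agent.Lib.helper49 (detHom spinorSign)

/-- RHO1 (M): the reflection in an eigenvector of `x`: commutes with `x`, determinant `-1`. -/
theorem h98_sfk_rho_one {F : Type*} [Field F] [Fintype F] {ι : Type} [Fintype ι] [DecidableEq ι]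
    (h2 : (2 : F) ≠ 0) (Q : QuadraticForm F (ι → F))
    (hQ : (QuadraticMap.polarBilin Q).Nondegenerate)
    (x : GL ι F) (hx : x ∈ Cfsg.isometryGroup F (⇑Q)) (u : ι → F) (c : F)
    (hu : (x : Matrix ι ι F) *ᵥ u = c • u) (hQu : Q u ≠ 0) :
    ∃ r : ↥(Cfsg.isometryGroup F (⇑Q)),
      ((r : GL ι F) : Matrix ι ι F) * (x : Matrix ι ι F) =
        (x : Matrix ι ι F) * ((r : GL ι F) : Matrix ι ι F) ∧
      detHom (⇑Q) r = -1 := by
  have hu0 : u ≠ 0 := by
    rintro rfl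
    exact hQu (QuadraticMap.map_zero Q)
  have hc : c ≠ 0 := by
    rintro rfl
    rw [zero_smul] at hu
    have h1 : u = ((x⁻¹ : GL ι F) : Matrix ι ι F) *ᵥ ((x : Matrix ι ι F) *ᵥ u) := by
      rw [Matrix.mulVec_mulVec, ← Units.val_mul, inv_mul_cancel, Units.val_one, Matrix.one_mulVec]
    rw [hu, Matrix.mulVec_zero] at h1
    exact hu0 h1
  have hgv : Q ((x : Matrix ι ι F) *ᵥ u) ≠ 0 := by
    rw [hu, QuadraticMap.map_smul, smul_eq_mul]
    exact mul_ne_zero (mul_ne_zero hc hc) hQu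
  have h1 := Cfsg.Agent.Lib.helper49.refl_conj Q ⟨x, hx⟩ u hQu hgv
  have h3 := congrArg (fun g : ↥(Cfsg.isometryGroup F ⇑Q) => ((g : GL ι F) : Matrix ι ι F))
    (mul_inv_eq_iff_eq_mul.mp h1)
  simp only [Subgroup.coe_mul, Units.val_mul, Cfsg.Agent.Lib.helper49.reflG_val] at h3
  rw [hu, Cfsg.Agent.Lib.helper49.refl_smul Q u c hc] at h3
  exact ⟨Cfsg.Agent.Lib.helper49.reflG Q u hQu,
    by rw [Cfsg.Agent.Lib.helper49.reflG_val]; exact h3.symm,
    Cfsg.Agent.Lib.helper49.detHom_reflG Q u hQu⟩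

end Cfsg.Agent.Lib.helper59.Sfk
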