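import Mathlib
import Cfsg.Agent.Lib.helper24.SfoDefs
import Cfsg.Agent.Lib.helper98.SfoOB

/-! S5981 (helper98): transport of the count of `Q v = c` to a diagonal form, by way of the
orthogonal basis of piece OB. Shared by pieces CNTE and CNTO. -/

set_option autoImplicit false

namespace Cfsg.Agent.Lib.helper24

open Module Matrix Cfsg.Geo

/-- For an orthogonal family `e`, `Q (∑ x_j e_j) = ∑ Q (e_j) x_j ^ 2`. -/
theorem h98_sfo_diag_eval {F : Type*} [Field F] {n : ℕ} (Q : (Fin n → F) → F)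
    (hQ : IsNondegenerateQuadraticForm Q) (e : Fin n → (Fin n → F))
    (horth : ∀ i j, i ≠ j → QuadraticMap.polar Q (e i) (e j) = 0) (x : Fin n → F)
    (s : Finset (Fin n)) :
    Q (∑ j ∈ s, x j • e j) = ∑ j ∈ s, Q (e j) * x j ^ 2 := by
  classical
  have hb := hQ.polar_bilinear
  obtain ⟨B, hB⟩ : ∃ B : LinearMap.BilinForm F (Fin n → F),
      ∀ u v, B u v = QuadraticMap.polar Q u v :=
    ⟨LinearMap.mk₂ F (fun u v => QuadraticMap.polar Q u v) hb.add_left hb.smul_left hb.add_right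
      hb.smul_right, fun u v => rfl⟩
  have hQ0 : Q 0 = 0 := by
    have h := hQ.smul 0 0
    simpa using h
  have hadd : ∀ u v, Q (u + v) = Q u + Q v + QuadraticMap.polar Q u v := by
    intro u v
    unfold QuadraticMap.polar
    ring
  induction s using Finset.induction_on with
  | empty => simp [hQ0]
  | insert i s his ih =>
    rw [Finset.sum_insert his, Finset.sum_insert his, hadd, ih, hQ.smul]
    have h0 : QuadraticMap.polar Q (x i • e i) (∑ j ∈ s, x j • e j) = 0 := by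
      rw [← hB, map_sum]
      apply Finset.sum_eq_zero
      intro j hj
      have hij : i ≠ j := by
        rintro rfl
        exact his hj
      rw [hB, hb.smul_right, hb.smul_left, horth i j hij]
      simp
    rw [h0]
    ring

/-- Transport: the number of solutions of `Q v = c` is the number of solutions of a diagonal
equation with non-zero coefficients. -/
theorem h98_sfo_count_diag {F : Type*} [Field F] [Fintype F] [DecidableEq F] {n : ℕ}
    (h2 : (2 : F) ≠ 0) (Q : (Fin n → F) → F) (hQ : IsNondegenerateQuadraticForm Q) :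
    ∃ d : Fin n → F, (∀ j, d j ≠ 0) ∧ ∀ c : F,
      sfoCount Q c =
        (Finset.univ.filter (fun x : Fin n → F => ∑ j, d j * x j ^ 2 = c)).card := by
  obtain ⟨e, hli, horth, hne⟩ := sfo_orth_basis h2 Q hQ
  refine ⟨fun j => Q (e j), hne, ?_⟩
  intro c
  have hinj : Function.Injective (fun x : Fin n → F => ∑ j, x j • e j) := by
    intro x y hxy
    have h1 : ∑ j, (x j - y j) • e j = 0 := by
      simp only [sub_smul, Finset.sum_sub_distrib]
      exact sub_eq_zero.mpr hxy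
    have h2' := (Fintype.linearIndependent_iff.mp hli) (fun j => x j - y j) h1
    funext j
    exact sub_eq_zero.mp (h2' j)
  have hbij : Function.Bijective (fun x : Fin n → F => ∑ j, x j • e j) :=
    Finite.injective_iff_bijective.mp hinj
  have hequiv : {x : Fin n → F // ∑ j, Q (e j) * x j ^ 2 = c} ≃ {v : Fin n → F // Q v = c} :=
    Equiv.subtypeEquiv (Equiv.ofBijective _ hbij) (fun x => by
      rw [Equiv.ofBijective_apply, h98_sfo_diag_eval Q hQ e horth x Finset.univ])
  unfold sfoCount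
  rw [← Nat.card_congr hequiv, Nat.card_eq_fintype_card, Fintype.card_subtype]

/-- CNTE core: `sfo_count_even` from the statement of CNTDE (`sfo_count_diag_even`). -/
theorem h98_sfo_count_even_core {F : Type*} [Field F] [Fintype F]
    (hDE : ∀ [DecidableEq F] (_ : (2 : F) ≠ 0) (k : ℕ) (d : Fin (2 * k) → F) (_ : ∀ j, d j ≠ 0),
      ∃ ε : ℤ, (ε = 1 ∨ ε = -1) ∧ ∀ c : F, c ≠ 0 →
        ((Finset.univ.filter (fun x : Fin (2 * k) → F => ∑ j, d j * x j ^ 2 = c)).card : ℤ) =
          (Fintype.card F : ℤ) ^ (k - 1) * ((Fintype.card F : ℤ) ^ k - ε))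
    (h2 : (2 : F) ≠ 0) (d k : ℕ)
    (hdk : d = 2 * k) (Q : (Fin d → F) → F) (hQ : IsNondegenerateQuadraticForm Q) :
    ∃ ε : ℤ, (ε = 1 ∨ ε = -1) ∧ ∀ c : F, c ≠ 0 →
      (sfoCount Q c : ℤ) = (Fintype.card F : ℤ) ^ (k - 1) * ((Fintype.card F : ℤ) ^ k - ε) := by
  classical
  subst hdk
  obtain ⟨dd, hdd, hcount⟩ := h98_sfo_count_diag h2 Q hQ
  obtain ⟨ε, hε, hc⟩ := hDE h2 k dd hdd
  refine ⟨ε, hε, ?_⟩
  intro c hc0
  rw [hcount c]
  exact hc c hc0

/-- CNTO core: `sfo_count_odd` from the statement of CNTDO (`sfo_count_diag_odd`). -/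
theorem h98_sfo_count_odd_core {F : Type*} [Field F] [Fintype F]
    (hDO : ∀ [DecidableEq F] (_ : (2 : F) ≠ 0) (k : ℕ) (d : Fin (2 * k + 1) → F)
      (_ : ∀ j, d j ≠ 0),
      ∃ E : ℤ, (E = 1 ∨ E = -1) ∧
        (∀ c : F, c ≠ 0 → IsSquare c →
          ((Finset.univ.filter
            (fun x : Fin (2 * k + 1) → F => ∑ j, d j * x j ^ 2 = c)).card : ℤ) =
            (Fintype.card F : ℤ) ^ k * ((Fintype.card F : ℤ) ^ k + E)) ∧
        (∀ c : F, c ≠ 0 → ¬ IsSquare c →
          ((Finset.univ.filter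
            (fun x : Fin (2 * k + 1) → F => ∑ j, d j * x j ^ 2 = c)).card : ℤ) =
            (Fintype.card F : ℤ) ^ k * ((Fintype.card F : ℤ) ^ k - E)))
    (h2 : (2 : F) ≠ 0) (d k : ℕ)
    (hdk : d = 2 * k + 1) (Q : (Fin d → F) → F) (hQ : IsNondegenerateQuadraticForm Q) :
    ∃ E : ℤ, (E = 1 ∨ E = -1) ∧
      (∀ c : F, c ≠ 0 → IsSquare c →
        (sfoCount Q c : ℤ) = (Fintype.card F : ℤ) ^ k * ((Fintype.card F : ℤ) ^ k + E)) ∧
      (∀ c : F, c ≠ 0 → ¬ IsSquare c →
        (sfoCount Q c : ℤ) = (Fintype.card F : ℤ) ^ k * ((Fintype.card F : ℤ) ^ k - E)) := by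
  classical
  subst hdk
  obtain ⟨dd, hdd, hcount⟩ := h98_sfo_count_diag h2 Q hQ
  obtain ⟨E, hE, hs, hns⟩ := hDO h2 k dd hdd
  refine ⟨E, hE, ?_, ?_⟩
  · intro c hc0 hsq
    rw [hcount c]
    exact hs c hc0 hsq
  · intro c hc0 hsq
    rw [hcount c]
    exact hns c hc0 hsq

end Cfsg.Agent.Lib.helper24
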