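import Mathlib
import Cfsg.Agent.Lib.helper99.SreMainA

/-! S5990 split (helper99): `srm_odd_nec`, the necessity direction of the criterion for odd
primes `r ≠ p` in a space of MINUS type of dimension `2d` and elliptic `m`-spaces (`m` even):
if `r` divides the number of elliptic `m`-spaces and every element of `Ω` of order `r` modulo
scalars, not a scalar, fixes an elliptic `m`-space, then the arithmetic condition holds.
Clone of the first half of helper99's `sre_odd_main` with `ε = -1`, `η = -1`. -/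

set_option autoImplicit false
set_option linter.unusedSectionVars false
set_option linter.unusedVariables false
set_option linter.style.haveILetI false
set_option linter.deprecated false

namespace Cfsg.Agent.Lib.helper98

open Module Cfsg.Agent.Lib.helper24 Cfsg.Agent.Lib.helper45 Cfsg.Agent.Lib.helper49

universe u

section srmnec

variable {F : Type u} [Field F] [Fintype F]

/-- S5990, odd `r ≠ p`, necessity. -/
theorem srm_odd_nec {ι : Type} [Fintype ι] [DecidableEq ι] (p f' : ℕ) [Fact p.Prime]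
    (hF : Fintype.card F = p ^ f') (r : ℕ) [Fact r.Prime] (hpr : p.Coprime r) (hr2 : r ≠ 2)
    (i c : ℕ) (hi : i = orderOf ((Fintype.card F : ℕ) : ZMod r))
    (hc : c = if Even i then i else 2 * i) (Q : QuadraticForm F (ι → F))
    (hnd : ∀ v, (∀ w, QuadraticMap.polar Q v w = 0) → v = 0) (d : ℕ) (hd : 4 ≤ d)
    (hι : Fintype.card ι = 2 * d)
    (hty : Unif ((-1 : ℤ) * (Fintype.card F : ℤ) ^ d)
      (fun a : F => Nat.card {v : ι → F // Q v = a}))
    (m : ℕ) (hm : 2 ≤ m) (hme : Even m) (hmd : m + 2 ≤ 2 * d)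
    (hrΩ : r ∣ Nat.card {W : Submodule F (ι → F) // finrank F W = m ∧
      Cfsg.Geo.IsNondegenerateOn (QuadraticMap.polar ⇑Q) W ∧ ¬ Cfsg.Geo.IsPlusTypeOn ⇑Q W})
    (H : ∀ x : GL ι F, x ∈ Cfsg.Geo.omegaGL ⇑Q →
      (∃ z : F, ((x ^ r : GL ι F) : Matrix ι ι F) = z • (1 : Matrix ι ι F)) →
      (∀ z : F, (x : Matrix ι ι F) ≠ z • (1 : Matrix ι ι F)) →
      ∃ W : Submodule F (ι → F), (finrank F W = m ∧
        Cfsg.Geo.IsNondegenerateOn (QuadraticMap.polar ⇑Q) W ∧ ¬ Cfsg.Geo.IsPlusTypeOn ⇑Q W) ∧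
        W.map (Matrix.toLin' (x : Matrix ι ι F)) ≤ W) :
    (Odd i ∧ ((2 * d) % c = 0 ∨ (c ≤ m ∧ 0 < m % c ∧ m % c ≤ (2 * d) % c))) ∨
      (Even i ∧ (((2 * d) % c = 0 ∧ (Even ((2 * d) / i) ∨ (m % c = 0 ∧ Odd (m / i)))) ∨
        (0 < (2 * d) % c ∧ i ≤ m ∧ ((0 < m % c ∧ m % c < (2 * d) % c) ∨
          (m % c = 0 ∧ Odd (m / i)) ∨
          (m % c = (2 * d) % c ∧ Even ((2 * d + m - 2 * ((2 * d) % c)) / i)))))) := by
  classical
  have hr : r.Prime := Fact.out
  have hcev : Even c := sr_c_even p f' hF r hpr hr2 i c hi hc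
  have hc1 := srf_c_pos p f' hF r hpr hr2 i c hi hc
  obtain ⟨e, he⟩ := hcev
  have hmev : Even m := hme
  obtain ⟨m', hm'⟩ := hme
  have hm2 : m = 2 * m' := by omega
  have hdimV : finrank F (ι → F) = 2 * d := by rw [Module.finrank_fintype_fun_eq_card, hι]
  obtain ⟨B, hB⟩ : ∃ B, B = (2 * d) / c := ⟨_, rfl⟩
  obtain ⟨k, hk⟩ : ∃ k, k = (2 * d) % c := ⟨_, rfl⟩
  have hdiv : c * B + k = 2 * d := by
    rw [hB, hk]
    exact Nat.div_add_mod _ _
  have hkc : k < c := by
    rw [hk]
    exact Nat.mod_lt _ (by omega)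
  obtain ⟨μ, hμ⟩ : ∃ μ, μ = m / c := ⟨_, rfl⟩
  obtain ⟨ρ, hρ⟩ : ∃ ρ, ρ = m % c := ⟨_, rfl⟩
  have hdivm : c * μ + ρ = m := by
    rw [hμ, hρ]
    exact Nat.div_add_mod _ _
  have hρc : ρ < c := by
    rw [hρ]
    exact Nat.mod_lt _ (by omega)
  rw [← hk, ← hρ]
  have hci : Even i → c = i := fun h => by rw [hc, if_pos h]
  have hv : ∃ v, Q v ≠ 0 := sro_exists_ne Q hnd (by rw [hι]; omega)
  have hconv := fun W => Cfsg.Agent.Lib.helper99.sre_ell_iff Q W m hmev
  have hTopty : SrTy Q ⊤ (-1) := by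
    unfold SrTy
    rw [sro_nu_top, finrank_top, hdimV, Nat.mul_div_cancel_left _ (by norm_num)]
    exact hty
  have hplus : ∀ M : ℕ, M % c = 0 →
      (((1 : ℤ) : ZMod r) * ((Fintype.card F : ℕ) : ZMod r) ^ (M / 2) = 1 ↔
        (Odd i ∨ Even (M / c))) :=
    fun M h0 => srf_third_plus p f' hF r hpr hr2 i c hi hc M h0
  have hminus : ∀ M : ℕ, M % c = 0 →
      (((-1 : ℤ) : ZMod r) * ((Fintype.card F : ℕ) : ZMod r) ^ (M / 2) = 1 ↔
        (Even i ∧ Odd (M / c))) :=
    fun M h0 => srf_third_minus p f' hF r hpr hr2 i c hi hc M h0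
  have hcard : Nat.card {W : Submodule F (ι → F) // finrank F W = m ∧
        SpNd (QuadraticMap.polarBilin Q) W ∧ SrTy Q W (-1)} =
      Nat.card {W : Submodule F (ι → F) // finrank F W = m ∧
        Cfsg.Geo.IsNondegenerateOn (QuadraticMap.polar ⇑Q) W ∧ ¬ Cfsg.Geo.IsPlusTypeOn ⇑Q W} :=
    Nat.card_congr (Equiv.subtypeEquivRight (fun W => (hconv W).symm))
  -- the easy case
  by_cases hA : k = 0 ∧ (Odd i ∨ Even B)
  · obtain ⟨hk0, hA2⟩ := hA
    rcases Nat.even_or_odd i with hev | hodd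
    · right
      refine ⟨hev, Or.inl ⟨hk0, Or.inl ?_⟩⟩
      rcases hA2 with h | h
      · exact absurd hev (Nat.not_even_iff_odd.mpr h)
      · rw [← hci hev, ← hB]
        exact h
    · left
      exact ⟨hodd, Or.inl hk0⟩
  -- the main case: the four necessary conditions
  have hcntA : m < c → k ≤ m := by
    intro hmc
    have h3 := Cfsg.Agent.Lib.helper76.sre_count_a p f' hF r hpr hr2 i c hi hc m hmev hm hmc
      (2 * d) (ι → F) Q hnd hdimV (even_two_mul d) (by rw [hcard]; exact hrΩ)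
    rw [← hk] at h3
    exact h3
  have hc2d : c ≤ 2 * d := by
    by_contra hlt
    have h5 : k = 2 * d := by
      rw [hk]
      exact Nat.mod_eq_of_lt (by omega)
    have := hcntA (by omega)
    omega
  have hk0 : k = 0 → ((-1 : ℤ) : ZMod r) * ((Fintype.card F : ℕ) : ZMod r) ^ d = 1 := by
    intro h0
    have h4 := hminus (2 * d) (by rw [← hk]; exact h0)
    rw [Nat.mul_div_cancel_left d (by norm_num : 0 < 2), ← hB] at h4
    apply h4.mpr
    have hev : Even i := by
      by_contra hcon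
      exact hA ⟨h0, Or.inl (Nat.not_even_iff_odd.mp hcon)⟩
    have hBo : Odd B := by
      by_contra hcon
      exact hA ⟨h0, Or.inr (Nat.not_odd_iff_even.mp hcon)⟩
    exact ⟨hev, hBo⟩
  obtain ⟨g, hgΩ, hgr, hgker⟩ := Cfsg.Agent.Lib.helper76.sre_real p f' hF r hpr hr2 i c hi hc Q
    hnd d (by omega) hι (-1) (Or.inr rfl) hty hc2d (Or.inr (by rw [hι]; omega))
    (by rw [← hk]; exact hk0)
  rw [← hk] at hgker
  have hgns : ∀ z : F, (g : Matrix ι ι F) ≠ z • (1 : Matrix ι ι F) := by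
    intro z hz
    have hzz : z * z = 1 := sro_scalar Q hv g hgΩ 1 z (by rw [pow_one]; exact hz)
    have hz1 : z = 1 := by
      have h5 : ((g ^ r : GL ι F) : Matrix ι ι F) = (z ^ r) • (1 : Matrix ι ι F) := by
        rw [Units.val_pow_eq_pow_val, hz, smul_pow, one_pow]
      rw [hgr, Units.val_one] at h5
      obtain ⟨j⟩ := Fintype.card_pos_iff.mp (by rw [hι]; omega : 0 < Fintype.card ι)
      have h6 := congrFun (congrFun h5 j) j
      rw [Matrix.smul_apply, Matrix.one_apply_eq, smul_eq_mul, mul_one] at h6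
      obtain ⟨t, ht⟩ := hr.odd_of_ne_two hr2
      rw [ht, pow_succ, pow_mul, pow_two, hzz, one_pow, one_mul] at h6
      exact h6.symm
    have hlin : Matrix.toLin' (g : Matrix ι ι F) - 1 = 0 := by
      rw [hz, hz1, one_smul]
      apply LinearMap.ext
      intro v
      rw [LinearMap.sub_apply, Matrix.toLin'_apply, Matrix.one_mulVec, Module.End.one_apply,
        sub_self]
      rfl
    rw [hlin, LinearMap.ker_zero, finrank_top, hdimV] at hgker
    omega
  obtain ⟨W, hWP, hWinv⟩ := H g hgΩ ⟨1, by rw [hgr, one_smul]; rfl⟩ hgns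
  obtain ⟨hWdim, hWnd, hWty⟩ := (hconv W).mp hWP
  obtain ⟨T, hTdef⟩ : ∃ T : Module.End F (ι → F), T = Matrix.toLin' (g : Matrix ι ι F) :=
    ⟨_, rfl⟩
  rw [← hTdef] at hgker hWinv
  have hT : ∀ v, Q (T v) = Q v := by
    rw [hTdef]
    exact sro_iso_of_mem Q g hgΩ
  have hTr : T ^ r = 1 := by
    rw [hTdef, so_toLin_pow, ← Units.val_pow_eq_pow_val, hgr, Units.val_one, Matrix.toLin'_one]
    rfl
  have hWinv' : ∀ w ∈ W, T w ∈ W := fun w hw => hWinv (Submodule.mem_map_of_mem hw)
  obtain ⟨a, j, haj, hak, ha0, haK⟩ := Cfsg.Agent.Lib.helper98.sre_nec Q hnd T hT p f' hF r hpr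
    hr2 hTr i c hi hc (-1) (Or.inr rfl) d hdimV hTopty W hWnd hWinv' m' (by rw [hWdim, hm2]) (-1)
    (Or.inr rfl) hWty
  rw [hgker] at hak haK
  have haρ : a = ρ := by
    have h5 : (a + c * j) % c = a := by
      rw [Nat.add_mul_mod_self_left]
      exact Nat.mod_eq_of_lt (by omega)
    rw [haj, ← hm2] at h5
    rw [hρ, h5]
  rw [haρ] at haj hak ha0 haK
  -- (N2)
  have hN2 : ρ = 0 → Even i ∧ Odd μ := by
    intro hρ0
    have h5 := ha0 hρ0
    have h6 := (hminus m (by rw [← hρ]; exact hρ0)).mp (by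
      rw [hm2, Nat.mul_div_cancel_left m' (by norm_num : 0 < 2)]
      exact h5)
    rw [← hμ] at h6
    exact h6
  -- (N3)
  have hN3 : ρ = k → Odd i ∨ Even (B + μ) := by
    intro hρk
    have h5 := haK hρk
    rw [show ((-1 : ℤ) * (-1 : ℤ)) = 1 by norm_num] at h5
    have hMeq : 2 * d + m - 2 * k = c * (B + μ) := by
      rw [mul_add]
      omega
    have hM0 : (2 * d + m - 2 * k) % c = 0 := by
      rw [hMeq]
      exact Nat.mul_mod_right _ _
    have hM2 : (2 * d + m - 2 * k) / 2 = d + m' - ρ := by omega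
    have hMc : (2 * d + m - 2 * k) / c = B + μ := by
      rw [hMeq]
      exact Nat.mul_div_cancel_left _ (by omega)
    have h6 := (hplus _ hM0).mp (by rw [hM2]; exact h5)
    rw [hMc] at h6
    exact h6
  -- (N4)
  have hN4 : c ≤ m := by
    by_contra hcm
    have hmc : m < c := by omega
    have hμ0 : μ = 0 := by
      rw [hμ]
      exact Nat.div_eq_of_lt hmc
    have hρm : ρ = m := by
      rw [hρ]
      exact Nat.mod_eq_of_lt hmc
    have hkm := hcntA hmc
    have hρk : ρ = k := by omega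
    have h6 := hN3 hρk
    rw [hμ0, add_zero] at h6
    have hM'eq : 2 * d - m = c * B := by omega
    have hM'0 : (2 * d - m) % c = 0 := by
      rw [hM'eq]
      exact Nat.mul_mod_right _ _
    have hM'c : (2 * d - m) / c = B := by
      rw [hM'eq]
      exact Nat.mul_div_cancel_left _ (by omega)
    have h8 : ((-(-1 : ℤ) : ℤ) : ZMod r) * ((Fintype.card F : ℕ) : ZMod r) ^ ((2 * d - m) / 2)
        = 1 := by
      rw [neg_neg]
      exact (hplus (2 * d - m) hM'0).mpr (by rw [hM'c]; exact h6)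
    have h7 := Cfsg.Agent.Lib.helper40.sre_count_b p f' hF r hpr hr2 i c hi hc m hmev hm hmc
      (2 * d) (ι → F) Q hnd hdimV (by rw [← hk]; omega) (-1) (Or.inr rfl) hTopty h8
    exact h7 (by rw [hcard]; exact hrΩ)
  -- conclusion
  rcases Nat.even_or_odd i with hev | hodd
  · right
    have hcieq := hci hev
    refine ⟨hev, ?_⟩
    rcases Nat.eq_zero_or_pos k with hk0' | hkpos
    · left
      have hρ0 : ρ = 0 := by omega
      refine ⟨hk0', Or.inr ⟨hρ0, ?_⟩⟩
      rw [← hcieq, ← hμ]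
      exact (hN2 hρ0).2
    · right
      refine ⟨hkpos, by rw [← hcieq]; exact hN4, ?_⟩
      rcases Nat.eq_zero_or_pos ρ with hρ0 | hρpos
      · right; left
        refine ⟨hρ0, ?_⟩
        rw [← hcieq, ← hμ]
        exact (hN2 hρ0).2
      · rcases Nat.lt_or_ge ρ k with hlt | hge
        · left
          exact ⟨hρpos, hlt⟩
        · right; right
          have hρk : ρ = k := by omega
          refine ⟨hρk, ?_⟩
          have hMeq : 2 * d + m - 2 * k = c * (B + μ) := by
            rw [mul_add]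
            omega
          have hMc : (2 * d + m - 2 * k) / c = B + μ := by
            rw [hMeq]
            exact Nat.mul_div_cancel_left _ (by omega)
          rw [← hcieq, hMc]
          rcases hN3 hρk with h | h
          · exact absurd hev (Nat.not_even_iff_odd.mpr h)
          · exact h
  · left
    refine ⟨hodd, Or.inr ⟨hN4, ?_, hak⟩⟩
    rcases Nat.eq_zero_or_pos ρ with hρ0 | hρpos
    · exact absurd (hN2 hρ0).1 (Nat.not_even_iff_odd.mpr hodd)
    · exact hρpos

end srmnec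

end Cfsg.Agent.Lib.helper98
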