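import Cfsg.Agent.Lib.helper98.SymAut

set_option autoImplicit false

namespace Cfsg.Agent.Lib.helper98

open Equiv Equiv.Perm

/-- A permutation commuting with all permutations (at least three points) is trivial. -/
theorem perm_eq_one_of_central {Ω : Type*} [Fintype Ω] [DecidableEq Ω]
    (h3 : 3 ≤ Fintype.card Ω) (g : Perm Ω) (hg : ∀ h : Perm Ω, g * h = h * g) : g = 1 := by
  ext a
  by_contra hne
  rw [Perm.one_apply] at hne
  obtain ⟨c, hc⟩ := exists_notMem_of_card_lt ({a, g a} : Finset Ω)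
    (lt_of_le_of_lt Finset.card_le_two (by omega))
  simp only [Finset.mem_insert, Finset.mem_singleton, not_or] at hc
  have h1 := congrArg (fun σ : Perm Ω => σ a) (hg (swap (g a) c))
  simp only [Perm.mul_apply] at h1
  rw [swap_apply_of_ne_of_ne (Ne.symm hne) (Ne.symm hc.1), swap_apply_left] at h1
  exact hc.2 h1.symm

/-- A normal subgroup of `Perm Ω` (at least five points) not containing the alternating group
is trivial. -/
theorem normal_eq_bot_of_not_alternating_le {Ω : Type*} [Fintype Ω] [DecidableEq Ω]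
    (h5 : 5 ≤ Fintype.card Ω) (N : Subgroup (Perm Ω)) (hNn : N.Normal)
    (hN : ¬ alternatingGroup Ω ≤ N) : N = ⊥ := by
  rw [eq_bot_iff]
  intro g hg
  rw [Subgroup.mem_bot]
  have hsimple : IsSimpleGroup (alternatingGroup Ω) :=
    alternatingGroup.isSimpleGroup (by rw [Nat.card_eq_fintype_card]; exact h5)
  have hN' : (N.subgroupOf (alternatingGroup Ω)).Normal := inferInstance
  rcases hN'.eq_bot_or_eq_top with hb | ht
  · apply perm_eq_one_of_central (by omega)
    intro h
    have h1 : g * h * g⁻¹ * h⁻¹ ∈ N := by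
      have h2 : h * g⁻¹ * h⁻¹ ∈ N := hNn.conj_mem _ (N.inv_mem hg) h
      have h3 := N.mul_mem hg h2
      simpa [mul_assoc] using h3
    have h2 : g * h * g⁻¹ * h⁻¹ ∈ alternatingGroup Ω := by
      rw [Equiv.Perm.mem_alternatingGroup, Perm.sign_mul, Perm.sign_mul, Perm.sign_mul,
        Perm.sign_inv, Perm.sign_inv, mul_assoc (sign g * sign h), mul_mul_mul_comm,
        Int.units_mul_self, Int.units_mul_self, one_mul]
    have h3 : (⟨_, h2⟩ : alternatingGroup Ω) ∈ N.subgroupOf (alternatingGroup Ω) :=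
      Subgroup.mem_subgroupOf.mpr h1
    rw [hb, Subgroup.mem_bot] at h3
    have h4 : g * h * g⁻¹ * h⁻¹ = 1 := congrArg Subtype.val h3
    calc g * h = (g * h * g⁻¹ * h⁻¹) * (h * g) := by group
      _ = h * g := by rw [h4, one_mul]
  · exfalso
    apply hN
    intro a ha
    have h1 : (⟨a, ha⟩ : alternatingGroup Ω) ∈ N.subgroupOf (alternatingGroup Ω) := by
      rw [ht]; trivial
    exact Subgroup.mem_subgroupOf.mp h1

section Coset

variable {G : Type*} [Group G] (H : Subgroup G)

/-- The coset action homomorphism. -/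
noncomputable abbrev cosetHom : G →* Perm (G ⧸ H) := MulAction.toPermHom G (G ⧸ H)

theorem cosetHom_apply_mk_eq_iff (g a : G) :
    cosetHom H g (a : G ⧸ H) = (a : G ⧸ H) ↔ a⁻¹ * g * a ∈ H := by
  simp only [cosetHom, MulAction.toPermHom_apply, MulAction.toPerm_apply]
  rw [MulAction.Quotient.smul_mk, QuotientGroup.eq, smul_eq_mul]
  constructor
  · intro h
    have h1 := H.inv_mem h
    simpa [mul_assoc] using h1
  · intro h
    have h1 := H.inv_mem h
    simpa [mul_assoc] using h1

theorem cosetHom_apply_one_eq_iff (g : G) :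
    cosetHom H g ((1 : G) : G ⧸ H) = ((1 : G) : G ⧸ H) ↔ g ∈ H := by
  rw [cosetHom_apply_mk_eq_iff]; simp

theorem ker_cosetHom_le : (cosetHom H).ker ≤ H := by
  intro g hg
  rw [← cosetHom_apply_one_eq_iff]
  rw [MonoidHom.mem_ker.mp hg]; rfl

end Coset

theorem cosetHom_injective {Ω : Type*} [Fintype Ω] [DecidableEq Ω]
    (h5 : 5 ≤ Fintype.card Ω) (H : Subgroup (Perm Ω)) (hH : 2 < H.index) :
    Function.Injective (cosetHom H) := by
  rw [← MonoidHom.ker_eq_bot_iff]
  apply normal_eq_bot_of_not_alternating_le h5 _ (MonoidHom.normal_ker _)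
  intro hle
  have hnt : Nontrivial Ω := Fintype.one_lt_card_iff_nontrivial.mp (by omega)
  have h1 := Subgroup.index_dvd_of_le (hle.trans (ker_cosetHom_le H))
  rw [alternatingGroup.index_eq_two] at h1
  have h2 := Nat.le_of_dvd (by norm_num) h1
  omega

theorem cosetHom_bijective {Ω : Type*} [Fintype Ω] [DecidableEq Ω]
    (h5 : 5 ≤ Fintype.card Ω) (H : Subgroup (Perm Ω)) (hH : H.index = Fintype.card Ω) :
    Function.Bijective (cosetHom H) := by
  refine (cosetHom_injective h5 H (by omega)).bijective_of_nat_card_le ?_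
  rw [Nat.card_perm, Nat.card_perm, Nat.card_eq_fintype_card (α := Ω)]
  exact le_of_eq (congrArg Nat.factorial hH)

theorem card_centralizer_map {A B : Type*} [Group A] [Group B] (e : A ≃* B) (σ : A) :
    Nat.card (Subgroup.centralizer {e σ}) = Nat.card (Subgroup.centralizer {σ}) := by
  refine (Nat.card_congr ?_).symm
  refine e.toEquiv.subtypeEquiv (fun g => ?_)
  simp only [Subgroup.mem_centralizer_iff, Set.mem_singleton_iff, forall_eq]
  constructor
  · intro h
    show e σ * e g = e g * e σ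
    rw [← map_mul, ← map_mul, h]
  · intro h
    have h' : e σ * e g = e g * e σ := h
    rw [← map_mul, ← map_mul] at h'
    exact e.injective h'

/-- On six points, an isomorphism of symmetric groups maps a transposition or a product of three
disjoint transpositions to a transposition or a product of three disjoint transpositions. -/
theorem cycleType_map_six {α β : Type*} [Fintype α] [DecidableEq α] [Fintype β] [DecidableEq β]
    (hα : Fintype.card α = 6) (hβ : Fintype.card β = 6) (e : Perm α ≃* Perm β) (σ : Perm α)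
    (hσ : σ.cycleType = {2} ∨ σ.cycleType = {2, 2, 2}) :
    (e σ).cycleType = {2} ∨ (e σ).cycleType = {2, 2, 2} := by
  have hoσ : orderOf σ = 2 := by
    rw [← lcm_cycleType]
    rcases hσ with h | h <;> rw [h] <;> rfl
  have ho : orderOf (e σ) = 2 := by rw [MulEquiv.orderOf_eq]; exact hoσ
  have hp : (orderOf (e σ)).Prime := by rw [ho]; exact Nat.prime_two
  obtain ⟨k, hk⟩ := cycleType_prime_order hp
  rw [ho] at hk
  have hc := card_centralizer_map e σ
  have hle : (e σ).cycleType.sum ≤ Fintype.card β := sum_cycleType_le _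
  have hcσ : Nat.card (Subgroup.centralizer {σ}) = 48 := by
    rw [nat_card_centralizer, hα]
    rcases hσ with h | h <;> rw [h] <;> decide
  have hsum : (Multiset.replicate (k + 1) 2).sum = 2 * (k + 1) := by
    rw [Multiset.sum_replicate, smul_eq_mul, mul_comm]
  have hprod : (Multiset.replicate (k + 1) 2).prod = 2 ^ (k + 1) := by
    rw [Multiset.prod_replicate]
  have htf : (Multiset.replicate (k + 1) 2).toFinset = {2} := by
    rw [Multiset.toFinset_replicate, if_neg (Nat.succ_ne_zero k)]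
  have hcount : (Multiset.replicate (k + 1) 2).count 2 = k + 1 := by simp
  rw [hcσ, nat_card_centralizer, hk, hβ, hsum, hprod, htf, Finset.prod_singleton, hcount] at hc
  rw [hk, hsum, hβ] at hle
  have hk3 : k = 0 ∨ k = 1 ∨ k = 2 := by omega
  rcases hk3 with rfl | rfl | rfl
  · left; rw [hk]; rfl
  · exfalso; revert hc; decide
  · right; rw [hk]; rfl

theorem card_cycleType_two {α : Type*} [Fintype α] [DecidableEq α]
    (hα : Fintype.card α = 6) :
    (Finset.univ.filter (fun g : Perm α => g.cycleType = {2})).card = 15 := by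
  rw [card_of_cycleType, hα]
  decide

theorem card_cycleType_two_two_two {α : Type*} [Fintype α] [DecidableEq α]
    (hα : Fintype.card α = 6) :
    (Finset.univ.filter (fun g : Perm α => g.cycleType = {2, 2, 2})).card = 15 := by
  rw [card_of_cycleType, hα]
  decide

theorem subgroup_eq_of_le_of_index_eq {G : Type*} [Group G] {H K : Subgroup G} (h : H ≤ K)
    (hi : H.index = K.index) (h0 : K.index ≠ 0) : H = K := by
  have h1 := Subgroup.relIndex_mul_index h
  rw [hi] at h1
  have h2 : H.relIndex K = 1 := by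
    have h3 : H.relIndex K * K.index = 1 * K.index := by rw [h1, one_mul]
    exact Nat.eq_of_mul_eq_mul_right (Nat.pos_of_ne_zero h0) h3
  exact le_antisymm h (Subgroup.relIndex_eq_one.mp h2)

theorem fixedPointFree_of_cycleType {β : Type*} [Fintype β] [DecidableEq β]
    (hβ : Fintype.card β = 6) (τ : Perm β) (hτ : τ.cycleType = {2, 2, 2}) (δ : β) : τ δ ≠ δ := by
  have h1 : τ.support.card = Fintype.card β := by
    rw [← sum_cycleType, hτ, hβ]; rfl
  have h2 : τ.support = Finset.univ := (Finset.card_eq_iff_eq_univ _).mp h1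
  exact mem_support.mp (h2 ▸ Finset.mem_univ δ)

theorem exists_fixed_of_isSwap {β : Type*} [Fintype β] [DecidableEq β]
    (hβ : 3 ≤ Fintype.card β) (τ : Perm β) (hτ : τ.IsSwap) : ∃ δ, τ δ = δ := by
  obtain ⟨p, q, -, rfl⟩ := hτ
  obtain ⟨c, hc⟩ := exists_notMem_of_card_lt ({p, q} : Finset β)
    (lt_of_le_of_lt Finset.card_le_two (by omega))
  simp only [Finset.mem_insert, Finset.mem_singleton, not_or] at hc
  exact ⟨c, swap_apply_of_ne_of_ne hc.1 hc.2⟩

theorem exists_isSwap_mem_stabilizer {Ω : Type*} [Fintype Ω] [DecidableEq Ω]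
    (h3 : 3 ≤ Fintype.card Ω) (x : Ω) :
    ∃ σ : Perm Ω, σ.IsSwap ∧ σ ∈ MulAction.stabilizer (Perm Ω) x := by
  obtain ⟨y, hy⟩ := exists_notMem_of_card_lt ({x} : Finset Ω)
    (by rw [Finset.card_singleton]; omega)
  obtain ⟨z, hz⟩ := exists_notMem_of_card_lt ({x, y} : Finset Ω)
    (lt_of_le_of_lt Finset.card_le_two (by omega))
  simp only [Finset.mem_insert, Finset.mem_singleton, not_or] at hy hz
  refine ⟨swap y z, ⟨y, z, Ne.symm hz.2, rfl⟩, ?_⟩
  rw [MulAction.mem_stabilizer_iff, Perm.smul_def]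
  exact swap_apply_of_ne_of_ne (Ne.symm hy) (Ne.symm hz.1)

section Six

variable {Ω : Type*} [Fintype Ω] [DecidableEq Ω]

/-- If the coset action of an index-6 subgroup of `S₆` maps one transposition to a
transposition, the subgroup is a point stabilizer. -/
theorem eq_stabilizer_of_isSwap_cosetHom (hΩ : Fintype.card Ω = 6)
    (H : Subgroup (Perm Ω)) (hH : H.index = 6) [Fintype (Perm Ω ⧸ H)]
    [DecidableEq (Perm Ω ⧸ H)]
    (σ₀ : Perm Ω) (hσ₀ : σ₀.IsSwap) (h0 : (cosetHom H σ₀).IsSwap) :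
    ∃ x : Ω, H = MulAction.stabilizer (Perm Ω) x := by
  have hbij := cosetHom_bijective (by omega) H (hH.trans hΩ.symm)
  have hswap : ∀ σ : Perm Ω, σ.IsSwap → (cosetHom H σ).IsSwap := by
    intro σ hσ
    have hconj : IsConj σ₀ σ := by
      rw [isConj_iff_cycleType_eq, isSwap_iff_cycleType.mp hσ₀, isSwap_iff_cycleType.mp hσ]
    obtain ⟨g, hg⟩ := isConj_iff.mp hconj
    rw [← hg, map_mul, map_mul, map_inv, isSwap_iff_cycleType, cycleType_conj]
    exact isSwap_iff_cycleType.mp h0
  obtain ⟨x, hx⟩ := exists_stabilizer_le_of_monoidHom (by omega) (cosetHom H) hbij.1 hswap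
    ((1 : Perm Ω) : Perm Ω ⧸ H)
  refine ⟨x, (subgroup_eq_of_le_of_index_eq ?_ ?_ ?_).symm⟩
  · intro g hg
    exact (cosetHom_apply_one_eq_iff H g).mp (hx g (MulAction.mem_stabilizer_iff.mp hg))
  · rw [MulAction.index_stabilizer_of_transitive, Nat.card_eq_fintype_card, hΩ, hH]
  · rw [hH]; norm_num

/-- An index-6 subgroup of `S₆` is a point stabilizer or contains no transposition. -/
theorem index_six_dichotomy (hΩ : Fintype.card Ω = 6)
    (H : Subgroup (Perm Ω)) (hH : H.index = 6) :
    (∃ x : Ω, H = MulAction.stabilizer (Perm Ω) x) ∨ (∀ σ : Perm Ω, σ.IsSwap → σ ∉ H) := by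
  classical
  by_cases hsw : ∀ σ : Perm Ω, σ.IsSwap → σ ∉ H
  · exact Or.inr hsw
  left
  push Not at hsw
  obtain ⟨σ₀, hσ₀, hσ₀H⟩ := hsw
  let _ : Fintype (Perm Ω ⧸ H) := Fintype.ofFinite _
  have hΔ : Fintype.card (Perm Ω ⧸ H) = 6 := by rw [← Nat.card_eq_fintype_card]; exact hH
  have hbij := cosetHom_bijective (by omega) H (hH.trans hΩ.symm)
  have h0 : (cosetHom H σ₀).IsSwap := by
    rcases cycleType_map_six hΩ hΔ (MulEquiv.ofBijective (cosetHom H) hbij) σ₀
      (Or.inl (isSwap_iff_cycleType.mp hσ₀)) with h | h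
    · exact isSwap_iff_cycleType.mpr h
    · exfalso
      exact fixedPointFree_of_cycleType hΔ _ h _ ((cosetHom_apply_one_eq_iff H σ₀).mpr hσ₀H)
  exact eq_stabilizer_of_isSwap_cosetHom hΩ H hH σ₀ hσ₀ h0

/-- For an index-6 subgroup of `S₆` without transpositions, transpositions act on the cosets
as products of three disjoint transpositions. -/
theorem cycleType_cosetHom_of_isSwap (hΩ : Fintype.card Ω = 6)
    (H : Subgroup (Perm Ω)) (hH : H.index = 6) (hE : ∀ σ : Perm Ω, σ.IsSwap → σ ∉ H)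
    [Fintype (Perm Ω ⧸ H)] [DecidableEq (Perm Ω ⧸ H)]
    (σ : Perm Ω) (hσ : σ.IsSwap) : (cosetHom H σ).cycleType = {2, 2, 2} := by
  have hΔ : Fintype.card (Perm Ω ⧸ H) = 6 := by rw [← Nat.card_eq_fintype_card]; exact hH
  have hbij := cosetHom_bijective (by omega) H (hH.trans hΩ.symm)
  rcases cycleType_map_six hΩ hΔ (MulEquiv.ofBijective (cosetHom H) hbij) σ
    (Or.inl (isSwap_iff_cycleType.mp hσ)) with h | h
  · exfalso
    obtain ⟨x, hx⟩ := eq_stabilizer_of_isSwap_cosetHom hΩ H hH σ hσ (isSwap_iff_cycleType.mpr h)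
    obtain ⟨τ, hτ, hτx⟩ := exists_isSwap_mem_stabilizer (by omega) x
    exact hE τ hτ (hx ▸ hτx)
  · exact h

/-- For an index-6 subgroup of `S₆` without transpositions, products of three disjoint
transpositions act on the cosets as transpositions. -/
theorem isSwap_cosetHom_of_cycleType (hΩ : Fintype.card Ω = 6)
    (H : Subgroup (Perm Ω)) (hH : H.index = 6) (hE : ∀ σ : Perm Ω, σ.IsSwap → σ ∉ H)
    [Fintype (Perm Ω ⧸ H)] [DecidableEq (Perm Ω ⧸ H)]
    (t : Perm Ω) (ht : t.cycleType = {2, 2, 2}) : (cosetHom H t).IsSwap := by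
  have hΔ : Fintype.card (Perm Ω ⧸ H) = 6 := by rw [← Nat.card_eq_fintype_card]; exact hH
  have hbij := cosetHom_bijective (by omega) H (hH.trans hΩ.symm)
  rcases cycleType_map_six hΩ hΔ (MulEquiv.ofBijective (cosetHom H) hbij) t (Or.inr ht)
    with h | h
  · exact isSwap_iff_cycleType.mpr h
  · exfalso
    have hsub : (Finset.univ.filter (fun g : Perm Ω => g.cycleType = {2})).image (cosetHom H) ⊆
        Finset.univ.filter (fun g : Perm (Perm Ω ⧸ H) => g.cycleType = {2, 2, 2}) := by
      intro τ hτ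
      obtain ⟨σ, hσ, rfl⟩ := Finset.mem_image.mp hτ
      rw [Finset.mem_filter] at hσ ⊢
      exact ⟨Finset.mem_univ _, cycleType_cosetHom_of_isSwap hΩ H hH hE σ
        (isSwap_iff_cycleType.mpr hσ.2)⟩
    have hcard : (Finset.univ.filter
        (fun g : Perm (Perm Ω ⧸ H) => g.cycleType = {2, 2, 2})).card ≤
        ((Finset.univ.filter (fun g : Perm Ω => g.cycleType = {2})).image (cosetHom H)).card := by
      rw [Finset.card_image_of_injective _ hbij.1, card_cycleType_two hΩ,
        card_cycleType_two_two_two hΔ]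
    have heq := Finset.eq_of_subset_of_card_le hsub hcard
    have hmem : cosetHom H t ∈ (Finset.univ.filter
        (fun g : Perm Ω => g.cycleType = {2})).image (cosetHom H) := by
      rw [heq, Finset.mem_filter]; exact ⟨Finset.mem_univ _, h⟩
    obtain ⟨σ, hσ, hσt⟩ := Finset.mem_image.mp hmem
    rw [Finset.mem_filter] at hσ
    have h1 : σ = t := hbij.1 hσt
    rw [h1, ht] at hσ
    exact absurd hσ.2 (by decide)

/-- An index-6 subgroup of `S₆` without transpositions contains a product of three disjoint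
transpositions. -/
theorem exists_cycleType_mem (hΩ : Fintype.card Ω = 6)
    (H : Subgroup (Perm Ω)) (hH : H.index = 6) (hE : ∀ σ : Perm Ω, σ.IsSwap → σ ∉ H) :
    ∃ t ∈ H, t.cycleType = {2, 2, 2} := by
  classical
  let _ : Fintype (Perm Ω ⧸ H) := Fintype.ofFinite _
  have hΔ : Fintype.card (Perm Ω ⧸ H) = 6 := by rw [← Nat.card_eq_fintype_card]; exact hH
  have hne : (Finset.univ.filter (fun g : Perm Ω => g.cycleType = {2, 2, 2})).Nonempty := by
    rw [← Finset.card_pos, card_cycleType_two_two_two hΩ]; norm_num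
  obtain ⟨t₀, ht₀⟩ := hne
  rw [Finset.mem_filter] at ht₀
  have h1 := isSwap_cosetHom_of_cycleType hΩ H hH hE t₀ ht₀.2
  obtain ⟨δ, hδ⟩ := exists_fixed_of_isSwap (by omega) _ h1
  obtain ⟨a, rfl⟩ := QuotientGroup.mk_surjective δ
  refine ⟨a⁻¹ * t₀ * a, (cosetHom_apply_mk_eq_iff H t₀ a).mp hδ, ?_⟩
  have h2 := cycleType_conj (σ := t₀) (τ := a⁻¹)
  rw [inv_inv] at h2
  rw [h2]; exact ht₀.2

/-- Any two index-6 subgroups of `S₆` without transpositions are conjugate. -/
theorem conj_of_no_swaps (hΩ : Fintype.card Ω = 6)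
    (H H' : Subgroup (Perm Ω)) (hH : H.index = 6) (hH' : H'.index = 6)
    (hE : ∀ σ : Perm Ω, σ.IsSwap → σ ∉ H) (hE' : ∀ σ : Perm Ω, σ.IsSwap → σ ∉ H') :
    ∃ a : Perm Ω, H' = H.map (MulAut.conj a).toMonoidHom := by
  classical
  let _ : Fintype (Perm Ω ⧸ H) := Fintype.ofFinite _
  have hΔ : Fintype.card (Perm Ω ⧸ H) = 6 := by rw [← Nat.card_eq_fintype_card]; exact hH
  have hbij := cosetHom_bijective (by omega) H (hH.trans hΩ.symm)
  obtain ⟨t, htH', ht⟩ := exists_cycleType_mem hΩ H' hH' hE'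
  have hsw := isSwap_cosetHom_of_cycleType hΩ H hH hE t ht
  have hK : (H'.map (MulEquiv.ofBijective (cosetHom H) hbij).toMonoidHom).index = 6 := by
    rw [← hH']
    exact Subgroup.index_map_equiv H' (MulEquiv.ofBijective (cosetHom H) hbij)
  rcases index_six_dichotomy hΔ _ hK with ⟨δ, hδ⟩ | hno
  · obtain ⟨a, rfl⟩ := QuotientGroup.mk_surjective δ
    refine ⟨a, ?_⟩
    ext h
    rw [Subgroup.mem_map_equiv, MulAut.conj_symm_apply, ← cosetHom_apply_mk_eq_iff]
    constructor
    · intro hh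
      have h1 : cosetHom H h ∈ H'.map (MulEquiv.ofBijective (cosetHom H) hbij).toMonoidHom :=
        ⟨h, hh, rfl⟩
      rw [hδ] at h1
      exact h1
    · intro hh
      have h1 : cosetHom H h ∈ H'.map (MulEquiv.ofBijective (cosetHom H) hbij).toMonoidHom := by
        rw [hδ]; exact hh
      obtain ⟨h', hh', hh'eq⟩ := h1
      have h2 : h' = h := hbij.1 hh'eq
      rw [← h2]; exact hh'
  · exfalso
    exact hno _ hsw ⟨t, htH', rfl⟩

end Six

section Exotic

/-- `S₅` has exactly six Sylow 5-subgroups. -/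
theorem card_sylow_five :
    Nat.card (Sylow 5 (Perm (Fin 5))) = 6 := by
  classical
  have hfact : Fact (Nat.Prime 5) := ⟨by norm_num⟩
  have hcardG : Nat.card (Perm (Fin 5)) = 120 := by
    rw [Nat.card_perm, Nat.card_fin]; rfl
  obtain ⟨P⟩ : Nonempty (Sylow 5 (Perm (Fin 5))) := Sylow.nonempty
  obtain ⟨n, hn⟩ := IsPGroup.iff_card.mp P.isPGroup'
  have hmul := Subgroup.card_mul_index (P : Subgroup (Perm (Fin 5)))
  have hnd := Sylow.not_dvd_index P
  rw [hcardG] at hmul
  have hcardP : Nat.card P = 5 ∧ (P : Subgroup (Perm (Fin 5))).index = 24 := by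
    have hn1 : n = 1 := by
      rcases Nat.lt_or_ge n 2 with h | h
      · rcases Nat.eq_zero_or_pos n with h0 | h0
        · exfalso
          rw [h0, pow_zero] at hn
          apply hnd
          have h1 : Nat.card (P : Subgroup (Perm (Fin 5))) = 1 := hn
          rw [h1, one_mul] at hmul
          rw [hmul]; norm_num
        · omega
      · exfalso
        have h1 : 5 ^ 2 ∣ 5 ^ n := Nat.pow_dvd_pow 5 h
        have h2 : 5 ^ n ∣ 120 := by
          have h3 : Nat.card (P : Subgroup (Perm (Fin 5))) = 5 ^ n := hn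
          rw [← h3]
          exact Dvd.intro _ hmul
        have h3 : (25 : ℕ) ∣ 120 := by
          have : (5 : ℕ) ^ 2 = 25 := by norm_num
          rw [← this]; exact h1.trans h2
        omega
    rw [hn1, pow_one] at hn
    refine ⟨hn, ?_⟩
    have h3 : Nat.card (P : Subgroup (Perm (Fin 5))) = 5 := hn
    rw [h3] at hmul
    omega
  have hmod := card_sylow_modEq_one 5 (Perm (Fin 5))
  have hdvd := Sylow.card_dvd_index P
  rw [hcardP.2] at hdvd
  have hle := Nat.le_of_dvd (by norm_num) hdvd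
  have hne1 : Nat.card (Sylow 5 (Perm (Fin 5))) ≠ 1 := by
    intro h1
    have hsub : Subsingleton (Sylow 5 (Perm (Fin 5))) :=
      (Nat.card_eq_one_iff_unique.mp h1).1
    have hPn : (P : Subgroup (Perm (Fin 5))).Normal := Sylow.normal_of_subsingleton P
    have hbot := normal_eq_bot_of_not_alternating_le (Ω := Fin 5) (by simp) _ hPn (by
      intro hle'
      have h2 := Subgroup.card_le_of_le hle'
      have h3 := two_mul_nat_card_alternatingGroup (α := Fin 5)
      have h4 : Nat.card (P : Subgroup (Perm (Fin 5))) = 5 := hcardP.1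
      rw [hcardG] at h3
      omega)
    have h4 : Nat.card (P : Subgroup (Perm (Fin 5))) = 5 := hcardP.1
    rw [hbot] at h4
    simp at h4
  unfold Nat.ModEq at hmod
  generalize Nat.card (Sylow 5 (Perm (Fin 5))) = m at *
  interval_cases m <;> simp_all

/-- An index-6 subgroup of `S₆` without fixed points, isomorphic to `S₅`. -/
theorem exists_index_six_no_fixed {Ω : Type*} [Fintype Ω] [DecidableEq Ω]
    (hΩ : Fintype.card Ω = 6) :
    ∃ H : Subgroup (Perm Ω), H.index = 6 ∧ (∀ x : Ω, ∃ h ∈ H, h x ≠ x) ∧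
      Nonempty (H ≃* Perm (Fin 5)) := by
  classical
  have hfact : Fact (Nat.Prime 5) := ⟨by norm_num⟩
  have h6 := card_sylow_five
  have hcardG : Nat.card (Perm (Fin 5)) = 120 := by
    rw [Nat.card_perm, Nat.card_fin]; rfl
  have hinj : Function.Injective
      (MulAction.toPermHom (Perm (Fin 5)) (Sylow 5 (Perm (Fin 5)))) := by
    rw [← MonoidHom.ker_eq_bot_iff]
    apply normal_eq_bot_of_not_alternating_le (Ω := Fin 5) (by simp) _ (MonoidHom.normal_ker _)
    intro hle
    obtain ⟨P⟩ : Nonempty (Sylow 5 (Perm (Fin 5))) := Sylow.nonempty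
    have h1 : (MulAction.toPermHom (Perm (Fin 5)) (Sylow 5 (Perm (Fin 5)))).ker ≤
        MulAction.stabilizer (Perm (Fin 5)) P := by
      intro g hg
      rw [MulAction.mem_stabilizer_iff]
      have h2 := congrArg (fun σ : Perm (Sylow 5 (Perm (Fin 5))) => σ P) (MonoidHom.mem_ker.mp hg)
      simpa using h2
    have h2 := Subgroup.index_dvd_of_le (hle.trans h1)
    rw [alternatingGroup.index_eq_two, MulAction.index_stabilizer_of_transitive, h6] at h2
    omega
  let ε : Sylow 5 (Perm (Fin 5)) ≃ Ω :=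
    (Finite.equivFinOfCardEq h6).trans (Fintype.equivFinOfCardEq hΩ).symm
  let ψ : Perm (Fin 5) →* Perm Ω :=
    (Equiv.permCongrHom ε).toMonoidHom.comp
      (MulAction.toPermHom (Perm (Fin 5)) (Sylow 5 (Perm (Fin 5))))
  have hψ : Function.Injective ψ := (Equiv.permCongrHom ε).injective.comp hinj
  have hψapply : ∀ (g : Perm (Fin 5)) (x : Ω), ψ g x = ε (g • ε.symm x) := fun g x => rfl
  refine ⟨ψ.range, ?_, ?_, ⟨(MonoidHom.ofInjective hψ).symm⟩⟩
  · have h1 : Nat.card ψ.range = 120 := by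
      rw [← hcardG]
      exact (Nat.card_congr (MonoidHom.ofInjective hψ).toEquiv).symm
    have h2 := Subgroup.card_mul_index ψ.range
    rw [h1, Nat.card_perm, Nat.card_eq_fintype_card, hΩ] at h2
    have h3 : (6 : ℕ).factorial = 720 := by decide
    omega
  · intro x
    have hnt : Nontrivial (Sylow 5 (Perm (Fin 5))) := by
      rw [← Finite.one_lt_card_iff_nontrivial, h6]; norm_num
    obtain ⟨P₂, hP₂⟩ := exists_ne (ε.symm x)
    obtain ⟨g, hg⟩ := MulAction.exists_smul_eq (Perm (Fin 5)) (ε.symm x) P₂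
    refine ⟨ψ g, ⟨g, rfl⟩, ?_⟩
    rw [hψapply, hg]
    intro h
    apply hP₂
    rw [← h, Equiv.symm_apply_apply]

end Exotic

section Count

variable {Ω : Type*} [Fintype Ω] [DecidableEq Ω]

theorem stabilizer_injective (h3 : 3 ≤ Fintype.card Ω) {x y : Ω}
    (h : MulAction.stabilizer (Perm Ω) x = MulAction.stabilizer (Perm Ω) y) : x = y := by
  by_contra hxy
  obtain ⟨z, hz⟩ := exists_notMem_of_card_lt ({x, y} : Finset Ω)
    (lt_of_le_of_lt Finset.card_le_two (by omega))
  simp only [Finset.mem_insert, Finset.mem_singleton, not_or] at hz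
  have h1 : swap y z ∈ MulAction.stabilizer (Perm Ω) x := by
    rw [MulAction.mem_stabilizer_iff, Perm.smul_def]
    exact swap_apply_of_ne_of_ne hxy (Ne.symm hz.1)
  rw [h, MulAction.mem_stabilizer_iff, Perm.smul_def, swap_apply_left] at h1
  exact hz.2 h1

/-- The stabilizer of a point is the symmetric group on the other points. -/
noncomputable def stabilizerMulEquiv (x : Ω) :
    Perm {y : Ω // y ≠ x} ≃* MulAction.stabilizer (Perm Ω) x :=
  (MonoidHom.ofInjective (ofSubtype_injective (p := fun y : Ω => y ≠ x))).trans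
    (MulEquiv.subgroupCongr (by
      ext g
      rw [MulAction.mem_stabilizer_iff, Perm.smul_def]
      constructor
      · rintro ⟨f, rfl⟩
        exact ofSubtype_apply_of_not_mem f (by simp)
      · intro hg
        have h₁ : ∀ y, (g y ≠ x) ↔ (y ≠ x) := by
          intro y
          constructor
          · intro h hy; exact h (hy ▸ hg)
          · intro h hy; apply h; exact g.injective (hy.trans hg.symm)
        have h₂ : ∀ y, g y ≠ y → y ≠ x := by
          intro y hy hyx; exact hy (hyx ▸ hg)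
        exact ⟨subtypePerm (p := fun y => y ≠ x) g h₁, ofSubtype_subtypePerm h₁ h₂⟩))

theorem stabilizer_iso_five (hΩ : Fintype.card Ω = 6) (x : Ω) :
    Nonempty (MulAction.stabilizer (Perm Ω) x ≃* Perm (Fin 5)) := by
  have hc : Fintype.card {y : Ω // y ≠ x} = 5 := by
    rw [Fintype.card_subtype_compl, hΩ]; simp
  exact ⟨(stabilizerMulEquiv x).symm.trans (Equiv.permCongrHom (Fintype.equivFinOfCardEq hc))⟩

/-- Every index-6 subgroup of `S₆` is isomorphic to `S₅`. -/
theorem index_six_iso (hΩ : Fintype.card Ω = 6) (H : Subgroup (Perm Ω)) (hH : H.index = 6) :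
    Nonempty (H ≃* Perm (Fin 5)) := by
  obtain ⟨H₂, hH₂, hmove, ⟨e₂⟩⟩ := exists_index_six_no_fixed hΩ
  have hH₂E : ∀ σ : Perm Ω, σ.IsSwap → σ ∉ H₂ := by
    rcases index_six_dichotomy hΩ H₂ hH₂ with ⟨x, hx⟩ | h
    · exfalso
      obtain ⟨h, hh, hhx⟩ := hmove x
      rw [hx] at hh
      exact hhx (MulAction.mem_stabilizer_iff.mp hh)
    · exact h
  rcases index_six_dichotomy hΩ H hH with ⟨x, hx⟩ | h
  · obtain ⟨e⟩ := stabilizer_iso_five hΩ x
    exact ⟨(MulEquiv.subgroupCongr hx).trans e⟩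
  · obtain ⟨a, ha⟩ := conj_of_no_swaps hΩ H₂ H hH₂ hH hH₂E h
    exact ⟨(MulEquiv.subgroupCongr ha).trans (((MulAut.conj a).subgroupMap H₂).symm.trans e₂)⟩

/-- `S₆` has exactly twelve subgroups of index 6. -/
theorem card_index_six (hΩ : Fintype.card Ω = 6) :
    Nat.card {H : Subgroup (Perm Ω) // H.index = 6} = 12 := by
  classical
  obtain ⟨H₂, hH₂, hmove, -⟩ := exists_index_six_no_fixed hΩ
  have hH₂E : ∀ σ : Perm Ω, σ.IsSwap → σ ∉ H₂ := by
    rcases index_six_dichotomy hΩ H₂ hH₂ with ⟨x, hx⟩ | h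
    · exfalso
      obtain ⟨h, hh, hhx⟩ := hmove x
      rw [hx] at hh
      exact hhx (MulAction.mem_stabilizer_iff.mp hh)
    · exact h
  let _ : Fintype (Perm Ω ⧸ H₂) := Fintype.ofFinite _
  have hΔ : Fintype.card (Perm Ω ⧸ H₂) = 6 := by rw [← Nat.card_eq_fintype_card]; exact hH₂
  have hbij := cosetHom_bijective (by omega) H₂ (hH₂.trans hΩ.symm)
  have hstab : ∀ x : Ω, (MulAction.stabilizer (Perm Ω) x).index = 6 := by
    intro x; rw [MulAction.index_stabilizer_of_transitive, Nat.card_eq_fintype_card, hΩ]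
  have hstab' : ∀ δ : Perm Ω ⧸ H₂,
      ((MulAction.stabilizer (Perm (Perm Ω ⧸ H₂)) δ).comap (cosetHom H₂)).index = 6 := by
    intro δ
    rw [Subgroup.index_comap_of_surjective _ hbij.2, MulAction.index_stabilizer_of_transitive,
      Nat.card_eq_fintype_card, hΔ]
  let F : Ω ⊕ (Perm Ω ⧸ H₂) → {H : Subgroup (Perm Ω) // H.index = 6} := fun s =>
    match s with
    | Sum.inl x => ⟨MulAction.stabilizer (Perm Ω) x, hstab x⟩
    | Sum.inr δ => ⟨(MulAction.stabilizer (Perm (Perm Ω ⧸ H₂)) δ).comap (cosetHom H₂), hstab' δ⟩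
  have hmix : ∀ (x : Ω) (δ : Perm Ω ⧸ H₂), MulAction.stabilizer (Perm Ω) x ≠
      (MulAction.stabilizer (Perm (Perm Ω ⧸ H₂)) δ).comap (cosetHom H₂) := by
    intro x δ h
    obtain ⟨τ, hτ, hτx⟩ := exists_isSwap_mem_stabilizer (by omega) x
    rw [h] at hτx
    have h1 : cosetHom H₂ τ δ = δ := hτx
    exact fixedPointFree_of_cycleType hΔ _
      (cycleType_cosetHom_of_isSwap hΩ H₂ hH₂ hH₂E τ hτ) δ h1
  have hF : Function.Bijective F := by
    constructor
    · rintro (x | δ) (y | δ') h
      · have h1 : MulAction.stabilizer (Perm Ω) x = MulAction.stabilizer (Perm Ω) y :=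
          congrArg Subtype.val h
        rw [stabilizer_injective (by omega) h1]
      · exact absurd (congrArg Subtype.val h) (hmix x δ')
      · exact absurd (congrArg Subtype.val h).symm (hmix y δ)
      · have h1 : (MulAction.stabilizer (Perm (Perm Ω ⧸ H₂)) δ).comap (cosetHom H₂) =
            (MulAction.stabilizer (Perm (Perm Ω ⧸ H₂)) δ').comap (cosetHom H₂) :=
          congrArg Subtype.val h
        have h2 := Subgroup.comap_injective hbij.2 h1
        rw [stabilizer_injective (by omega) h2]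
    · rintro ⟨H, hH⟩
      rcases index_six_dichotomy hΩ H hH with ⟨x, hx⟩ | h
      · exact ⟨Sum.inl x, Subtype.ext hx.symm⟩
      · obtain ⟨a, ha⟩ := conj_of_no_swaps hΩ H₂ H hH₂ hH hH₂E h
        refine ⟨Sum.inr (a : Perm Ω ⧸ H₂), Subtype.ext ?_⟩
        show (MulAction.stabilizer (Perm (Perm Ω ⧸ H₂)) (a : Perm Ω ⧸ H₂)).comap (cosetHom H₂) = H
        rw [ha]
        ext h
        rw [Subgroup.mem_map_equiv, MulAut.conj_symm_apply, ← cosetHom_apply_mk_eq_iff]
        rfl
  rw [← Nat.card_congr (Equiv.ofBijective F hF), Nat.card_sum, Nat.card_eq_fintype_card,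
    Nat.card_eq_fintype_card, hΩ, hΔ]

end Count

end Cfsg.Agent.Lib.helper98
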