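import Mathlib

set_option autoImplicit false

namespace Cfsg.Agent.Lib.helper98

open Equiv Equiv.Perm

theorem two_pow_mul_factorial_lt (k : ℕ) (hk : 3 ≤ k) :
    2 ^ k * (k + 1).factorial < (2 * k).factorial := by
  induction k, hk using Nat.le_induction with
  | base => decide
  | succ k hk ih =>
    have e1 : 2 * (k + 1) = 2 * k + 1 + 1 := by ring
    rw [e1, Nat.factorial_succ (2 * k + 1), Nat.factorial_succ (2 * k), pow_succ,
      Nat.factorial_succ (k + 1)]
    have h1 : 2 ^ k * 2 * ((k + 1 + 1) * (k + 1).factorial) =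
        (2 * (k + 2)) * (2 ^ k * (k + 1).factorial) := by ring
    rw [h1]
    have h2 : (2 * k + 1 + 1) * ((2 * k + 1) * (2 * k).factorial) =
        ((2 * k + 2) * (2 * k + 1)) * (2 * k).factorial := by ring
    rw [h2]
    have h3 : 2 * (k + 2) ≤ (2 * k + 2) * (2 * k + 1) := by nlinarith
    calc 2 * (k + 2) * (2 ^ k * (k + 1).factorial)
        ≤ (2 * k + 2) * (2 * k + 1) * (2 ^ k * (k + 1).factorial) :=
          Nat.mul_le_mul_right _ h3
      _ < (2 * k + 2) * (2 * k + 1) * (2 * k).factorial :=
          Nat.mul_lt_mul_of_pos_left ih (by positivity)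

theorem centralizer_arith (n k : ℕ) (h1 : 2 * (k + 1) ≤ n) (hn : n ≠ 6)
    (h : (n - 2 * (k + 1)).factorial * 2 ^ (k + 1) * (k + 1).factorial =
      2 * (n - 2).factorial) : k = 0 := by
  obtain ⟨m, rfl⟩ : ∃ m, n = m + 2 * (k + 1) := ⟨n - 2 * (k + 1), by omega⟩
  have e1 : m + 2 * (k + 1) - 2 * (k + 1) = m := by omega
  have e2 : m + 2 * (k + 1) - 2 = m + 2 * k := by omega
  rw [e1, e2] at h
  have h3 := Nat.add_choose_mul_factorial_mul_factorial m (2 * k)
  have hm : 0 < 2 * m.factorial := by positivity
  have h4 : 2 ^ k * (k + 1).factorial = (m + 2 * k).choose (2 * k) * (2 * k).factorial := by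
    apply Nat.eq_of_mul_eq_mul_left hm
    calc 2 * m.factorial * (2 ^ k * (k + 1).factorial)
        = m.factorial * 2 ^ (k + 1) * (k + 1).factorial := by rw [pow_succ]; ring
      _ = 2 * (m + 2 * k).factorial := h
      _ = 2 * ((m + 2 * k).choose (2 * k) * m.factorial * (2 * k).factorial) := by rw [h3]
      _ = 2 * m.factorial * ((m + 2 * k).choose (2 * k) * (2 * k).factorial) := by ring
  have hpos : 0 < (m + 2 * k).choose (2 * k) := Nat.choose_pos (by omega)
  by_contra hk0
  rcases Nat.lt_or_ge k 3 with hk3 | hk3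
  · have hk12 : k = 1 ∨ k = 2 := by omega
    rcases hk12 with rfl | rfl
    · -- 4 = C(m+2,2) * 2
      have h4' : 2 ^ 1 * (1 + 1).factorial = (m + 2).choose 2 * (2).factorial := h4
      have e3 : 2 ^ 1 * (1 + 1).factorial = 4 := by decide
      have e4 : (2 : ℕ).factorial = 2 := by decide
      rw [e3, e4] at h4'
      rcases Nat.eq_zero_or_pos m with rfl | hmpos
      · have e5 : (0 + 2).choose 2 = 1 := by decide
        rw [e5] at h4'
        omega
      · have h5 : (3 : ℕ).choose 2 ≤ (m + 2).choose 2 := Nat.choose_le_choose 2 (by omega)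
        have e5 : (3 : ℕ).choose 2 = 3 := by decide
        rw [e5] at h5
        omega
    · -- 24 = C(m+4,4) * 24
      have h4' : 2 ^ 2 * (2 + 1).factorial = (m + 4).choose 4 * (4).factorial := h4
      have e3 : 2 ^ 2 * (2 + 1).factorial = 24 := by decide
      have e4 : (4 : ℕ).factorial = 24 := by decide
      rw [e3, e4] at h4'
      rcases Nat.eq_zero_or_pos m with rfl | hmpos
      · exact hn rfl
      · have h5 : (5 : ℕ).choose 4 ≤ (m + 4).choose 4 := Nat.choose_le_choose 4 (by omega)
        have e5 : (5 : ℕ).choose 4 = 5 := by decide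
        rw [e5] at h5
        omega
  · have h5 := two_pow_mul_factorial_lt k hk3
    have h6 : (2 * k).factorial ≤ (m + 2 * k).choose (2 * k) * (2 * k).factorial :=
      Nat.le_mul_of_pos_left _ hpos
    omega

theorem isSwap_map_of_mulEquiv {α β : Type*} [Fintype α] [DecidableEq α] [Fintype β]
    [DecidableEq β] (hcard : Fintype.card α = Fintype.card β) (h6 : Fintype.card α ≠ 6)
    (e : Perm α ≃* Perm β) {σ : Perm α} (hσ : σ.IsSwap) : (e σ).IsSwap := by
  have ho : orderOf (e σ) = 2 := by rw [MulEquiv.orderOf_eq]; exact hσ.orderOf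
  have hp : (orderOf (e σ)).Prime := by rw [ho]; exact Nat.prime_two
  obtain ⟨k, hk⟩ := cycleType_prime_order hp
  rw [ho] at hk
  have hc : Nat.card (Subgroup.centralizer {e σ}) = Nat.card (Subgroup.centralizer {σ}) := by
    refine (Nat.card_congr ?_).symm
    refine e.toEquiv.subtypeEquiv (fun g => ?_)
    simp only [Subgroup.mem_centralizer_iff, Set.mem_singleton_iff, forall_eq]
    constructor
    · intro h
      show e σ * e g = e g * e σ
      rw [← map_mul, ← map_mul, h]
    · intro h
      have h' : e σ * e g = e g * e σ := h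
      rw [← map_mul, ← map_mul] at h'
      exact e.injective h'
  have hle : (e σ).cycleType.sum ≤ Fintype.card β := sum_cycleType_le _
  rw [nat_card_centralizer, nat_card_centralizer, hk, isSwap_iff_cycleType.mp hσ] at hc
  rw [hk] at hle
  have hsum : (Multiset.replicate (k + 1) 2).sum = 2 * (k + 1) := by
    rw [Multiset.sum_replicate, smul_eq_mul, mul_comm]
  have hprod : (Multiset.replicate (k + 1) 2).prod = 2 ^ (k + 1) := by
    rw [Multiset.prod_replicate]
  have htf : (Multiset.replicate (k + 1) 2).toFinset = {2} := by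
    rw [Multiset.toFinset_replicate, if_neg (Nat.succ_ne_zero k)]
  have hcount : (Multiset.replicate (k + 1) 2).count 2 = k + 1 := by simp
  rw [hsum] at hle
  rw [hsum, hprod, htf, Finset.prod_singleton, hcount] at hc
  have hc2 : (Fintype.card α - ({2} : Multiset ℕ).sum).factorial * ({2} : Multiset ℕ).prod *
      ∏ n ∈ ({2} : Multiset ℕ).toFinset, (Multiset.count n ({2} : Multiset ℕ)).factorial =
      2 * (Fintype.card α - 2).factorial := by
    simp [mul_comm]
  rw [hc2, ← hcard] at hc
  have hk0 : k = 0 := centralizer_arith (Fintype.card α) k (hcard ▸ hle) h6 hc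
  rw [isSwap_iff_cycleType, hk, hk0]
  rfl

theorem exists_notMem_of_card_lt {α : Type*} [Fintype α] [DecidableEq α] (s : Finset α)
    (h : s.card < Fintype.card α) : ∃ c, c ∉ s := by
  by_contra hcon
  push Not at hcon
  have h1 : (Finset.univ : Finset α) ⊆ s := fun x _ => hcon x
  have h2 := Finset.card_le_card h1
  rw [Finset.card_univ] at h2
  omega

/-- If a subgroup `H` of `Perm α` (with at least four points) has the property that two disjoint
swaps cannot both lie outside `H`, then `H` contains a point stabilizer. -/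
theorem exists_stabilizer_le_of_swaps {α : Type*} [Fintype α] [DecidableEq α]
    (h4 : 4 ≤ Fintype.card α) (H : Subgroup (Perm α))
    (hstar : ∀ a b c d : α, a ≠ b → c ≠ d → a ≠ c → a ≠ d → b ≠ c → b ≠ d →
      swap a b ∈ H ∨ swap c d ∈ H) :
    ∃ x : α, ∀ g : Perm α, g x = x → g ∈ H := by
  have key : ∃ x : α, ∀ y z : α, y ≠ x → z ≠ x → y ≠ z → swap y z ∈ H := by
    by_cases hall : ∀ a b : α, a ≠ b → swap a b ∈ H
    · have hne : Nonempty α := Fintype.card_pos_iff.mp (by omega)
      obtain ⟨x⟩ := hne
      exact ⟨x, fun y z _ _ hyz => hall y z hyz⟩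
    · push Not at hall
      obtain ⟨a, b, hab, habH⟩ := hall
      have hi : ∀ c d : α, c ≠ a → c ≠ b → d ≠ a → d ≠ b → c ≠ d → swap c d ∈ H := by
        intro c d hca hcb hda hdb hcd
        rcases hstar a b c d hab hcd hca.symm hda.symm hcb.symm hdb.symm with h | h
        · exact absurd h habH
        · exact h
      have hext : ∀ p c : α, p ≠ c → swap p c ∈ H → c ≠ a → c ≠ b →
          ∀ z, z ≠ p → z ≠ a → z ≠ b → swap p z ∈ H := by
        intro p c hpc hpcH hca hcb z hzp hza hzb
        by_cases hzc : z = c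
        · rw [hzc]; exact hpcH
        · have h1 := swap_mul_swap_mul_swap (x := p) (y := c) (z := z) hpc (Ne.symm hzp)
          have h2 : swap c z ∈ H := hi c z hca hcb hza hzb (Ne.symm hzc)
          rw [swap_comm p z, ← h1]
          exact H.mul_mem (H.mul_mem h2 hpcH) h2
      by_cases h1 : ∃ c, c ≠ a ∧ c ≠ b ∧ swap a c ∈ H
      · obtain ⟨c, hca, hcb, hac⟩ := h1
        refine ⟨b, fun y z hy hz hyz => ?_⟩
        by_cases hya : y = a
        · rw [hya]
          exact hext a c hca.symm hac hca hcb z (fun h => hyz (hya.trans h.symm)) 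
            (fun h => hyz (hya.trans h.symm)) hz
        · by_cases hza : z = a
          · rw [hza, swap_comm]
            exact hext a c hca.symm hac hca hcb y hya hya hy
          · exact hi y z hya hy hza hz hyz
      · by_cases h2 : ∃ c, c ≠ a ∧ c ≠ b ∧ swap b c ∈ H
        · obtain ⟨c, hca, hcb, hbc⟩ := h2
          refine ⟨a, fun y z hy hz hyz => ?_⟩
          by_cases hyb : y = b
          · rw [hyb]
            exact hext b c hcb.symm hbc hca hcb z (fun h => hyz (hyb.trans h.symm)) hz
              (fun h => hyz (hyb.trans h.symm))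
          · by_cases hzb : z = b
            · rw [hzb, swap_comm]
              exact hext b c hcb.symm hbc hca hcb y hyb hy hyb
            · exact hi y z hy hyb hz hzb hyz
        · exfalso
          push Not at h1 h2
          obtain ⟨c, hc⟩ := exists_notMem_of_card_lt ({a, b} : Finset α)
            (lt_of_le_of_lt Finset.card_le_two (by omega))
          obtain ⟨c', hc'⟩ := exists_notMem_of_card_lt ({a, b, c} : Finset α)
            (lt_of_le_of_lt Finset.card_le_three (by omega))
          simp only [Finset.mem_insert, Finset.mem_singleton, not_or] at hc hc'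
          rcases hstar a c b c' (Ne.symm hc.1) (Ne.symm hc'.2.1) hab (Ne.symm hc'.1) hc.2
            (Ne.symm hc'.2.2) with h | h
          · exact h1 c hc.1 hc.2 h
          · exact h2 c' hc'.1 hc'.2.1 h
  obtain ⟨x, hx⟩ := key
  refine ⟨x, fun g hg => ?_⟩
  have h₁ : ∀ y, (g y ≠ x) ↔ (y ≠ x) := by
    intro y
    constructor
    · intro h hy; exact h (hy ▸ hg)
    · intro h hy; apply h; exact g.injective (hy.trans hg.symm)
  have h₂ : ∀ y, g y ≠ y → y ≠ x := by
    intro y hy hyx; exact hy (hyx ▸ hg)
  rw [← ofSubtype_subtypePerm (p := fun y => y ≠ x) h₁ h₂]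
  generalize subtypePerm (p := fun y => y ≠ x) g h₁ = f
  induction f using swap_induction_on with
  | one => rw [map_one]; exact H.one_mem
  | swap_mul f y z hyz ih =>
    rw [map_mul, ofSubtype_swap_eq]
    exact H.mul_mem (hx _ _ y.2 z.2 (fun h => hyz (Subtype.ext h))) ih

/-- An injective homomorphism `Perm α →* Perm β` mapping swaps to swaps: every point stabilizer of
`β` pulls back to a subgroup containing a point stabilizer of `α`. -/
theorem exists_stabilizer_le_of_monoidHom {α β : Type*} [Fintype α] [DecidableEq α]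
    [DecidableEq β] (h4 : 4 ≤ Fintype.card α) (e : Perm α →* Perm β)
    (hinj : Function.Injective e) (hswap : ∀ σ : Perm α, σ.IsSwap → (e σ).IsSwap) (δ : β) :
    ∃ x : α, ∀ g : Perm α, g x = x → e g δ = δ := by
  let H : Subgroup (Perm α) := (MulAction.stabilizer (Perm β) δ).comap e
  have hH : ∀ g, g ∈ H ↔ e g δ = δ := fun g => Iff.rfl
  have hstar : ∀ a b c d : α, a ≠ b → c ≠ d → a ≠ c → a ≠ d → b ≠ c → b ≠ d →
      swap a b ∈ H ∨ swap c d ∈ H := by
    intro a b c d hab hcd hac had hbc hbd
    by_contra hcon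
    push Not at hcon
    obtain ⟨h1, h2⟩ := hcon
    rw [hH] at h1 h2
    have key : ∀ σ : Perm α, σ.IsSwap → e σ δ ≠ δ → ∃ d₁, d₁ ≠ δ ∧ e σ = swap δ d₁ := by
      intro σ hσ hm
      obtain ⟨p, q, hpq, hpqe⟩ := hswap σ hσ
      rw [hpqe] at hm ⊢
      by_cases hp : δ = p
      · exact ⟨q, by rw [hp]; exact hpq.symm, by rw [hp]⟩
      · by_cases hq : δ = q
        · exact ⟨p, by rw [hq]; exact hpq, by rw [hq, swap_comm]⟩
        · exact absurd (swap_apply_of_ne_of_ne hp hq) hm
    obtain ⟨d₁, hd₁, he₁⟩ := key _ ⟨a, b, hab, rfl⟩ h1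
    obtain ⟨d₂, hd₂, he₂⟩ := key _ ⟨c, d, hcd, rfl⟩ h2
    have hne : d₁ ≠ d₂ := by
      intro h
      have h3 : e (swap a b) = e (swap c d) := by rw [he₁, he₂, h]
      have h4 := congrArg (fun σ : Perm α => σ a) (hinj h3)
      simp only [swap_apply_left] at h4
      rw [swap_apply_of_ne_of_ne hac had] at h4
      exact hab h4.symm
    have hcomm : swap a b * swap c d = swap c d * swap a b := by
      have h3 := disjoint_swap_swap (x := a) (y := b) (z := c) (t := d)
        (by simp [hab, hac, had, hbc, hbd, hcd])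
      exact h3.commute.eq
    have h5 : e (swap a b) * e (swap c d) = e (swap c d) * e (swap a b) := by
      rw [← map_mul, ← map_mul, hcomm]
    rw [he₁, he₂] at h5
    have h6 := congrArg (fun σ : Perm β => σ d₂) h5
    simp only [Perm.mul_apply, swap_apply_right] at h6
    rw [swap_apply_left, swap_apply_of_ne_of_ne hd₂ hne.symm, swap_apply_right] at h6
    exact hd₁ h6
  obtain ⟨x, hx⟩ := exists_stabilizer_le_of_swaps h4 H hstar
  exact ⟨x, fun g hg => (hH g).mp (hx g hg)⟩

end Cfsg.Agent.Lib.helper98
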