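import Cfsg.Agent.Lib.helper98.DicksonMax
import Cfsg.Agent.Lib.helper98.MaxOddA
import Cfsg.Agent.Lib.helper98.MaxOddB

/-!
# Powers of elements of `SL₂(F)`, `F` finite of characteristic `3`

Every `g ∈ SL₂(F)` satisfies `g ^ (q - 1) = 1`, `g ^ (q + 1) = 1` or `g ^ 3 = ± 1`
(`sl2_pow_cases3`), by a computation with `E = g + tr g` in the matrix ring (`E² = tr² - 1`).
-/

set_option autoImplicit false

namespace Cfsg.Agent.Lib.helper98

open Matrix

local notation "SL2" => Matrix.SpecialLinearGroup (Fin 2)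
local notation "M2" => Matrix (Fin 2) (Fin 2)

section TwA

variable {F : Type*} [Field F]

theorem m2_one_00 : (1 : M2 F) 0 0 = 1 := rfl
theorem m2_one_01 : (1 : M2 F) 0 1 = 0 := rfl
theorem m2_one_10 : (1 : M2 F) 1 0 = 0 := rfl
theorem m2_one_11 : (1 : M2 F) 1 1 = 1 := rfl

theorem cube_of_trace_neg_one (g : SL2 F) (ht : g 0 0 + g 1 1 = -1) : g * g * g = 1 := by
  obtain ⟨h00, h01, h10, h11⟩ := isLin_mul (isLin_mul (isLin_self g))
  apply sl2_ext
  · rw [h00, ht, sl2_one_00]; ring
  · rw [h01, ht, sl2_one_01]; ring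
  · rw [h10, ht, sl2_one_10]; ring
  · rw [h11, ht, sl2_one_11]; ring

theorem three_eq_zero_of_charP3 [CharP F 3] : (3 : F) = 0 := by
  exact_mod_cast CharP.cast_eq_zero F 3

theorem two_ne_zero_of_charP3 [CharP F 3] : (2 : F) ≠ 0 := by
  intro h
  have h3 : (3 : F) = 0 := three_eq_zero_of_charP3
  have : (1 : F) = 0 := by linear_combination h3 - h
  exact one_ne_zero this

variable [Fintype F] [CharP F 3]

/-- Every element of `SL₂(F)`, `|F| = q` a power of `3`, has `g^(q-1) = 1`, `g^(q+1) = 1` or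
`g³ = ±1`. -/
theorem sl2_pow_cases3 (g : SL2 F) :
    g ^ (Fintype.card F - 1) = 1 ∨ g ^ (Fintype.card F + 1) = 1 ∨ g * g * g = 1 ∨
      g * g * g = negOne := by
  classical
  by_cases h1 : g 0 0 + g 1 1 = 1
  · right; right; right; exact cube_of_trace_one g h1
  by_cases h2 : g 0 0 + g 1 1 = -1
  · right; right; left; exact cube_of_trace_neg_one g h2
  have h3 : (3 : F) = 0 := three_eq_zero_of_charP3
  obtain ⟨n, -, hn⟩ := FiniteField.card F 3
  have hchar : ringChar F ≠ 2 := by rw [ringChar.eq F 3]; norm_num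
  obtain ⟨m, hm⟩ : ∃ m, Fintype.card F = 2 * m + 1 := by
    have : Odd (Fintype.card F) := by rw [hn]; exact Odd.pow (by decide)
    obtain ⟨m, hm⟩ := this; exact ⟨m, hm⟩
  have hm2 : Fintype.card F / 2 = m := by omega
  obtain ⟨a, ha⟩ : ∃ a : F, a = g 0 0 + g 1 1 := ⟨_, rfl⟩
  have hD0 : a * a - 1 ≠ 0 := by
    intro h
    have h' : (a - 1) * (a + 1) = 0 := by linear_combination h
    rcases mul_eq_zero.mp h' with h' | h'
    · exact h1 (by rw [← ha]; exact sub_eq_zero.mp h')
    · exact h2 (by rw [← ha]; exact eq_neg_of_add_eq_zero_left h')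
  have hdet := sl2_det' g
  obtain ⟨E, hE⟩ : ∃ E : M2 F, E = (g : M2 F) + a • (1 : M2 F) := ⟨_, rfl⟩
  have hEE : E * E = (a * a - 1) • (1 : M2 F) := by
    rw [hE]
    apply mat2_ext <;> simp only [mul2_apply, Matrix.add_apply, Matrix.smul_apply, m2_one_00,
      m2_one_01, m2_one_10, m2_one_11, smul_eq_mul]
    · linear_combination (a * g 0 0) * h3 - hdet - (g 0 0) * ha
    · linear_combination (a * g 0 1) * h3 - (g 0 1) * ha
    · linear_combination (a * g 1 0) * h3 - (g 1 0) * ha
    · linear_combination (a * g 1 1) * h3 - hdet - (g 1 1) * ha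
  have hEq : E ^ (Fintype.card F) = (a * a - 1) ^ m • E := by
    rw [hm, pow_succ, pow_mul, pow_two, hEE, smul_pow, one_pow, smul_mul_assoc, one_mul]
  have hcomm : Commute E (a • (1 : M2 F)) := by
    show E * (a • (1 : M2 F)) = (a • (1 : M2 F)) * E
    rw [mul_smul_comm, smul_mul_assoc, mul_one, one_mul]
  have hGq : (g : M2 F) ^ (Fintype.card F) = (a * a - 1) ^ m • E - a • (1 : M2 F) := by
    have hG : (g : M2 F) = E - a • (1 : M2 F) := by rw [hE]; abel
    have h5 : (a • (1 : M2 F)) ^ (Fintype.card F) = a • (1 : M2 F) := by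
      rw [smul_pow, one_pow, FiniteField.pow_card]
    rw [← hEq, ← h5]
    conv_lhs => rw [hG, hn]
    rw [sub_pow_char_pow_of_commute 3 n hcomm, ← hn]
  have hdich := FiniteField.pow_dichotomy hchar hD0
  rw [hm2] at hdich
  rcases hdich with hd | hd
  · left
    have h6 : g ^ (Fintype.card F) = g := by
      apply Subtype.ext
      rw [Matrix.SpecialLinearGroup.coe_pow, hGq, hd, one_smul, hE]; abel
    have h7 : g ^ (Fintype.card F - 1) * g = g := by
      rw [← pow_succ]
      have : Fintype.card F - 1 + 1 = Fintype.card F := by omega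
      rw [this]; exact h6
    exact mul_eq_right.mp h7
  · right; left
    have h6 : g ^ (Fintype.card F) = g⁻¹ := by
      apply Subtype.ext
      rw [Matrix.SpecialLinearGroup.coe_pow, hGq, hd, hE]
      apply mat2_ext
      · rw [sl2_inv_00]
        simp only [Matrix.sub_apply, Matrix.add_apply, Matrix.smul_apply, m2_one_00, smul_eq_mul]
        linear_combination (-a) * h3 + ha
      · rw [sl2_inv_01]
        simp only [Matrix.sub_apply, Matrix.add_apply, Matrix.smul_apply, m2_one_01, smul_eq_mul]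
        ring
      · rw [sl2_inv_10]
        simp only [Matrix.sub_apply, Matrix.add_apply, Matrix.smul_apply, m2_one_10, smul_eq_mul]
        ring
      · rw [sl2_inv_11]
        simp only [Matrix.sub_apply, Matrix.add_apply, Matrix.smul_apply, m2_one_11, smul_eq_mul]
        linear_combination (-a) * h3 + ha
    rw [pow_succ, h6, inv_mul_cancel]

/-- An element of `SL₂(F)` (`char F ≠ 2`) whose `2k`-th power is `1` has `k`-th power `±1`. -/
theorem pow_half_cases {K : Type*} [Field K] (h2 : (2 : K) ≠ 0) (g : SL2 K) (k : ℕ)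
    (hg : g ^ (2 * k) = 1) : g ^ k = 1 ∨ g ^ k = negOne := by
  apply center_sl2_eq
  apply mem_center_of_sq_eq_one h2
  rw [← pow_add, ← two_mul]; exact hg

end TwA

end Cfsg.Agent.Lib.helper98
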