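import Cfsg.Agent.Lib.helper98.TwA

/-!
# The affine group `M₂(F) : (2 × L₂(q))` on the twisted tensor module, `char F = 3`

`SL₂(F)` acts on `M₂(F)` by `X ↦ g X (g^φ)ᵀ` (`φ` the Frobenius `x ↦ x³`); together with `± 1` and
the translations this gives the group `twGroup F` of permutations of `M₂(F)`.  We bound the
element orders: each divides `6`, `9`, `q - 1` or `(q + 1) / 2` when `q ≡ 3 mod 4`.
-/

set_option autoImplicit false

namespace Cfsg.Agent.Lib.helper98

open Matrix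

local notation "SL2" => Matrix.SpecialLinearGroup (Fin 2)
local notation "M2" => Matrix (Fin 2) (Fin 2)

section TwB

variable {F : Type*} [Field F] [CharP F 3]

/-- The transpose of the Frobenius twist of `g`. -/
noncomputable def twM (g : SL2 F) : M2 F := ((g : M2 F).map (frobenius F 3))ᵀ

theorem twM_apply (g : SL2 F) (i j : Fin 2) : twM g i j = (g j i) ^ 3 := rfl

theorem twM_mul (g h : SL2 F) : twM (g * h) = twM h * twM g := by
  unfold twM
  rw [Matrix.SpecialLinearGroup.coe_mul, Matrix.map_mul, Matrix.transpose_mul]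

theorem twM_one : twM (1 : SL2 F) = 1 := by
  unfold twM
  rw [Matrix.SpecialLinearGroup.coe_one, Matrix.map_one _ (map_zero _) (map_one _),
    Matrix.transpose_one]

theorem twM_negOne : twM (negOne : SL2 F) = -1 := by
  apply mat2_ext <;> simp only [twM_apply, negOne_00, negOne_01, negOne_10, negOne_11,
    Matrix.neg_apply, m2_one_00, m2_one_01, m2_one_10, m2_one_11] <;> ring

/-- The linear action `X ↦ ε g X (g^φ)ᵀ`. -/
noncomputable def actM (ε : F) (g : SL2 F) (X : M2 F) : M2 F := ε • ((g : M2 F) * X * twM g)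

theorem actM_apply (ε : F) (g : SL2 F) (X : M2 F) (i j : Fin 2) :
    actM ε g X i j = ε * ((g i 0 * X 0 0 + g i 1 * X 1 0) * (g j 0) ^ 3 +
      (g i 0 * X 0 1 + g i 1 * X 1 1) * (g j 1) ^ 3) := by
  unfold actM
  rw [Matrix.smul_apply, smul_eq_mul, mul2_apply, mul2_apply, mul2_apply, twM_apply, twM_apply]

theorem actM_add (ε : F) (g : SL2 F) (X Y : M2 F) :
    actM ε g (X + Y) = actM ε g X + actM ε g Y := by
  unfold actM
  rw [Matrix.mul_add, Matrix.add_mul, smul_add]

theorem actM_zero (ε : F) (g : SL2 F) : actM ε g 0 = 0 := by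
  unfold actM
  rw [Matrix.mul_zero, Matrix.zero_mul, smul_zero]

theorem actM_sub (ε : F) (g : SL2 F) (X Y : M2 F) :
    actM ε g (X - Y) = actM ε g X - actM ε g Y := by
  unfold actM
  rw [Matrix.mul_sub, Matrix.sub_mul, smul_sub]

theorem actM_comp (ε ε' : F) (g g' : SL2 F) (X : M2 F) :
    actM ε g (actM ε' g' X) = actM (ε * ε') (g * g') X := by
  unfold actM
  rw [Matrix.mul_smul, Matrix.smul_mul, smul_smul, Matrix.SpecialLinearGroup.coe_mul, twM_mul]
  congr 1
  simp only [Matrix.mul_assoc]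

theorem actM_one (X : M2 F) : actM 1 1 X = X := by
  unfold actM
  rw [twM_one, Matrix.SpecialLinearGroup.coe_one, Matrix.one_mul, Matrix.mul_one, one_smul]

theorem actM_negOne (X : M2 F) : actM 1 negOne X = X := by
  unfold actM
  rw [twM_negOne, coe_negOne, one_smul, Matrix.neg_mul, Matrix.mul_neg, Matrix.one_mul,
    Matrix.mul_one, neg_neg]

/-- The permutation `X ↦ ε g X (g^φ)ᵀ + X₀`. -/
noncomputable def twPerm (ε : F) (hε : ε * ε = 1) (g : SL2 F) (X₀ : M2 F) :
    Equiv.Perm (M2 F) where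
  toFun X := actM ε g X + X₀
  invFun X := actM ε g⁻¹ (X - X₀)
  left_inv X := by
    show actM ε g⁻¹ (actM ε g X + X₀ - X₀) = X
    rw [add_sub_cancel_right, actM_comp, hε, inv_mul_cancel, actM_one]
  right_inv X := by
    show actM ε g (actM ε g⁻¹ (X - X₀)) + X₀ = X
    rw [actM_comp, hε, mul_inv_cancel, actM_one, sub_add_cancel]

theorem twPerm_apply (ε : F) (hε : ε * ε = 1) (g : SL2 F) (X₀ X : M2 F) :
    twPerm ε hε g X₀ X = actM ε g X + X₀ := rfl

/-- Powers of an affine map. -/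
theorem tw_pow {f : Equiv.Perm (M2 F)} {ε : F} {g : SL2 F} {X₀ : M2 F}
    (h : ∀ X, f X = actM ε g X + X₀) (k : ℕ) :
    ∃ Y, ∀ X, (f ^ k) X = actM (ε ^ k) (g ^ k) X + Y := by
  induction k with
  | zero =>
    refine ⟨0, fun X => ?_⟩
    rw [pow_zero, pow_zero, pow_zero, actM_one, add_zero]; rfl
  | succ k ih =>
    obtain ⟨Y, hY⟩ := ih
    refine ⟨actM (ε ^ k) (g ^ k) X₀ + Y, fun X => ?_⟩
    rw [pow_succ, Equiv.Perm.mul_apply, hY, h, actM_add, actM_comp, pow_succ, pow_succ, add_assoc]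

theorem pm_one_pow {ε : F} (hε : ε = 1 ∨ ε = -1) (k : ℕ) : ε ^ k = 1 ∨ ε ^ k = -1 := by
  rcases hε with rfl | rfl
  · left; exact one_pow k
  · exact neg_one_pow_eq_or F k

theorem pm_one_pow_even {ε : F} (hε : ε = 1 ∨ ε = -1) {k : ℕ} (hk : Even k) : ε ^ k = 1 := by
  rcases hε with rfl | rfl
  · exact one_pow k
  · exact hk.neg_one_pow

theorem pm_one_sq {ε : F} (hε : ε = 1 ∨ ε = -1) : ε * ε = 1 := by
  rcases hε with rfl | rfl <;> ring

variable [Fintype F]

/-- The affine group on the twisted tensor module, as a group of permutations. -/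
noncomputable def twGroup (F : Type*) [Field F] [CharP F 3] [Fintype F] :
    Subgroup (Equiv.Perm (M2 F)) where
  carrier := {f | ∃ (ε : F) (g : SL2 F) (X₀ : M2 F), (ε = 1 ∨ ε = -1) ∧
    ∀ X, f X = actM ε g X + X₀}
  mul_mem' := by
    rintro f f' ⟨ε, g, X₀, hε, h⟩ ⟨ε', g', X₀', hε', h'⟩
    refine ⟨ε * ε', g * g', actM ε g X₀' + X₀, ?_, fun X => ?_⟩
    · rcases hε with rfl | rfl <;> rcases hε' with rfl | rfl <;> simp
    · rw [Equiv.Perm.mul_apply, h, h', actM_add, actM_comp, add_assoc]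
  one_mem' := ⟨1, 1, 0, Or.inl rfl, fun X => by rw [actM_one, add_zero]; rfl⟩
  inv_mem' := by
    rintro f ⟨ε, g, X₀, hε, h⟩
    have hfin : IsOfFinOrder f := isOfFinOrder_of_finite f
    have hinv : f⁻¹ = f ^ (orderOf f - 1) := by
      apply inv_eq_of_mul_eq_one_right
      rw [← pow_succ', Nat.sub_add_cancel hfin.orderOf_pos]
      exact pow_orderOf_eq_one f
    obtain ⟨Y, hY⟩ := tw_pow h (orderOf f - 1)
    exact ⟨ε ^ (orderOf f - 1), g ^ (orderOf f - 1), Y, pm_one_pow hε _, fun X => by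
      rw [hinv]; exact hY X⟩

theorem mem_twGroup_iff (f : Equiv.Perm (M2 F)) :
    f ∈ twGroup F ↔ ∃ (ε : F) (g : SL2 F) (X₀ : M2 F), (ε = 1 ∨ ε = -1) ∧
      ∀ X, f X = actM ε g X + X₀ := Iff.rfl

theorem twPerm_mem (ε : F) (hε : ε = 1 ∨ ε = -1) (g : SL2 F) (X₀ : M2 F) :
    twPerm ε (pm_one_sq hε) g X₀ ∈ twGroup F :=
  ⟨ε, g, X₀, hε, fun _ => rfl⟩

end TwB

end Cfsg.Agent.Lib.helper98
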