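import Cfsg.Agent.Lib.helper98.TwB

/-!
# Element orders of the affine group `twGroup F`

The translation subgroup `twTrans F` (normal, nontrivial, exponent `3`), and the bound: every
element order of `twGroup F` divides `6`, `9`, `q - 1` or `(q + 1) / 2` when `q ≡ 3 mod 4`.
-/

set_option autoImplicit false

namespace Cfsg.Agent.Lib.helper98

open Matrix

local notation "SL2" => Matrix.SpecialLinearGroup (Fin 2)
local notation "M2" => Matrix (Fin 2) (Fin 2)

section TwC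

variable {F : Type*} [Field F] [CharP F 3]

theorem add3_eq_zero (Y : M2 F) : Y + Y + Y = 0 := by
  have h3 : (3 : F) = 0 := three_eq_zero_of_charP3
  apply mat2_ext <;> simp only [Matrix.add_apply, Matrix.zero_apply]
  · linear_combination (Y 0 0) * h3
  · linear_combination (Y 0 1) * h3
  · linear_combination (Y 1 0) * h3
  · linear_combination (Y 1 1) * h3

theorem tw_cube_of_trans {h : Equiv.Perm (M2 F)} {Y : M2 F} (hh : ∀ X, h X = X + Y) :
    h ^ 3 = 1 := by
  apply Equiv.ext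
  intro X
  have h3 := add3_eq_zero Y
  rw [pow_succ, pow_succ, pow_one, Equiv.Perm.mul_apply, Equiv.Perm.mul_apply, hh, hh, hh,
    Equiv.Perm.one_apply, add_assoc, add_assoc, ← add_assoc Y Y Y, h3, add_zero]

theorem tw_trans_pow {f : Equiv.Perm (M2 F)} {ε : F} {g : SL2 F} {X₀ : M2 F}
    (h : ∀ X, f X = actM ε g X + X₀) {k : ℕ} (hε : ε ^ k = 1)
    (hg : g ^ k = 1 ∨ g ^ k = negOne) : ∃ Y, ∀ X, (f ^ k) X = X + Y := by
  obtain ⟨Y, hY⟩ := tw_pow h k
  refine ⟨Y, fun X => ?_⟩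
  rw [hY, hε]
  rcases hg with hg | hg <;> rw [hg]
  · rw [actM_one]
  · rw [actM_negOne]

theorem tw_pow_three_mul {f : Equiv.Perm (M2 F)} {ε : F} {g : SL2 F} {X₀ : M2 F}
    (h : ∀ X, f X = actM ε g X + X₀) {k : ℕ} (hε : ε ^ k = 1)
    (hg : g ^ k = 1 ∨ g ^ k = negOne) : f ^ (3 * k) = 1 := by
  obtain ⟨Y, hY⟩ := tw_trans_pow h hε hg
  rw [mul_comm, pow_mul]
  exact tw_cube_of_trans hY

theorem tw_pow_of_fixed {f : Equiv.Perm (M2 F)} {ε : F} {g : SL2 F} {X₀ : M2 F}
    (h : ∀ X, f X = actM ε g X + X₀) {X₁ : M2 F} (hfix : f X₁ = X₁) {k : ℕ} (hε : ε ^ k = 1)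
    (hg : g ^ k = 1 ∨ g ^ k = negOne) : f ^ k = 1 := by
  obtain ⟨Y, hY⟩ := tw_trans_pow h hε hg
  have h1 : (f ^ k) X₁ = X₁ := Equiv.Perm.pow_apply_eq_self_of_apply_eq_self hfix k
  have hY0 : Y = 0 := by
    have h2 := hY X₁
    rw [h1] at h2
    have h4 : X₁ + Y = X₁ + 0 := by rw [add_zero]; exact h2.symm
    exact add_left_cancel h4
  apply Equiv.ext
  intro X
  rw [hY, hY0, add_zero]; rfl

theorem actM_fixed_smul {ε : F} {g : SL2 F} {X : M2 F} (hε : ε * ε = 1)
    (hX : actM ε g X = X) : ((g 0 0 + g 1 1) - ε * (g 0 0 + g 1 1) ^ 3) • X = 0 := by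
  have h3 : (3 : F) = 0 := three_eq_zero_of_charP3
  obtain ⟨a, ha⟩ : ∃ a : F, a = g 0 0 + g 1 1 := ⟨_, rfl⟩
  have hGG : ((g⁻¹ : SL2 F) : M2 F) * (g : M2 F) = 1 := by
    rw [← Matrix.SpecialLinearGroup.coe_mul, inv_mul_cancel, Matrix.SpecialLinearGroup.coe_one]
  have hTT : twM g * twM g⁻¹ = 1 := by rw [← twM_mul, inv_mul_cancel, twM_one]
  have hX' : X = ε • ((g : M2 F) * X * twM g) := hX.symm
  have e1 : ((g⁻¹ : SL2 F) : M2 F) * X = ε • (X * twM g) := by
    conv_lhs => rw [hX']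
    rw [Matrix.mul_smul, ← Matrix.mul_assoc, ← Matrix.mul_assoc, hGG, Matrix.one_mul]
  have e2 : X * twM g⁻¹ = ε • ((g : M2 F) * X) := by
    conv_lhs => rw [hX']
    rw [Matrix.smul_mul, Matrix.mul_assoc, hTT, Matrix.mul_one]
  have e3 : (g : M2 F) + ((g⁻¹ : SL2 F) : M2 F) = a • (1 : M2 F) := by
    apply mat2_ext
    · rw [Matrix.add_apply, sl2_inv_00, Matrix.smul_apply, m2_one_00, smul_eq_mul, mul_one, ha]
    · rw [Matrix.add_apply, sl2_inv_01, Matrix.smul_apply, m2_one_01, smul_eq_mul, mul_zero,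
        add_neg_cancel]
    · rw [Matrix.add_apply, sl2_inv_10, Matrix.smul_apply, m2_one_10, smul_eq_mul, mul_zero,
        add_neg_cancel]
    · rw [Matrix.add_apply, sl2_inv_11, Matrix.smul_apply, m2_one_11, smul_eq_mul, mul_one, ha,
        add_comm]
  have e4 : twM g + twM g⁻¹ = (a ^ 3) • (1 : M2 F) := by
    apply mat2_ext
    · rw [Matrix.add_apply, twM_apply, twM_apply, sl2_inv_00, Matrix.smul_apply, m2_one_00,
        smul_eq_mul, mul_one, ha]
      linear_combination (-(g 0 0 * g 1 1 * (g 0 0 + g 1 1))) * h3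
    · rw [Matrix.add_apply, twM_apply, twM_apply, sl2_inv_10, Matrix.smul_apply, m2_one_01,
        smul_eq_mul, mul_zero]
      ring
    · rw [Matrix.add_apply, twM_apply, twM_apply, sl2_inv_01, Matrix.smul_apply, m2_one_10,
        smul_eq_mul, mul_zero]
      ring
    · rw [Matrix.add_apply, twM_apply, twM_apply, sl2_inv_11, Matrix.smul_apply, m2_one_11,
        smul_eq_mul, mul_one, ha]
      linear_combination (-(g 0 0 * g 1 1 * (g 0 0 + g 1 1))) * h3
  have e5 : a • X = (g : M2 F) * X + ε • (X * twM g) := by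
    rw [← e1, ← Matrix.add_mul, e3, Matrix.smul_mul, Matrix.one_mul]
  have e6 : (a ^ 3) • X = X * twM g + ε • ((g : M2 F) * X) := by
    rw [← e2, ← Matrix.mul_add, e4, Matrix.mul_smul, Matrix.mul_one]
  rw [← ha, sub_smul, mul_smul, e5, e6, smul_add, smul_smul, hε, one_smul]
  abel

variable [Fintype F]

theorem tw_exists_fixed {f : Equiv.Perm (M2 F)} {ε : F} {g : SL2 F} {X₀ : M2 F}
    (h : ∀ X, f X = actM ε g X + X₀) (hinj : ∀ X, actM ε g X = X → X = 0) :
    ∃ X₁, f X₁ = X₁ := by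
  have hi : Function.Injective (fun X : M2 F => X - actM ε g X) := by
    intro X Y hXY
    have h1 : X - actM ε g X = Y - actM ε g Y := hXY
    rw [sub_eq_sub_iff_sub_eq_sub] at h1
    have h2 : actM ε g (X - Y) = X - Y := by rw [actM_sub, h1]
    exact sub_eq_zero.mp (hinj _ h2)
  obtain ⟨X₁, hX₁⟩ := (Finite.injective_iff_surjective.mp hi) X₀
  refine ⟨X₁, ?_⟩
  have h3 : X₁ - actM ε g X₁ = X₀ := hX₁
  rw [h, ← h3, add_sub_cancel]

/-- The translation subgroup. -/
noncomputable def twTrans (F : Type*) [Field F] [CharP F 3] [Fintype F] :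
    Subgroup (twGroup F) where
  carrier := {f | ∃ Y : M2 F, ∀ X, (f : Equiv.Perm (M2 F)) X = X + Y}
  mul_mem' := by
    rintro f f' ⟨Y, hY⟩ ⟨Y', hY'⟩
    exact ⟨Y' + Y, fun X => by rw [Subgroup.coe_mul, Equiv.Perm.mul_apply, hY, hY', add_assoc]⟩
  one_mem' := ⟨0, fun X => by rw [Subgroup.coe_one, add_zero]; rfl⟩
  inv_mem' := by
    rintro f ⟨Y, hY⟩
    refine ⟨-Y, fun X => ?_⟩
    rw [Subgroup.coe_inv, Equiv.Perm.inv_eq_iff_eq, hY, neg_add_cancel_right]

theorem twTrans_normal : (twTrans F).Normal := by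
  constructor
  rintro n ⟨Y, hY⟩ g
  obtain ⟨ε, γ, X₀, hε, h⟩ := g.2
  refine ⟨actM ε γ Y, fun X => ?_⟩
  rw [Subgroup.coe_mul, Subgroup.coe_mul, Subgroup.coe_inv, Equiv.Perm.mul_apply,
    Equiv.Perm.mul_apply, hY, h, actM_add, add_right_comm, ← h, Equiv.Perm.inv_def,
    Equiv.apply_symm_apply]

theorem twTrans_ne_bot : twTrans F ≠ ⊥ := by
  intro hbot
  have hmem : (⟨twPerm 1 (pm_one_sq (Or.inl rfl)) 1 1, twPerm_mem 1 (Or.inl rfl) 1 1⟩ :
      twGroup F) ∈ twTrans F :=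
    ⟨1, fun X => by
      show twPerm 1 (pm_one_sq (Or.inl rfl)) 1 1 X = X + 1
      rw [twPerm_apply, actM_one]⟩
  rw [hbot, Subgroup.mem_bot] at hmem
  have h1 := congrArg (fun f : twGroup F => (f : Equiv.Perm (M2 F)) 0) hmem
  simp only [Subgroup.coe_one, Equiv.Perm.one_apply] at h1
  rw [twPerm_apply, actM_one, zero_add] at h1
  exact one_ne_zero h1

theorem twTrans_isPGroup : IsPGroup 3 (twTrans F) := by
  rintro ⟨f, Y, hY⟩
  refine ⟨1, ?_⟩
  apply Subtype.ext
  apply Subtype.ext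
  rw [pow_one]
  show ((f : Equiv.Perm (M2 F)) ^ 3) = 1
  exact tw_cube_of_trans hY

/-- Every element order of `twGroup F` divides `6`, `9`, `q - 1` or `(q + 1) / 2`. -/
theorem tw_order_dvd (hq : Fintype.card F % 4 = 3) {f : Equiv.Perm (M2 F)}
    (hf : f ∈ twGroup F) :
    orderOf f ∣ 6 ∨ orderOf f ∣ 9 ∨ orderOf f ∣ Fintype.card F - 1 ∨
      orderOf f ∣ (Fintype.card F + 1) / 2 := by
  obtain ⟨ε, g, X₀, hε, h⟩ := hf
  have h2 : (2 : F) ≠ 0 := two_ne_zero_of_charP3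
  have hεε := pm_one_sq hε
  by_cases ha0 : g 0 0 + g 1 1 = 0
  · left
    apply orderOf_dvd_of_pow_eq_one
    have hg : g ^ 2 = 1 ∨ g ^ 2 = negOne := Or.inr (by rw [pow_two]; exact sq_of_trace_zero g ha0)
    exact tw_pow_three_mul h (pm_one_pow_even hε ⟨1, rfl⟩) hg
  by_cases hsp : ε = 1 ∧ (g 0 0 + g 1 1 = 1 ∨ g 0 0 + g 1 1 = -1)
  · right; left
    obtain ⟨rfl, ha⟩ := hsp
    apply orderOf_dvd_of_pow_eq_one
    have hg : g ^ 3 = 1 ∨ g ^ 3 = negOne := by
      rw [pow_succ, pow_two]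
      rcases ha with ha | ha
      · right; exact cube_of_trace_one g ha
      · left; exact cube_of_trace_neg_one g ha
    exact tw_pow_three_mul h (one_pow 3) hg
  have hne : (g 0 0 + g 1 1) - ε * (g 0 0 + g 1 1) ^ 3 ≠ 0 := by
    intro h0
    obtain ⟨a, ha⟩ : ∃ a : F, a = g 0 0 + g 1 1 := ⟨_, rfl⟩
    rw [← ha] at h0 ha0 hsp
    have h1 : a * (1 - ε * a ^ 2) = 0 := by linear_combination h0
    rcases mul_eq_zero.mp h1 with h1 | h1
    · exact ha0 h1
    rcases hε with rfl | rfl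
    · apply hsp
      refine ⟨rfl, ?_⟩
      have h4 : (a - 1) * (a + 1) = 0 := by linear_combination -h1
      rcases mul_eq_zero.mp h4 with h' | h'
      · left; exact sub_eq_zero.mp h'
      · right; exact eq_neg_of_add_eq_zero_left h'
    · have hsq : IsSquare (-1 : F) := ⟨a, by linear_combination -h1⟩
      rw [FiniteField.isSquare_neg_one_iff] at hsq
      exact hsq hq
  have hinj : ∀ X, actM ε g X = X → X = 0 := by
    intro X hX
    have h5 := actM_fixed_smul hεε hX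
    rcases smul_eq_zero.mp h5 with h' | h'
    · exact absurd h' hne
    · exact h'
  obtain ⟨X₁, hfix⟩ := tw_exists_fixed h hinj
  rcases sl2_pow_cases3 g with hg | hg | hg | hg
  · right; right; left
    apply orderOf_dvd_of_pow_eq_one
    exact tw_pow_of_fixed h hfix (pm_one_pow_even hε (Nat.even_iff.mpr (by omega))) (Or.inl hg)
  · right; right; right
    apply orderOf_dvd_of_pow_eq_one
    have h5 : Fintype.card F + 1 = 2 * ((Fintype.card F + 1) / 2) := by omega
    rw [h5] at hg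
    exact tw_pow_of_fixed h hfix (pm_one_pow_even hε (Nat.even_iff.mpr (by omega)))
      (pow_half_cases h2 g _ hg)
  · left
    apply orderOf_dvd_of_pow_eq_one
    have hg6 : g ^ 6 = 1 := by
      have h6 : g ^ 6 = (g * g * g) * (g * g * g) := by
        simp only [pow_succ, pow_zero, one_mul, mul_assoc]
      rw [h6, hg, one_mul]
    exact tw_pow_of_fixed h hfix (pm_one_pow_even hε ⟨3, rfl⟩) (Or.inl hg6)
  · left
    apply orderOf_dvd_of_pow_eq_one
    have hg6 : g ^ 6 = 1 := by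
      have h6 : g ^ 6 = (g * g * g) * (g * g * g) := by
        simp only [pow_succ, pow_zero, one_mul, mul_assoc]
      rw [h6, hg, negOne_mul_self]
    exact tw_pow_of_fixed h hfix (pm_one_pow_even hε ⟨3, rfl⟩) (Or.inl hg6)

end TwC

end Cfsg.Agent.Lib.helper98
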