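import Cfsg.Agent.Lib.helper98.TwC
import Cfsg.Agent.Lib.helper46.TorusAll

/-!
# Elements of orders `6`, `9`, `q - 1`, `(q + 1) / 2` in `twGroup F`
-/

set_option autoImplicit false

namespace Cfsg.Agent.Lib.helper98

open Matrix

local notation "SL2" => Matrix.SpecialLinearGroup (Fin 2)
local notation "M2" => Matrix (Fin 2) (Fin 2)

section TwD

variable {F : Type*} [Field F] [CharP F 3]

/-- The kernel of the linear action is `{(1, ±1)}`. -/
theorem actM_eq_id {ε : F} {h : SL2 F} (hεε : ε * ε = 1) (hid : ∀ X, actM ε h X = X) :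
    ε = 1 ∧ (h = 1 ∨ h = negOne) := by
  have hdet := sl2_det' h
  have a1 : ε * ((h 0 0 * 1 + h 0 1 * 0) * (h 0 0) ^ 3 +
      (h 0 0 * 0 + h 0 1 * 0) * (h 0 1) ^ 3) = 1 := by
    have h1 := congrFun (congrFun (hid !![1, 0; 0, 0]) 0) 0
    rw [actM_apply] at h1
    exact h1
  have a2 : ε * ((h 1 0 * 1 + h 1 1 * 0) * (h 0 0) ^ 3 +
      (h 1 0 * 0 + h 1 1 * 0) * (h 0 1) ^ 3) = 0 := by
    have h1 := congrFun (congrFun (hid !![1, 0; 0, 0]) 1) 0
    rw [actM_apply] at h1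
    exact h1
  have b1 : ε * ((h 0 0 * 0 + h 0 1 * 0) * (h 1 0) ^ 3 +
      (h 0 0 * 0 + h 0 1 * 1) * (h 1 1) ^ 3) = 0 := by
    have h1 := congrFun (congrFun (hid !![0, 0; 0, 1]) 0) 1
    rw [actM_apply] at h1
    exact h1
  have b2 : ε * ((h 1 0 * 0 + h 1 1 * 0) * (h 1 0) ^ 3 +
      (h 1 0 * 0 + h 1 1 * 1) * (h 1 1) ^ 3) = 1 := by
    have h1 := congrFun (congrFun (hid !![0, 0; 0, 1]) 1) 1
    rw [actM_apply] at h1
    exact h1
  have c1 : ε * ((h 0 0 * 0 + h 0 1 * 0) * (h 1 0) ^ 3 +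
      (h 0 0 * 1 + h 0 1 * 0) * (h 1 1) ^ 3) = 1 := by
    have h1 := congrFun (congrFun (hid !![0, 1; 0, 0]) 0) 1
    rw [actM_apply] at h1
    exact h1
  have hε0 : ε ≠ 0 := by
    rintro rfl
    rw [mul_zero] at hεε
    exact zero_ne_one hεε
  have h00 : h 0 0 ≠ 0 := by
    intro h0
    apply one_ne_zero (α := F)
    rw [← a1, h0]; ring
  have h11 : h 1 1 ≠ 0 := by
    intro h0
    apply one_ne_zero (α := F)
    rw [← b2, h0]; ring
  have h10 : h 1 0 = 0 := by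
    have h5 : ε * (h 0 0) ^ 3 * h 1 0 = 0 := by linear_combination a2
    rcases mul_eq_zero.mp h5 with h' | h'
    · exact absurd h' (mul_ne_zero hε0 (pow_ne_zero 3 h00))
    · exact h'
  have h01 : h 0 1 = 0 := by
    have h5 : ε * (h 1 1) ^ 3 * h 0 1 = 0 := by linear_combination b1
    rcases mul_eq_zero.mp h5 with h' | h'
    · exact absurd h' (mul_ne_zero hε0 (pow_ne_zero 3 h11))
    · exact h'
  have hd : h 0 0 * h 1 1 = 1 := by rw [h01] at hdet; linear_combination hdet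
  have e1 : h 1 1 ^ 2 = ε := by
    linear_combination ε * c1 - (h 1 1 ^ 2 * ε ^ 2) * hd - (h 1 1 ^ 2) * hεε
  have e2 : ε = 1 := by
    linear_combination b2 - ε * (h 1 1 ^ 2 + ε) * e1 - ε * hεε
  refine ⟨e2, ?_⟩
  rw [e2] at e1
  have e3 : (h 1 1 - 1) * (h 1 1 + 1) = 0 := by linear_combination e1
  rcases mul_eq_zero.mp e3 with h' | h'
  · left
    have h11' : h 1 1 = 1 := sub_eq_zero.mp h'
    rw [h11', mul_one] at hd
    apply sl2_ext
    · rw [sl2_one_00, hd]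
    · rw [sl2_one_01, h01]
    · rw [sl2_one_10, h10]
    · rw [sl2_one_11, h11']
  · right
    have h11' : h 1 1 = -1 := eq_neg_of_add_eq_zero_left h'
    rw [h11'] at hd
    apply sl2_ext
    · rw [negOne_00]; linear_combination -hd
    · rw [negOne_01, h01]
    · rw [negOne_10, h10]
    · rw [negOne_11, h11']

theorem twPerm_zero_pow (ε : F) (hεε : ε * ε = 1) (g : SL2 F) (k : ℕ) (X : M2 F) :
    ((twPerm ε hεε g 0) ^ k) X = actM (ε ^ k) (g ^ k) X := by
  induction k generalizing X with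
  | zero => rw [pow_zero, pow_zero, pow_zero, actM_one]; rfl
  | succ k ih =>
    rw [pow_succ, Equiv.Perm.mul_apply, ih, twPerm_apply, add_zero, actM_comp, pow_succ, pow_succ]

theorem twPerm_zero_pow_eq_one_iff (ε : F) (hε : ε = 1 ∨ ε = -1) (g : SL2 F) (k : ℕ) :
    (twPerm ε (pm_one_sq hε) g 0) ^ k = 1 ↔ ε ^ k = 1 ∧ (g ^ k = 1 ∨ g ^ k = negOne) := by
  constructor
  · intro h
    apply actM_eq_id (pm_one_sq (pm_one_pow hε k))
    intro X
    rw [← twPerm_zero_pow ε (pm_one_sq hε), h]; rfl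
  · rintro ⟨h1, h2⟩
    apply Equiv.ext
    intro X
    rw [twPerm_zero_pow, h1]
    rcases h2 with h2 | h2 <;> rw [h2]
    · rw [actM_one]; rfl
    · rw [actM_negOne]; rfl

theorem neg_one_pow_eq_one_even {k : ℕ} (h : (-1 : F) ^ k = 1) : Even k := by
  by_contra hk
  rw [Nat.not_even_iff_odd] at hk
  rw [hk.neg_one_pow] at h
  apply two_ne_zero_of_charP3 (F := F)
  linear_combination -h

theorem upSL_one_pow (k : ℕ) : (upSL (1 : F)) ^ k = upSL (k : F) := by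
  induction k with
  | zero => rw [pow_zero, Nat.cast_zero, upSL_zero]
  | succ k ih => rw [pow_succ, ih, upSL_add, Nat.cast_succ]

theorem diagSL_pow (a : F) (ha : a ≠ 0) (k : ℕ) :
    (diagSL a ha) ^ k = diagSL (a ^ k) (pow_ne_zero k ha) := by
  induction k with
  | zero =>
    rw [pow_zero]
    apply sl2_ext
    · rw [sl2_one_00, diagSL_00, pow_zero]
    · rw [sl2_one_01, diagSL_01]
    · rw [sl2_one_10, diagSL_10]
    · rw [sl2_one_11, diagSL_11, pow_zero, inv_one]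
  | succ k ih =>
    rw [pow_succ, ih]
    apply sl2_ext <;> simp only [sl2_mul_apply, diagSL_00, diagSL_01, diagSL_10, diagSL_11]
    · ring
    · ring
    · ring
    · rw [pow_succ, mul_inv]; ring

/-- An element of order `6`. -/
theorem tw_exists_order_six : ∃ f : Equiv.Perm (M2 F), (∃ (ε : F) (g : SL2 F) (X₀ : M2 F),
    (ε = 1 ∨ ε = -1) ∧ ∀ X, f X = actM ε g X + X₀) ∧ orderOf f = 6 := by
  have hε : (-1 : F) = 1 ∨ (-1 : F) = -1 := Or.inr rfl
  refine ⟨twPerm (-1) (pm_one_sq hε) (upSL 1) 0, ⟨-1, upSL 1, 0, hε, fun _ => rfl⟩, ?_⟩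
  have key := twPerm_zero_pow_eq_one_iff (-1 : F) hε (upSL 1)
  apply Nat.dvd_antisymm
  · apply orderOf_dvd_of_pow_eq_one
    rw [key]
    refine ⟨Even.neg_one_pow ⟨3, rfl⟩, Or.inl ?_⟩
    rw [upSL_one_pow, (CharP.cast_eq_zero_iff F 3 6).mpr (by norm_num), upSL_zero]
  · have h1 := (key (orderOf (twPerm (-1) (pm_one_sq hε) (upSL 1) 0))).mp (pow_orderOf_eq_one _)
    obtain ⟨h2, h3⟩ := h1
    have hev := neg_one_pow_eq_one_even h2
    have h3' : (3 : ℕ) ∣ orderOf (twPerm (-1) (pm_one_sq hε) (upSL (1 : F)) 0) := by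
      rw [upSL_one_pow] at h3
      rcases h3 with h3 | h3
      · rw [← upSL_zero] at h3
        exact (CharP.cast_eq_zero_iff F 3 _).mp (upSL_injective h3)
      · exfalso
        have h4 := congrArg (fun x : SL2 F => x 0 0) h3
        simp only [upSL_00, negOne_00] at h4
        apply two_ne_zero_of_charP3 (F := F)
        linear_combination h4
    exact Nat.Coprime.mul_dvd_of_dvd_of_dvd (by norm_num : Nat.Coprime 2 3)
      (even_iff_two_dvd.mp hev) h3'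

/-- An element of order `9`. -/
theorem tw_exists_order_nine : ∃ f : Equiv.Perm (M2 F), (∃ (ε : F) (g : SL2 F) (X₀ : M2 F),
    (ε = 1 ∨ ε = -1) ∧ ∀ X, f X = actM ε g X + X₀) ∧ orderOf f = 9 := by
  have hε : (1 : F) = 1 ∨ (1 : F) = -1 := Or.inl rfl
  have h3 : (3 : F) = 0 := three_eq_zero_of_charP3
  refine ⟨twPerm 1 (pm_one_sq hε) (upSL 1) !![0, 0; 0, 1],
    ⟨1, upSL 1, !![0, 0; 0, 1], hε, fun _ => rfl⟩, ?_⟩
  have h9 : (twPerm (1 : F) (pm_one_sq hε) (upSL 1) !![0, 0; 0, 1]) ^ (3 ^ (1 + 1)) = 1 := by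
    have hg : (upSL (1 : F)) ^ 3 = 1 ∨ (upSL (1 : F)) ^ 3 = negOne := by
      left
      rw [upSL_one_pow, (CharP.cast_eq_zero_iff F 3 3).mpr (dvd_refl 3), upSL_zero]
    exact tw_pow_three_mul (fun X => twPerm_apply (1 : F) (pm_one_sq hε) (upSL 1) _ X)
      (one_pow 3) hg
  have hne : ¬ (twPerm (1 : F) (pm_one_sq hε) (upSL 1) !![0, 0; 0, 1]) ^ (3 ^ 1) = 1 := by
    intro h0
    have h1 := congrArg (fun f : Equiv.Perm (M2 F) => f 0 0 0) h0
    simp only [pow_one] at h1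
    rw [pow_succ, pow_succ, pow_one, Equiv.Perm.mul_apply, Equiv.Perm.mul_apply, twPerm_apply,
      twPerm_apply, twPerm_apply, actM_zero, zero_add, Equiv.Perm.one_apply] at h1
    simp only [Matrix.add_apply, actM_apply, upSL_00, upSL_01, upSL_10, upSL_11] at h1
    have h2 : (1 : F) * ((1 * (1 * ((1 * 0 + 1 * 0) * 1 ^ 3 + (1 * 0 + 1 * 1) * 1 ^ 3) + 0) +
        1 * (1 * ((0 * 0 + 1 * 0) * 1 ^ 3 + (0 * 0 + 1 * 1) * 1 ^ 3) + 0)) * 1 ^ 3 +
        (1 * (1 * ((1 * 0 + 1 * 0) * 0 ^ 3 + (1 * 0 + 1 * 1) * 1 ^ 3) + 0) +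
        1 * (1 * ((0 * 0 + 1 * 0) * 0 ^ 3 + (0 * 0 + 1 * 1) * 1 ^ 3) + 1)) * 1 ^ 3) + 0 = 0 := h1
    apply two_ne_zero_of_charP3 (F := F)
    linear_combination h2 - h3
  exact orderOf_eq_prime_pow hne h9

end TwD

end Cfsg.Agent.Lib.helper98
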