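import Cfsg.Agent.Lib.helper98.TwD

/-!
# Elements of orders `q - 1` and `(q + 1) / 2` in `twGroup F`, and the maximal element orders
-/

set_option autoImplicit false

namespace Cfsg.Agent.Lib.helper98

open Matrix

local notation "SL2" => Matrix.SpecialLinearGroup (Fin 2)
local notation "M2" => Matrix (Fin 2) (Fin 2)

section TwE

variable {F : Type*} [Field F] [CharP F 3] [Fintype F]

/-- An element of order `q - 1`. -/
theorem tw_exists_order_split (hq : Fintype.card F % 4 = 3) :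
    ∃ f : Equiv.Perm (M2 F), (∃ (ε : F) (g : SL2 F) (X₀ : M2 F),
    (ε = 1 ∨ ε = -1) ∧ ∀ X, f X = actM ε g X + X₀) ∧ orderOf f = Fintype.card F - 1 := by
  classical
  have hε : (-1 : F) = 1 ∨ (-1 : F) = -1 := Or.inr rfl
  obtain ⟨u, hu⟩ := IsCyclic.exists_ofOrder_eq_natCard (α := Fˣ)
  rw [Nat.card_units, Nat.card_eq_fintype_card] at hu
  have hl0 : (u : F) ≠ 0 := u.ne_zero
  have hlo : orderOf (u : F) = Fintype.card F - 1 := by rw [orderOf_units, hu]
  refine ⟨twPerm (-1) (pm_one_sq hε) (diagSL (u : F) hl0) 0,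
    ⟨-1, diagSL (u : F) hl0, 0, hε, fun _ => rfl⟩, ?_⟩
  have key := twPerm_zero_pow_eq_one_iff (-1 : F) hε (diagSL (u : F) hl0)
  apply Nat.dvd_antisymm
  · apply orderOf_dvd_of_pow_eq_one
    rw [key]
    refine ⟨Even.neg_one_pow (Nat.even_iff.mpr (by omega)), Or.inl ?_⟩
    rw [diagSL_pow]
    have h1 : (u : F) ^ (Fintype.card F - 1) = 1 := FiniteField.pow_card_sub_one_eq_one _ hl0
    apply sl2_ext
    · rw [diagSL_00, sl2_one_00, h1]
    · rw [diagSL_01, sl2_one_01]
    · rw [diagSL_10, sl2_one_10]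
    · rw [diagSL_11, sl2_one_11, h1, inv_one]
  · obtain ⟨k, hk⟩ : ∃ k, k = orderOf (twPerm (-1) (pm_one_sq hε) (diagSL (u : F) hl0) 0) :=
      ⟨_, rfl⟩
    rw [← hk]
    have h1 := (key k).mp (by rw [hk]; exact pow_orderOf_eq_one _)
    obtain ⟨h2, h3⟩ := h1
    have hev := neg_one_pow_eq_one_even h2
    rw [diagSL_pow] at h3
    have h4 : (u : F) ^ (2 * k) = 1 := by
      rw [mul_comm, pow_mul]
      rcases h3 with h3 | h3
      · have h5 := congrArg (fun x : SL2 F => x 0 0) h3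
        simp only [diagSL_00, sl2_one_00] at h5
        rw [h5, one_pow]
      · have h5 := congrArg (fun x : SL2 F => x 0 0) h3
        simp only [diagSL_00, negOne_00] at h5
        rw [h5]; ring
    have h5 : Fintype.card F - 1 ∣ 2 * k := by
      rw [← hlo]; exact orderOf_dvd_of_pow_eq_one h4
    have h6 : Fintype.card F - 1 = 2 * ((Fintype.card F - 1) / 2) := by omega
    rw [h6] at h5 ⊢
    rw [Nat.mul_dvd_mul_iff_left (by norm_num)] at h5
    have hodd : Odd ((Fintype.card F - 1) / 2) := Nat.odd_iff.mpr (by omega)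
    exact Nat.Coprime.mul_dvd_of_dvd_of_dvd (Nat.coprime_two_left.mpr hodd)
      (even_iff_two_dvd.mp hev) h5

/-- An element of order `(q + 1) / 2`. -/
theorem tw_exists_order_nonsplit (hq : Fintype.card F % 4 = 3) :
    ∃ f : Equiv.Perm (M2 F), (∃ (ε : F) (g : SL2 F) (X₀ : M2 F),
    (ε = 1 ∨ ε = -1) ∧ ∀ X, f X = actM ε g X + X₀) ∧
      orderOf f = (Fintype.card F + 1) / 2 := by
  classical
  have hε : (1 : F) = 1 ∨ (1 : F) = -1 := Or.inl rfl
  have h2 : (2 : F) ≠ 0 := two_ne_zero_of_charP3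
  obtain ⟨t₀, t, -, -, -, -, hord, -⟩ := Cfsg.Agent.Lib.helper46.nonsplit_torus_core (F := F)
  refine ⟨twPerm 1 (pm_one_sq hε) t 0, ⟨1, t, 0, hε, fun _ => rfl⟩, ?_⟩
  have key := twPerm_zero_pow_eq_one_iff (1 : F) hε t
  have h6 : Fintype.card F + 1 = 2 * ((Fintype.card F + 1) / 2) := by omega
  apply Nat.dvd_antisymm
  · apply orderOf_dvd_of_pow_eq_one
    rw [key]
    refine ⟨one_pow _, ?_⟩
    apply pow_half_cases h2
    rw [← h6, ← hord]
    exact pow_orderOf_eq_one t
  · obtain ⟨k, hk⟩ : ∃ k, k = orderOf (twPerm (1 : F) (pm_one_sq hε) t 0) := ⟨_, rfl⟩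
    rw [← hk]
    have h1 := (key k).mp (by rw [hk]; exact pow_orderOf_eq_one _)
    obtain ⟨-, h3⟩ := h1
    have h4 : t ^ (2 * k) = 1 := by
      rw [two_mul, pow_add]
      rcases h3 with h3 | h3
      · rw [h3, one_mul]
      · rw [h3, negOne_mul_self]
    have h5 : Fintype.card F + 1 ∣ 2 * k := by
      rw [← hord]; exact orderOf_dvd_of_pow_eq_one h4
    rw [h6] at h5
    exact (Nat.mul_dvd_mul_iff_left (by norm_num)).mp h5

/-- The element orders of `twGroup F` maximal under divisibility. -/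
theorem tw_max_orders (hq : Fintype.card F % 4 = 3) (hq3 : Fintype.card F % 3 = 0)
    (hq27 : 27 ≤ Fintype.card F) :
    {n : ℕ | n ∈ Set.range (orderOf : twGroup F → ℕ) ∧
      ∀ m ∈ Set.range (orderOf : twGroup F → ℕ), n ∣ m → m = n} =
      ({6, 9, Fintype.card F - 1, (Fintype.card F + 1) / 2} : Set ℕ) := by
  have hrange : ∀ n : ℕ, n ∈ Set.range (orderOf : twGroup F → ℕ) ↔
      ∃ f : Equiv.Perm (M2 F), f ∈ twGroup F ∧ orderOf f = n := by
    intro n
    constructor
    · rintro ⟨f, rfl⟩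
      exact ⟨f.1, f.2, Subgroup.orderOf_coe f⟩
    · rintro ⟨f, hf, rfl⟩
      exact ⟨⟨f, hf⟩, (Subgroup.orderOf_coe _).symm⟩
  have hbound : ∀ m ∈ Set.range (orderOf : twGroup F → ℕ),
      m ∣ 6 ∨ m ∣ 9 ∨ m ∣ Fintype.card F - 1 ∨ m ∣ (Fintype.card F + 1) / 2 := by
    intro m hm
    obtain ⟨f, hf, rfl⟩ := (hrange m).mp hm
    exact tw_order_dvd hq hf
  have ex6 : 6 ∈ Set.range (orderOf : twGroup F → ℕ) := by
    obtain ⟨f, hf, ho⟩ := tw_exists_order_six (F := F)
    exact (hrange 6).mpr ⟨f, hf, ho⟩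
  have ex9 : 9 ∈ Set.range (orderOf : twGroup F → ℕ) := by
    obtain ⟨f, hf, ho⟩ := tw_exists_order_nine (F := F)
    exact (hrange 9).mpr ⟨f, hf, ho⟩
  have exs : Fintype.card F - 1 ∈ Set.range (orderOf : twGroup F → ℕ) := by
    obtain ⟨f, hf, ho⟩ := tw_exists_order_split (F := F) hq
    exact (hrange _).mpr ⟨f, hf, ho⟩
  have exn : (Fintype.card F + 1) / 2 ∈ Set.range (orderOf : twGroup F → ℕ) := by
    obtain ⟨f, hf, ho⟩ := tw_exists_order_nonsplit (F := F) hq
    exact (hrange _).mpr ⟨f, hf, ho⟩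
  obtain ⟨q, hqdef⟩ : ∃ q, q = Fintype.card F := ⟨_, rfl⟩
  rw [← hqdef] at hq hq3 hq27 hbound exs exn ⊢
  obtain ⟨r, hr⟩ : ∃ r, r = (q + 1) / 2 := ⟨_, rfl⟩
  rw [← hr] at hbound exn ⊢
  have hr2 : 2 * r = q + 1 := by omega
  -- pairwise non-divisibility
  have d69 : ¬ (6 ∣ 9) := by norm_num
  have d96 : ¬ (9 ∣ 6) := by norm_num
  have d6s : ¬ (6 ∣ q - 1) := by omega
  have d9s : ¬ (9 ∣ q - 1) := by omega
  have d6n : ¬ (6 ∣ r) := by omega
  have d9n : ¬ (9 ∣ r) := by omega
  have ds6 : ¬ (q - 1 ∣ 6) := fun h => by have := Nat.le_of_dvd (by norm_num) h; omega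
  have ds9 : ¬ (q - 1 ∣ 9) := fun h => by have := Nat.le_of_dvd (by norm_num) h; omega
  have dn6 : ¬ (r ∣ 6) := fun h => by have := Nat.le_of_dvd (by norm_num) h; omega
  have dn9 : ¬ (r ∣ 9) := fun h => by have := Nat.le_of_dvd (by norm_num) h; omega
  have dsn : ¬ (q - 1 ∣ r) := fun h => by have := Nat.le_of_dvd (by omega) h; omega
  have dns : ¬ (r ∣ q - 1) := by
    intro h
    have h1 : r ∣ 2 * r := Dvd.intro_left 2 rfl
    have h2 : r ∣ 2 * r - (q - 1) := Nat.dvd_sub h1 h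
    have h3 : 2 * r - (q - 1) = 2 := by omega
    rw [h3] at h2
    have := Nat.le_of_dvd (by norm_num) h2
    omega
  ext n
  simp only [Set.mem_setOf_eq, Set.mem_insert_iff, Set.mem_singleton_iff]
  constructor
  · rintro ⟨hn, hmax⟩
    rcases hbound n hn with h | h | h | h
    · left; exact (hmax 6 ex6 h).symm
    · right; left; exact (hmax 9 ex9 h).symm
    · right; right; left; exact (hmax _ exs h).symm
    · right; right; right; exact (hmax _ exn h).symm
  · rintro (rfl | rfl | rfl | rfl)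
    · refine ⟨ex6, fun m hm hdvd => ?_⟩
      rcases hbound m hm with h | h | h | h
      · exact Nat.dvd_antisymm h hdvd
      · exact absurd (hdvd.trans h) d69
      · exact absurd (hdvd.trans h) d6s
      · exact absurd (hdvd.trans h) d6n
    · refine ⟨ex9, fun m hm hdvd => ?_⟩
      rcases hbound m hm with h | h | h | h
      · exact absurd (hdvd.trans h) d96
      · exact Nat.dvd_antisymm h hdvd
      · exact absurd (hdvd.trans h) d9s
      · exact absurd (hdvd.trans h) d9n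
    · refine ⟨exs, fun m hm hdvd => ?_⟩
      rcases hbound m hm with h | h | h | h
      · exact absurd (hdvd.trans h) ds6
      · exact absurd (hdvd.trans h) ds9
      · exact Nat.dvd_antisymm h hdvd
      · exact absurd (hdvd.trans h) dsn
    · refine ⟨exn, fun m hm hdvd => ?_⟩
      rcases hbound m hm with h | h | h | h
      · exact absurd (hdvd.trans h) dn6
      · exact absurd (hdvd.trans h) dn9
      · exact absurd (hdvd.trans h) dns
      · exact Nat.dvd_antisymm h hdvd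

end TwE

end Cfsg.Agent.Lib.helper98
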