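import Cfsg.Agent.Lib.helper98.TwoFix

/-!
# The three-orbit count

Let a finite group `G` act on a finite set `Y`, let `Z ≤ G` act trivially and let every other
element fix exactly two points.  Then `G = Z`, or `G` fixes a point, or some point stabilizer has
index `2`, or `|G / Z| ∈ {12, 24, 60}` with point stabilizers of order at most `3|Z|`, `4|Z|`,
`5|Z|` (`tame_core`).  This is the counting step of Dickson's classification of the subgroups of
`SL₂(q)` of order prime to the characteristic.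
-/

set_option autoImplicit false

namespace Cfsg.Agent.Lib.helper98

open MulAction
open scoped Classical

section Tame

/-- The arithmetic of two orbits, once one stabilizer is known to have index `2` over `Z`. -/
theorem two_orbit_arith (g n₂ n₃ e₂ e₃ : ℕ) (h₂ : n₂ * e₂ = g) (h₃ : n₃ * e₃ = g)
    (he₂ : 2 ≤ e₂) (he₃ : 2 ≤ e₃) (hsum : 2 * n₂ + 2 * n₃ = g + 4) :
    (2 * e₂ = g ∨ 2 * e₃ = g) ∨ (g = 12 ∧ e₂ = 3 ∧ e₃ = 3) ∨
      (g = 24 ∧ ((e₂ = 3 ∧ e₃ = 4) ∨ (e₂ = 4 ∧ e₃ = 3))) ∨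
      (g = 60 ∧ ((e₂ = 3 ∧ e₃ = 5) ∨ (e₂ = 5 ∧ e₃ = 3))) := by
  have key : ∀ (n n' e' : ℕ), n * 3 = g → n' * e' = g → 2 ≤ e' → 2 * n + 2 * n' = g + 4 →
      3 ≤ e' → (g = 12 ∧ e' = 3) ∨ (g = 24 ∧ e' = 4) ∨ (g = 60 ∧ e' = 5) := by
    intro n n' e' hn hn' he' hs h3
    have hle : e' ≤ 5 := by
      by_contra hcon
      have h6 : 6 ≤ e' := by omega
      have := Nat.mul_le_mul_left n' h6
      omega
    interval_cases e' <;> omega
  by_cases h22 : e₂ = 2
  · left; right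
    subst h22
    have hn3 : n₃ = 2 := by omega
    subst hn3
    omega
  by_cases h32 : e₃ = 2
  · left; left
    subst h32
    have hn2 : n₂ = 2 := by omega
    subst hn2
    omega
  have he₂3 : 3 ≤ e₂ := by omega
  have he₃3 : 3 ≤ e₃ := by omega
  by_cases h23 : e₂ = 3
  · subst h23
    rcases key n₂ n₃ e₃ h₂ h₃ he₃ hsum he₃3 with h | h | h
    · right; left; exact ⟨h.1, rfl, h.2⟩
    · right; right; left; exact ⟨h.1, Or.inl ⟨rfl, h.2⟩⟩
    · right; right; right; exact ⟨h.1, Or.inl ⟨rfl, h.2⟩⟩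
  by_cases h33 : e₃ = 3
  · subst h33
    rcases key n₃ n₂ e₂ h₃ h₂ he₂ (by omega) he₂3 with h | h | h
    · right; left; exact ⟨h.1, h.2, rfl⟩
    · right; right; left; exact ⟨h.1, Or.inr ⟨h.2, rfl⟩⟩
    · right; right; right; exact ⟨h.1, Or.inr ⟨h.2, rfl⟩⟩
  exfalso
  have h4 : 4 ≤ e₂ := by omega
  have h4' : 4 ≤ e₃ := by omega
  have := Nat.mul_le_mul_left n₂ h4
  have := Nat.mul_le_mul_left n₃ h4'
  omega

/-- The arithmetic of three orbits. -/
theorem three_orbit_arith (g n₁ n₂ n₃ e₁ e₂ e₃ : ℕ) (h₁ : n₁ * e₁ = g) (h₂ : n₂ * e₂ = g)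
    (h₃ : n₃ * e₃ = g) (he₁ : 2 ≤ e₁) (he₂ : 2 ≤ e₂) (he₃ : 2 ≤ e₃)
    (hsum : n₁ + n₂ + n₃ = g + 2) :
    (2 * e₁ = g ∨ 2 * e₂ = g ∨ 2 * e₃ = g) ∨
    (g = 12 ∧ e₁ ≤ 3 ∧ e₂ ≤ 3 ∧ e₃ ≤ 3 ∧ (e₁ = 3 ∨ e₂ = 3 ∨ e₃ = 3)) ∨
    (g = 24 ∧ e₁ ≤ 4 ∧ e₂ ≤ 4 ∧ e₃ ≤ 4 ∧ (e₁ = 4 ∨ e₂ = 4 ∨ e₃ = 4)) ∨
    (g = 60 ∧ e₁ ≤ 5 ∧ e₂ ≤ 5 ∧ e₃ ≤ 5 ∧ (e₁ = 5 ∨ e₂ = 5 ∨ e₃ = 5)) := by
  by_cases c1 : e₁ = 2
  · subst c1
    rcases two_orbit_arith g n₂ n₃ e₂ e₃ h₂ h₃ he₂ he₃ (by omega) with h | h | h | h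
    · left; right; exact h
    · right; left; obtain ⟨a, b, c⟩ := h; subst b; subst c; simp [a]
    · right; right; left
      obtain ⟨a, ⟨b, c⟩ | ⟨b, c⟩⟩ := h <;> subst b <;> subst c <;> simp [a]
    · right; right; right
      obtain ⟨a, ⟨b, c⟩ | ⟨b, c⟩⟩ := h <;> subst b <;> subst c <;> simp [a]
  by_cases c2 : e₂ = 2
  · subst c2
    rcases two_orbit_arith g n₁ n₃ e₁ e₃ h₁ h₃ he₁ he₃ (by omega) with h | h | h | h
    · left; rcases h with h | h
      · left; exact h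
      · right; right; exact h
    · right; left; obtain ⟨a, b, c⟩ := h; subst b; subst c; simp [a]
    · right; right; left
      obtain ⟨a, ⟨b, c⟩ | ⟨b, c⟩⟩ := h <;> subst b <;> subst c <;> simp [a]
    · right; right; right
      obtain ⟨a, ⟨b, c⟩ | ⟨b, c⟩⟩ := h <;> subst b <;> subst c <;> simp [a]
  by_cases c3 : e₃ = 2
  · subst c3
    rcases two_orbit_arith g n₁ n₂ e₁ e₂ h₁ h₂ he₁ he₂ (by omega) with h | h | h | h
    · left; rcases h with h | h
      · left; exact h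
      · right; left; exact h
    · right; left; obtain ⟨a, b, c⟩ := h; subst b; subst c; simp [a]
    · right; right; left
      obtain ⟨a, ⟨b, c⟩ | ⟨b, c⟩⟩ := h <;> subst b <;> subst c <;> simp [a]
    · right; right; right
      obtain ⟨a, ⟨b, c⟩ | ⟨b, c⟩⟩ := h <;> subst b <;> subst c <;> simp [a]
  exfalso
  have a1 : 3 ≤ e₁ := by omega
  have a2 : 3 ≤ e₂ := by omega
  have a3 : 3 ≤ e₃ := by omega
  have := Nat.mul_le_mul_left n₁ a1
  have := Nat.mul_le_mul_left n₂ a2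
  have := Nat.mul_le_mul_left n₃ a3
  omega

variable {G : Type*} [Group G] [Fintype G] {Y : Type*} [Fintype Y] [MulAction G Y]

/-- Peel off the orbit of a point with a large stabilizer. -/
theorem peel (z : ℕ) (S : Finset Y) (hS : ∀ y ∈ S, orbitFinset G y ⊆ S)
    (hpos : 0 < ∑ y ∈ Finset.univ \ S, (stabCard G y - z)) :
    ∃ y₁ : Y, y₁ ∉ S ∧ z < stabCard G y₁ ∧
      (∀ y ∈ S ∪ orbitFinset G y₁, orbitFinset G y ⊆ S ∪ orbitFinset G y₁) ∧
      ∑ y ∈ Finset.univ \ (S ∪ orbitFinset G y₁), (stabCard G y - z) +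
        (orbitFinset G y₁).card * (stabCard G y₁ - z) =
        ∑ y ∈ Finset.univ \ S, (stabCard G y - z) ∧
      (∀ y ∈ orbitFinset G y₁, stabCard G y = stabCard G y₁) := by
  obtain ⟨y₁, hy₁R, hy₁e⟩ : ∃ y₁ ∈ Finset.univ \ S, 0 < stabCard G y₁ - z := by
    by_contra hcon
    push Not at hcon
    have : ∑ y ∈ Finset.univ \ S, (stabCard G y - z) = 0 :=
      Finset.sum_eq_zero (fun y hy => Nat.le_zero.mp (hcon y hy))
    omega
  have hy₁S : y₁ ∉ S := (Finset.mem_sdiff.mp hy₁R).2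
  have hconst : ∀ y ∈ orbitFinset G y₁, stabCard G y = stabCard G y₁ := by
    intro y hy
    rw [mem_orbitFinset] at hy
    obtain ⟨g, rfl⟩ := hy
    exact stabCard_smul g y₁
  have hsub : orbitFinset G y₁ ⊆ Finset.univ \ S := by
    intro y hy
    rw [Finset.mem_sdiff]
    exact ⟨Finset.mem_univ _, fun hyS => Finset.disjoint_left.mp
      (orbitFinset_subset_sdiff hS hy₁S) hy hyS⟩
  refine ⟨y₁, hy₁S, by omega, ?_, ?_, hconst⟩
  · intro y hy
    rcases Finset.mem_union.mp hy with h | h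
    · exact (hS y h).trans Finset.subset_union_left
    · exact (orbitFinset_subset_self y₁ y h).trans Finset.subset_union_right
  · have h1 : ∑ y ∈ (Finset.univ \ S) \ orbitFinset G y₁, (stabCard G y - z) +
        ∑ y ∈ orbitFinset G y₁, (stabCard G y - z) =
        ∑ y ∈ Finset.univ \ S, (stabCard G y - z) := Finset.sum_sdiff hsub
    have h2 : ∑ y ∈ orbitFinset G y₁, (stabCard G y - z) =
        (orbitFinset G y₁).card * (stabCard G y₁ - z) := by
      rw [← smul_eq_mul, ← Finset.sum_const]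
      apply Finset.sum_congr rfl
      intro y hy
      rw [hconst y hy]
    have h3 : (Finset.univ \ S) \ orbitFinset G y₁ = Finset.univ \ (S ∪ orbitFinset G y₁) := by
      ext y; simp [not_or]
    rw [← h3, ← h2]
    exact h1

/-- The counting lemma when every element outside `Z` fixes exactly two points. -/
theorem tame_core (Z : Subgroup G) (z : ℕ) (hz : Nat.card Z = z)
    (hZfix : ∀ g ∈ Z, ∀ y : Y, g • y = y)
    (h2fix : ∀ g : G, g ∉ Z → fixCard Y g = 2) :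
    Fintype.card G = z ∨ (∃ y : Y, stabCard G y = Fintype.card G) ∨
    (∃ y : Y, 2 * stabCard G y = Fintype.card G) ∨
    (Fintype.card G = 12 * z ∧ (∀ y : Y, stabCard G y ≤ 3 * z) ∧ ∃ y : Y, stabCard G y = 3 * z) ∨
    (Fintype.card G = 24 * z ∧ (∀ y : Y, stabCard G y ≤ 4 * z) ∧ ∃ y : Y, stabCard G y = 4 * z) ∨
    (Fintype.card G = 60 * z ∧ (∀ y : Y, stabCard G y ≤ 5 * z) ∧
      ∃ y : Y, stabCard G y = 5 * z) := by
  have hzpos : 0 < z := by rw [← hz]; exact Nat.card_pos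
  have hdvd : ∀ y : Y, z ∣ stabCard G y := by
    intro y
    rw [stabCard_eq_card, ← hz]
    exact Subgroup.card_dvd_of_le (fun g hg => hZfix g hg y)
  have hpos : ∀ y : Y, 0 < stabCard G y := by
    intro y; rw [stabCard_eq_card]; exact Nat.card_pos
  have hle : ∀ y : Y, z ≤ stabCard G y := fun y => Nat.le_of_dvd (hpos y) (hdvd y)
  obtain ⟨h, hh⟩ : ∃ h, h = Fintype.card G := ⟨_, rfl⟩
  rw [← hh]
  obtain ⟨g, hg⟩ : z ∣ h := by
    rw [hh, ← hz, ← Nat.card_eq_fintype_card]; exact Subgroup.card_subgroup_dvd_card Z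
  have hhpos : 0 < h := by rw [hh]; exact Fintype.card_pos
  -- the double count
  have hstar : ∑ y : Y, stabCard G y + 2 * z = z * Fintype.card Y + 2 * h := by
    rw [sum_stabCard_eq_sum_fixCard]
    obtain ⟨Zf, hZf⟩ : ∃ Zf : Finset G, Zf = Finset.univ.filter (fun g : G => g ∈ Z) := ⟨_, rfl⟩
    have hmemZf : ∀ g : G, g ∈ Zf ↔ g ∈ Z := by intro g; rw [hZf]; simp
    have hZfcard : Zf.card = z := by
      rw [← hz, Nat.card_eq_fintype_card, Fintype.card_subtype, hZf]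
    have hsplit : ∑ g : G, fixCard Y g = ∑ g ∈ Zf, fixCard Y g +
        ∑ g ∈ (Finset.univ \ Zf), fixCard Y g := by
      rw [add_comm, Finset.sum_sdiff (Finset.subset_univ _)]
    have h1 : ∑ g ∈ Zf, fixCard Y g = z * Fintype.card Y := by
      rw [← hZfcard, ← smul_eq_mul, ← Finset.sum_const]
      apply Finset.sum_congr rfl
      intro g hg
      rw [fixCard, Finset.filter_true_of_mem (fun y _ => hZfix g ((hmemZf g).mp hg) y),
        Finset.card_univ]
    have h3 : ∑ g ∈ (Finset.univ \ Zf), fixCard Y g = 2 * (Finset.univ \ Zf).card := by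
      rw [mul_comm, ← smul_eq_mul, ← Finset.sum_const]
      apply Finset.sum_congr rfl
      intro g hg
      simp only [Finset.mem_sdiff, Finset.mem_univ, true_and] at hg
      exact h2fix g (fun hgZ => hg ((hmemZf g).mpr hgZ))
    have h4 : (Finset.univ \ Zf).card + z = h := by
      rw [← hZfcard, Finset.card_sdiff_add_card_eq_card (Finset.subset_univ _), Finset.card_univ,
        hh]
    rw [hsplit, h1, h3]
    omega
  have hE : ∑ y : Y, (stabCard G y - z) + z * Fintype.card Y = ∑ y : Y, stabCard G y := by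
    rw [← Finset.card_univ, mul_comm, ← smul_eq_mul, ← Finset.sum_const, ← Finset.sum_add_distrib]
    apply Finset.sum_congr rfl
    intro y _
    have := hle y
    omega
  have hT : ∑ y ∈ Finset.univ \ (∅ : Finset Y), (stabCard G y - z) + 2 * z = 2 * h := by
    rw [Finset.sdiff_empty]; omega
  by_cases hhz : h = z
  · left; exact hhz
  right
  have hg2 : 2 ≤ g := by
    rcases Nat.lt_or_ge g 2 with hlt | hge
    · exfalso
      have : g = 0 ∨ g = 1 := by omega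
      rcases this with h0 | h1
      · rw [h0, mul_zero] at hg; omega
      · rw [h1, mul_one] at hg; exact hhz hg
    · exact hge
  have hh2z : 2 * z ≤ h := by rw [hg]; nlinarith
  -- generic facts about a peeled orbit
  have orbfacts : ∀ y : Y, z < stabCard G y → ∃ n e : ℕ, 2 ≤ e ∧ stabCard G y = z * e ∧
      n * e = g ∧ 1 ≤ n ∧ (orbitFinset G y).card = n ∧
      (orbitFinset G y).card * (stabCard G y - z) + z * n = h ∧ 2 * (z * n) ≤ h := by
    intro y hy
    obtain ⟨e, he⟩ := hdvd y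
    have he2 : 2 ≤ e := by
      by_contra hcon
      have : e = 0 ∨ e = 1 := by omega
      rcases this with h0 | h1
      · rw [h0, mul_zero] at he; omega
      · rw [h1, mul_one] at he; omega
    have hcard := card_orbitFinset_mul (G := G) y
    rw [← hh, he, hg] at hcard
    have hne : (orbitFinset G y).card * e = g := by
      have : z * ((orbitFinset G y).card * e) = z * g := by rw [← hcard]; ring
      exact Nat.eq_of_mul_eq_mul_left hzpos this
    have hn1 : 1 ≤ (orbitFinset G y).card := by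
      rcases Nat.eq_zero_or_pos (orbitFinset G y).card with h0 | h0
      · rw [h0, zero_mul] at hne; omega
      · exact h0
    refine ⟨(orbitFinset G y).card, e, he2, he, hne, hn1, rfl, ?_, ?_⟩
    · rw [he, hg, ← hne]
      have : z * e - z = z * (e - 1) := by rw [Nat.mul_sub, mul_one]
      rw [this]
      obtain ⟨e', rfl⟩ : ∃ e', e = e' + 1 := ⟨e - 1, by omega⟩
      simp only [Nat.add_sub_cancel]
      ring
    · rw [hg, ← hne]
      have := Nat.mul_le_mul_left (z * (orbitFinset G y).card) he2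
      calc 2 * (z * (orbitFinset G y).card) = z * (orbitFinset G y).card * 2 := by ring
        _ ≤ z * (orbitFinset G y).card * e := this
        _ = z * ((orbitFinset G y).card * e) := by ring
  -- first orbit
  obtain ⟨y₁, -, hy₁, hS₁, hsum₁, hconst₁⟩ := peel (G := G) z (∅ : Finset Y)
    (by intro y hy; simp at hy) (by omega)
  obtain ⟨n₁, e₁, he₁, hst₁, hne₁, hn₁, hcard₁, hc₁, hhalf₁⟩ := orbfacts y₁ hy₁
  by_cases hn₁1 : n₁ = 1
  · left
    refine ⟨y₁, ?_⟩
    rw [hst₁, hg, ← hne₁, hn₁1, one_mul]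
  right
  have hn₁2 : 2 ≤ n₁ := by omega
  have hzn₁ : 2 * z ≤ z * n₁ := by rw [mul_comm 2 z]; exact Nat.mul_le_mul_left z hn₁2
  -- second orbit
  obtain ⟨y₂, hy₂S, hy₂, hS₂, hsum₂, hconst₂⟩ := peel (G := G) z _ hS₁ (by omega)
  obtain ⟨n₂, e₂, he₂, hst₂, hne₂, hn₂, hcard₂, hc₂, hhalf₂⟩ := orbfacts y₂ hy₂
  have hzn₂ : z ≤ z * n₂ := Nat.le_mul_of_pos_right z hn₂
  -- third orbit
  obtain ⟨y₃, hy₃S, hy₃, hS₃, hsum₃, hconst₃⟩ := peel (G := G) z _ hS₂ (by omega)
  obtain ⟨n₃, e₃, he₃, hst₃, hne₃, hn₃, hcard₃, hc₃, hhalf₃⟩ := orbfacts y₃ hy₃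
  -- no fourth orbit
  have hrest : ∑ y ∈ Finset.univ \ (((∅ : Finset Y) ∪ orbitFinset G y₁) ∪ orbitFinset G y₂ ∪
      orbitFinset G y₃), (stabCard G y - z) = 0 := by
    by_contra hcon
    obtain ⟨y₄, hy₄S, hy₄, hS₄, hsum₄, hconst₄⟩ := peel (G := G) z _ hS₃ (by omega)
    obtain ⟨n₄, e₄, he₄, hst₄, hne₄, hn₄, hcard₄, hc₄, hhalf₄⟩ := orbfacts y₄ hy₄
    omega
  have hall : ∀ y : Y, y ∈ orbitFinset G y₁ ∨ y ∈ orbitFinset G y₂ ∨ y ∈ orbitFinset G y₃ ∨
      stabCard G y = z := by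
    intro y
    by_cases hy : y ∈ ((∅ : Finset Y) ∪ orbitFinset G y₁) ∪ orbitFinset G y₂ ∪ orbitFinset G y₃
    · simp only [Finset.mem_union, Finset.notMem_empty, false_or] at hy
      tauto
    · right; right; right
      have h0 := (Finset.sum_eq_zero_iff.mp hrest) y (Finset.mem_sdiff.mpr ⟨Finset.mem_univ _, hy⟩)
      have := hle y
      omega
  have hsumn : n₁ + n₂ + n₃ = g + 2 := by
    have : z * (n₁ + n₂ + n₃) = z * (g + 2) := by
      rw [mul_add, mul_add, mul_add, ← hg]; omega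
    exact Nat.eq_of_mul_eq_mul_left hzpos this
  have hbound : ∀ E : ℕ, 1 ≤ E → e₁ ≤ E → e₂ ≤ E → e₃ ≤ E → ∀ y : Y, stabCard G y ≤ E * z := by
    intro E hE1 h1 h2 h3 y
    rcases hall y with h | h | h | h
    · rw [hconst₁ y h, hst₁, mul_comm]; exact Nat.mul_le_mul_right z h1
    · rw [hconst₂ y h, hst₂, mul_comm]; exact Nat.mul_le_mul_right z h2
    · rw [hconst₃ y h, hst₃, mul_comm]; exact Nat.mul_le_mul_right z h3
    · rw [h]; exact Nat.le_mul_of_pos_left z hE1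
  have hex : ∀ E : ℕ, (e₁ = E ∨ e₂ = E ∨ e₃ = E) → ∃ y : Y, stabCard G y = E * z := by
    rintro E (h | h | h)
    · exact ⟨y₁, by rw [hst₁, h, mul_comm]⟩
    · exact ⟨y₂, by rw [hst₂, h, mul_comm]⟩
    · exact ⟨y₃, by rw [hst₃, h, mul_comm]⟩
  rcases three_orbit_arith g n₁ n₂ n₃ e₁ e₂ e₃ hne₁ hne₂ hne₃ he₁ he₂ he₃ hsumn with
    h | ⟨hg', a, b, c, d⟩ | ⟨hg', a, b, c, d⟩ | ⟨hg', a, b, c, d⟩
  · left
    rcases h with h | h | h
    · exact ⟨y₁, by rw [hst₁, hg, ← h]; ring⟩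
    · exact ⟨y₂, by rw [hst₂, hg, ← h]; ring⟩
    · exact ⟨y₃, by rw [hst₃, hg, ← h]; ring⟩
  · right; left
    exact ⟨by rw [hg, hg', mul_comm], hbound 3 (by norm_num) a b c, hex 3 d⟩
  · right; right; left
    exact ⟨by rw [hg, hg', mul_comm], hbound 4 (by norm_num) a b c, hex 4 d⟩
  · right; right; right
    exact ⟨by rw [hg, hg', mul_comm], hbound 5 (by norm_num) a b c, hex 5 d⟩

end Tame

end Cfsg.Agent.Lib.helper98
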