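import Mathlib

/-!
# The imprimitive wreath product `S_a ≀ S_b` inside a symmetric group

`wr f` is the group of permutations of `Ω` preserving the partition of `Ω` into the fibres of
`f : Ω → ι`.  Main result: `isCoatom_wr` — if `f : Ω → Fin b` has all fibres of the same size
`a ≥ 2` and `b ≥ 2`, then `wr f` is a maximal subgroup of `Equiv.Perm Ω`.
-/

set_option autoImplicit false

namespace Cfsg.Agent.Lib.helper98

open Equiv MulAction
open scoped Pointwise

section Basic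

variable {Ω : Type*} {ι : Type*}

/-- Permutations preserving the partition of `Ω` into the fibres of `f`. -/
def wr (f : Ω → ι) : Subgroup (Perm Ω) where
  carrier := {g | ∀ x y : Ω, f x = f y ↔ f (g x) = f (g y)}
  one_mem' := fun _ _ => Iff.rfl
  mul_mem' := fun {g h} hg hh x y => (hh x y).trans (hg (h x) (h y))
  inv_mem' := fun {g} hg x y => by
    have h := hg (g⁻¹ x) (g⁻¹ y)
    simpa using h.symm

theorem mem_wr {f : Ω → ι} {g : Perm Ω} :
    g ∈ wr f ↔ ∀ x y : Ω, f x = f y ↔ f (g x) = f (g y) := Iff.rfl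

theorem closure_wr (f : Ω → ι) :
    Subgroup.closure {g : Perm Ω | ∀ x y : Ω, f x = f y ↔ f (g x) = f (g y)} = wr f :=
  Subgroup.closure_eq (wr f)

theorem mem_wr_of_comp {f : Ω → ι} {g : Perm Ω} (τ : Perm ι) (h : ∀ x, f (g x) = τ (f x)) :
    g ∈ wr f := by
  intro x y
  rw [h x, h y]
  exact τ.injective.eq_iff.symm

theorem swap_mem_wr [DecidableEq Ω] {f : Ω → ι} {x y : Ω} (h : f x = f y) : swap x y ∈ wr f := by
  apply mem_wr_of_comp (1 : Perm ι)
  intro u
  by_cases hux : u = x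
  · subst hux; simp [h]
  · by_cases huy : u = y
    · subst huy; simp [h]
    · simp [swap_apply_of_ne_of_ne hux huy]

end Basic

section Fib

variable {Ω : Type*} [Fintype Ω] [DecidableEq Ω] {a b : ℕ}

/-- An identification of `Ω` with `Fin b × Fin a` under which `f` becomes the first projection. -/
noncomputable def fibEquiv (f : Ω → Fin b) (hf : ∀ i : Fin b, Nat.card {x : Ω // f x = i} = a) :
    Ω ≃ Fin b × Fin a :=
  (Equiv.sigmaFiberEquiv f).symm.trans
    ((Equiv.sigmaCongrRight fun i => Finite.equivFinOfCardEq (hf i)).trans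
      (Equiv.sigmaEquivProd _ _))

omit [DecidableEq Ω] in
theorem fibEquiv_fst (f : Ω → Fin b) (hf : ∀ i : Fin b, Nat.card {x : Ω // f x = i} = a) (x : Ω) :
    (fibEquiv f hf x).1 = f x := by
  simp [fibEquiv, Equiv.sigmaFiberEquiv]

/-- The permutation of `Ω` permuting the fibres of `f` according to `τ`. -/
noncomputable def liftPerm (f : Ω → Fin b) (hf : ∀ i : Fin b, Nat.card {x : Ω // f x = i} = a)
    (τ : Perm (Fin b)) : Perm Ω :=
  ((fibEquiv f hf).trans (Equiv.prodCongr τ (Equiv.refl (Fin a)))).trans (fibEquiv f hf).symm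

omit [DecidableEq Ω] in
theorem f_liftPerm (f : Ω → Fin b) (hf : ∀ i : Fin b, Nat.card {x : Ω // f x = i} = a)
    (τ : Perm (Fin b)) (x : Ω) : f (liftPerm f hf τ x) = τ (f x) := by
  rw [← fibEquiv_fst f hf, ← fibEquiv_fst f hf x]
  simp [liftPerm]

omit [DecidableEq Ω] in
theorem liftPerm_apply_of_fixed (f : Ω → Fin b)
    (hf : ∀ i : Fin b, Nat.card {x : Ω // f x = i} = a)
    (τ : Perm (Fin b)) (x : Ω) (h : τ (f x) = f x) : liftPerm f hf τ x = x := by
  have h1 : (Equiv.prodCongr τ (Equiv.refl (Fin a))) (fibEquiv f hf x) = fibEquiv f hf x := by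
    apply Prod.ext
    · simp [fibEquiv_fst, h]
    · simp
  simp [liftPerm, h1]

omit [DecidableEq Ω] in
theorem liftPerm_mem_wr (f : Ω → Fin b) (hf : ∀ i : Fin b, Nat.card {x : Ω // f x = i} = a)
    (τ : Perm (Fin b)) : liftPerm f hf τ ∈ wr f :=
  mem_wr_of_comp τ (f_liftPerm f hf τ)

omit [DecidableEq Ω] in
theorem f_liftPerm_symm (f : Ω → Fin b) (hf : ∀ i : Fin b, Nat.card {x : Ω // f x = i} = a)
    (τ : Perm (Fin b)) (x : Ω) : f ((liftPerm f hf τ)⁻¹ x) = τ⁻¹ (f x) := by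
  have h := f_liftPerm f hf τ ((liftPerm f hf τ)⁻¹ x)
  have h' : liftPerm f hf τ ((liftPerm f hf τ)⁻¹ x) = x := by simp
  rw [h'] at h
  rw [h]; simp

/-- `wr f` is transitive. -/
theorem exists_mem_wr_apply_eq (f : Ω → Fin b) (hf : ∀ i : Fin b, Nat.card {x : Ω // f x = i} = a)
    (x y : Ω) : ∃ g ∈ wr f, g x = y := by
  refine ⟨swap (liftPerm f hf (swap (f x) (f y)) x) y * liftPerm f hf (swap (f x) (f y)),
    (wr f).mul_mem (swap_mem_wr ?_) (liftPerm_mem_wr f hf _), ?_⟩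
  · rw [f_liftPerm f hf]; simp
  · simp

end Fib

section Blocks

variable {Ω : Type*} [Fintype Ω] [DecidableEq Ω] {a b : ℕ}

omit [Fintype Ω] [DecidableEq Ω] in
theorem apply_mem_of_fixed {L : Subgroup (Perm Ω)} {B : Set Ω} (hB : IsBlock L B) {g : Perm Ω}
    (hg : g ∈ L) {x : Ω} (hx : x ∈ B) (hgx : g x = x) {y : Ω} (hy : y ∈ B) : g y ∈ B := by
  rcases isBlock_iff_smul_eq_or_disjoint.mp hB ⟨g, hg⟩ with h | h
  · rw [← h]; exact ⟨y, hy, rfl⟩
  · exfalso
    exact Set.disjoint_left.mp h ⟨x, hx, hgx⟩ hx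

/-- A block of an overgroup of `wr f` containing two points of different fibres is everything. -/
theorem mem_block_of_ne (f : Ω → Fin b) (hf : ∀ i : Fin b, Nat.card {x : Ω // f x = i} = a)
    {L : Subgroup (Perm Ω)} (hWL : wr f ≤ L) {B : Set Ω} (hB : IsBlock L B)
    {x y u : Ω} (hx : x ∈ B) (hy : y ∈ B) (hxy : f x ≠ f y) (hu : f u ≠ f x) : u ∈ B := by
  by_cases huy : f u = f y
  · have hg : swap y u ∈ L := hWL (swap_mem_wr huy.symm)
    have h1 : swap y u x = x := swap_apply_of_ne_of_ne (fun h => hxy (h ▸ rfl))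
      (fun h => hu (h ▸ rfl))
    have h2 := apply_mem_of_fixed hB hg hx h1 hy
    rwa [swap_apply_left] at h2
  · set g₁ := liftPerm f hf (swap (f y) (f u)) with hg₁
    have hg₁L : g₁ ∈ L := hWL (liftPerm_mem_wr f hf _)
    have hg₁x : g₁ x = x := liftPerm_apply_of_fixed f hf _ x
      (swap_apply_of_ne_of_ne hxy (fun h => hu h.symm))
    have hfg₁y : f (g₁ y) = f u := by rw [hg₁, f_liftPerm f hf]; simp
    have hg₂L : swap (g₁ y) u ∈ L := hWL (swap_mem_wr hfg₁y)
    have hg₂x : swap (g₁ y) u x = x := swap_apply_of_ne_of_ne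
      (fun h => hu (by rw [← hfg₁y, ← h])) (fun h => hu (h ▸ rfl))
    have h1 : (swap (g₁ y) u * g₁) x = x := by rw [Perm.mul_apply, hg₁x, hg₂x]
    have h2 := apply_mem_of_fixed hB (L.mul_mem hg₂L hg₁L) hx h1 hy
    rwa [Perm.mul_apply, swap_apply_left] at h2

/-- Blocks of an overgroup of `wr f` are trivial or fibres of `f`. -/
theorem isTrivialBlock_or_fibre (f : Ω → Fin b) (hf : ∀ i : Fin b, Nat.card {x : Ω // f x = i} = a)
    {L : Subgroup (Perm Ω)} (hWL : wr f ≤ L) {B : Set Ω} (hB : IsBlock L B) :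
    IsTrivialBlock B ∨ ∃ i, B = f ⁻¹' {i} := by
  by_cases h1 : ∃ x ∈ B, ∃ y ∈ B, f x ≠ f y
  · obtain ⟨x, hx, y, hy, hxy⟩ := h1
    left; right
    apply Set.eq_univ_of_forall
    intro u
    by_cases hu : f u = f x
    · exact mem_block_of_ne f hf hWL hB hy hx (Ne.symm hxy) (hu ▸ hxy)
    · exact mem_block_of_ne f hf hWL hB hx hy hxy hu
  · push Not at h1
    by_cases h2 : B.Subsingleton
    · exact Or.inl (Or.inl h2)
    · right
      rw [Set.not_subsingleton_iff] at h2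
      obtain ⟨x, hx, x', hx', hne⟩ := h2
      refine ⟨f x, Set.Subset.antisymm (fun u hu => h1 u hu x hx) ?_⟩
      intro u hu
      have hu' : f u = f x := hu
      by_cases hux : u = x
      · exact hux ▸ hx
      · have hg : swap x' u ∈ L := hWL (swap_mem_wr ((h1 x' hx' x hx).trans hu'.symm))
        have h3 : swap x' u x = x := swap_apply_of_ne_of_ne hne (Ne.symm hux)
        have h4 := apply_mem_of_fixed hB hg hx h3 hx'
        rwa [swap_apply_left] at h4

/-- If a fibre of `f` is a block of an overgroup `L` of `wr f`, then `L = wr f`. -/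
theorem le_wr_of_isBlock_fibre (f : Ω → Fin b) (hf : ∀ i : Fin b, Nat.card {x : Ω // f x = i} = a)
    {L : Subgroup (Perm Ω)} (hWL : wr f ≤ L) (i : Fin b) (hB : IsBlock L (f ⁻¹' {i})) :
    L ≤ wr f := by
  have key : ∀ g ∈ L, ∀ x y : Ω, f x = f y → f (g x) = f (g y) := by
    intro g hg x y hxy
    set g₁ := liftPerm f hf (swap i (f x)) with hg₁
    set g₂ := liftPerm f hf (swap i (f (g x))) with hg₂
    have hg₁L : g₁ ∈ L := hWL (liftPerm_mem_wr f hf _)
    have hg₂L : g₂ ∈ L := hWL (liftPerm_mem_wr f hf _)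
    have hmem₁ : ∀ z : Ω, f z = f x → ∃ u ∈ f ⁻¹' {i}, (g * g₁) u = g z := by
      intro z hz
      refine ⟨g₁⁻¹ z, ?_, by simp⟩
      show f (g₁⁻¹ z) = i
      rw [hg₁, f_liftPerm_symm f hf, hz]; simp
    have hmem₂ : ∃ w ∈ f ⁻¹' {i}, g₂ w = g x := by
      refine ⟨g₂⁻¹ (g x), ?_, by simp⟩
      show f (g₂⁻¹ (g x)) = i
      rw [hg₂, f_liftPerm_symm f hf]; simp
    have heq : (⟨g * g₁, L.mul_mem hg hg₁L⟩ : L) • (f ⁻¹' {i}) = (⟨g₂, hg₂L⟩ : L) • (f ⁻¹' {i}) := by
      apply isBlock_iff_smul_eq_smul_of_nonempty.mp hB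
      refine ⟨g x, ?_, ?_⟩
      · obtain ⟨u, hu, hux⟩ := hmem₁ x rfl
        exact ⟨u, hu, hux⟩
      · obtain ⟨w, hw, hwx⟩ := hmem₂
        exact ⟨w, hw, hwx⟩
    obtain ⟨u, hu, huy⟩ := hmem₁ y hxy.symm
    have h1 : g y ∈ (⟨g₂, hg₂L⟩ : L) • (f ⁻¹' {i}) := by
      rw [← heq]; exact ⟨u, hu, huy⟩
    obtain ⟨w, hw, hwy⟩ := h1
    have hw' : f w = i := hw
    have hwy' : g₂ w = g y := hwy
    rw [← hwy', hg₂, f_liftPerm f hf, hw']; simp
  intro g hg x y
  refine ⟨key g hg x y, fun h => ?_⟩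
  have h2 := key g⁻¹ (L.inv_mem hg) (g x) (g y) h
  simpa using h2

/-- **The imprimitive wreath product is maximal**: if all fibres of `f : Ω → Fin b` have the same
size `a ≥ 2` and `b ≥ 2`, then the stabilizer `wr f` of the partition into fibres is a maximal
subgroup of the symmetric group. -/
theorem isCoatom_wr (ha : 2 ≤ a) (hb : 2 ≤ b) (f : Ω → Fin b)
    (hf : ∀ i : Fin b, Nat.card {x : Ω // f x = i} = a) : IsCoatom (wr f) := by
  -- two points in the same fibre, one in another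
  have h0 : Nat.card {x : Ω // f x = ⟨0, by omega⟩} = a := hf _
  have h1 : Nat.card {x : Ω // f x = ⟨1, by omega⟩} = a := hf _
  have hnt : Nontrivial {x : Ω // f x = ⟨0, by omega⟩} := by
    rw [← Finite.one_lt_card_iff_nontrivial, h0]; omega
  obtain ⟨⟨x, hx⟩, ⟨x', hx'⟩, hne⟩ := hnt
  have hne' : x ≠ x' := fun h => hne (Subtype.ext h)
  have hne1 : Nonempty {x : Ω // f x = ⟨1, by omega⟩} := by
    rw [← Finite.card_pos_iff, h1]; omega
  obtain ⟨⟨y, hy⟩⟩ := hne1
  have hxy : f x ≠ f y := by rw [hx, hy]; simp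
  have hx'y : f x' ≠ f y := by rw [hx', hy]; simp
  refine ⟨?_, fun L hL => ?_⟩
  · intro htop
    have hmem : swap x y ∈ wr f := htop ▸ Subgroup.mem_top _
    have h2 := (hmem x x').mp (hx.trans hx'.symm)
    rw [swap_apply_left, swap_apply_of_ne_of_ne (Ne.symm hne') (fun h => hx'y (h ▸ rfl))] at h2
    exact hx'y h2.symm
  · have hpre : IsPreprimitive L Ω := by
      have htrans : IsPretransitive L Ω := by
        refine ⟨fun u v => ?_⟩
        obtain ⟨g, hg, hguv⟩ := exists_mem_wr_apply_eq f hf u v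
        exact ⟨⟨g, hL.le hg⟩, hguv⟩
      refine ⟨fun {B} hB => ?_⟩
      rcases isTrivialBlock_or_fibre f hf hL.le hB with h | ⟨i, rfl⟩
      · exact h
      · exact absurd (le_wr_of_isBlock_fibre f hf hL.le i hB) (not_le_of_gt hL)
    exact Equiv.Perm.subgroup_eq_top_of_isPreprimitive_of_isSwap_mem hpre (swap x x')
      ⟨x, x', hne', rfl⟩ (hL.le (swap_mem_wr (hx.trans hx'.symm)))

end Blocks

end Cfsg.Agent.Lib.helper98
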