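import Cfsg.Agent.Lib.helper98.Wreath

/-!
# The alternating version: `(S_a ≀ S_b) ∩ A_n` is maximal in `A_n` (for `n = ab ≠ 8`)
-/

set_option autoImplicit false

namespace Cfsg.Agent.Lib.helper98

open Equiv Equiv.Perm MulAction
open scoped Pointwise

section Alt

variable {Ω : Type*} [Fintype Ω] [DecidableEq Ω] {a b : ℕ}

theorem exists_pair_in_fibre (ha : 2 ≤ a) (f : Ω → Fin b)
    (hf : ∀ i : Fin b, Nat.card {x : Ω // f x = i} = a) (i : Fin b) :
    ∃ p q : Ω, p ≠ q ∧ f p = i ∧ f q = i := by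
  have hnt : Nontrivial {x : Ω // f x = i} := by
    rw [← Finite.one_lt_card_iff_nontrivial, hf i]; omega
  obtain ⟨⟨p, hp⟩, ⟨q, hq⟩, hne⟩ := hnt
  exact ⟨p, q, fun h => hne (Subtype.ext h), hp, hq⟩

theorem exists_other_in_fibre (ha : 2 ≤ a) (f : Ω → Fin b)
    (hf : ∀ i : Fin b, Nat.card {x : Ω // f x = i} = a) (x : Ω) :
    ∃ x', x' ≠ x ∧ f x' = f x := by
  obtain ⟨p, q, hpq, hp, hq⟩ := exists_pair_in_fibre ha f hf (f x)
  by_cases h : p = x
  · exact ⟨q, fun hq' => hpq (h.trans hq'.symm), hq⟩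
  · exact ⟨p, h, hp⟩

theorem card_fibre (f : Ω → Fin b)
    (hf : ∀ i : Fin b, Nat.card {x : Ω // f x = i} = a) (i : Fin b) :
    (Finset.univ.filter (fun y : Ω => f y = i)).card = a := by
  rw [← hf i, Nat.card_eq_fintype_card, Fintype.card_subtype]

theorem exists_two_others_in_fibre (ha : 3 ≤ a) (f : Ω → Fin b)
    (hf : ∀ i : Fin b, Nat.card {x : Ω // f x = i} = a) (x : Ω) :
    ∃ p q : Ω, p ≠ q ∧ p ≠ x ∧ q ≠ x ∧ f p = f x ∧ f q = f x := by
  have h1 : 1 < ((Finset.univ.filter (fun y : Ω => f y = f x)).erase x).card := by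
    rw [Finset.card_erase_of_mem (by simp), card_fibre f hf]; omega
  obtain ⟨p, hp, q, hq, hpq⟩ := Finset.one_lt_card.mp h1
  simp only [Finset.mem_erase, Finset.mem_filter, Finset.mem_univ, true_and] at hp hq
  exact ⟨p, q, hpq, hp.1, hq.1, hp.2, hq.2⟩

theorem exists_fin_ne (hb : 2 ≤ b) (i : Fin b) : ∃ j : Fin b, j ≠ i := by
  by_cases h : i = ⟨0, by omega⟩
  · exact ⟨⟨1, by omega⟩, by rw [h]; simp⟩
  · exact ⟨⟨0, by omega⟩, fun h' => h h'.symm⟩

theorem f_swap_of_eq {f : Ω → Fin b} {p q : Ω} (h : f p = f q) (z : Ω) :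
    f (swap p q z) = f z := by
  by_cases hzp : z = p
  · rw [hzp, swap_apply_left, h]
  · by_cases hzq : z = q
    · rw [hzq, swap_apply_right, h]
    · rw [swap_apply_of_ne_of_ne hzp hzq]

theorem swap_mul_swap_mem (f : Ω → Fin b) {p q r s : Ω} (hpq : p ≠ q) (hrs : r ≠ s)
    (h1 : f p = f q) (h2 : f r = f s) :
    swap p q * swap r s ∈ wr f ⊓ alternatingGroup Ω := by
  refine Subgroup.mem_inf.mpr ⟨(wr f).mul_mem (swap_mem_wr h1) (swap_mem_wr h2), ?_⟩
  rw [mem_alternatingGroup, Perm.sign_mul, sign_swap hpq, sign_swap hrs]; rfl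

/-- Parity fix at one point. -/
theorem exists_even_apply_eq (ha : 2 ≤ a) (hb : 2 ≤ b) (f : Ω → Fin b)
    (hf : ∀ i : Fin b, Nat.card {x : Ω // f x = i} = a) {g : Perm Ω} (hg : g ∈ wr f) (x : Ω) :
    ∃ g' ∈ wr f ⊓ alternatingGroup Ω, g' x = g x := by
  rcases Int.units_eq_one_or (sign g) with h | h
  · exact ⟨g, Subgroup.mem_inf.mpr ⟨hg, h⟩, rfl⟩
  · obtain ⟨i, hi⟩ := exists_fin_ne hb (f x)
    obtain ⟨p, q, hpq, hp, hq⟩ := exists_pair_in_fibre ha f hf i
    refine ⟨g * swap p q, Subgroup.mem_inf.mpr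
      ⟨(wr f).mul_mem hg (swap_mem_wr (hp.trans hq.symm)), ?_⟩, ?_⟩
    · rw [mem_alternatingGroup, Perm.sign_mul, h, sign_swap hpq]; rfl
    · rw [Perm.mul_apply, swap_apply_of_ne_of_ne (fun h' => hi (by rw [h', hp]))
        (fun h' => hi (by rw [h', hq]))]

/-- A fibre swap avoiding two given points. -/
theorem exists_pair_avoiding (ha : 2 ≤ a) (hb : 2 ≤ b) (h3 : 3 ≤ a ∨ 3 ≤ b) (f : Ω → Fin b)
    (hf : ∀ i : Fin b, Nat.card {x : Ω // f x = i} = a) (x y : Ω) :
    ∃ p q : Ω, p ≠ q ∧ f p = f q ∧ p ≠ x ∧ q ≠ x ∧ p ≠ y ∧ q ≠ y := by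
  have key : ∀ i : Fin b, i ≠ f x → i ≠ f y →
      ∃ p q : Ω, p ≠ q ∧ f p = f q ∧ p ≠ x ∧ q ≠ x ∧ p ≠ y ∧ q ≠ y := by
    intro i hix hiy
    obtain ⟨p, q, hpq, hp, hq⟩ := exists_pair_in_fibre ha f hf i
    exact ⟨p, q, hpq, hp.trans hq.symm, fun h => hix (by rw [← hp, h]),
      fun h => hix (by rw [← hq, h]), fun h => hiy (by rw [← hp, h]),
      fun h => hiy (by rw [← hq, h])⟩
  rcases h3 with h3 | h3
  · by_cases hxy : f x = f y
    · obtain ⟨i, hi⟩ := exists_fin_ne hb (f x)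
      exact key i hi (hxy ▸ hi)
    · obtain ⟨p, q, hpq, hpx, hqx, hp, hq⟩ := exists_two_others_in_fibre h3 f hf x
      exact ⟨p, q, hpq, hp.trans hq.symm, hpx, hqx, fun h => hxy (by rw [← hp, h]),
        fun h => hxy (by rw [← hq, h])⟩
  · have hcard : ({f x, f y} : Finset (Fin b)).card < Fintype.card (Fin b) := by
      rw [Fintype.card_fin]
      exact lt_of_le_of_lt Finset.card_le_two (by omega)
    obtain ⟨i, hi⟩ : ∃ i, i ∉ ({f x, f y} : Finset (Fin b)) := by
      by_contra hcon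
      push Not at hcon
      have h1 : (Finset.univ : Finset (Fin b)) ⊆ {f x, f y} := fun z _ => hcon z
      have h2 := Finset.card_le_card h1
      rw [Finset.card_univ] at h2
      omega
    simp only [Finset.mem_insert, Finset.mem_singleton, not_or] at hi
    exact key i hi.1 hi.2

/-- `L` contains, for every element of `wr f` and any two points, an element agreeing with it
on these two points. -/
def Approx (f : Ω → Fin b) (L : Subgroup (Perm Ω)) : Prop :=
  ∀ g ∈ wr f, ∀ x y : Ω, ∃ g' ∈ L, g' x = g x ∧ g' y = g y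

theorem approx_of_le (ha : 2 ≤ a) (hb : 2 ≤ b) (h3 : 3 ≤ a ∨ 3 ≤ b) (f : Ω → Fin b)
    (hf : ∀ i : Fin b, Nat.card {x : Ω // f x = i} = a) {L : Subgroup (Perm Ω)}
    (hWL : wr f ⊓ alternatingGroup Ω ≤ L) : Approx f L := by
  intro g hg x y
  rcases Int.units_eq_one_or (sign g) with h | h
  · exact ⟨g, hWL (Subgroup.mem_inf.mpr ⟨hg, h⟩), rfl, rfl⟩
  · obtain ⟨p, q, hpq, hfpq, hpx, hqx, hpy, hqy⟩ := exists_pair_avoiding ha hb h3 f hf x y
    refine ⟨g * swap p q, hWL (Subgroup.mem_inf.mpr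
      ⟨(wr f).mul_mem hg (swap_mem_wr hfpq), ?_⟩), ?_, ?_⟩
    · rw [mem_alternatingGroup, Perm.sign_mul, h, sign_swap hpq]; rfl
    · rw [Perm.mul_apply, swap_apply_of_ne_of_ne (Ne.symm hpx) (Ne.symm hqx)]
    · rw [Perm.mul_apply, swap_apply_of_ne_of_ne (Ne.symm hpy) (Ne.symm hqy)]

theorem Approx.isPretransitive (f : Ω → Fin b)
    (hf : ∀ i : Fin b, Nat.card {x : Ω // f x = i} = a) {L : Subgroup (Perm Ω)}
    (hL : Approx f L) : IsPretransitive L Ω := by
  refine ⟨fun u v => ?_⟩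
  obtain ⟨g, hg, hguv⟩ := exists_mem_wr_apply_eq f hf u v
  obtain ⟨g', hg', h1, -⟩ := hL g hg u u
  exact ⟨⟨g', hg'⟩, h1.trans hguv⟩

theorem Approx.mem_block_of_ne (f : Ω → Fin b)
    (hf : ∀ i : Fin b, Nat.card {x : Ω // f x = i} = a)
    {L : Subgroup (Perm Ω)} (hL : Approx f L) {B : Set Ω} (hB : IsBlock L B)
    {x y u : Ω} (hx : x ∈ B) (hy : y ∈ B) (hxy : f x ≠ f y) (hu : f u ≠ f x) : u ∈ B := by
  by_cases huy : f u = f y
  · obtain ⟨g', hg', h1, h2⟩ := hL (swap y u) (swap_mem_wr huy.symm) x y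
    have h3 : swap y u x = x := swap_apply_of_ne_of_ne (fun h => hxy (h ▸ rfl))
      (fun h => hu (h ▸ rfl))
    have h4 := apply_mem_of_fixed hB hg' hx (h1.trans h3) hy
    rwa [h2, swap_apply_left] at h4
  · set g₁ := liftPerm f hf (swap (f y) (f u)) with hg₁
    have hg₁W : g₁ ∈ wr f := liftPerm_mem_wr f hf _
    have hg₁x : g₁ x = x := liftPerm_apply_of_fixed f hf _ x
      (swap_apply_of_ne_of_ne hxy (fun h => hu h.symm))
    have hfg₁y : f (g₁ y) = f u := by rw [hg₁, f_liftPerm f hf]; simp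
    have hg₂W : swap (g₁ y) u ∈ wr f := swap_mem_wr hfg₁y
    have hg₂x : swap (g₁ y) u x = x := swap_apply_of_ne_of_ne
      (fun h => hu (by rw [← hfg₁y, ← h])) (fun h => hu (h ▸ rfl))
    obtain ⟨g', hg', h1, h2⟩ := hL (swap (g₁ y) u * g₁) ((wr f).mul_mem hg₂W hg₁W) x y
    have h3 : (swap (g₁ y) u * g₁) x = x := by rw [Perm.mul_apply, hg₁x, hg₂x]
    have h4 := apply_mem_of_fixed hB hg' hx (h1.trans h3) hy
    rwa [h2, Perm.mul_apply, swap_apply_left] at h4

theorem Approx.isTrivialBlock_or_fibre (f : Ω → Fin b)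
    (hf : ∀ i : Fin b, Nat.card {x : Ω // f x = i} = a)
    {L : Subgroup (Perm Ω)} (hL : Approx f L) {B : Set Ω} (hB : IsBlock L B) :
    IsTrivialBlock B ∨ ∃ i, B = f ⁻¹' {i} := by
  by_cases h1 : ∃ x ∈ B, ∃ y ∈ B, f x ≠ f y
  · obtain ⟨x, hx, y, hy, hxy⟩ := h1
    left; right
    apply Set.eq_univ_of_forall
    intro u
    by_cases hu : f u = f x
    · exact hL.mem_block_of_ne f hf hB hy hx (Ne.symm hxy) (hu ▸ hxy)
    · exact hL.mem_block_of_ne f hf hB hx hy hxy hu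
  · push Not at h1
    by_cases h2 : B.Subsingleton
    · exact Or.inl (Or.inl h2)
    · right
      rw [Set.not_subsingleton_iff] at h2
      obtain ⟨x, hx, x', hx', hne⟩ := h2
      refine ⟨f x, Set.Subset.antisymm (fun u hu => h1 u hu x hx) ?_⟩
      intro u hu
      have hu' : f u = f x := hu
      by_cases hux : u = x
      · exact hux ▸ hx
      · obtain ⟨g', hg', h3, h4⟩ := hL (swap x' u)
          (swap_mem_wr ((h1 x' hx' x hx).trans hu'.symm)) x x'
        have h5 : swap x' u x = x := swap_apply_of_ne_of_ne hne (Ne.symm hux)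
        have h6 := apply_mem_of_fixed hB hg' hx (h3.trans h5) hx'
        rwa [h4, swap_apply_left] at h6

/-- Even lifts of permutations of the fibres. -/
theorem exists_evenLift (ha : 2 ≤ a) (hb : 2 ≤ b) (f : Ω → Fin b)
    (hf : ∀ i : Fin b, Nat.card {x : Ω // f x = i} = a) (τ : Perm (Fin b)) :
    ∃ h ∈ wr f ⊓ alternatingGroup Ω, ∀ z, f (h z) = τ (f z) := by
  rcases Int.units_eq_one_or (sign (liftPerm f hf τ)) with h | h
  · exact ⟨liftPerm f hf τ, Subgroup.mem_inf.mpr ⟨liftPerm_mem_wr f hf τ, h⟩,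
      fun z => f_liftPerm f hf τ z⟩
  · obtain ⟨p, q, hpq, hp, hq⟩ := exists_pair_in_fibre ha f hf ⟨0, by omega⟩
    refine ⟨liftPerm f hf τ * swap p q, Subgroup.mem_inf.mpr
      ⟨(wr f).mul_mem (liftPerm_mem_wr f hf τ) (swap_mem_wr (hp.trans hq.symm)), ?_⟩, ?_⟩
    · rw [mem_alternatingGroup, Perm.sign_mul, h, sign_swap hpq]; rfl
    · intro z
      rw [Perm.mul_apply, f_liftPerm f hf, f_swap_of_eq (hp.trans hq.symm)]

/-- If a fibre of `f` is a block of an overgroup `L` of `wr f ⊓ A`, then `L ≤ wr f`. -/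
theorem le_wr_of_isBlock_fibre_alt (ha : 2 ≤ a) (hb : 2 ≤ b) (f : Ω → Fin b)
    (hf : ∀ i : Fin b, Nat.card {x : Ω // f x = i} = a)
    {L : Subgroup (Perm Ω)} (hWL : wr f ⊓ alternatingGroup Ω ≤ L) (i : Fin b)
    (hB : IsBlock L (f ⁻¹' {i})) : L ≤ wr f := by
  have key : ∀ g ∈ L, ∀ x y : Ω, f x = f y → f (g x) = f (g y) := by
    intro g hg x y hxy
    obtain ⟨g₁, hg₁, hfg₁⟩ := exists_evenLift ha hb f hf (swap i (f x))
    obtain ⟨g₂, hg₂, hfg₂⟩ := exists_evenLift ha hb f hf (swap i (f (g x)))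
    have hg₁L : g₁ ∈ L := hWL hg₁
    have hg₂L : g₂ ∈ L := hWL hg₂
    have hinv₁ : ∀ z, f (g₁⁻¹ z) = swap i (f x) (f z) := by
      intro z
      have h := hfg₁ (g₁⁻¹ z)
      have e1 : g₁ (g₁⁻¹ z) = z := by simp
      rw [e1] at h
      rw [h, swap_apply_self]
    have hinv₂ : ∀ z, f (g₂⁻¹ z) = swap i (f (g x)) (f z) := by
      intro z
      have h := hfg₂ (g₂⁻¹ z)
      have e1 : g₂ (g₂⁻¹ z) = z := by simp
      rw [e1] at h
      rw [h, swap_apply_self]
    have hmem₁ : ∀ z : Ω, f z = f x → ∃ u ∈ f ⁻¹' {i}, (g * g₁) u = g z := by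
      intro z hz
      refine ⟨g₁⁻¹ z, ?_, by simp⟩
      show f (g₁⁻¹ z) = i
      rw [hinv₁, hz]; simp
    have hmem₂ : ∃ w ∈ f ⁻¹' {i}, g₂ w = g x := by
      refine ⟨g₂⁻¹ (g x), ?_, by simp⟩
      show f (g₂⁻¹ (g x)) = i
      rw [hinv₂]; simp
    have heq : (⟨g * g₁, L.mul_mem hg hg₁L⟩ : L) • (f ⁻¹' {i}) =
        (⟨g₂, hg₂L⟩ : L) • (f ⁻¹' {i}) := by
      apply isBlock_iff_smul_eq_smul_of_nonempty.mp hB
      refine ⟨g x, ?_, ?_⟩
      · obtain ⟨u, hu, hux⟩ := hmem₁ x rfl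
        exact ⟨u, hu, hux⟩
      · obtain ⟨w, hw, hwx⟩ := hmem₂
        exact ⟨w, hw, hwx⟩
    obtain ⟨u, hu, huy⟩ := hmem₁ y hxy.symm
    have h1 : g y ∈ (⟨g₂, hg₂L⟩ : L) • (f ⁻¹' {i}) := by
      rw [← heq]; exact ⟨u, hu, huy⟩
    obtain ⟨w, hw, hwy⟩ := h1
    have hw' : f w = i := hw
    have hwy' : g₂ w = g y := hwy
    rw [← hwy', hfg₂, hw']; simp
  intro g hg x y
  refine ⟨key g hg x y, fun h => ?_⟩
  have h2 := key g⁻¹ (L.inv_mem hg) (g x) (g y) h
  simpa using h2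

/-- An overgroup of `wr f ⊓ A` not contained in `wr f` is primitive. -/
theorem isPreprimitive_of_not_le (ha : 2 ≤ a) (hb : 2 ≤ b) (h3 : 3 ≤ a ∨ 3 ≤ b) (f : Ω → Fin b)
    (hf : ∀ i : Fin b, Nat.card {x : Ω // f x = i} = a)
    {L : Subgroup (Perm Ω)} (hWL : wr f ⊓ alternatingGroup Ω ≤ L) (hL : ¬ L ≤ wr f) :
    IsPreprimitive L Ω := by
  have hA := approx_of_le ha hb h3 f hf hWL
  have htrans : IsPretransitive L Ω := hA.isPretransitive f hf
  refine ⟨fun {B} hB => ?_⟩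
  rcases hA.isTrivialBlock_or_fibre f hf hB with h | ⟨i, rfl⟩
  · exact h
  · exact absurd (le_wr_of_isBlock_fibre_alt ha hb f hf hWL i hB) hL

/-! ### Producing a 3-cycle -/

theorem swap_comm_swap {p p' u v : Ω} (h : [p, p', u, v].Nodup) :
    swap p p' * swap u v = swap u v * swap p p' :=
  (disjoint_swap_swap h).commute.eq

theorem conj_swap_mul_swap (g : Perm Ω) (x x' y y' : Ω) :
    g * (swap x x' * swap y y') * g⁻¹ = swap (g x) (g x') * swap (g y) (g y') := by
  rw [swap_apply_apply, swap_apply_apply]; group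

theorem swap_mul_swap_apply_of_ne {p q r s w : Ω} (h1 : w ≠ p) (h2 : w ≠ q) (h3 : w ≠ r)
    (h4 : w ≠ s) : (swap p q * swap r s) w = w := by
  rw [Perm.mul_apply, swap_apply_of_ne_of_ne h3 h4, swap_apply_of_ne_of_ne h1 h2]

/-- `(u v)(p p') · (c d)(p p') = (u v)(c d)` when `(p p')` and `(c d)` are disjoint. -/
theorem swap_mul_cancel_right {u v c d p p' : Ω} (h : [p, p', c, d].Nodup) :
    swap u v * swap p p' * (swap c d * swap p p') = swap u v * swap c d := by
  rw [← swap_comm_swap h, mul_assoc, ← mul_assoc (swap p p'), swap_mul_self, one_mul]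

/-- `(u v)(c d) · (u v)(e k) = (c d)(e k)` when `(u v)` and `(c d)` are disjoint. -/
theorem swap_mul_cancel_left {u v c d e k : Ω} (h : [c, d, u, v].Nodup) :
    swap u v * swap c d * (swap u v * swap e k) = swap c d * swap e k := by
  rw [← swap_comm_swap h, mul_assoc, ← mul_assoc (swap u v), swap_mul_self, one_mul]

theorem exists_split {f : Ω → Fin b} {L : Subgroup (Perm Ω)} (hL : ¬ L ≤ wr f) :
    ∃ g ∈ L, ∃ x x' : Ω, f x = f x' ∧ f (g x) ≠ f (g x') := by
  obtain ⟨g, hg, hgW⟩ := SetLike.not_le_iff_exists.mp hL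
  simp only [mem_wr, not_forall] at hgW
  obtain ⟨x, y, hxy⟩ := hgW
  by_cases h1 : f x = f y
  · exact ⟨g, hg, x, y, h1, fun h2 => hxy ⟨fun _ => h2, fun _ => h1⟩⟩
  · have h2 : f (g x) = f (g y) := by
      by_contra h2
      exact hxy ⟨fun h => absurd h h1, fun h => absurd h h2⟩
    exact ⟨g⁻¹, L.inv_mem hg, g x, g y, h2, by simpa using h1⟩

theorem exists_fin_notMem (s : Finset (Fin b)) (h : s.card < b) : ∃ i, i ∉ s := by
  by_contra hcon
  push Not at hcon
  have h2 := Finset.card_le_card (fun z _ => hcon z : (Finset.univ : Finset (Fin b)) ⊆ s)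
  rw [Finset.card_univ, Fintype.card_fin] at h2
  omega

/-- Fibres of size at least 3: a 3-cycle inside a fibre. -/
theorem exists_threeCycle_mem_of_three_le (ha : 3 ≤ a) (hb : 2 ≤ b) (f : Ω → Fin b)
    (hf : ∀ i : Fin b, Nat.card {x : Ω // f x = i} = a) :
    ∃ c ∈ wr f ⊓ alternatingGroup Ω, IsThreeCycle c := by
  obtain ⟨x, -, -, -, -⟩ := exists_pair_in_fibre (by omega : 2 ≤ a) f hf ⟨0, by omega⟩
  obtain ⟨p, q, hpq, hpx, hqx, hp, hq⟩ := exists_two_others_in_fibre ha f hf x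
  exact ⟨swap x p * swap x q, swap_mul_swap_mem f (Ne.symm hpx) (Ne.symm hqx) hp.symm hq.symm,
    isThreeCycle_swap_mul_swap_same (Ne.symm hpx) (Ne.symm hqx) hpq⟩

/-- At least five fibres: an overgroup of `wr f ⊓ A` not inside `wr f` contains a 3-cycle. -/
theorem exists_threeCycle_mem_of_five_le (ha : 2 ≤ a) (hb : 5 ≤ b) (f : Ω → Fin b)
    (hf : ∀ i : Fin b, Nat.card {x : Ω // f x = i} = a)
    {L : Subgroup (Perm Ω)} (hWL : wr f ⊓ alternatingGroup Ω ≤ L) (hL : ¬ L ≤ wr f) :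
    ∃ c ∈ L, IsThreeCycle c := by
  obtain ⟨g, hg, x, x', hxx', hgx⟩ := exists_split hL
  obtain ⟨v', hv'v, hfv'⟩ := exists_other_in_fibre ha f hf (g x')
  obtain ⟨k, hk⟩ := exists_fin_notMem ({f (g x), f (g x')} : Finset (Fin b))
    (lt_of_le_of_lt Finset.card_le_two (by omega))
  simp only [Finset.mem_insert, Finset.mem_singleton, not_or] at hk
  obtain ⟨z, z', hzz', hz, hz'⟩ := exists_pair_in_fibre ha f hf k
  obtain ⟨j, hj⟩ := exists_fin_notMem
    ({f x, f (g⁻¹ v'), f (g⁻¹ z), f (g⁻¹ z')} : Finset (Fin b))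
    (lt_of_le_of_lt Finset.card_le_four (by omega))
  simp only [Finset.mem_insert, Finset.mem_singleton, not_or] at hj
  obtain ⟨y, y', hyy', hy, hy'⟩ := exists_pair_in_fibre ha f hf j
  have hne : x ≠ x' := fun h => hgx (by rw [h])
  have huv : g x ≠ g x' := fun h => hgx (by rw [h])
  have huv' : g x ≠ v' := fun h => hgx (by rw [h, hfv'])
  have huz : g x ≠ z := fun h => hk.1 (by rw [h, hz])
  have huz' : g x ≠ z' := fun h => hk.1 (by rw [h, hz'])
  have hvz : g x' ≠ z := fun h => hk.2 (by rw [h, hz])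
  have hvz' : g x' ≠ z' := fun h => hk.2 (by rw [h, hz'])
  have hv'z : v' ≠ z := fun h => hk.2 (by rw [← hfv', h, hz])
  have hv'z' : v' ≠ z' := fun h => hk.2 (by rw [← hfv', h, hz'])
  -- facts on the images of `y`, `y'`
  have key : ∀ w : Ω, f w = j → g w ≠ g x ∧ g w ≠ g x' ∧ g w ≠ v' ∧ g w ≠ z ∧ g w ≠ z' := by
    intro w hw
    refine ⟨fun h => hj.1 ?_, fun h => hj.1 ?_, fun h => hj.2.1 ?_, fun h => hj.2.2.1 ?_,
      fun h => hj.2.2.2 ?_⟩
    · rw [← hw, g.injective h]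
    · rw [← hw, g.injective h, hxx']
    · rw [← hw, ← h]; simp
    · rw [← hw, ← h]; simp
    · rw [← hw, ← h]; simp
  obtain ⟨hpu, hpv, hpv', hpz, hpz'⟩ := key y hy
  obtain ⟨hp'u, hp'v, hp'v', hp'z, hp'z'⟩ := key y' hy'
  have hpp' : g y ≠ g y' := fun h => hyy' (g.injective h)
  have hs₀ : swap x x' * swap y y' ∈ L :=
    hWL (swap_mul_swap_mem f hne hyy' hxx' (hy.trans hy'.symm))
  have hh : swap (g x') v' * swap z z' ∈ L :=
    hWL (swap_mul_swap_mem f (Ne.symm hv'v) hzz' hfv'.symm (hz.trans hz'.symm))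
  have hs : swap (g x) (g x') * swap (g y) (g y') ∈ L := by
    rw [← conj_swap_mul_swap]
    exact L.mul_mem (L.mul_mem hg hs₀) (L.inv_mem hg)
  have hs' : swap (g x) v' * swap (g y) (g y') ∈ L := by
    have h1 := L.mul_mem (L.mul_mem hh hs) (L.inv_mem hh)
    rw [conj_swap_mul_swap] at h1
    rwa [swap_mul_swap_apply_of_ne huv huv' huz huz',
      swap_mul_swap_apply_of_ne hpv hpv' hpz hpz',
      swap_mul_swap_apply_of_ne hp'v hp'v' hp'z hp'z',
      Perm.mul_apply, swap_apply_of_ne_of_ne hvz hvz', swap_apply_left] at h1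
  refine ⟨swap (g x) (g x') * swap (g x) v', ?_,
    isThreeCycle_swap_mul_swap_same huv huv' (Ne.symm hv'v)⟩
  have h2 := L.mul_mem hs hs'
  rwa [swap_mul_cancel_right (by simp [hpp', hpu, hpv', hp'u, hp'v', huv'])] at h2

/-- A fibre of size two consists of any two distinct points of it. -/
theorem eq_or_eq_of_fibre_two (f : Ω → Fin b)
    (hf : ∀ i : Fin b, Nat.card {x : Ω // f x = i} = 2) {p q z : Ω} (hpq : p ≠ q)
    (h1 : f p = f q) (h2 : f z = f p) : z = p ∨ z = q := by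
  by_contra hcon
  push Not at hcon
  have hsub : ({p, q, z} : Finset Ω) ⊆ Finset.univ.filter (fun y : Ω => f y = f p) := by
    intro w hw
    simp only [Finset.mem_insert, Finset.mem_singleton] at hw
    simp only [Finset.mem_filter, Finset.mem_univ, true_and]
    rcases hw with rfl | rfl | rfl
    · rfl
    · exact h1.symm
    · exact h2
  have hcard := Finset.card_le_card hsub
  rw [card_fibre f hf] at hcard
  have h3 : ({p, q, z} : Finset Ω).card = 3 := by
    rw [Finset.card_eq_three]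
    exact ⟨p, q, z, hpq, Ne.symm hcon.1, Ne.symm hcon.2, rfl⟩
  omega

/-- Interchanging two fibres of size two is an even element of `wr f`. -/
theorem swap_fibres_mem (f : Ω → Fin b)
    (hf : ∀ i : Fin b, Nat.card {x : Ω // f x = i} = 2) {u u' v v' : Ω} (huu' : u ≠ u')
    (hvv' : v ≠ v') (hu : f u' = f u) (hv : f v' = f v) (huv : f u ≠ f v) :
    swap u v * swap u' v' ∈ wr f ⊓ alternatingGroup Ω := by
  have n1 : u ≠ v := fun h => huv (by rw [h])
  have n2 : u ≠ v' := fun h => huv (by rw [h, hv])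
  have n3 : u' ≠ v := fun h => huv (by rw [← hu, h])
  have n4 : u' ≠ v' := fun h => huv (by rw [← hu, h, hv])
  refine Subgroup.mem_inf.mpr ⟨mem_wr_of_comp (swap (f u) (f v)) fun z => ?_, ?_⟩
  · by_cases hzu : z = u
    · rw [hzu, Perm.mul_apply, swap_apply_of_ne_of_ne huu' n2, swap_apply_left, swap_apply_left]
    · by_cases hzv : z = v
      · rw [hzv, Perm.mul_apply, swap_apply_of_ne_of_ne (Ne.symm n3) hvv', swap_apply_right,
          swap_apply_right]
      · by_cases hzu' : z = u'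
        · rw [hzu', Perm.mul_apply, swap_apply_left, swap_apply_of_ne_of_ne (Ne.symm n2)
            (Ne.symm hvv'), hu, swap_apply_left, hv]
        · by_cases hzv' : z = v'
          · rw [hzv', Perm.mul_apply, swap_apply_right, swap_apply_of_ne_of_ne (Ne.symm huu')
              n3, hv, swap_apply_right, hu]
          · rw [Perm.mul_apply, swap_apply_of_ne_of_ne hzu' hzv', swap_apply_of_ne_of_ne hzu hzv,
              swap_apply_of_ne_of_ne]
            · intro h
              rcases eq_or_eq_of_fibre_two f hf huu' hu.symm h with h' | h'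
              · exact hzu h'
              · exact hzu' h'
            · intro h
              rcases eq_or_eq_of_fibre_two f hf hvv' hv.symm h with h' | h'
              · exact hzv h'
              · exact hzv' h'
  · rw [mem_alternatingGroup, Perm.sign_mul, sign_swap n1, sign_swap n4]; rfl

/-- Three fibres of size two. -/
theorem exists_threeCycle_mem_of_two_three (f : Ω → Fin 3)
    (hf : ∀ i : Fin 3, Nat.card {x : Ω // f x = i} = 2)
    {L : Subgroup (Perm Ω)} (hWL : wr f ⊓ alternatingGroup Ω ≤ L) (hL : ¬ L ≤ wr f) :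
    ∃ c ∈ L, IsThreeCycle c := by
  obtain ⟨g, hg, x, x', hxx', hgx⟩ := exists_split hL
  obtain ⟨u', hu'u, hfu'⟩ := exists_other_in_fibre (le_refl 2) f hf (g x)
  obtain ⟨v', hv'v, hfv'⟩ := exists_other_in_fibre (le_refl 2) f hf (g x')
  obtain ⟨y₀', hy₀', hfy₀'⟩ := exists_other_in_fibre (le_refl 2) f hf (g⁻¹ u')
  have hne : x ≠ x' := fun h => hgx (by rw [h])
  have huv : g x ≠ g x' := fun h => hgx (by rw [h])
  have huv' : g x ≠ v' := fun h => hgx (by rw [h, hfv'])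
  have hu'v : u' ≠ g x' := fun h => hgx (by rw [← hfu', h])
  have hu'v' : u' ≠ v' := fun h => hgx (by rw [← hfu', h, hfv'])
  have hgy₀ : g (g⁻¹ u') = u' := by simp
  have hy₀x : g⁻¹ u' ≠ x := fun h => hu'u (by rw [← hgy₀, h])
  have hy₀x' : g⁻¹ u' ≠ x' := fun h => hu'v (by rw [← hgy₀, h])
  have hfy₀ : f (g⁻¹ u') ≠ f x := by
    intro h
    rcases eq_or_eq_of_fibre_two f hf hne hxx' h with h' | h'
    · exact hy₀x h'
    · exact hy₀x' h'
  have hy₀'x : y₀' ≠ x := fun h => hfy₀ (by rw [← hfy₀', h])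
  have hy₀'x' : y₀' ≠ x' := fun h => hfy₀ (by rw [← hfy₀', h, hxx'])
  have hqu : g y₀' ≠ g x := fun h => hy₀'x (g.injective h)
  have hqv : g y₀' ≠ g x' := fun h => hy₀'x' (g.injective h)
  have hqu' : g y₀' ≠ u' := fun h => hy₀' (g.injective (h.trans hgy₀.symm))
  have hw : swap (g x) (g x') * swap u' v' ∈ L :=
    hWL (swap_fibres_mem f hf (Ne.symm hu'u) (Ne.symm hv'v) hfu' hfv' hgx)
  have hs : swap (g x) (g x') * swap u' (g y₀') ∈ L := by
    have h1 := L.mul_mem (L.mul_mem hg (hWL (swap_mul_swap_mem f hne (Ne.symm hy₀') hxx'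
      hfy₀'.symm))) (L.inv_mem hg)
    rwa [conj_swap_mul_swap, hgy₀] at h1
  by_cases hq : g y₀' = v'
  · -- the third fibre is mapped onto a fibre
    obtain ⟨i, hi⟩ := exists_fin_notMem ({f x, f (g⁻¹ u')} : Finset (Fin 3))
      (lt_of_le_of_lt Finset.card_le_two (by omega))
    simp only [Finset.mem_insert, Finset.mem_singleton, not_or] at hi
    obtain ⟨y₁, y₁', hy₁, hfy₁, hfy₁'⟩ := exists_pair_in_fibre (le_refl 2) f hf i
    have key : ∀ w : Ω, f w = i → g w ≠ g x ∧ g w ≠ g x' ∧ g w ≠ u' ∧ g w ≠ v' := by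
      intro w hw
      refine ⟨fun h => hi.1 ?_, fun h => hi.1 ?_, fun h => hi.2 ?_, fun h => hi.2 ?_⟩
      · rw [← hw, g.injective h]
      · rw [← hw, g.injective h, hxx']
      · rw [← hw, g.injective (h.trans hgy₀.symm)]
      · rw [← hw, g.injective (h.trans hq.symm), hfy₀']
    have key2 : ∀ w : Ω, f w = i → f (g w) ≠ f (g x) ∧ f (g w) ≠ f (g x') := by
      intro w hw
      obtain ⟨k1, k2, k3, k4⟩ := key w hw
      refine ⟨fun h => ?_, fun h => ?_⟩
      · rcases eq_or_eq_of_fibre_two f hf (Ne.symm hu'u) hfu'.symm h with h' | h'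
        · exact k1 h'
        · exact k3 h'
      · rcases eq_or_eq_of_fibre_two f hf (Ne.symm hv'v) hfv'.symm h with h' | h'
        · exact k2 h'
        · exact k4 h'
    have hpig : ∀ c₁ c₂ c₃ c₄ : Fin 3, c₁ ≠ c₂ → c₃ ≠ c₁ → c₃ ≠ c₂ → c₄ ≠ c₁ → c₄ ≠ c₂ →
        c₃ = c₄ := by decide
    have hfp : f (g y₁) = f (g y₁') :=
      hpig _ _ _ _ hgx (key2 y₁ hfy₁).1 (key2 y₁ hfy₁).2 (key2 y₁' hfy₁').1 (key2 y₁' hfy₁').2
    obtain ⟨k1, k2, k3, k4⟩ := key y₁ hfy₁
    obtain ⟨k1', k2', k3', k4'⟩ := key y₁' hfy₁'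
    have hpp' : g y₁ ≠ g y₁' := fun h => hy₁ (g.injective h)
    have hs₁ : swap (g x) (g x') * swap (g y₁) (g y₁') ∈ L := by
      have h1 := L.mul_mem (L.mul_mem hg (hWL (swap_mul_swap_mem f hne hy₁ hxx'
        (hfy₁.trans hfy₁'.symm)))) (L.inv_mem hg)
      rwa [conj_swap_mul_swap] at h1
    have hh : swap (g x') v' * swap (g y₁) (g y₁') ∈ L :=
      hWL (swap_mul_swap_mem f (Ne.symm hv'v) hpp' hfv'.symm hfp)
    refine ⟨swap (g x') (g x) * swap (g x') v', ?_,
      isThreeCycle_swap_mul_swap_same (Ne.symm huv) (Ne.symm hv'v) huv'⟩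
    have h2 := L.mul_mem hs₁ hh
    rwa [swap_mul_cancel_right (by simp [hpp', k2, k4, k2', k4', Ne.symm hv'v]),
      swap_comm (g x) (g x')] at h2
  · refine ⟨swap u' (g y₀') * swap u' v', ?_,
      isThreeCycle_swap_mul_swap_same (Ne.symm hqu') hu'v' hq⟩
    have h2 := L.mul_mem hs hw
    rwa [swap_mul_cancel_left (by simp [Ne.symm hqu', hy₀'x, hy₀'x', hu'u, hu'v, huv])] at h2


theorem card_eq_mul (f : Ω → Fin b) (hf : ∀ i : Fin b, Nat.card {x : Ω // f x = i} = a) :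
    Fintype.card Ω = b * a := by
  rw [Fintype.card_congr (fibEquiv f hf), Fintype.card_prod, Fintype.card_fin, Fintype.card_fin]

/-- Two fibres of size two (`n = 4`). -/
theorem alternatingGroup_le_of_two_two (f : Ω → Fin 2)
    (hf : ∀ i : Fin 2, Nat.card {x : Ω // f x = i} = 2)
    {L : Subgroup (Perm Ω)} (hLA : L ≤ alternatingGroup Ω)
    (hWL : wr f ⊓ alternatingGroup Ω ≤ L) (hL : ¬ L ≤ wr f) :
    alternatingGroup Ω ≤ L := by
  obtain ⟨g, hg, hgW⟩ := SetLike.not_le_iff_exists.mp hL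
  obtain ⟨x₀, -, -, -, -⟩ := exists_pair_in_fibre (le_refl 2) f hf 0
  obtain ⟨t₀, ht₀W, ht₀⟩ := exists_mem_wr_apply_eq f hf (g x₀) x₀
  obtain ⟨t, ht, htx⟩ := exists_even_apply_eq (le_refl 2) (le_refl 2) f hf ht₀W (g x₀)
  have hg'L : t * g ∈ L := L.mul_mem (hWL ht) hg
  have hg'x : (t * g) x₀ = x₀ := by rw [Perm.mul_apply, htx, ht₀]
  have hg'W : t * g ∉ wr f := by
    intro h
    apply hgW
    have h2 := (wr f).mul_mem ((wr f).inv_mem (Subgroup.mem_inf.mp ht).1) h
    rwa [inv_mul_cancel_left] at h2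
  have hsign : sign (t * g) = 1 := hLA hg'L
  have hsub : (t * g).support ⊆ Finset.univ.erase x₀ := by
    intro z hz
    rw [Finset.mem_erase]
    refine ⟨fun h => ?_, Finset.mem_univ _⟩
    rw [mem_support, h] at hz
    exact hz hg'x
  have hcard4 : Fintype.card Ω = 4 := card_eq_mul f hf
  have hcard3 : (Finset.univ.erase x₀).card = 3 := by
    rw [Finset.card_erase_of_mem (Finset.mem_univ _), Finset.card_univ, hcard4]
  have hle : (t * g).support.card ≤ 3 := hcard3 ▸ Finset.card_le_card hsub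
  have h0 : (t * g).support.card ≠ 0 := by
    rw [Ne, card_support_eq_zero]
    intro h
    exact hg'W (h ▸ (wr f).one_mem)
  have h1 : (t * g).support.card ≠ 1 := card_support_ne_one _
  have h2 : (t * g).support.card ≠ 2 := by
    intro h
    have h3 := (card_support_eq_two.mp h).sign_eq
    rw [hsign] at h3
    exact absurd h3 (by decide)
  have h3 : (t * g).support.card = 3 := by omega
  have hc : IsThreeCycle (t * g) := card_support_eq_three_iff.mp h3
  have hsupp : (t * g).support = Finset.univ.erase x₀ :=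
    Finset.eq_of_subset_of_card_le hsub (by rw [hcard3, h3])
  -- `L` is primitive
  have htrans : IsPretransitive L Ω := by
    refine ⟨fun u v => ?_⟩
    obtain ⟨g₁, hg₁, hg₁uv⟩ := exists_mem_wr_apply_eq f hf u v
    obtain ⟨g₂, hg₂, hg₂u⟩ := exists_even_apply_eq (le_refl 2) (le_refl 2) f hf hg₁ u
    exact ⟨⟨g₂, hWL hg₂⟩, hg₂u.trans hg₁uv⟩
  have hprim : IsPreprimitive L Ω := by
    refine IsPreprimitive.of_isTrivialBlock_base x₀ ?_
    intro B hx₀ hB
    by_cases hsing : B.Subsingleton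
    · exact Or.inl hsing
    · right
      rw [Set.not_subsingleton_iff] at hsing
      obtain ⟨y₁, hy₁, y₂, hy₂, hne⟩ := hsing
      obtain ⟨y, hy, hyx⟩ : ∃ y ∈ B, y ≠ x₀ := by
        by_cases h : y₁ = x₀
        · exact ⟨y₂, hy₂, fun h' => hne (h.trans h'.symm)⟩
        · exact ⟨y₁, hy₁, h⟩
      have hpow : ∀ i : ℕ, ((t * g) ^ i) y ∈ B := by
        intro i
        refine apply_mem_of_fixed hB (L.pow_mem hg'L i) hx₀ ?_ hy
        induction i with
        | zero => simp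
        | succ n ih => rw [pow_succ, Perm.mul_apply, hg'x, ih]
      apply Set.eq_univ_of_forall
      intro z
      by_cases hz : z = x₀
      · exact hz ▸ hx₀
      · have hyS : (t * g) y ≠ y := by
          rw [← mem_support, hsupp]; simp [hyx]
        have hzS : (t * g) z ≠ z := by
          rw [← mem_support, hsupp]; simp [hz]
        obtain ⟨i, hi⟩ := hc.isCycle.exists_pow_eq hyS hzS
        exact hi ▸ hpow i
  exact alternatingGroup_le_of_isPreprimitive_of_isThreeCycle_mem hprim hc hg'L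

/-- The alternating group does not preserve the partition. -/
theorem not_alternatingGroup_le_wr (ha : 2 ≤ a) (hb : 2 ≤ b) (f : Ω → Fin b)
    (hf : ∀ i : Fin b, Nat.card {x : Ω // f x = i} = a) : ¬ alternatingGroup Ω ≤ wr f := by
  intro hle
  obtain ⟨x, x', hxx', -, -⟩ := exists_pair_in_fibre ha f hf ⟨0, by omega⟩
  obtain ⟨x'', hx'', hfx''⟩ := exists_other_in_fibre ha f hf x
  obtain ⟨j, hj⟩ := exists_fin_ne hb (f x)
  obtain ⟨y, -, -, hy, -⟩ := exists_pair_in_fibre ha f hf j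
  have hxy : x ≠ y := fun h => hj (by rw [← hy, h])
  have hx''y : x'' ≠ y := fun h => hj (by rw [← hy, ← h, hfx''])
  -- the 3-cycle `x ↦ y`, `x'' ↦ x`
  have hc : swap x y * swap x x'' ∈ alternatingGroup Ω := by
    rw [mem_alternatingGroup, Perm.sign_mul, sign_swap hxy, sign_swap (Ne.symm hx'')]; rfl
  have h := (mem_wr.mp (hle hc) x x'').mp hfx''.symm
  rw [Perm.mul_apply, Perm.mul_apply, swap_apply_left, swap_apply_right,
    swap_apply_of_ne_of_ne hx'' hx''y, swap_apply_left] at h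
  exact hj (by rw [← hy, ← h, hfx''])

/-- Overgroups of `wr f ⊓ A` inside `A` not contained in `wr f` are everything. -/
theorem alternatingGroup_le_of_not_le (h8 : Fintype.card Ω ≠ 8) (ha : 2 ≤ a) (hb : 2 ≤ b)
    (f : Ω → Fin b) (hf : ∀ i : Fin b, Nat.card {x : Ω // f x = i} = a)
    {L : Subgroup (Perm Ω)} (hLA : L ≤ alternatingGroup Ω)
    (hWL : wr f ⊓ alternatingGroup Ω ≤ L) (hL : ¬ L ≤ wr f) :
    alternatingGroup Ω ≤ L := by
  rw [card_eq_mul f hf] at h8
  rcases Nat.lt_or_ge a 3 with ha3 | ha3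
  · obtain rfl : a = 2 := by omega
    have hb4 : b ≠ 4 := fun h => h8 (by rw [h])
    rcases Nat.lt_or_ge b 5 with hb5 | hb5
    · have hb23 : b = 2 ∨ b = 3 := by omega
      rcases hb23 with rfl | rfl
      · exact alternatingGroup_le_of_two_two f hf hLA hWL hL
      · obtain ⟨c, hcL, hc⟩ := exists_threeCycle_mem_of_two_three f hf hWL hL
        exact alternatingGroup_le_of_isPreprimitive_of_isThreeCycle_mem
          (isPreprimitive_of_not_le (le_refl 2) (by omega) (Or.inr (le_refl 3)) f hf hWL hL) hc hcL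
    · obtain ⟨c, hcL, hc⟩ := exists_threeCycle_mem_of_five_le (le_refl 2) hb5 f hf hWL hL
      exact alternatingGroup_le_of_isPreprimitive_of_isThreeCycle_mem
        (isPreprimitive_of_not_le (le_refl 2) hb (Or.inr (by omega)) f hf hWL hL) hc hcL
  · obtain ⟨c, hcW, hc⟩ := exists_threeCycle_mem_of_three_le ha3 hb f hf
    exact alternatingGroup_le_of_isPreprimitive_of_isThreeCycle_mem
      (isPreprimitive_of_not_le ha hb (Or.inl ha3) f hf hWL hL) hc (hWL hcW)

/-- `(S_a ≀ S_b) ∩ A_n` is a maximal subgroup of `A_n` for `n = ab ≠ 8`. -/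
theorem isCoatom_wr_inf_alternating (h8 : Fintype.card Ω ≠ 8) (ha : 2 ≤ a) (hb : 2 ≤ b)
    (f : Ω → Fin b) (hf : ∀ i : Fin b, Nat.card {x : Ω // f x = i} = a) :
    IsCoatom ((wr f ⊓ alternatingGroup Ω).subgroupOf (alternatingGroup Ω)) := by
  refine ⟨fun htop => ?_, fun L' hL' => ?_⟩
  · rw [Subgroup.subgroupOf_eq_top] at htop
    exact not_alternatingGroup_le_wr ha hb f hf (htop.trans inf_le_left)
  · have hLA : L'.map (alternatingGroup Ω).subtype ≤ alternatingGroup Ω := by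
      rintro _ ⟨l, -, rfl⟩
      exact l.2
    have hWL : wr f ⊓ alternatingGroup Ω ≤ L'.map (alternatingGroup Ω).subtype := by
      intro g hg
      have hgA : g ∈ alternatingGroup Ω := (Subgroup.mem_inf.mp hg).2
      have h1 : (⟨g, hgA⟩ : alternatingGroup Ω) ∈
          (wr f ⊓ alternatingGroup Ω).subgroupOf (alternatingGroup Ω) := by
        rw [Subgroup.mem_subgroupOf]; exact hg
      exact ⟨⟨g, hgA⟩, hL'.le h1, rfl⟩
    have hnot : ¬ L'.map (alternatingGroup Ω).subtype ≤ wr f := by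
      intro hle
      apply not_le_of_gt hL'
      intro l hl
      rw [Subgroup.mem_subgroupOf]
      exact Subgroup.mem_inf.mpr ⟨hle ⟨l, hl, rfl⟩, l.2⟩
    have hA := alternatingGroup_le_of_not_le h8 ha hb f hf hLA hWL hnot
    rw [eq_top_iff]
    intro x _
    obtain ⟨l, hl, hlx⟩ := hA x.2
    have : l = x := Subtype.ext hlx
    exact this ▸ hl

end Alt

end Cfsg.Agent.Lib.helper98
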